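import Cfsg.Prelude.Def_Blocks
import Cfsg.Agent.Lib.Char.Basic
import Cfsg.Agent.Lib.Char.Complete
import Cfsg.Agent.Lib.Char.Induced
import Cfsg.Agent.Lib.Char.Integral
import Cfsg.Agent.Lib.Char.Central
import Cfsg.Agent.Lib.Char.Coprime
import Mathlib.GroupTheory.Abelianization.Defs
import Mathlib.GroupTheory.QuotientGroup.Basic

/-!
# Degrees, kernels and inflation of irreducible characters
-/

namespace CfsgLib.CharDegree

open scoped ComplexConjugate commutatorElement
open Module CfsgLib.Char CfsgLib.CharIntegral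

variable {G : Type*} [Group G]

/-- The degree of a character is its value at `1`. -/
theorem cast_charDegree {χ : G → ℂ} (h : Cfsg.IsCharacter G χ) :
    (Cfsg.charDegree χ : ℂ) = χ 1 := by
  obtain ⟨n, hn⟩ := IsChar.exists_degree h
  simp [Cfsg.charDegree, hn]

theorem cast_irrDegree (χ : Cfsg.IrrCharacter G) :
    (Cfsg.charDegree (χ : G → ℂ) : ℂ) = (χ : G → ℂ) 1 :=
  cast_charDegree (IsIrr.isCharacter χ.2)

theorem charDegree_pos (χ : Cfsg.IrrCharacter G) : 0 < Cfsg.charDegree (χ : G → ℂ) := by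
  refine Nat.pos_of_ne_zero fun h => IsIrr.apply_one_ne_zero χ.2 ?_
  rw [← cast_irrDegree, h, Nat.cast_zero]

theorem charDegree_eq_of_apply_one {χ : G → ℂ} {n : ℕ} (h : χ 1 = n) :
    Cfsg.charDegree χ = n := by simp [Cfsg.charDegree, h]

@[simp]
theorem charDegree_one : Cfsg.charDegree (fun _ : G => (1 : ℂ)) = 1 :=
  charDegree_eq_of_apply_one (by simp)

theorem charDegree_eq_one_iff (χ : Cfsg.IrrCharacter G) :
    Cfsg.charDegree (χ : G → ℂ) = 1 ↔ (χ : G → ℂ) 1 = 1 := by
  rw [← cast_irrDegree, Nat.cast_eq_one]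

/-- An irreducible character has an irreducible representation whose dimension is its degree. -/
theorem exists_rep (χ : Cfsg.IrrCharacter G) :
    ∃ (n : ℕ) (ρ : Representation ℂ G (Fin n → ℂ)), ρ.IsIrreducible ∧
      ρ.character = (χ : G → ℂ) ∧ n = Cfsg.charDegree (χ : G → ℂ) := by
  obtain ⟨n, ρ, hρ, h⟩ := χ.2
  refine ⟨n, ρ, hρ, h, (charDegree_eq_of_apply_one ?_).symm⟩
  rw [← h, Representation.char_one]
  simp

theorem charDegree_dvd_card [Finite G] (χ : Cfsg.IrrCharacter G) :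
    Cfsg.charDegree (χ : G → ℂ) ∣ Nat.card G := by
  obtain ⟨n, ρ, hρ, -, hn⟩ := exists_rep χ
  have := finrank_dvd_card ρ
  rwa [Module.finrank_fin_fun, hn] at this

/-- The kernel of a character, as a normal subgroup. -/
theorem exists_ker [Finite G] {χ : G → ℂ} (h : Cfsg.IsCharacter G χ) :
    ∃ K : Subgroup G, K.Normal ∧ ∀ g, g ∈ K ↔ χ g = χ 1 := by
  obtain ⟨n, ρ, rfl⟩ := h
  refine ⟨ρ.ker, MonoidHom.normal_ker _, fun g => ?_⟩
  rw [MonoidHom.mem_ker, Representation.char_one, character_eq_finrank_iff ρ g]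
  rfl

/-- The kernel of a character as a bundled subgroup. -/
noncomputable def kerSubgroup [Finite G] (χ : Cfsg.IrrCharacter G) : Subgroup G :=
  (exists_ker (IsIrr.isCharacter χ.2)).choose

theorem kerSubgroup_normal [Finite G] (χ : Cfsg.IrrCharacter G) : (kerSubgroup χ).Normal :=
  (exists_ker (IsIrr.isCharacter χ.2)).choose_spec.1

theorem mem_kerSubgroup [Finite G] {χ : Cfsg.IrrCharacter G} {g : G} :
    g ∈ kerSubgroup χ ↔ (χ : G → ℂ) g = (χ : G → ℂ) 1 :=
  (exists_ker (IsIrr.isCharacter χ.2)).choose_spec.2 g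

theorem card_kerSubgroup [Finite G] (χ : Cfsg.IrrCharacter G) :
    Nat.card {g : G // (χ : G → ℂ) g = (χ : G → ℂ) 1} = Nat.card (kerSubgroup χ) :=
  Nat.card_congr (Equiv.subtypeEquivRight fun _ => mem_kerSubgroup.symm)

theorem kerSubgroup_eq_bot_iff [Finite G] {χ : Cfsg.IrrCharacter G} :
    kerSubgroup χ = ⊥ ↔ ∀ g : G, (χ : G → ℂ) g = (χ : G → ℂ) 1 → g = 1 := by
  simp [Subgroup.eq_bot_iff_forall, mem_kerSubgroup]

section Sums

theorem sum_mk {N : Subgroup G} [Fintype G] [Fintype (G ⧸ N)] (f : G ⧸ N → ℂ) :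
    ∑ g : G, f (QuotientGroup.mk g) = (Nat.card N : ℂ) * ∑ q, f q := by
  classical
  rw [← Finset.sum_fiberwise Finset.univ (fun g : G => (QuotientGroup.mk g : G ⧸ N)),
    Finset.mul_sum]
  refine Finset.sum_congr rfl fun q _ => ?_
  induction q using QuotientGroup.induction_on with
  | H a =>
    rw [Finset.sum_congr rfl (g := fun _ => f (a : G ⧸ N)) fun g hg => by
      rw [(Finset.mem_filter.mp hg).2], Finset.sum_const, nsmul_eq_mul]
    congr 1
    rw [Nat.cast_inj, ← Fintype.card_coe, ← Nat.card_eq_fintype_card]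
    refine Nat.card_congr
      { toFun := fun g => ⟨a⁻¹ * g.1, QuotientGroup.eq.mp (Finset.mem_filter.mp g.2).2.symm⟩
        invFun := fun n => ⟨a * n.1, Finset.mem_filter.mpr
          ⟨Finset.mem_univ _, (QuotientGroup.eq.mpr (by simp)).symm⟩⟩
        left_inv := fun g => by simp
        right_inv := fun n => by simp }

end Sums

section Inflation

variable [Finite G] (N : Subgroup G) [N.Normal]

/-- Inflation of an irreducible character of a quotient. -/
def infl (ψ : Cfsg.IrrCharacter (G ⧸ N)) : Cfsg.IrrCharacter G :=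
  ⟨fun g => (ψ : G ⧸ N → ℂ) (QuotientGroup.mk' N g),
    IsIrr.comp_surjective (QuotientGroup.mk' N) (QuotientGroup.mk'_surjective N) ψ.2⟩

omit [Finite G] in
theorem infl_apply (ψ : Cfsg.IrrCharacter (G ⧸ N)) (g : G) :
    (infl N ψ : G → ℂ) g = (ψ : G ⧸ N → ℂ) (QuotientGroup.mk g) := rfl

omit [Finite G] in
theorem infl_injective : Function.Injective (infl N) := by
  intro ψ ψ' h
  refine irr_ext fun q => ?_
  induction q using QuotientGroup.induction_on with
  | H g => exact congrFun (congrArg Subtype.val h) g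

omit [Finite G] in
theorem charDegree_infl (ψ : Cfsg.IrrCharacter (G ⧸ N)) :
    Cfsg.charDegree (infl N ψ : G → ℂ) = Cfsg.charDegree (ψ : G ⧸ N → ℂ) := rfl

omit [Finite G] in
theorem infl_ker (ψ : Cfsg.IrrCharacter (G ⧸ N)) {g : G} (hg : g ∈ N) :
    (infl N ψ : G → ℂ) g = (infl N ψ : G → ℂ) 1 := by
  rw [infl_apply, infl_apply, (QuotientGroup.eq_one_iff g).mpr hg, QuotientGroup.mk_one]

/-- A character with `N` in its kernel is inflated from `G ⧸ N`. -/
theorem exists_infl (χ : Cfsg.IrrCharacter G)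
    (hN : ∀ g ∈ N, (χ : G → ℂ) g = (χ : G → ℂ) 1) : ∃ ψ, infl N ψ = χ := by
  classical
  have := Fintype.ofFinite G
  have := Fintype.ofFinite (G ⧸ N)
  obtain ⟨n, ρ, hρ, hχ, -⟩ := exists_rep χ
  have hle : N ≤ MonoidHom.ker ρ := fun g hg => by
    rw [MonoidHom.mem_ker]
    refine (character_eq_finrank_iff ρ g).mp ?_
    rw [← Representation.char_one ρ, hχ]
    exact hN g hg
  let σ : Representation ℂ (G ⧸ N) (Fin n → ℂ) := QuotientGroup.lift N ρ hle
  have hσ : ∀ g : G, σ.character (QuotientGroup.mk g) = (χ : G → ℂ) g := fun g => by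
    rw [← hχ]; rfl
  have hirr : Cfsg.IsIrrCharacter (G ⧸ N) σ.character := by
    rw [isIrr_iff_classInner_eq_one]
    refine ⟨⟨n, σ, rfl⟩, ?_⟩
    rw [← classInner_irr_self χ, Cfsg.classInner, Cfsg.classInner]
    simp only [← hσ]
    rw [sum_mk (fun q => σ.character q * conj (σ.character q)),
      N.card_eq_card_quotient_mul_card_subgroup, Nat.cast_mul]
    have h0 : (Nat.card N : ℂ) ≠ 0 := Nat.cast_ne_zero.mpr Nat.card_pos.ne'
    field_simp
  exact ⟨⟨σ.character, hirr⟩, irr_ext hσ⟩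

/-- Irreducible characters of `G ⧸ N` are those of `G` with `N` in the kernel. -/
noncomputable def inflEquiv :
    Cfsg.IrrCharacter (G ⧸ N) ≃
      {χ : Cfsg.IrrCharacter G // ∀ g ∈ N, (χ : G → ℂ) g = (χ : G → ℂ) 1} :=
  Equiv.ofBijective (fun ψ => ⟨infl N ψ, fun _ hg => infl_ker N ψ hg⟩)
    ⟨fun _ _ h => infl_injective N (congrArg Subtype.val h),
      fun χ => (exists_infl N χ.1 χ.2).imp fun _ h => Subtype.ext h⟩

theorem inflEquiv_apply (ψ : Cfsg.IrrCharacter (G ⧸ N)) :
    (inflEquiv N ψ : Cfsg.IrrCharacter G) = infl N ψ := rfl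

open scoped Classical in
theorem sum_sq_degree_of_le_ker [Fintype (Cfsg.IrrCharacter G)] :
    ∑ χ : Cfsg.IrrCharacter G,
      (if ∀ g ∈ N, (χ : G → ℂ) g = (χ : G → ℂ) 1 then (χ : G → ℂ) 1 ^ 2 else 0) =
      (N.index : ℂ) := by
  have := Fintype.ofFinite (Cfsg.IrrCharacter (G ⧸ N))
  rw [← Finset.sum_filter, Subgroup.index_eq_card, ← sum_sq_degree]
  symm
  refine Finset.sum_bij' (fun ψ _ => infl N ψ)
    (fun χ hχ => (inflEquiv N).symm ⟨χ, (Finset.mem_filter.mp hχ).2⟩) ?_ ?_ ?_ ?_ ?_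
  · intro ψ _
    exact Finset.mem_filter.mpr ⟨Finset.mem_univ _, fun _ hg => infl_ker N ψ hg⟩
  · intro χ _
    exact Finset.mem_univ _
  · intro ψ _
    exact (inflEquiv N).symm_apply_apply ψ
  · intro χ hχ
    exact congrArg Subtype.val ((inflEquiv N).apply_symm_apply ⟨χ, (Finset.mem_filter.mp hχ).2⟩)
  · intro ψ _
    rfl

open scoped Classical in
theorem sum_sq_degree_of_not_le_ker [Fintype (Cfsg.IrrCharacter G)] :
    ∑ χ ∈ Finset.univ.filter (fun χ : Cfsg.IrrCharacter G =>
        ¬ ∀ g ∈ N, (χ : G → ℂ) g = (χ : G → ℂ) 1), Cfsg.charDegree (χ : G → ℂ) ^ 2 + N.index =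
      Nat.card G := by
  rw [← Nat.cast_inj (R := ℂ), Nat.cast_add, Nat.cast_sum]
  simp only [Nat.cast_pow, cast_irrDegree]
  rw [← sum_sq_degree_of_le_ker N, ← Finset.sum_filter, add_comm,
    Finset.sum_filter_add_sum_filter_not, sum_sq_degree]

end Inflation

section Linear

/-- The linear characters. -/
theorem exists_hom_of_degree_one (χ : Cfsg.IrrCharacter G)
    (h : Cfsg.charDegree (χ : G → ℂ) = 1) : ∃ l : G →* ℂˣ, (χ : G → ℂ) = fun g => (l g : ℂ) :=
  exists_linear_of_degree_one (IsIrr.isCharacter χ.2) ((charDegree_eq_one_iff χ).mp h)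

theorem le_ker_of_degree_one (χ : Cfsg.IrrCharacter G) (h : Cfsg.charDegree (χ : G → ℂ) = 1)
    {g : G} (hg : g ∈ commutator G) : (χ : G → ℂ) g = (χ : G → ℂ) 1 := by
  obtain ⟨l, hl⟩ := exists_hom_of_degree_one χ h
  simp [hl, MonoidHom.mem_ker.mp (Abelianization.commutator_subset_ker l hg)]

theorem charDegree_of_comm [Finite G] (hG : ∀ a b : G, a * b = b * a)
    (χ : Cfsg.IrrCharacter G) : Cfsg.charDegree (χ : G → ℂ) = 1 := by
  obtain ⟨n, ρ, hρ, -, hn⟩ := exists_rep χ
  have : IsMulCommutative G := ⟨⟨hG⟩⟩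
  have h1 := Representation.IsIrreducible.finrank_eq_one_of_isMulCommutative ρ
  rw [Module.finrank_fin_fun] at h1
  omega

theorem quotient_commutator_comm (a b : G ⧸ commutator G) : a * b = b * a := by
  induction a using QuotientGroup.induction_on with
  | H a =>
  induction b using QuotientGroup.induction_on with
  | H b =>
  rw [← QuotientGroup.mk_mul, ← QuotientGroup.mk_mul, QuotientGroup.eq]
  rw [show (a * b)⁻¹ * (b * a) = ⁅b⁻¹, a⁻¹⁆ by rw [commutatorElement_def]; group]
  exact Subgroup.commutator_mem_commutator (Subgroup.mem_top _) (Subgroup.mem_top _)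

/-- A character is linear iff the derived subgroup lies in its kernel. -/
theorem charDegree_eq_one_iff_commutator [Finite G] (χ : Cfsg.IrrCharacter G) :
    Cfsg.charDegree (χ : G → ℂ) = 1 ↔
      ∀ g ∈ commutator G, (χ : G → ℂ) g = (χ : G → ℂ) 1 := by
  refine ⟨fun h _ hg => le_ker_of_degree_one χ h hg, fun h => ?_⟩
  obtain ⟨ψ, rfl⟩ := exists_infl (commutator G) χ h
  rw [charDegree_infl]
  exact charDegree_of_comm quotient_commutator_comm ψ

/-- The number of linear characters is the index of the derived subgroup. -/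
theorem card_linear [Finite G] :
    Nat.card {χ : Cfsg.IrrCharacter G // Cfsg.charDegree (χ : G → ℂ) = 1} =
      (commutator G).index := by
  rw [Nat.card_congr (Equiv.subtypeEquivRight charDegree_eq_one_iff_commutator),
    ← Nat.card_congr (inflEquiv (commutator G)), card_irrCharacter, Subgroup.index_eq_card]
  exact Nat.card_congr (Equiv.ofBijective
    (ConjClasses.mk : G ⧸ commutator G → ConjClasses (G ⧸ commutator G))
    ⟨fun a b h => by
      obtain ⟨c, hc⟩ := isConj_iff.mp (ConjClasses.mk_eq_mk_iff_isConj.mp h)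
      rw [← hc, quotient_commutator_comm c a, mul_inv_cancel_right],
    fun C => Quotient.inductionOn C fun g => ⟨g, rfl⟩⟩).symm

/-- A group that is not perfect has a nontrivial linear character. -/
theorem exists_linear_ne_one [Finite G] (h : commutator G ≠ ⊤) :
    ∃ χ : Cfsg.IrrCharacter G, Cfsg.charDegree (χ : G → ℂ) = 1 ∧
      (χ : G → ℂ) ≠ fun _ => 1 := by
  by_contra hne
  push Not at hne
  have hsub : Subsingleton {χ : Cfsg.IrrCharacter G // Cfsg.charDegree (χ : G → ℂ) = 1} :=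
    ⟨fun a b => Subtype.ext (Subtype.ext ((hne a.1 a.2).trans (hne b.1 b.2).symm))⟩
  have := Finite.card_le_one_iff_subsingleton.mpr hsub
  rw [card_linear] at this
  have hpos := Subgroup.index_ne_zero_of_finite (H := commutator G)
  exact h (Subgroup.index_eq_one.mp (by omega))

end Linear

section Values

variable [Finite G]

/-- Central character values are algebraic integers. -/
theorem isIntegral_centralChar (χ : Cfsg.IrrCharacter G) (g : G) :
    IsIntegral ℤ (Cfsg.centralChar (χ : G → ℂ) g) := by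
  obtain ⟨n, ρ, hρ, hχ, hn⟩ := exists_rep χ
  rw [Cfsg.centralChar, ← hχ, Representation.char_one]
  exact isIntegral_central ρ g

/-- An element at which a faithful irreducible character has maximal norm is central. -/
theorem mem_center_of_norm_eq (χ : Cfsg.IrrCharacter G) (hfaith : kerSubgroup χ = ⊥) {g : G}
    (h : ‖(χ : G → ℂ) g‖ = Cfsg.charDegree (χ : G → ℂ)) : g ∈ Subgroup.center G := by
  obtain ⟨n, ρ, hρ, hχ, hn⟩ := exists_rep χ
  obtain ⟨ω, hω⟩ := exists_scalar_of_norm_character_eq ρ g (by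
    rw [hχ, h, Module.finrank_fin_fun, hn])
  rw [Subgroup.mem_center_iff]
  intro x
  refine eq_of_mul_inv_eq_one ?_
  rw [← Subgroup.mem_bot, ← hfaith, mem_kerSubgroup, ← hχ, Representation.char_one,
    character_eq_finrank_iff ρ]
  have hcomm : ρ x * ρ g = ρ g * ρ x := by
    refine LinearMap.ext fun v => ?_
    simp [hω]
  have hxg : ρ (g * x) = ρ (x * g) := by rw [map_mul, map_mul, hcomm]
  calc ρ (x * g * (g * x)⁻¹) = ρ (g * x * (g * x)⁻¹) := by
        rw [map_mul ρ (x * g), map_mul ρ (g * x), hxg]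
    _ = LinearMap.id := by rw [mul_inv_cancel, map_one]; rfl

/-- Burnside: if the degree is prime to the class size then the value is zero or the element is
central modulo the kernel. -/
theorem eq_zero_or_norm_eq (χ : Cfsg.IrrCharacter G) (g : G)
    (hcop : Nat.Coprime (Cfsg.charDegree (χ : G → ℂ))
      (Subgroup.centralizer ({g} : Set G)).index) :
    (χ : G → ℂ) g = 0 ∨ ‖(χ : G → ℂ) g‖ = Cfsg.charDegree (χ : G → ℂ) := by
  obtain ⟨n, ρ, hρ, hχ, hn⟩ := exists_rep χ
  have := character_eq_zero_or_norm_eq ρ g (by rwa [Module.finrank_fin_fun, hn])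
  rwa [hχ, Module.finrank_fin_fun, hn] at this

/-- Averaging over the conjugates of one factor. -/
theorem sum_conj_mul [Fintype G] (χ : Cfsg.IrrCharacter G) (x y : G) :
    ∑ a : G, (χ : G → ℂ) (a * x * a⁻¹ * y) =
      (Nat.card G : ℂ) * (χ : G → ℂ) x * (χ : G → ℂ) y / (χ : G → ℂ) 1 := by
  obtain ⟨n, ρ, hρ, hχ, -⟩ := exists_rep χ
  have hc : ∀ h, (∑ a : G, ρ (a * x * a⁻¹)) * ρ h = ρ h * ∑ a : G, ρ (a * x * a⁻¹) := fun h => by
    rw [Finset.sum_mul, Finset.mul_sum]
    refine Fintype.sum_equiv (Equiv.mulLeft h⁻¹) _ _ fun a => ?_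
    rw [← map_mul, ← map_mul]
    congr 1
    simp [mul_assoc]
  obtain ⟨c, hc⟩ := exists_eq_smul_of_commute ρ _ hc
  have h1 := congrArg (LinearMap.trace ℂ (Fin n → ℂ)) hc
  have hconj : ∀ a, LinearMap.trace ℂ (Fin n → ℂ) (ρ (a * x * a⁻¹)) = (χ : G → ℂ) x := fun a => by
    rw [← hχ]; exact ρ.char_conj x a
  have hne : (χ : G → ℂ) 1 ≠ 0 := IsIrr.apply_one_ne_zero χ.2
  rw [map_sum, Finset.sum_congr rfl fun a _ => hconj a, Finset.sum_const, Finset.card_univ,
    nsmul_eq_mul, map_smul, LinearMap.trace_id, smul_eq_mul, ← Representation.char_one ρ, hχ,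
    ← Nat.card_eq_fintype_card] at h1
  have h2 : ∑ a : G, (χ : G → ℂ) (a * x * a⁻¹ * y) = c * (χ : G → ℂ) y := by
    have h3 := congrArg (fun f => LinearMap.trace ℂ (Fin n → ℂ) (f * ρ y)) hc
    simp only [Finset.sum_mul, map_sum, smul_mul_assoc, map_smul, smul_eq_mul] at h3
    rw [← hχ]
    refine (Finset.sum_congr rfl fun a _ => ?_).trans (h3.trans ?_)
    · rw [← map_mul]; rfl
    · rfl
  rw [h2, h1]
  field_simp

end Values

section Codegree

variable [Finite G]

theorem charDegree_dvd_index (χ : Cfsg.IrrCharacter G) :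
    Cfsg.charDegree (χ : G → ℂ) ∣ (kerSubgroup χ).index := by
  have := kerSubgroup_normal χ
  obtain ⟨ψ, hψ⟩ := exists_infl (kerSubgroup χ) χ fun g hg => mem_kerSubgroup.mp hg
  rw [← hψ, charDegree_infl, hψ, Subgroup.index_eq_card]
  exact charDegree_dvd_card ψ

/-- The codegree, as written in the statements. -/
theorem codegree_eq (χ : Cfsg.IrrCharacter G) :
    Nat.card G / (Nat.card {g : G // (χ : G → ℂ) g = (χ : G → ℂ) 1} *
      Cfsg.charDegree (χ : G → ℂ)) = (kerSubgroup χ).index / Cfsg.charDegree (χ : G → ℂ) := by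
  rw [card_kerSubgroup, ← Nat.div_div_eq_div_mul, ← (kerSubgroup χ).card_mul_index,
    Nat.mul_div_cancel_left _ Nat.card_pos]

theorem codegree_dvd_card (χ : Cfsg.IrrCharacter G) :
    Nat.card G / (Nat.card {g : G // (χ : G → ℂ) g = (χ : G → ℂ) 1} *
      Cfsg.charDegree (χ : G → ℂ)) ∣ Nat.card G := by
  rw [codegree_eq]
  exact (Nat.div_dvd_of_dvd (charDegree_dvd_index χ)).trans (Subgroup.index_dvd_card _)

theorem kerSubgroup_infl (N : Subgroup G) [N.Normal] (ψ : Cfsg.IrrCharacter (G ⧸ N)) :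
    kerSubgroup (infl N ψ) = (kerSubgroup ψ).comap (QuotientGroup.mk' N) := by
  ext g
  simp only [mem_kerSubgroup, Subgroup.mem_comap, infl_apply, QuotientGroup.mk'_apply,
    QuotientGroup.mk_one]

theorem index_kerSubgroup_infl (N : Subgroup G) [N.Normal] (ψ : Cfsg.IrrCharacter (G ⧸ N)) :
    (kerSubgroup (infl N ψ)).index = (kerSubgroup ψ).index := by
  rw [kerSubgroup_infl, Subgroup.index_comap_of_surjective _ (QuotientGroup.mk'_surjective N)]

/-- If `p ∣ |G|` and `p ∤ |G : N|` then some character not trivial on `N` has `p'`-degree. -/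
theorem exists_not_dvd_not_le_ker (N : Subgroup G) [N.Normal] {p : ℕ}
    (hpG : p ∣ Nat.card G) (hpN : ¬ p ∣ N.index) :
    ∃ χ : Cfsg.IrrCharacter G, ¬ N ≤ kerSubgroup χ ∧ ¬ p ∣ Cfsg.charDegree (χ : G → ℂ) := by
  classical
  have := Fintype.ofFinite (Cfsg.IrrCharacter G)
  by_contra hno
  push Not at hno
  have hsum := sum_sq_degree_of_not_le_ker N
  refine hpN ((Nat.dvd_add_right ?_).mp (hsum ▸ hpG))
  refine Finset.dvd_sum fun χ hχ => dvd_pow (hno χ fun hle => ?_) two_ne_zero
  exact (Finset.mem_filter.mp hχ).2 fun g hg => mem_kerSubgroup.mp (hle hg)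

end Codegree

end CfsgLib.CharDegree
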