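import Cfsg.Agent.Lib.CharDegree.Basic
import Cfsg.Agent.Lib.Char.DegreeCenter

/-!
# Elementary facts on restriction to subgroups
-/

namespace CfsgLib.CharDegree

open scoped ComplexConjugate
open CfsgLib.Char CfsgLib.CharIntegral

variable {G : Type*} [Group G] [Finite G]

theorem sum_norm_sq [Fintype G] (χ : Cfsg.IrrCharacter G) :
    ∑ g : G, ‖(χ : G → ℂ) g‖ ^ 2 = (Nat.card G : ℝ) := by
  have h := classInner_irr_self χ
  rw [Cfsg.classInner, inv_mul_eq_iff_eq_mul₀ (Nat.cast_ne_zero.mpr Nat.card_pos.ne'), mul_one] at h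
  simp only [Complex.mul_conj, Complex.normSq_eq_norm_sq] at h
  exact_mod_cast h

/-- `d² |Z| ≤ |G|` for central `Z`. -/
theorem sq_charDegree_mul_card_le (χ : Cfsg.IrrCharacter G) (Z : Subgroup G)
    (hZ : Z ≤ Subgroup.center G) :
    Cfsg.charDegree (χ : G → ℂ) ^ 2 * Nat.card Z ≤ Nat.card G := by
  classical
  have := Fintype.ofFinite G
  have := Fintype.ofFinite Z
  obtain ⟨n, ρ, hρ, hχ, hn⟩ := exists_rep χ
  have hnorm : ∀ z : Z, ‖(χ : G → ℂ) z‖ = Cfsg.charDegree (χ : G → ℂ) := fun z => by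
    obtain ⟨c, hc⟩ := exists_scalar_of_mem_center ρ (hZ z.2)
    have := norm_character_eq_of_scalar ρ _ hc
    rwa [hχ, Module.finrank_fin_fun, hn] at this
  have hsub : ∑ g ∈ Finset.univ.image (Subtype.val : Z → G), ‖(χ : G → ℂ) g‖ ^ 2 ≤
      ∑ g : G, ‖(χ : G → ℂ) g‖ ^ 2 :=
    Finset.sum_le_sum_of_subset_of_nonneg (Finset.subset_univ _) fun g _ _ => by positivity
  rw [sum_norm_sq, Finset.sum_image fun a _ b _ h => Subtype.ext h,
    Finset.sum_congr rfl fun z _ => by rw [hnorm z], Finset.sum_const, nsmul_eq_mul,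
    Finset.card_univ, ← Nat.card_eq_fintype_card, mul_comm] at hsub
  exact_mod_cast hsub

theorem sq_charDegree_le (χ : Cfsg.IrrCharacter G) :
    Cfsg.charDegree (χ : G → ℂ) ^ 2 ≤ Nat.card G := by
  simpa using sq_charDegree_mul_card_le χ ⊥ bot_le

/-- Some constituent of the restriction bounds the degree. -/
theorem exists_constituent_bound (χ : Cfsg.IrrCharacter G) (H : Subgroup G) :
    ∃ θ : Cfsg.IrrCharacter H,
      Cfsg.charDegree (χ : G → ℂ) ≤ H.index * Cfsg.charDegree (θ : H → ℂ) := by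
  classical
  have := Fintype.ofFinite G
  have := Fintype.ofFinite H
  have := Fintype.ofFinite (Cfsg.IrrCharacter G)
  have := Fintype.ofFinite (Cfsg.IrrCharacter H)
  obtain ⟨m, hm⟩ := IsChar.exists_sum (χ := fun h : H => (χ : G → ℂ) h)
    (IsChar.restrict H (IsIrr.isCharacter χ.2))
  obtain ⟨θ, hθ⟩ : ∃ θ, m θ ≠ 0 := by
    by_contra h
    push Not at h
    refine IsIrr.apply_one_ne_zero χ.2 ?_
    simpa [h] using congrFun hm 1
  refine ⟨θ, ?_⟩
  obtain ⟨a, ha⟩ := IsChar.exists_sum (isCharacter_indFun H (IsIrr.isCharacter θ.2))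
  have haχ : (a χ : ℂ) = (m θ : ℂ) := by
    have h1 := frobenius_reciprocity H (θ : H → ℂ) (IsIrr.isClassFunction χ.2)
    rw [ha, classInner_sum_irr] at h1
    rw [h1, hm, ← classInner_conj_symm, classInner_sum_irr, map_natCast]
  have hdeg : ∑ ψ, a ψ * Cfsg.charDegree (ψ : G → ℂ) =
      H.index * Cfsg.charDegree (θ : H → ℂ) := by
    rw [← Nat.cast_inj (R := ℂ), Nat.cast_sum]
    simp only [Nat.cast_mul, cast_irrDegree]
    rw [← indFun_apply_one, ha]
    simp
  rw [← hdeg]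
  refine le_trans ?_ (Finset.single_le_sum (fun ψ _ => Nat.zero_le _) (Finset.mem_univ χ))
  exact Nat.le_mul_of_pos_left _ (Nat.pos_of_ne_zero fun h => hθ (by
    rw [h, Nat.cast_zero, eq_comm, Nat.cast_eq_zero] at haχ; exact haχ))

/-- A character not trivial on the normal subgroup `N` sums to zero on each coset. -/
theorem sum_coset_eq_zero (χ : Cfsg.IrrCharacter G) (N : Subgroup G) [N.Normal] [Fintype N]
    (h : ∃ x ∈ N, (χ : G → ℂ) x ≠ (χ : G → ℂ) 1) (g : G) :
    ∑ n : N, (χ : G → ℂ) ((n : G) * g) = 0 := by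
  obtain ⟨d, ρ, hρ, hχ, -⟩ := exists_rep χ
  set S : Module.End ℂ (Fin d → ℂ) := ∑ n : N, ρ (n : G) with hS
  have hcomm : ∀ x : G, S * ρ x = ρ x * S := fun x => by
    rw [hS, Finset.sum_mul, Finset.mul_sum]
    refine Fintype.sum_equiv (MulAut.conjNormal x⁻¹).toEquiv _ _ fun n => ?_
    rw [← map_mul, ← map_mul]
    congr 1
    simp [MulAut.conjNormal_apply, mul_assoc]
  obtain ⟨c, hc⟩ := exists_scalar_of_commute ρ S hcomm
  have habs : ∀ m : N, ρ (m : G) * S = S := fun m => by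
    rw [hS, Finset.mul_sum]
    refine Fintype.sum_equiv (Equiv.mulLeft m) _ _ fun n => ?_
    rw [← map_mul]
    rfl
  have hc0 : c = 0 := by
    by_contra hc0
    obtain ⟨x, hx, hne⟩ := h
    refine hne ?_
    rw [← hχ, Representation.char_one, character_eq_finrank_iff]
    have h1 := habs ⟨x, hx⟩
    rw [hc] at h1
    refine LinearMap.ext fun v => ?_
    have h2 := LinearMap.congr_fun h1 (c⁻¹ • v)
    simp only [Module.End.mul_apply, LinearMap.smul_apply, LinearMap.id_coe, id_eq,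
      smul_inv_smul₀ hc0] at h2
    exact h2
  rw [hc0, zero_smul] at hc
  rw [← hχ]
  simp only [Representation.character, map_mul, ← map_sum, ← Finset.sum_mul]
  rw [← hS, hc, zero_mul, map_zero]

end CfsgLib.CharDegree
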