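import Cfsg.Agent.Lib.CharDegree.Basic

/-!
# Products of irreducible characters with linear characters
-/

namespace CfsgLib.CharDegree

open scoped ComplexConjugate
open CfsgLib.Char

variable {G : Type*} [Group G] [Finite G]

theorem norm_hom_units (l : G →* ℂˣ) (g : G) : ‖(l g : ℂ)‖ = 1 := by
  have h : (l g : ℂ) ^ Nat.card G = 1 := by
    rw [← Units.val_pow_eq_pow_val, ← map_pow, pow_card_eq_one', map_one, Units.val_one]
  exact Complex.norm_eq_one_of_pow_eq_one h Nat.card_pos.ne'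

theorem isIrr_mul_linear (χ : Cfsg.IrrCharacter G) (l : G →* ℂˣ) :
    Cfsg.IsIrrCharacter G (fun g => (χ : G → ℂ) g * (l g : ℂ)) := by
  have := Fintype.ofFinite G
  rw [isIrr_iff_classInner_eq_one]
  refine ⟨IsChar.mul (IsIrr.isCharacter χ.2) (IsIrr.isCharacter (isIrrCharacter_linear l)), ?_⟩
  rw [← classInner_irr_self χ, Cfsg.classInner, Cfsg.classInner]
  congr 1
  refine Finset.sum_congr rfl fun g _ => ?_
  have h1 : (l g : ℂ) * conj (l g : ℂ) = 1 := by
    rw [Complex.mul_conj, Complex.normSq_eq_norm_sq, norm_hom_units]; simp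
  calc (χ : G → ℂ) g * (l g : ℂ) * conj ((χ : G → ℂ) g * (l g : ℂ))
      = (χ : G → ℂ) g * conj ((χ : G → ℂ) g) * ((l g : ℂ) * conj (l g : ℂ)) := by
        rw [map_mul]; ring
    _ = _ := by rw [h1, mul_one]

/-- The product of an irreducible character with a linear one. -/
def twist (χ : Cfsg.IrrCharacter G) (l : G →* ℂˣ) : Cfsg.IrrCharacter G :=
  ⟨_, isIrr_mul_linear χ l⟩

@[simp]
theorem twist_apply (χ : Cfsg.IrrCharacter G) (l : G →* ℂˣ) (g : G) :
    (twist χ l : G → ℂ) g = (χ : G → ℂ) g * (l g : ℂ) := rfl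

theorem charDegree_twist (χ : Cfsg.IrrCharacter G) (l : G →* ℂˣ) :
    Cfsg.charDegree (twist χ l : G → ℂ) = Cfsg.charDegree (χ : G → ℂ) :=
  charDegree_eq_of_apply_one (by simp [cast_irrDegree])

end CfsgLib.CharDegree
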