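import Cfsg.Agent.Lib.Char.Indicator
import Cfsg.Agent.Lib.CharDegree.Basic

/-!
# Values of the indicator on irreducible characters
-/

namespace CfsgLib.CharDegree

open CfsgLib.Char

variable {G : Type*} [Group G] [Fintype G]

theorem fsInd_cases (χ : Cfsg.IrrCharacter G) :
    fsInd (χ : G → ℂ) = 0 ∨ fsInd (χ : G → ℂ) = 1 ∨ fsInd (χ : G → ℂ) = -1 := by
  obtain ⟨n, ρ, hρ, hχ, -⟩ := exists_rep χ
  rw [← hχ]
  exact (fsInd_trichotomy ρ).1

theorem im_eq_zero_of_fsInd_ne_zero (χ : Cfsg.IrrCharacter G) (h : fsInd (χ : G → ℂ) ≠ 0) (g : G) :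
    ((χ : G → ℂ) g).im = 0 := by
  obtain ⟨n, ρ, hρ, hχ, -⟩ := exists_rep χ
  rw [← hχ] at h ⊢
  by_contra hne
  exact h ((fsInd_trichotomy ρ).2.mpr ⟨g, hne⟩)

theorem fsInd_trivChar : fsInd (trivChar G : G → ℂ) = 1 := by
  simp [fsInd, Nat.card_eq_fintype_card, Fintype.card_ne_zero]

end CfsgLib.CharDegree
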