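import Cfsg.Agent.Lib.CharDegree.TwoDegrees
import Cfsg.Agent.Lib.Char.Weights
import Cfsg.Agent.S0169
import Mathlib.Algebra.Ring.Subring.Basic

/-!
# An abelian quotient acting on a chief factor below an abelian normal subgroup
-/

namespace CfsgLib.TwoDegrees

open CfsgLib.Char CfsgLib.CharDegree
open scoped Classical commutatorElement

variable {G : Type*} [Group G]

/-- The degree divides the index of an abelian normal subgroup. -/
theorem degree_dvd_index [Finite G] (χ : Cfsg.IrrCharacter G) (A : Subgroup G) [A.Normal]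
    (hA : ∀ a ∈ A, ∀ b ∈ A, a * b = b * a) : Cfsg.charDegree (χ : G → ℂ) ∣ A.index := by
  obtain ⟨n, ρ, hρ, -, hn⟩ := exists_rep χ
  have h := Cfsg.Agent.S0169.result ρ A hA
  rwa [Module.finrank_fin_fun, hn] at h

/-- The degree is at most the index of an abelian subgroup. -/
theorem degree_le_index [Finite G] (χ : Cfsg.IrrCharacter G) (A : Subgroup G)
    (hA : ∀ a ∈ A, ∀ b ∈ A, a * b = b * a) : Cfsg.charDegree (χ : G → ℂ) ≤ A.index := by
  obtain ⟨n, ρ, hρ, -, hn⟩ := exists_rep χ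
  have h := CfsgLib.CharWeights.finrank_le_index ρ A hA
  rwa [Module.finrank_fin_fun, hn] at h

/-- The centralizer of the section `A / L`. -/
def secCent (A L : Subgroup G) [hA : A.Normal] [hL : L.Normal] : Subgroup G where
  carrier := {g | ∀ a ∈ A, g * a * g⁻¹ * a⁻¹ ∈ L}
  one_mem' := fun a _ => by simp
  mul_mem' := fun {g h} hg hh a ha => by
    rw [show g * h * a * (g * h)⁻¹ * a⁻¹ =
      g * (h * a * h⁻¹ * a⁻¹) * g⁻¹ * (g * a * g⁻¹ * a⁻¹) by group]
    exact L.mul_mem (hL.conj_mem _ (hh a ha) g) (hg a ha)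
  inv_mem' := fun {g} hg a ha => by
    rw [show g⁻¹ * a * g⁻¹⁻¹ * a⁻¹ = g⁻¹ * (g * a * g⁻¹ * a⁻¹)⁻¹ * g⁻¹⁻¹ by group]
    exact hL.conj_mem _ (L.inv_mem (hg a ha)) g⁻¹

theorem mem_secCent {A L : Subgroup G} [A.Normal] [L.Normal] {g : G} :
    g ∈ secCent A L ↔ ∀ a ∈ A, g * a * g⁻¹ * a⁻¹ ∈ L := Iff.rfl

instance secCent_normal (A L : Subgroup G) [hA : A.Normal] [hL : L.Normal] :
    (secCent A L).Normal :=
  ⟨fun g hg x a ha => by
    have h := hL.conj_mem _ (hg (x⁻¹ * a * x⁻¹⁻¹) (hA.conj_mem a ha x⁻¹)) x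
    rwa [show x * g * x⁻¹ * a * (x * g * x⁻¹)⁻¹ * a⁻¹ =
      x * (g * (x⁻¹ * a * x⁻¹⁻¹) * g⁻¹ * (x⁻¹ * a * x⁻¹⁻¹)⁻¹) * x⁻¹ by group]⟩

/-- A nontrivial normal subgroup has a maximal proper normal subgroup. -/
theorem exists_maximal_lt [Finite G] {A : Subgroup G} (hA : A ≠ ⊥) :
    ∃ L : Subgroup G, L.Normal ∧ L < A ∧
      ∀ F : Subgroup G, F.Normal → L ≤ F → F ≤ A → F = L ∨ F = A := by
  obtain ⟨L, hL⟩ := (Set.toFinite {L : Subgroup G | L.Normal ∧ L < A}).exists_maximal
    ⟨⊥, Subgroup.normal_bot, bot_lt_iff_ne_bot.mpr hA⟩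
  refine ⟨L, hL.1.1, hL.1.2, fun F hF hLF hFA => ?_⟩
  rcases hFA.eq_or_lt with h | h
  · exact Or.inr h
  · exact Or.inl (le_antisymm (hL.2 ⟨hF, h⟩ hLF) hLF)

variable {A L : Subgroup G} [hA : A.Normal] [hL : L.Normal]

/-- An element central modulo the centralizer, outside it, fixes only `L`. -/
theorem fpf_of_central
    (hmax : ∀ F : Subgroup G, F.Normal → L ≤ F → F ≤ A → F = L ∨ F = A) (hLA : L ≤ A)
    {x : G} (hcomm : ∀ y : G, x⁻¹ * y⁻¹ * x * y ∈ secCent A L) (hx : x ∉ secCent A L) :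
    ∀ a ∈ A, x * a * x⁻¹ * a⁻¹ ∈ L → a ∈ L := by
  intro a ha hxa
  let F : Subgroup G :=
    { carrier := {a | a ∈ A ∧ x * a * x⁻¹ * a⁻¹ ∈ L}
      one_mem' := ⟨A.one_mem, by simp⟩
      mul_mem' := fun {b c} hb hc => ⟨A.mul_mem hb.1 hc.1, by
        rw [show x * (b * c) * x⁻¹ * (b * c)⁻¹ =
          (x * b * x⁻¹ * b⁻¹) * (b * (x * c * x⁻¹ * c⁻¹) * b⁻¹) by group]
        exact L.mul_mem hb.2 (hL.conj_mem _ hc.2 b)⟩
      inv_mem' := fun {b} hb => ⟨A.inv_mem hb.1, by
        rw [show x * b⁻¹ * x⁻¹ * b⁻¹⁻¹ = b⁻¹ * (x * b * x⁻¹ * b⁻¹)⁻¹ * b⁻¹⁻¹ by group]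
        exact hL.conj_mem _ (L.inv_mem hb.2) b⁻¹⟩ }
  have hF : F.Normal := ⟨fun b hb g => ⟨hA.conj_mem b hb.1 g, by
    have hc := hcomm g
    have h := hL.conj_mem _ (L.mul_mem (hL.conj_mem _ (hc b hb.1) x) hb.2) g
    rwa [show g * (x * ((x⁻¹ * g⁻¹ * x * g) * b * (x⁻¹ * g⁻¹ * x * g)⁻¹ * b⁻¹) * x⁻¹ *
      (x * b * x⁻¹ * b⁻¹)) * g⁻¹ = x * (g * b * g⁻¹) * x⁻¹ * (g * b * g⁻¹)⁻¹ by group] at h⟩⟩
  have hLF : L ≤ F := fun b hb => ⟨hLA hb, L.mul_mem (hL.conj_mem b hb x) (L.inv_mem hb)⟩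
  rcases hmax F hF hLF (fun b hb => hb.1) with h | h
  · have ha' : a ∈ F := ⟨ha, hxa⟩
    rwa [h] at ha'
  · exact absurd (fun b hb => (h.symm.le hb).2) hx

/-- Elements outside the centralizer fix only `L`. -/
theorem fpf_of_maximal
    (hmax : ∀ F : Subgroup G, F.Normal → L ≤ F → F ≤ A → F = L ∨ F = A) (hLA : L ≤ A)
    (hcomm : ∀ x y : G, x⁻¹ * y⁻¹ * x * y ∈ secCent A L) :
    ∀ x : G, x ∉ secCent A L → ∀ a ∈ A, x * a * x⁻¹ * a⁻¹ ∈ L → a ∈ L :=
  fun x hx => fpf_of_central hmax hLA (hcomm x) hx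

/-- An element fixing only `L` maps `A / L` onto itself by `a ↦ [x, a]`. -/
theorem surj_of_fpf [Finite G] (hAab : ∀ a ∈ A, ∀ b ∈ A, a * b = b * a) {x : G}
    (hfp : ∀ a ∈ A, x * a * x⁻¹ * a⁻¹ ∈ L → a ∈ L) :
    ∀ a ∈ A, ∃ b ∈ A, (x * b * x⁻¹ * b⁻¹)⁻¹ * a ∈ L := by
  intro a ha
  let LA := L.subgroupOf A
  have hmem : ∀ b : A, x * b * x⁻¹ * (b : G)⁻¹ ∈ A := fun b =>
    A.mul_mem (hA.conj_mem _ b.2 x) (A.inv_mem b.2)
  let f : A →* A :=
    { toFun := fun b => ⟨_, hmem b⟩
      map_one' := Subtype.ext (by simp)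
      map_mul' := fun b c => by
        have hz := hAab _ (hmem c) _ (A.inv_mem b.2)
        refine Subtype.ext ?_
        simp only [Subgroup.coe_mul]
        calc x * (b * c) * x⁻¹ * ((b : G) * c)⁻¹
            = (x * b * x⁻¹) * ((x * c * x⁻¹ * (c : G)⁻¹) * (b : G)⁻¹) := by group
          _ = (x * b * x⁻¹) * ((b : G)⁻¹ * (x * c * x⁻¹ * (c : G)⁻¹)) := by rw [hz]
          _ = _ := by group }
  have hle : LA ≤ LA.comap f := fun b hb => by
    rw [Subgroup.mem_comap, Subgroup.mem_subgroupOf]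
    exact L.mul_mem (hL.conj_mem _ (Subgroup.mem_subgroupOf.mp hb) x)
      (L.inv_mem (Subgroup.mem_subgroupOf.mp hb))
  let fq := QuotientGroup.map LA LA f hle
  have hinj : Function.Injective fq := by
    rw [injective_iff_map_eq_one]
    intro q
    induction q using QuotientGroup.induction_on with
    | H b =>
      intro hb
      change ((f b : A) : A ⧸ LA) = 1 at hb
      rw [QuotientGroup.eq_one_iff] at hb
      exact (QuotientGroup.eq_one_iff b).mpr
        (Subgroup.mem_subgroupOf.mpr (hfp b b.2 (Subgroup.mem_subgroupOf.mp hb)))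
  obtain ⟨q, hq⟩ := (Finite.injective_iff_surjective.mp hinj) (QuotientGroup.mk (⟨a, ha⟩ : A))
  induction q using QuotientGroup.induction_on with
  | H b =>
    change ((f b : A) : A ⧸ LA) = ((⟨a, ha⟩ : A) : A ⧸ LA) at hq
    exact ⟨b, b.2, Subgroup.mem_subgroupOf.mp (QuotientGroup.eq.mp hq)⟩

/-- The quotient is cyclic. -/
theorem isCyclic_of_maximal [Finite G] (hAab : ∀ a ∈ A, ∀ b ∈ A, a * b = b * a)
    (hmax : ∀ F : Subgroup G, F.Normal → L ≤ F → F ≤ A → F = L ∨ F = A) (hLA : L < A)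
    (hcomm : ∀ x y : G, x⁻¹ * y⁻¹ * x * y ∈ secCent A L) :
    IsCyclic (G ⧸ secCent A L) := by
  let : CommGroup A := { (inferInstance : Group A) with
    mul_comm := fun a b => Subtype.ext (hAab a a.2 b b.2) }
  let LA := L.subgroupOf A
  have hmap : ∀ g : G, LA ≤ LA.comap (MulAut.conjNormal g : MulAut A).toMonoidHom := fun g b hb => by
    rw [Subgroup.mem_comap, Subgroup.mem_subgroupOf]
    exact hL.conj_mem _ (Subgroup.mem_subgroupOf.mp hb) g
  let ψ : G →* AddMonoid.End (Additive (A ⧸ LA)) :=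
    { toFun := fun g => MonoidHom.toAdditive
        (QuotientGroup.map LA LA (MulAut.conjNormal g : MulAut A).toMonoidHom (hmap g))
      map_one' := by
        refine DFunLike.ext _ _ fun q => ?_
        induction q using QuotientGroup.induction_on with
        | H b =>
          show Additive.ofMul (((MulAut.conjNormal (1 : G) : MulAut A) b : A) : A ⧸ LA) =
            Additive.ofMul ((b : A) : A ⧸ LA)
          simp
      map_mul' := fun g h => by
        refine DFunLike.ext _ _ fun q => ?_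
        induction q using QuotientGroup.induction_on with
        | H b =>
          show Additive.ofMul (((MulAut.conjNormal (g * h) : MulAut A) b : A) : A ⧸ LA) =
            Additive.ofMul (((MulAut.conjNormal g : MulAut A)
              ((MulAut.conjNormal h : MulAut A) b) : A) : A ⧸ LA)
          rw [map_mul]
          rfl }
  have happ : ∀ g (b : A), ψ g (Additive.ofMul (b : A ⧸ LA)) =
      Additive.ofMul (((MulAut.conjNormal g : MulAut A) b : A) : A ⧸ LA) := fun g b => rfl
  have hker : secCent A L = ψ.ker := by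
    ext g
    rw [MonoidHom.mem_ker, mem_secCent]
    constructor
    · intro hg
      refine DFunLike.ext _ _ fun q => ?_
      induction q using QuotientGroup.induction_on with
      | H b =>
        refine (happ g b).trans (congrArg Additive.ofMul (QuotientGroup.eq.mpr
          (Subgroup.mem_subgroupOf.mpr ?_)))
        have h := hL.conj_mem _ (L.inv_mem (hg b b.2)) (b : G)⁻¹
        simpa [mul_assoc] using h
    · intro hg a ha
      have h := (happ g ⟨a, ha⟩).symm.trans (DFunLike.congr_fun hg _)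
      have h2 := Subgroup.mem_subgroupOf.mp (QuotientGroup.eq.mp (Additive.ofMul.injective h))
      have h3 := hL.conj_mem _ (L.inv_mem h2) a
      simpa [mul_assoc] using h3
  have hψc : ∀ g h, ψ g * ψ h = ψ h * ψ g := fun g h => by
    rw [← map_mul, ← map_mul]
    have h1 : g⁻¹ * h⁻¹ * g * h ∈ ψ.ker := hker ▸ hcomm g h
    rw [show g * h = h * g * (g⁻¹ * h⁻¹ * g * h) by group, map_mul _ (h * g),
      MonoidHom.mem_ker.mp h1, mul_one]
  let R : Subring (AddMonoid.End (Additive (A ⧸ LA))) := Subring.closure (Set.range ψ)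
  have : IsMulCommutative R := Subring.isMulCommutative_closure (by
    rintro _ ⟨g, rfl⟩ _ ⟨h, rfl⟩
    exact hψc g h)
  have : Finite (AddMonoid.End (Additive (A ⧸ LA))) :=
    Finite.of_injective _ DFunLike.coe_injective
  have : Nontrivial R := by
    obtain ⟨v, hv, hvL⟩ := SetLike.exists_of_lt hLA
    refine ⟨1, 0, fun h => hvL ?_⟩
    have h1 := DFunLike.congr_fun (congrArg Subtype.val h)
      (Additive.ofMul ((⟨v, hv⟩ : A) : A ⧸ LA))
    exact Subgroup.mem_subgroupOf.mp ((QuotientGroup.eq_one_iff _).mp (Additive.ofMul.injective h1))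
  have : NoZeroDivisors R := ⟨fun {r s} hrs => by
    rw [or_iff_not_imp_right]
    intro hs
    let F : Subgroup G :=
      { carrier := {a | ∃ ha : a ∈ A, (s : AddMonoid.End _)
          (Additive.ofMul ((⟨a, ha⟩ : A) : A ⧸ LA)) = 0}
        one_mem' := ⟨A.one_mem, by
          rw [show (⟨1, A.one_mem⟩ : A) = 1 from rfl, QuotientGroup.mk_one]
          exact map_zero _⟩
        mul_mem' := fun {b c} ⟨hb, hb'⟩ ⟨hc, hc'⟩ => ⟨A.mul_mem hb hc, by
          rw [show (⟨b * c, A.mul_mem hb hc⟩ : A) = ⟨b, hb⟩ * ⟨c, hc⟩ from rfl,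
            QuotientGroup.mk_mul, ofMul_mul, map_add, hb', hc', add_zero]⟩
        inv_mem' := fun {b} ⟨hb, hb'⟩ => ⟨A.inv_mem hb, by
          rw [show (⟨b⁻¹, A.inv_mem hb⟩ : A) = ⟨b, hb⟩⁻¹ from rfl,
            QuotientGroup.mk_inv, ofMul_inv, map_neg, hb', neg_zero]⟩ }
    have hF : F.Normal := ⟨fun b ⟨hb, hb'⟩ g => ⟨hA.conj_mem b hb g, by
      have hc : (s : AddMonoid.End _) * ψ g = ψ g * (s : AddMonoid.End _) :=
        congrArg Subtype.val (mul_comm' s ⟨ψ g, Subring.subset_closure ⟨g, rfl⟩⟩)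
      have h1 := DFunLike.congr_fun hc (Additive.ofMul ((⟨b, hb⟩ : A) : A ⧸ LA))
      simp only [AddMonoid.End.coe_mul, Function.comp_apply] at h1
      rw [hb', map_zero, happ] at h1
      exact h1⟩⟩
    have hLF : L ≤ F := fun b hb => ⟨hLA.le hb, by
      rw [(QuotientGroup.eq_one_iff _).mpr (Subgroup.mem_subgroupOf.mpr hb)]
      exact map_zero _⟩
    rcases hmax F hF hLF (fun b hb => hb.1) with h | h
    · have hinj : Function.Injective (s : AddMonoid.End (Additive (A ⧸ LA))) := by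
        rw [injective_iff_map_eq_zero]
        intro q
        induction q using QuotientGroup.induction_on with
        | H b =>
          intro hq
          have hb : (b : G) ∈ F := ⟨b.2, hq⟩
          rw [h] at hb
          exact congrArg Additive.ofMul ((QuotientGroup.eq_one_iff b).mpr
            (Subgroup.mem_subgroupOf.mpr hb))
      refine Subtype.ext (DFunLike.ext _ _ fun q => ?_)
      obtain ⟨z, rfl⟩ := Finite.injective_iff_surjective.mp hinj q
      exact DFunLike.congr_fun (congrArg Subtype.val hrs) z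
    · refine absurd (Subtype.ext (DFunLike.ext _ _ fun q => ?_)) hs
      induction q using QuotientGroup.induction_on with
      | H b => exact (h.symm.le b.2).2⟩
  have : IsDomain R := NoZeroDivisors.to_isDomain R
  let : CommRing R := { (inferInstance : Ring R) with mul_comm := mul_comm' }
  let φ : G →* R :=
    { toFun := fun g => ⟨ψ g, Subring.subset_closure ⟨g, rfl⟩⟩
      map_one' := Subtype.ext (map_one ψ)
      map_mul' := fun g h => Subtype.ext (map_mul ψ g h) }
  have hφ : secCent A L ≤ φ.ker := fun g hg => by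
    rw [hker, MonoidHom.mem_ker] at hg
    exact MonoidHom.mem_ker.mpr (Subtype.ext hg)
  refine isCyclic_of_subgroup_isDomain (QuotientGroup.lift (secCent A L) φ hφ) ?_
  intro q q'
  induction q using QuotientGroup.induction_on with
  | H g =>
  induction q' using QuotientGroup.induction_on with
  | H g' =>
    intro h
    rw [QuotientGroup.eq, hker, MonoidHom.mem_ker]
    have h' : ψ g = ψ g' := congrArg Subtype.val h
    rw [map_mul, ← h', ← map_mul, inv_mul_cancel, map_one]

/-- The configuration: an abelian normal subgroup of index `m`. -/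
theorem exists_index [Fintype G] {m : ℕ}
    (hdeg : ∀ χ : Cfsg.IrrCharacter G, Cfsg.charDegree (χ : G → ℂ) = 1 ∨
      Cfsg.charDegree (χ : G → ℂ) = m)
    (hAab : ∀ a ∈ A, ∀ b ∈ A, a * b = b * a)
    (hmax : ∀ F : Subgroup G, F.Normal → L ≤ F → F ≤ A → F = L ∨ F = A) (hLA : L < A)
    (hne : secCent A L ≠ ⊤) (hcomm : ∀ x y : G, x⁻¹ * y⁻¹ * x * y ∈ secCent A L)
    (hext : ∀ a : secCent A L, (a : G) ∈ A →
      a ∈ commutator (secCent A L) ⊔ L.subgroupOf (secCent A L) → (a : G) ∈ L)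
    (hcop : (L.relIndex A).Coprime m) :
    ∃ C : Subgroup G, C.Normal ∧ (∀ a ∈ C, ∀ b ∈ C, a * b = b * a) ∧ C.index = m := by
  have hAC : A ≤ secCent A L := fun g hg a ha => by
    rw [hAab g hg a ha, show a * g * g⁻¹ * a⁻¹ = 1 by group]
    exact L.one_mem
  obtain ⟨h1, h2⟩ := core (m := m) hdeg hLA hAC hne hAab
    (isCyclic_of_maximal hAab hmax hLA hcomm) (fpf_of_maximal hmax hLA.le hcomm) hext hcop
  exact ⟨secCent A L, inferInstance, h2, h1⟩

/-- A central derived subgroup of order prime to the degree forces commutativity. -/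
theorem comm_of_central [Finite G] {m : ℕ}
    (hdeg : ∀ χ : Cfsg.IrrCharacter G, Cfsg.charDegree (χ : G → ℂ) = 1 ∨
      Cfsg.charDegree (χ : G → ℂ) = m)
    (hcen : commutator G ≤ Subgroup.center G)
    (hcop : (Nat.card (commutator G)).Coprime m) (a b : G) : a * b = b * a := by
  refine comm_of_forall_linear (fun χ => ?_) a b
  refine (hdeg χ).elim id fun hχ => ?_
  set k := Nat.card (commutator G) with hk
  have hpow : ∀ x : G, x ^ k ∈ Subgroup.center G := by
    intro x
    rw [Subgroup.mem_center_iff]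
    intro y
    let f : G →* commutator G :=
      { toFun := fun z => ⟨⁅z, y⁆, Subgroup.commutator_mem_commutator
          (Subgroup.mem_top z) (Subgroup.mem_top y)⟩
        map_one' := Subtype.ext (commutatorElement_one_left y)
        map_mul' := fun z w => Subtype.ext (by
          have hw : ⁅w, y⁆ ∈ Subgroup.center G := hcen
            (Subgroup.commutator_mem_commutator (Subgroup.mem_top w) (Subgroup.mem_top y))
          show ⁅z * w, y⁆ = ⁅z, y⁆ * ⁅w, y⁆
          rw [commutatorElement_mul_left_eq_conj_mul, Subgroup.mem_center_iff.mp hw z,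
            mul_inv_cancel_right, ← Subgroup.mem_center_iff.mp hw ⁅z, y⁆]) }
    have h1 : f (x ^ k) = 1 := by rw [map_pow, hk, pow_card_eq_one']
    exact (commutatorElement_eq_one_iff_mul_comm.mp (congrArg Subtype.val h1)).symm
  have hcop2 : (Subgroup.center G).index.Coprime m := by
    refine Nat.coprime_of_dvd fun q hq hq1 hq2 => ?_
    have := Fact.mk hq
    rw [Subgroup.index_eq_card] at hq1
    obtain ⟨x, hx⟩ := exists_prime_orderOf_dvd_card' q hq1
    have h1 : x ^ k = 1 := by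
      induction x using QuotientGroup.induction_on with
      | H g => rw [← QuotientGroup.mk_pow, QuotientGroup.eq_one_iff]; exact hpow g
    have h2 := orderOf_dvd_of_pow_eq_one h1
    rw [hx] at h2
    exact hq.ne_one (Nat.eq_one_of_dvd_coprimes hcop h2 hq2)
  have h := degree_dvd_index χ (Subgroup.center G) fun a ha b _ =>
    (Subgroup.mem_center_iff.mp ha b).symm
  rw [hχ] at h
  rw [hχ]
  exact Nat.eq_one_of_dvd_coprimes hcop2 h dvd_rfl

end CfsgLib.TwoDegrees
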