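import Cfsg.Agent.Lib.Char.Extension
import Cfsg.Agent.Lib.Char.CliffordRestrict
import Mathlib.Analysis.Complex.Polynomial.Basic
import Mathlib.GroupTheory.NoncommCoprod

/-!
# Invariant characters extend along cyclic quotients
-/

namespace CfsgLib.CharDegree

open CfsgLib.Char CfsgLib.CharExt
open Module

variable {G : Type*} [Group G] [Finite G] {N : Subgroup G} [hN : N.Normal]
variable {V : Type*} [AddCommGroup V] [Module ℂ V] [FiniteDimensional ℂ V]

/-- An invariant irreducible representation extends along a cyclic quotient. -/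
theorem exists_extension_of_cyclic (σ : Representation ℂ N V) [σ.IsIrreducible]
    (hinv : ∀ g n, σ.character (cn g n) = σ.character n) (hcyc : IsCyclic (G ⧸ N)) :
    ∃ ρ : Representation ℂ G V, ∀ n : N, ρ n = σ n := by
  classical
  obtain ⟨ū, hu⟩ := hcyc.exists_generator
  induction ū using QuotientGroup.induction_on with
  | H u =>
  obtain ⟨x₀, hx₀⟩ := proj_surjective σ hinv u
  set c := orderOf (u : G ⧸ N) with hc
  have hcpos : 0 < c := orderOf_pos _
  have huc : u ^ c ∈ N := by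
    rw [← QuotientGroup.eq_one_iff, QuotientGroup.mk_pow, hc, pow_orderOf_eq_one]
  obtain ⟨lam, hlam⟩ := exists_scal_of_proj σ (x := x₀ ^ c * (emb σ ⟨u ^ c, huc⟩)⁻¹) (by
    rw [map_mul, map_inv, map_pow, hx₀, proj_emb, mul_inv_cancel])
  rw [mul_inv_eq_iff_eq_mul] at hlam
  -- normalize so that `x ^ c` is the copy of `u ^ c`
  obtain ⟨μ', hμ'⟩ := IsAlgClosed.exists_pow_nat_eq ((lam⁻¹ : ℂˣ) : ℂ) hcpos
  have hμ0 : μ' ≠ 0 := fun h => by
    rw [h, zero_pow hcpos.ne'] at hμ'; exact (lam⁻¹).ne_zero hμ'.symm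
  have hμ : Units.mk0 μ' hμ0 ^ c = lam⁻¹ := Units.ext (by simpa using hμ')
  set x := scal σ (Units.mk0 μ' hμ0) * x₀ with hxdef
  have hx : proj σ x = u := by rw [hxdef, map_mul, proj_scal, one_mul, hx₀]
  have hxc : x ^ c = emb σ ⟨u ^ c, huc⟩ := by
    rw [hxdef, (scal_commute σ _ x₀).mul_pow, ← map_pow, hμ, hlam, map_inv, inv_mul_cancel_left]
  let K : Subgroup (twistGroup σ) := Subgroup.zpowers x ⊔ (emb σ).range
  have hnormal : (emb σ).range.Normal := ⟨fun y hy z => by
    obtain ⟨n, rfl⟩ := hy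
    exact ⟨_, (conj_emb σ z n).symm⟩⟩
  have hKmem : ∀ y ∈ K, ∃ (i : ℤ) (n : N), y = x ^ i * emb σ n := fun y hy => by
    obtain ⟨a, ha, b, hb, rfl⟩ := Subgroup.mem_sup_of_normal_right.1 hy
    obtain ⟨i, rfl⟩ := Subgroup.mem_zpowers_iff.1 ha
    obtain ⟨n, rfl⟩ := hb
    exact ⟨i, n, rfl⟩
  have hKone : ∀ y ∈ K, proj σ y = 1 → y = 1 := fun y hy h1 => by
    obtain ⟨i, n, rfl⟩ := hKmem y hy
    rw [map_mul, map_zpow, hx, proj_emb, mul_eq_one_iff_eq_inv] at h1
    have hi : (c : ℤ) ∣ i := by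
      rw [hc, orderOf_dvd_iff_zpow_eq_one, ← QuotientGroup.mk_zpow, QuotientGroup.eq_one_iff, h1]
      exact inv_mem n.2
    obtain ⟨q, rfl⟩ := hi
    rw [zpow_mul, zpow_natCast, hxc, ← map_zpow, ← map_mul, ← map_one (emb σ)]
    congr 1
    refine Subtype.ext ?_
    rw [zpow_mul, zpow_natCast] at h1
    simp only [Subgroup.coe_mul, SubgroupClass.coe_zpow, OneMemClass.coe_one, h1, inv_mul_cancel]
  let ψ : ℂˣ × K →* twistGroup σ :=
    MonoidHom.noncommCoprod (scal σ) K.subtype fun z y => scal_commute σ z _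
  have hψ : Function.Bijective ψ := by
    refine ⟨(injective_iff_map_eq_one ψ).2 ?_, fun y => ?_⟩
    · rintro ⟨z, y⟩ h
      have h' : scal σ z * (y : twistGroup σ) = 1 := h
      have hy : (y : twistGroup σ) = 1 := hKone y y.2 (by
        have := congrArg (proj σ) h'
        rwa [map_mul, proj_scal, one_mul, map_one] at this)
      rw [hy, mul_one] at h'
      have := nontrivial_of_irreducible σ
      refine Prod.ext (scalarUnit_injective (V := V) ?_) (Subtype.ext hy)
      rw [← op_scal σ z, h', map_one]; exact (map_one _).symm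
    · obtain ⟨i, hi⟩ := Subgroup.mem_zpowers_iff.1 (hu (proj σ y : G ⧸ N))
      rw [← QuotientGroup.mk_zpow, QuotientGroup.eq] at hi
      have hk : x ^ i * emb σ ⟨_, hi⟩ ∈ K := mul_mem
        (Subgroup.mem_sup_left (zpow_mem (Subgroup.mem_zpowers x) i))
        (Subgroup.mem_sup_right ⟨_, rfl⟩)
      obtain ⟨z, hz⟩ := exists_scal_of_proj σ (x := y * (x ^ i * emb σ ⟨_, hi⟩)⁻¹) (by
        rw [map_mul, map_inv, map_mul, map_zpow, hx, proj_emb]
        group)
      rw [mul_inv_eq_iff_eq_mul] at hz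
      exact ⟨(z, ⟨_, hk⟩), hz.symm⟩
  let e := MulEquiv.ofBijective ψ hψ
  refine exists_extension_of_hom σ hinv ((MonoidHom.fst ℂˣ K).comp e.symm.toMonoidHom)
    (fun z => ?_) fun n => ?_
  · have h : e (z, 1) = scal σ z := by show scal σ z * _ = _; simp
    show (e.symm (scal σ z)).1 = z
    rw [← h, MulEquiv.symm_apply_apply]
  · have h : e (1, ⟨emb σ n, Subgroup.mem_sup_right ⟨_, rfl⟩⟩) = emb σ n := by
      show scal σ 1 * _ = _
      simp
    show (e.symm (emb σ n)).1 = 1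
    rw [← h, MulEquiv.symm_apply_apply]

end CfsgLib.CharDegree
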