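import Cfsg.Agent.Lib.CharDegree.Basic

/-!
# Counting solutions of equations with characters
-/

namespace CfsgLib.CharDegree

open scoped ComplexConjugate
open CfsgLib.Char

variable {G : Type*} [Group G] [Fintype G]

open scoped Classical in
/-- The regular character expansion of the delta function at `1`. -/
theorem sum_degree_mul_eq_ite [Fintype (Cfsg.IrrCharacter G)] (g : G) :
    ∑ χ : Cfsg.IrrCharacter G, (χ : G → ℂ) 1 * (χ : G → ℂ) g =
      if g = 1 then (Nat.card G : ℂ) else 0 := by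
  by_cases hg : g = 1
  · subst hg
    rw [if_pos rfl, ← sum_sq_degree]
    exact Finset.sum_congr rfl fun χ _ => (sq _).symm
  · rw [if_neg hg, sum_degree_mul_apply_of_ne_one hg]

/-- Characters separate classes. -/
theorem isConj_of_forall_eq {g h : G}
    (H : ∀ χ : Cfsg.IrrCharacter G, (χ : G → ℂ) g = (χ : G → ℂ) h) : IsConj g h := by
  classical
  have := Fintype.ofFinite (Cfsg.IrrCharacter G)
  by_contra hc
  have h1 := column_orthogonality g g
  have h2 := column_orthogonality g h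
  rw [if_pos (IsConj.refl g)] at h1
  rw [if_neg hc] at h2
  simp only [← H] at h2
  rw [h1, Nat.cast_eq_zero] at h2
  exact Nat.card_pos.ne' h2

theorem apply_eq_of_isConj (χ : Cfsg.IrrCharacter G) {g h : G} (hgh : IsConj g h) :
    (χ : G → ℂ) g = (χ : G → ℂ) h :=
  isClassFunction_iff_isConj.mp (IsIrr.isClassFunction χ.2) g h hgh

/-- Convolution of two irreducible characters. -/
theorem sum_mul_mul_inv (χ ψ : Cfsg.IrrCharacter G) (g : G) :
    ∑ z : G, (χ : G → ℂ) z * (ψ : G → ℂ) (z⁻¹ * g) =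
      (Nat.card G : ℂ) * Cfsg.classInner (χ : G → ℂ) (ψ : G → ℂ) * (ψ : G → ℂ) g /
        (ψ : G → ℂ) 1 := by
  have hN : (Nat.card G : ℂ) ≠ 0 := Nat.cast_ne_zero.mpr Nat.card_pos.ne'
  have hinv : ∀ a : G, ∑ z : G, (χ : G → ℂ) z * (ψ : G → ℂ) (z⁻¹ * g) =
      ∑ z : G, (χ : G → ℂ) z * (ψ : G → ℂ) (a * z⁻¹ * a⁻¹ * g) := fun a => by
    refine (Fintype.sum_equiv (MulAut.conj a).toEquiv _ _ fun z => ?_).symm
    simp only [MulEquiv.toEquiv_eq_coe, MulEquiv.coe_toEquiv, MulAut.conj_apply, mul_inv_rev,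
      inv_inv, mul_assoc]
    rw [← mul_assoc a z a⁻¹, IsIrr.isClassFunction χ.2 z a]
  have h2 : (Nat.card G : ℂ) * ∑ z : G, (χ : G → ℂ) z * (ψ : G → ℂ) (z⁻¹ * g) =
      (Nat.card G : ℂ) * ((Nat.card G : ℂ) * Cfsg.classInner (χ : G → ℂ) (ψ : G → ℂ) *
        (ψ : G → ℂ) g / (ψ : G → ℂ) 1) := by
    calc (Nat.card G : ℂ) * ∑ z : G, (χ : G → ℂ) z * (ψ : G → ℂ) (z⁻¹ * g)
        = ∑ a : G, ∑ z : G, (χ : G → ℂ) z * (ψ : G → ℂ) (a * z⁻¹ * a⁻¹ * g) := by
          simp only [← hinv, Finset.sum_const, Finset.card_univ, nsmul_eq_mul,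
            Nat.card_eq_fintype_card]
      _ = ∑ z : G, (χ : G → ℂ) z * ((Nat.card G : ℂ) * (ψ : G → ℂ) z⁻¹ * (ψ : G → ℂ) g /
            (ψ : G → ℂ) 1) := by
          rw [Finset.sum_comm]
          simp only [← Finset.mul_sum, sum_conj_mul]
      _ = _ := by
          simp only [Cfsg.classInner, Finset.mul_sum, Finset.sum_mul, Finset.sum_div,
            IsIrr.map_inv ψ.2]
          exact Finset.sum_congr rfl fun z _ => by field_simp
  exact mul_left_cancel₀ hN h2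

/-- Double average. -/
theorem sum_conj_mul_conj_mul (χ : Cfsg.IrrCharacter G) (x y w : G) :
    ∑ a : G, ∑ b : G, (χ : G → ℂ) (a * x * a⁻¹ * (b * y * b⁻¹ * w)) =
      (Nat.card G : ℂ) ^ 2 * (χ : G → ℂ) x * (χ : G → ℂ) y * (χ : G → ℂ) w /
        (χ : G → ℂ) 1 ^ 2 := by
  have hne : (χ : G → ℂ) 1 ≠ 0 := IsIrr.apply_one_ne_zero χ.2
  rw [Finset.sum_comm]
  simp only [sum_conj_mul, ← Finset.mul_sum, ← Finset.sum_div]
  field_simp

open scoped Classical in
/-- Structure constants of the class algebra. -/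
theorem sum_three [Fintype (Cfsg.IrrCharacter G)] (x y w : G) :
    (Nat.card G : ℂ) * ∑ χ : Cfsg.IrrCharacter G,
        (χ : G → ℂ) x * (χ : G → ℂ) y * (χ : G → ℂ) w / (χ : G → ℂ) 1 =
      (Nat.card {p : G × G // p.1 * x * p.1⁻¹ * (p.2 * y * p.2⁻¹ * w) = 1} : ℂ) := by
  have hN : (Nat.card G : ℂ) ≠ 0 := Nat.cast_ne_zero.mpr Nat.card_pos.ne'
  have h1 : (∑ a : G, ∑ b : G, ∑ χ : Cfsg.IrrCharacter G,
      (χ : G → ℂ) 1 * (χ : G → ℂ) (a * x * a⁻¹ * (b * y * b⁻¹ * w))) =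
      (Nat.card G : ℂ) *
        (Nat.card {p : G × G // p.1 * x * p.1⁻¹ * (p.2 * y * p.2⁻¹ * w) = 1} : ℂ) := by
    simp only [sum_degree_mul_eq_ite]
    rw [← Fintype.sum_prod_type' (f := fun a b : G =>
      if a * x * a⁻¹ * (b * y * b⁻¹ * w) = 1 then (Nat.card G : ℂ) else 0), ← Finset.sum_filter,
      Finset.sum_const, nsmul_eq_mul, mul_comm]
    rw [Nat.card_eq_fintype_card (α := Subtype _), Fintype.card_subtype]
  refine mul_left_cancel₀ hN (Eq.trans ?_ h1)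
  conv_rhs => enter [2, a]; rw [Finset.sum_comm]
  rw [Finset.sum_comm, Finset.mul_sum, Finset.mul_sum]
  refine Finset.sum_congr rfl fun χ _ => ?_
  simp only [← Finset.mul_sum]
  rw [sum_conj_mul_conj_mul]
  have hne : (χ : G → ℂ) 1 ≠ 0 := IsIrr.apply_one_ne_zero χ.2
  field_simp

open scoped Classical in
/-- The number of ways of writing an element as a commutator. -/
theorem card_commutator_eq [Fintype (Cfsg.IrrCharacter G)] (z : G) :
    (Nat.card {p : G × G // p.1 * p.2 * p.1⁻¹ * p.2⁻¹ = z} : ℂ) =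
      (Nat.card G : ℂ) * ∑ χ : Cfsg.IrrCharacter G, (χ : G → ℂ) z / (χ : G → ℂ) 1 := by
  have hN : (Nat.card G : ℂ) ≠ 0 := Nat.cast_ne_zero.mpr Nat.card_pos.ne'
  have hswap : Nat.card {p : G × G // p.1 * p.2 * p.1⁻¹ * p.2⁻¹ = z} =
      Nat.card {p : G × G // p.1 * p.2 * p.1⁻¹ * (p.2⁻¹ * z) = 1} := by
    refine Nat.card_congr ((Equiv.prodComm G G).subtypeEquiv fun p => ?_)
    obtain ⟨a, b⟩ := p
    show a * b * a⁻¹ * b⁻¹ = z ↔ b * a * b⁻¹ * (a⁻¹ * z) = 1
    constructor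
    · intro h; rw [← h]; group
    · intro h
      rw [mul_eq_one_iff_eq_inv'] at h
      exact (inv_mul_eq_iff_eq_mul.mp h ▸ (by group) : a * b * a⁻¹ * b⁻¹ = z)
  rw [hswap]
  have h1 : (∑ a : G, ∑ b : G, ∑ χ : Cfsg.IrrCharacter G,
      (χ : G → ℂ) 1 * (χ : G → ℂ) (a * b * a⁻¹ * (b⁻¹ * z))) =
      (Nat.card G : ℂ) *
        (Nat.card {p : G × G // p.1 * p.2 * p.1⁻¹ * (p.2⁻¹ * z) = 1} : ℂ) := by
    simp only [sum_degree_mul_eq_ite]
    rw [← Fintype.sum_prod_type' (f := fun a b : G =>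
      if a * b * a⁻¹ * (b⁻¹ * z) = 1 then (Nat.card G : ℂ) else 0), ← Finset.sum_filter,
      Finset.sum_const, nsmul_eq_mul, mul_comm]
    rw [Nat.card_eq_fintype_card (α := Subtype _), Fintype.card_subtype]
  refine mul_left_cancel₀ hN (Eq.trans h1.symm ?_)
  conv_lhs => enter [2, a]; rw [Finset.sum_comm]
  rw [Finset.sum_comm, Finset.mul_sum, Finset.mul_sum]
  refine Finset.sum_congr rfl fun χ _ => ?_
  have hne : (χ : G → ℂ) 1 ≠ 0 := IsIrr.apply_one_ne_zero χ.2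
  rw [Finset.sum_comm]
  simp only [← Finset.mul_sum, sum_conj_mul]
  simp only [← Finset.sum_div, mul_assoc, ← Finset.mul_sum, sum_mul_mul_inv, classInner_irr_self]
  field_simp

end CfsgLib.CharDegree
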