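import Cfsg.Agent.Lib.CharDegree.RealFixed
import Cfsg.Agent.Lib.CharDegree.IndicatorVal
import Cfsg.Agent.Lib.CharAction.RelativeGlauberman

/-!
# Real characters and the normalizer of a Sylow subgroup
-/

namespace CfsgLib.CharDegree.RealBijection

open Cfsg CfsgLib.Char CfsgLib.CharAction CfsgLib.Clifford CfsgLib.CharDegree
open scoped ComplexConjugate

section Odd

variable {G : Type*} [Group G] [Fintype G] (K : Subgroup G) [K.Normal] [Fintype K]

/-- A real character over a real character of a normal subgroup of odd index has multiplicity `1`. -/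
theorem classInner_eq_one (hodd : Odd K.index) (θ : IrrCharacter K)
    (hθ : ∀ k : K, ((θ : K → ℂ) k).im = 0) (χ : IrrCharacter G)
    (hχr : ∀ g : G, ((χ : G → ℂ) g).im = 0)
    (hχ : classInner (fun k : K => (χ : G → ℂ) k) (θ : K → ℂ) ≠ 0) :
    classInner (fun k : K => (χ : G → ℂ) k) (θ : K → ℂ) = 1 := by
  classical
  have := Fintype.ofFinite (IrrCharacter G)
  obtain ⟨χ₀, ⟨hr₀, hc₀⟩, huniq⟩ := CfsgLib.CharDegree.existsUnique_real_over K hodd θ hθ
  obtain rfl : χ = χ₀ := huniq χ ⟨hχr, hχ⟩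
  have hN : K.Normal := inferInstance
  set P := indFun K (θ : K → ℂ) with hP
  obtain ⟨m, hm⟩ := IsChar.exists_sum (isCharacter_indFun K (IsIrr.isCharacter θ.2))
  rw [← hP] at hm
  have hmult : ∀ ψ : IrrCharacter G,
      classInner (fun k : K => (ψ : G → ℂ) k) (θ : K → ℂ) = m ψ := fun ψ => by
    have h1 : classInner P (ψ : G → ℂ) = m ψ := by rw [hm, classInner_sum_irr]
    rw [hP, frobenius_reciprocity K _ (IsIrr.isClassFunction ψ.2)] at h1
    rw [← classInner_conj_symm, h1, map_natCast]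
  have hGne : (Nat.card G : ℂ) ≠ 0 := Nat.cast_ne_zero.mpr Nat.card_pos.ne'
  have hKne : (Nat.card K : ℂ) ≠ 0 := Nat.cast_ne_zero.mpr Nat.card_pos.ne'
  have hsq : ∀ g : G, g * g ∈ K → g ∈ K := fun g hg => by
    obtain ⟨j, hj⟩ := hodd
    have h1 : g ^ K.index ∈ K := Subgroup.pow_index_mem K g
    rw [hj, pow_succ, pow_mul, sq] at h1
    exact (Subgroup.mul_mem_cancel_left K (pow_mem hg j)).mp h1
  have hleft : ∑ g : G, P (g * g) = (Nat.card G : ℂ) * fsInd (θ : K → ℂ) := by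
    have h1 : ∑ g : G, P (g * g) = ∑ k : K, P ((k * k : K) : G) := by
      simp only [Subgroup.coe_mul]
      rw [← Finset.sum_subtype (Finset.univ.filter fun g : G => g ∈ K) (fun g => by simp)
        (fun g => P (g * g)), Finset.sum_filter]
      refine Finset.sum_congr rfl fun g _ => ?_
      split_ifs with hg
      · rfl
      · rw [hP, indFun_eq_zero_off_normal hN _ fun h => hg (hsq g h)]
    rw [h1]
    simp only [hP, indFun_coe_normal hN]
    rw [← Finset.mul_sum, Finset.sum_comm]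
    have h2 : ∀ x : G, ∑ k : K, conjFn hN (θ : K → ℂ) x (k * k) =
        ∑ k : K, (θ : K → ℂ) (k * k) := fun x => by
      refine Fintype.sum_equiv (MulAut.conjNormal x : K ≃* K).toEquiv _ _ fun k => ?_
      rw [conjFn_apply]
      refine congrArg _ (Subtype.ext ?_)
      simp only [Subgroup.coe_mul, MulEquiv.toEquiv_eq_coe, EquivLike.coe_coe,
        MulAut.conjNormal_apply]
      group
    simp only [h2, Finset.sum_const, Finset.card_univ, nsmul_eq_mul, fsInd,
      Nat.card_eq_fintype_card]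
    ring
  have hright : ∑ g : G, P (g * g) =
      (Nat.card G : ℂ) * ∑ ψ : IrrCharacter G, (m ψ : ℂ) * fsInd (ψ : G → ℂ) := by
    rw [hm]
    simp only [Finset.sum_apply, Pi.smul_apply, smul_eq_mul]
    rw [Finset.sum_comm, Finset.mul_sum]
    refine Finset.sum_congr rfl fun ψ _ => ?_
    rw [← Finset.mul_sum, fsInd]
    field_simp
  have h0 := mul_left_cancel₀ hGne (hright.symm.trans hleft)
  rw [Finset.sum_eq_single χ (fun ψ _ hψ => ?_) (by simp)] at h0
  swap
  · by_cases hz : fsInd (ψ : G → ℂ) = 0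
    · rw [hz, mul_zero]
    · rw [← hmult, show classInner (fun k : K => (ψ : G → ℂ) k) (θ : K → ℂ) = 0 from
        by_contra fun hne => hψ (huniq ψ ⟨im_eq_zero_of_fsInd_ne_zero ψ hz, hne⟩), zero_mul]
  have hν : fsInd (θ : K → ℂ) = 1 ∨ fsInd (θ : K → ℂ) = -1 := by
    obtain ⟨n, ρ, hρ, hc, -⟩ := exists_rep θ
    have h := fsInd_trichotomy ρ
    rw [hc] at h
    rcases h.1 with h1 | h1
    · obtain ⟨s, hs⟩ := h.2.mp h1
      exact absurd (hθ s) hs
    · exact h1
  rw [hmult]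
  rcases fsInd_cases χ with hc | hc | hc <;> rw [hc] at h0 <;> rcases hν with h | h <;> rw [h] at h0
  · simp at h0
  · simp at h0
  · exact_mod_cast (by linear_combination h0 : (m χ : ℂ) = 1)
  · exfalso
    have h1 : ((m χ + 1 : ℕ) : ℂ) = 0 := by push_cast; linear_combination h0
    exact Nat.succ_ne_zero _ (Nat.cast_eq_zero.mp h1)
  · exfalso
    have h1 : ((m χ + 1 : ℕ) : ℂ) = 0 := by push_cast; linear_combination -h0
    exact Nat.succ_ne_zero _ (Nat.cast_eq_zero.mp h1)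
  · exact_mod_cast (by linear_combination -h0 : (m χ : ℂ) = 1)

/-- The degree of a real character over a real character. -/
theorem charDegree_eq (hodd : Odd K.index) (θ : IrrCharacter K)
    (hθ : ∀ k : K, ((θ : K → ℂ) k).im = 0) (χ : IrrCharacter G)
    (hχr : ∀ g : G, ((χ : G → ℂ) g).im = 0)
    (hχ : classInner (fun k : K => (χ : G → ℂ) k) (θ : K → ℂ) ≠ 0) :
    charDegree (χ : G → ℂ) =
      (inertia (inferInstance : K.Normal) (θ : K → ℂ)).index * charDegree (θ : K → ℂ) := by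
  classical
  have hN : K.Normal := inferInstance
  have h := congrFun (restrict_eq_smul_orbit_sum hN χ.2 θ.2 hχ) 1
  rw [classInner_eq_one K hodd θ hθ χ hχr hχ, one_smul, Finset.sum_apply,
    Finset.sum_congr rfl (fun ψ hψ => show ψ 1 = (θ : K → ℂ) 1 by
      obtain ⟨g, -, rfl⟩ := Finset.mem_image.mp hψ
      rw [conjFn_apply]
      exact congrArg _ (Subtype.ext (by simp))), Finset.sum_const, nsmul_eq_mul,
    OneMemClass.coe_one] at h
  apply Nat.cast_injective (R := ℂ)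
  push_cast
  rw [CharDegree.cast_irrDegree, CharDegree.cast_irrDegree, h, ← card_orbit hN (θ : K → ℂ)]
  congr! 3
  ext; simp

/-- A real character has a real constituent on a normal subgroup of odd index. -/
theorem exists_real_constituent (hodd : Odd K.index) (χ : IrrCharacter G)
    (hχr : ∀ g : G, ((χ : G → ℂ) g).im = 0) :
    ∃ θ : IrrCharacter K, (∀ k : K, ((θ : K → ℂ) k).im = 0) ∧
      classInner (fun k : K => (χ : G → ℂ) k) (θ : K → ℂ) ≠ 0 := by
  classical
  have hN : K.Normal := inferInstance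
  obtain ⟨θ, hθ⟩ := exists_constituent
    (IsChar.isClassFunction (IsChar.restrict K (IsIrr.isCharacter χ.2)))
    (fun h => IsIrr.apply_one_ne_zero χ.2 (by simpa using congrFun h 1))
  refine ⟨θ, fun k => ?_, hθ⟩
  have hc : classInner (fun k : K => (χ : G → ℂ) k) (conjIrr θ : K → ℂ) ≠ 0 := fun h => hθ (by
    have h1 := congrArg conj h
    rw [classInner, map_mul, map_inv₀, map_natCast, map_sum, map_zero] at h1
    simp only [map_mul, conjIrr_apply, Complex.conj_conj, Complex.conj_eq_iff_im.mpr (hχr _)] at h1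
    exact h1)
  obtain ⟨g, hg⟩ := (CfsgLib.RelGlauberman.constituent_iff hN χ.2 θ.2 hθ (conjIrr θ).2).mp hc
  have hgT : g ∈ inertia hN (θ : K → ℂ) := by
    have h2 : g ^ 2 ∈ inertia hN (θ : K → ℂ) := by
      rw [mem_inertia, sq, conjFn_mul, ← hg]
      funext n
      have h3 := congrFun hg ⟨g * n * g⁻¹, hN.conj_mem _ n.2 g⟩
      rw [conjFn_apply, conjIrr_apply]
      have h4 := congrFun hg n
      rw [conjFn_apply, conjIrr_apply] at h4
      rw [← h4, Complex.conj_conj]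
    obtain ⟨j, hj⟩ := hodd
    have h1 : g ^ K.index ∈ inertia hN (θ : K → ℂ) :=
      le_inertia hN (IsIrr.isClassFunction θ.2) (Subgroup.pow_index_mem K g)
    rw [hj, pow_succ, pow_mul] at h1
    exact (Subgroup.mul_mem_cancel_left _ (pow_mem h2 j)).mp h1
  have h := congrFun hg k
  rw [conjIrr_apply, mem_inertia.mp hgT] at h
  exact Complex.conj_eq_iff_im.mp h

end Odd

section Orbit

variable {G : Type*} [Group G] [Finite G] {p : ℕ} [Fact p.Prime] (P : Sylow p G) {K : Subgroup G}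

/-- Two conjugates fixed by the Sylow subgroup are conjugate under its normalizer. -/
theorem exists_normalizer_conj (hN : K.Normal) {θ : K → ℂ} {g : G}
    (hP : (P : Subgroup G) ≤ inertia hN θ) (hP' : (P : Subgroup G) ≤ inertia hN (conjFn hN θ g)) :
    ∃ n ∈ Subgroup.normalizer ((P : Subgroup G) : Set G), conjFn hN θ n = conjFn hN θ g := by
  set T := inertia hN θ with hT
  have hgP : ((g • P : Sylow p G) : Subgroup G) ≤ T := by
    rintro x ⟨a, ha, rfl⟩
    have h1 := mem_inertia.mp (hP' ha)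
    rw [← conjFn_mul] at h1
    rw [hT, mem_inertia]
    show conjFn hN θ (g * a * g⁻¹) = θ
    rw [conjFn_mul, h1, ← conjFn_mul, mul_inv_cancel, conjFn_one]
  obtain ⟨t, ht⟩ := MulAction.exists_smul_eq T ((g • P).subtype hgP) (P.subtype hP)
  have ht' : ((t : G) * g) • P = P := by
    rw [mul_smul]
    refine Sylow.subtype_injective (hP := ?_) (hQ := hP) ?_
    · rintro x ⟨a, ha, rfl⟩
      exact mul_mem (mul_mem t.2 (hgP ha)) (inv_mem t.2)
    · rw [Sylow.smul_subtype] at ht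
      exact ht
  exact ⟨(t : G) * g, Sylow.smul_eq_iff_mem_normalizer.mp ht', by
    rw [conjFn_mul, mem_inertia.mp t.2]⟩

/-- The index of a subgroup containing a Sylow subgroup is congruent to the index in its
normalizer. -/
theorem index_modEq (T : Subgroup G) (hPT : (P : Subgroup G) ≤ T) :
    (T.index : ZMod p) =
      ((T.subgroupOf (Subgroup.normalizer ((P : Subgroup G) : Set G))).index : ZMod p) := by
  set N := Subgroup.normalizer ((P : Subgroup G) : Set G) with hNdef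
  have h1 : (N.index : ZMod p) = 1 := by
    have e : Nat.card (Sylow p G) = N.index := P.card_eq_index_normalizer
    rw [← Nat.cast_one, ZMod.natCast_eq_natCast_iff, ← e]
    exact card_sylow_modEq_one p G
  have h2 : (N.relIndex T : ZMod p) = 1 := by
    have h := card_sylow_modEq_one p T
    rw [(P.subtype hPT).card_eq_index_normalizer] at h
    rw [← Nat.cast_one, ZMod.natCast_eq_natCast_iff]
    refine (Eq.trans ?_ rfl : (Subgroup.normalizer (((P.subtype hPT : Sylow p T) : Subgroup T) : Set T)).index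
      = N.relIndex T) ▸ h
    rw [Sylow.coe_subtype, ← Subgroup.subgroupOf_normalizer_eq hPT]
    rfl
  have h3 : N.relIndex T * T.index = T.relIndex N * N.index := by
    rw [← Subgroup.inf_relIndex_right N T, Subgroup.relIndex_mul_index inf_le_right, inf_comm,
      ← Subgroup.inf_relIndex_right T N, Subgroup.relIndex_mul_index inf_le_right]
  have h4 := congrArg (Nat.cast : ℕ → ZMod p) h3
  rw [Nat.cast_mul, Nat.cast_mul, h1, h2, one_mul, mul_one] at h4
  exact h4

end Orbit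

/-- The bijection. -/
theorem exists_bijection {G : Type*} [Group G] [Finite G] {p : ℕ} [Fact p.Prime] (P : Sylow p G)
    (K : Subgroup G) [K.Normal] (hodd : Odd K.index) (V : Subgroup G) [V.Normal] (hVK : V ≤ K)
    (hVp : IsPGroup p V) (hVi : ¬ p ∣ V.relIndex K)
    (hreal : ∀ χ : IrrCharacter G, (∀ g : G, ((χ : G → ℂ) g).im = 0) →
      ¬ p ∣ charDegree (χ : G → ℂ)) :
    ∃ f : {χ : IrrCharacter G // ∀ g : G, ((χ : G → ℂ) g).im = 0} →
      {ξ : IrrCharacter ↥(Subgroup.normalizer ((P : Subgroup G) : Set G)) //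
        (∀ n, ((ξ : ↥(Subgroup.normalizer ((P : Subgroup G) : Set G)) → ℂ) n).im = 0) ∧
          ¬ p ∣ charDegree (ξ : ↥(Subgroup.normalizer ((P : Subgroup G) : Set G)) → ℂ)},
      Function.Bijective f ∧ ∀ χ,
        ((charDegree ((f χ).1 : ↥(Subgroup.normalizer ((P : Subgroup G) : Set G)) → ℂ) : ZMod p) =
            (charDegree (χ.1 : G → ℂ) : ZMod p) ∨
          (charDegree ((f χ).1 : ↥(Subgroup.normalizer ((P : Subgroup G) : Set G)) → ℂ) : ZMod p) =
            -(charDegree (χ.1 : G → ℂ) : ZMod p)) := by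
  classical
  set N := Subgroup.normalizer ((P : Subgroup G) : Set G) with hNdef
  have hPN : (P : Subgroup G) ≤ N := Subgroup.le_normalizer
  set D : Subgroup N := K.subgroupOf N with hDdef
  have hKn : K.Normal := inferInstance
  have hDn : D.Normal := Subgroup.normal_subgroupOf
  have hDodd : Odd D.index := hodd.of_dvd_nat (Subgroup.relIndex_dvd_index_of_normal K N)
  have := Fintype.ofFinite G
  have := Fintype.ofFinite N
  have := Fintype.ofFinite K
  have := Fintype.ofFinite D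
  -- the actions
  have hPK : (P : Subgroup G) ≤ Subgroup.normalizer (K : Set G) := by
    rw [Subgroup.normalizer_eq_top]; exact le_top
  letI := Cfsg.Agent.S4911.conjAction hPK
  let inc : ↥(P : Subgroup G) → N := fun a => ⟨a, hPN a.2⟩
  have hPD : ((P : Subgroup G).subgroupOf N) ≤ Subgroup.normalizer (D : Set N) := by
    rw [Subgroup.normalizer_eq_top]; exact le_top
  letI : MulDistribMulAction (P : Subgroup G) D :=
    { smul := fun a c => ⟨inc a * (c : N) * (inc a)⁻¹, hDn.conj_mem _ c.2 _⟩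
      one_smul := fun c => Subtype.ext (Subtype.ext (show (1 : G) * (c : N) * (1 : G)⁻¹ = _ by group))
      mul_smul := fun a b c => Subtype.ext (Subtype.ext (show (a : G) * b * (c : N) * ((a : G) * b)⁻¹ =
        a * ((b : G) * (c : N) * (b : G)⁻¹) * (a : G)⁻¹ by group))
      smul_mul := fun a c d => Subtype.ext (Subtype.ext (show (a : G) * (((c : N) : G) * (d : N)) * (a : G)⁻¹ =
        (a : G) * (c : N) * (a : G)⁻¹ * ((a : G) * (d : N) * (a : G)⁻¹) by group))
      smul_one := fun a => Subtype.ext (Subtype.ext (show (a : G) * 1 * (a : G)⁻¹ = 1 by group)) }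
  let ι : D →* K :=
    { toFun := fun c => ⟨((c : N) : G), c.2⟩
      map_one' := rfl
      map_mul' := fun _ _ => rfl }
  set Q : Subgroup K := V.subgroupOf K with hQdef
  have : Q.Normal := Subgroup.normal_subgroupOf
  have := Fintype.ofFinite Q
  have hVP : V ≤ (P : Subgroup G) :=
    le_sup_right.trans (P.3 (P.2.to_sup_of_normal_right hVp) le_sup_left).le
  have hKP : (P : Subgroup G) ⊓ K ≤ V := fun x hx => by
    obtain ⟨j, hj⟩ := IsPGroup.iff_orderOf.mp P.2 ⟨x, hx.1⟩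
    rw [Subgroup.orderOf_mk] at hj
    have h1 : x ^ V.relIndex K ∈ V := Subgroup.pow_index_mem Q ⟨x, hx.2⟩
    have hcop : (V.relIndex K).Coprime (orderOf x) := by
      rw [hj]
      exact (((Fact.out : p.Prime).coprime_iff_not_dvd.mpr hVi).symm).pow_right j
    obtain ⟨i, hi⟩ := exists_pow_eq_self_of_coprime hcop
    rw [← hi]
    exact pow_mem h1 i
  have S : CfsgLib.RelGlauberman.Setting p (A := (P : Subgroup G)) Q ι :=
    { inj := fun c d h => Subtype.ext (Subtype.ext (congrArg Subtype.val h :))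
      equiv := fun _ _ => rfl
      isP := by
        obtain ⟨n, hn⟩ := IsPGroup.iff_card.mp hVp
        exact ⟨n, (Nat.card_congr (Subgroup.subgroupOfEquivOfLe hVK).toEquiv).trans hn⟩
      not_dvd := hVi
      stable := fun a x hx => (inferInstance : V.Normal).conj_mem _ hx a
      range := fun k => by
        constructor
        · rintro ⟨c, rfl⟩ a
          refine hKP (Subgroup.mem_inf.mpr ⟨?_, mul_mem (hKn.conj_mem _ c.2 a) (inv_mem c.2)⟩)
          show (a : G) * ((c : N) : G) * (a : G)⁻¹ * ((c : N) : G)⁻¹ ∈ (P : Subgroup G)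
          have := mul_mem a.2 ((Subgroup.mem_normalizer_iff.mp (c : N).2 _).mp (inv_mem a.2))
          simpa [mul_assoc] using this
        · intro h
          have hk : (k : G) ∈ N := by
            refine Subgroup.mem_normalizer_fintype (S := ((P : Subgroup G) : Set G)) fun z hz => ?_
            have h1 : (z * (k : G) * z⁻¹) * (k : G)⁻¹ ∈ (P : Subgroup G) := hVP (h ⟨z, hz⟩)
            have h3 := inv_mem (mul_mem (inv_mem hz) h1)
            show (k : G) * z * (k : G)⁻¹ ∈ (P : Subgroup G)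
            simpa [mul_assoc] using h3
          exact ⟨⟨⟨k, hk⟩, k.2⟩, rfl⟩ }
  obtain ⟨f, hf, hfs⟩ := CfsgLib.RelGlauberman.correspondence P.2 S
  -- invariance means lying below the inertia group
  have hinvK : ∀ θ : IrrCharacter K, IsInv (P : Subgroup G) (θ : K → ℂ) ↔
      (P : Subgroup G) ≤ inertia hKn (θ : K → ℂ) := fun θ =>
    ⟨fun h a ha => mem_inertia.mpr (funext fun k => h ⟨a, ha⟩ k),
      fun h a k => congrFun (mem_inertia.mp (h a.2)) k⟩
  have hinvD : ∀ η : IrrCharacter D, IsInv (P : Subgroup G) (η : D → ℂ) ↔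
      ((P : Subgroup G).subgroupOf N) ≤ inertia hDn (η : D → ℂ) := fun η =>
    ⟨fun h a ha => mem_inertia.mpr (funext fun k => h ⟨(a : G), ha⟩ k),
      fun h a k => congrFun (mem_inertia.mp (h (show inc a ∈ _ from a.2))) k⟩
  have hchar : ∀ (θ : {χ : IrrCharacter K // IsInv (P : Subgroup G) (χ : K → ℂ)})
      (η : {ξ : IrrCharacter D // IsInv (P : Subgroup G) (ξ : D → ℂ)}),
      ¬ p ∣ mult ι θ.1 η.1 → f θ = η := fun θ η h =>
    (by_contra fun hne => h (((hfs θ).1 η).2 fun e => hne e.symm))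
  have hnd : ∀ θ, ¬ p ∣ mult ι θ.1 (f θ).1 := fun θ => by
    refine fun hd => ?_
    have h0 : (mult ι θ.1 (f θ).1 : ZMod p) = 0 := (ZMod.natCast_eq_zero_iff _ p).mpr hd
    rcases ((hfs θ).1 (f θ)).1 rfl with h | h <;> rw [h0] at h
    · exact zero_ne_one h
    · exact neg_ne_zero.mpr one_ne_zero h.symm
  -- conjugation
  have hcj : ∀ (θ θ' : {χ : IrrCharacter K // IsInv (P : Subgroup G) (χ : K → ℂ)}) (n : N),
      (θ'.1 : K → ℂ) = conjFn hKn (θ.1 : K → ℂ) n →
        ((f θ').1 : D → ℂ) = conjFn hDn ((f θ).1 : D → ℂ) n := by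
    intro θ θ' n h
    let η' : IrrCharacter D := ⟨_, isIrrCharacter_conjFn hDn (f θ).1.2 n⟩
    have hinv : IsInv (P : Subgroup G) (η' : D → ℂ) := fun a k => by
      have hb : (n : G) * a * (n : G)⁻¹ ∈ (P : Subgroup G) :=
        (Subgroup.mem_normalizer_iff.mp n.2 (a : G)).mp a.2
      show ((f θ).1 : D → ℂ) _ = ((f θ).1 : D → ℂ) _
      rw [← (f θ).2 ⟨_, hb⟩ ⟨(n : N) * (k : N) * n⁻¹, hDn.conj_mem _ k.2 n⟩]
      refine congrArg _ (Subtype.ext (Subtype.ext ?_))
      show (n : G) * ((a : G) * ((k : N) : G) * (a : G)⁻¹) * (n : G)⁻¹ =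
        (n : G) * a * (n : G)⁻¹ * ((n : G) * ((k : N) : G) * (n : G)⁻¹) * ((n : G) * a * (n : G)⁻¹)⁻¹
      group
    have hm : mult ι θ'.1 η' = mult ι θ.1 (f θ).1 := by
      apply Nat.cast_injective (R := ℂ)
      rw [← classInner_eq_mult, ← classInner_eq_mult, classInner, classInner]
      congr 1
      refine Fintype.sum_equiv (MulAut.conjNormal n : D ≃* D).toEquiv _ _ fun c => ?_
      show (θ'.1 : K → ℂ) (ι c) * conj (conjFn hDn ((f θ).1 : D → ℂ) n c) = _
      rw [h, conjFn_apply, conjFn_apply]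
      rfl
    exact congrArg (fun x => (x.1 : D → ℂ)) (hchar θ' ⟨η', hinv⟩ (hm ▸ hnd θ))
  have hfreal : ∀ θ, (∀ k, ((θ.1 : K → ℂ) k).im = 0) ↔ ∀ c, (((f θ).1 : D → ℂ) c).im = 0 := by
    intro θ
    let θ' : {χ : IrrCharacter K // IsInv (P : Subgroup G) (χ : K → ℂ)} :=
      ⟨conjIrr θ.1, fun a k => by rw [conjIrr_apply, conjIrr_apply, θ.2 a k]⟩
    have h1 : f θ' = ⟨conjIrr (f θ).1, fun a k => by
        rw [conjIrr_apply, conjIrr_apply, (f θ).2 a k]⟩ :=
      hchar θ' _ (by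
        show ¬ p ∣ mult ι (conjIrr θ.1) (conjIrr (f θ).1)
        rw [Cfsg.Agent.S4911.mult_conj]
        exact hnd θ)
    rw [← conjIrr_eq_iff, ← conjIrr_eq_iff]
    exact ⟨fun h => by
        rw [show θ' = θ from Subtype.ext h] at h1
        exact (congrArg Subtype.val h1).symm,
      fun h => congrArg Subtype.val (hf.1 (h1.trans (Subtype.ext h)))⟩
  -- the inertia groups
  have hinert : ∀ θ : {χ : IrrCharacter K // IsInv (P : Subgroup G) (χ : K → ℂ)},
      (inertia hKn (θ.1 : K → ℂ)).subgroupOf N = inertia hDn ((f θ).1 : D → ℂ) := by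
    intro θ
    ext n
    rw [Subgroup.mem_subgroupOf, mem_inertia, mem_inertia]
    let θn : {χ : IrrCharacter K // IsInv (P : Subgroup G) (χ : K → ℂ)} :=
      ⟨⟨_, isIrrCharacter_conjFn hKn θ.1.2 (n : G)⟩, fun a k => by
        have hb : (n : G) * a * (n : G)⁻¹ ∈ (P : Subgroup G) :=
          (Subgroup.mem_normalizer_iff.mp n.2 (a : G)).mp a.2
        show (θ.1 : K → ℂ) _ = (θ.1 : K → ℂ) _
        rw [← θ.2 ⟨_, hb⟩ ⟨(n : G) * k * (n : G)⁻¹, hKn.conj_mem _ k.2 n⟩]
        refine congrArg _ (Subtype.ext ?_)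
        show (n : G) * ((a : G) * (k : G) * (a : G)⁻¹) * (n : G)⁻¹ = (n : G) * a * (n : G)⁻¹ *
          ((n : G) * (k : G) * (n : G)⁻¹) * ((n : G) * a * (n : G)⁻¹)⁻¹
        group⟩
    have h := hcj θ θn n rfl
    constructor
    · intro he
      rw [show θn = θ from Subtype.ext (Subtype.ext he)] at h
      exact h.symm
    · intro he
      rw [he] at h
      exact congrArg (fun x => (x.1 : K → ℂ)) (hf.1 (Subtype.ext (Subtype.ext h) : f θn = f θ))
  -- the degrees are prime to `p`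
  have hθdeg : ∀ θ : {χ : IrrCharacter K // IsInv (P : Subgroup G) (χ : K → ℂ)},
      (∀ k, ((θ.1 : K → ℂ) k).im = 0) → ¬ p ∣ charDegree (θ.1 : K → ℂ) := by
    intro θ hθ hd
    obtain ⟨χ, ⟨hχr, hχ⟩, -⟩ := CfsgLib.CharDegree.existsUnique_real_over K hodd θ.1 hθ
    exact hreal χ hχr (charDegree_eq K hodd θ.1 hθ χ hχr hχ ▸ hd.mul_left _)
  have hind : ∀ θ : {χ : IrrCharacter K // IsInv (P : Subgroup G) (χ : K → ℂ)},
      ¬ p ∣ ((inertia hKn (θ.1 : K → ℂ)).subgroupOf N).index := fun θ hd => by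
    have h := index_modEq P _ ((hinvK θ.1).mp θ.2)
    rw [(ZMod.natCast_eq_zero_iff _ p).mpr hd, ZMod.natCast_eq_zero_iff] at h
    exact P.not_dvd_index (h.trans (Subgroup.index_dvd_of_le ((hinvK θ.1).mp θ.2)))
  -- a fixed real constituent
  have hpick : ∀ χ : {χ : IrrCharacter G // ∀ g : G, ((χ : G → ℂ) g).im = 0},
      ∃ θ : {θ : IrrCharacter K // IsInv (P : Subgroup G) (θ : K → ℂ)},
        (∀ k, ((θ.1 : K → ℂ) k).im = 0) ∧
          classInner (fun k : K => (χ.1 : G → ℂ) k) (θ.1 : K → ℂ) ≠ 0 := by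
    intro χ
    obtain ⟨θ, hθr, hθc⟩ := exists_real_constituent K hodd χ.1 χ.2
    obtain ⟨g, hg⟩ := RealFixed.exists_invariant_conj P K hodd hreal θ hθr
    refine ⟨⟨⟨_, isIrrCharacter_conjFn hKn θ.2 g⟩, fun a k => hg a a.2 k⟩, fun k => ?_, ?_⟩
    · show (conjFn hKn (θ : K → ℂ) g k).im = 0
      rw [conjFn_apply]; exact hθr _
    · exact (CfsgLib.RelGlauberman.constituent_iff hKn χ.1.2 θ.2 hθc
        (isIrrCharacter_conjFn hKn θ.2 g)).mpr ⟨g, rfl⟩
  choose θ hθr hθc using hpick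
  have himg : ∀ χ, ∃ ξ : IrrCharacter N, ((∀ n, ((ξ : N → ℂ) n).im = 0) ∧
      ¬ p ∣ charDegree (ξ : N → ℂ)) ∧
      classInner (fun c : D => (ξ : N → ℂ) c) ((f (θ χ)).1 : D → ℂ) ≠ 0 ∧
      charDegree (ξ : N → ℂ) = ((inertia hKn ((θ χ).1 : K → ℂ)).subgroupOf N).index *
        charDegree ((f (θ χ)).1 : D → ℂ) := by
    intro χ
    have hr := (hfreal (θ χ)).mp (hθr χ)
    obtain ⟨ξ, ⟨hξr, hξ⟩, -⟩ := CfsgLib.CharDegree.existsUnique_real_over D hDodd (f (θ χ)).1 hr
    have hd := charDegree_eq D hDodd _ hr ξ hξr hξ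
    rw [← hinert] at hd
    refine ⟨ξ, ⟨hξr, ?_⟩, hξ, hd⟩
    rw [hd]
    refine Nat.Prime.not_dvd_mul Fact.out (hind _) fun h => hθdeg _ (hθr χ) ?_
    rw [← ZMod.natCast_eq_zero_iff] at h ⊢
    rcases (hfs (θ χ)).2 with e | e <;> rw [h] at e
    · exact e.symm
    · exact neg_eq_zero.mp e.symm
  choose ξ hξp hξc hξd using himg
  refine ⟨fun χ => ⟨ξ χ, hξp χ⟩, ⟨fun χ χ' h => ?_, fun η => ?_⟩, fun χ => ?_⟩
  · have he : ξ χ = ξ χ' := congrArg Subtype.val h
    obtain ⟨n, hn⟩ := (CfsgLib.RelGlauberman.constituent_iff hDn (ξ χ).2 (f (θ χ)).1.2 (hξc χ)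
      (f (θ χ')).1.2).mp (he ▸ hξc χ')
    let θn : IrrCharacter K := ⟨_, isIrrCharacter_conjFn hKn (θ χ).1.2 (n : G)⟩
    have hθn : IsInv (P : Subgroup G) (θn : K → ℂ) := by
      intro a k
      have hb : (n : G) * a * (n : G)⁻¹ ∈ (P : Subgroup G) :=
        (Subgroup.mem_normalizer_iff.mp n.2 (a : G)).mp a.2
      show ((θ χ).1 : K → ℂ) _ = ((θ χ).1 : K → ℂ) _
      rw [← (θ χ).2 ⟨_, hb⟩ ⟨(n : G) * k * (n : G)⁻¹, hKn.conj_mem _ k.2 n⟩]
      refine congrArg _ (Subtype.ext ?_)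
      show (n : G) * ((a : G) * (k : G) * (a : G)⁻¹) * (n : G)⁻¹ = (n : G) * a * (n : G)⁻¹ *
        ((n : G) * (k : G) * (n : G)⁻¹) * ((n : G) * a * (n : G)⁻¹)⁻¹
      group
    have h2 := hcj (θ χ) ⟨θn, hθn⟩ n rfl
    rw [← hn] at h2
    have h3 := hf.1 (Subtype.ext (Subtype.ext h2) : f ⟨θn, hθn⟩ = f (θ χ'))
    have hover : classInner (fun k : K => (χ.1 : G → ℂ) k) ((θ χ').1 : K → ℂ) ≠ 0 := by
      refine (CfsgLib.RelGlauberman.constituent_iff hKn χ.1.2 (θ χ).1.2 (hθc χ)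
        (θ χ').1.2).mpr ⟨(n : G), ?_⟩
      rw [← h3]
    exact Subtype.ext ((CfsgLib.CharDegree.existsUnique_real_over K hodd (θ χ').1 (hθr χ')).unique
      ⟨χ.2, hover⟩ ⟨χ'.2, hθc χ'⟩)
  · obtain ⟨ξ₀, hξ₀r, hξ₀p⟩ := η
    obtain ⟨φ₀, hφ₀r, hφ₀c⟩ := exists_real_constituent D hDodd ξ₀ hξ₀r
    let PN : Sylow p N := P.subtype hPN
    have hdφ := charDegree_eq D hDodd φ₀ hφ₀r ξ₀ hξ₀r hφ₀c
    obtain ⟨g, hg⟩ := RealFixed.exists_fixed_conj PN D φ₀ (by
      rw [card_orbit]
      exact fun hd => hξ₀p (hdφ ▸ hd.mul_right _))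
    let φ : IrrCharacter D := ⟨_, isIrrCharacter_conjFn hDn φ₀.2 g⟩
    have hφi : IsInv (P : Subgroup G) (φ : D → ℂ) := fun a k => hg (inc a) a.2 k
    obtain ⟨ψ, hψ⟩ := hf.2 ⟨φ, hφi⟩
    have hψr : ∀ k, ((ψ.1 : K → ℂ) k).im = 0 := (hfreal ψ).mpr (by
      rw [hψ]
      intro c
      show (conjFn hDn (φ₀ : D → ℂ) g c).im = 0
      rw [conjFn_apply]; exact hφ₀r _)
    obtain ⟨χ, ⟨hχr, hχ⟩, -⟩ := CfsgLib.CharDegree.existsUnique_real_over K hodd ψ.1 hψr
    refine ⟨⟨χ, hχr⟩, Subtype.ext ?_⟩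
    obtain ⟨x, hx⟩ := (CfsgLib.RelGlauberman.constituent_iff hKn χ.2 ψ.1.2 hχ
      (θ ⟨χ, hχr⟩).1.2).mp (hθc ⟨χ, hχr⟩)
    obtain ⟨n, hn, hnx⟩ := exists_normalizer_conj P hKn ((hinvK ψ.1).mp ψ.2)
      (hx ▸ (hinvK _).mp (θ ⟨χ, hχr⟩).2)
    have h2 := hcj ψ (θ ⟨χ, hχr⟩) ⟨n, hn⟩ (hx.trans hnx.symm)
    rw [hψ] at h2
    have hover : classInner (fun c : D => (ξ₀ : N → ℂ) c) ((f (θ ⟨χ, hχr⟩)).1 : D → ℂ) ≠ 0 := by
      refine (CfsgLib.RelGlauberman.constituent_iff hDn ξ₀.2 φ₀.2 hφ₀c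
        (f (θ ⟨χ, hχr⟩)).1.2).mpr ⟨g * ⟨n, hn⟩, ?_⟩
      rw [h2, conjFn_mul]
    exact (CfsgLib.CharDegree.existsUnique_real_over D hDodd _ ((hfreal _).mp (hθr _))).unique
      ⟨(hξp _).1, hξc _⟩ ⟨hξ₀r, hover⟩
  · have hd := charDegree_eq K hodd (θ χ).1 (hθr χ) χ.1 χ.2 (hθc χ)
    simp only [hξd χ, hd, Nat.cast_mul, index_modEq P _ ((hinvK _).mp (θ χ).2)]
    rcases (hfs (θ χ)).2 with e | e <;> rw [e]
    · exact Or.inl rfl
    · exact Or.inr (mul_neg _ _)

end CfsgLib.CharDegree.RealBijection
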