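import Cfsg.Agent.Lib.Char.Monomial
import Cfsg.Agent.Lib.CharDegree.Basic

/-!
# The step in Taketa's argument
-/

namespace CfsgLib.CharDegree

open CfsgLib.Char
open scoped Classical commutatorElement

variable {G : Type*} [Group G] [Fintype G]

/-- A normal subgroup in the kernel of every character of smaller degree lies in the subgroup
inducing. -/
theorem le_of_induced (H : Subgroup G) (D : Subgroup G)
    (hD : ∀ ψ : Cfsg.IrrCharacter G, Cfsg.charDegree (ψ : G → ℂ) < H.index →
      ∀ y ∈ D, (ψ : G → ℂ) y = (ψ : G → ℂ) 1) : D ≤ H := by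
  have := Fintype.ofFinite (Cfsg.IrrCharacter G)
  have := Fintype.ofFinite H
  set π := Cfsg.indFun H (fun _ : H => (1 : ℂ)) with hπ
  have hπ1 : π 1 = (H.index : ℂ) := by rw [hπ, indFun_apply_one, mul_one]
  have hcoef : ∀ ψ : Cfsg.IrrCharacter G, ∃ c : ℕ, Cfsg.classInner π (ψ : G → ℂ) = c := fun ψ =>
    IsChar.classInner_eq_natCast (isCharacter_indFun H isCharacter_one) (IsIrr.isCharacter ψ.2)
  choose c hc using hcoef
  have hsum := classFunction_eq_sum (isClassFunction_indFun H (fun _ : H => (1 : ℂ)))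
  rw [← hπ] at hsum
  simp only [hc] at hsum
  have htriv : c (trivChar G) = 1 := by
    have h := hc (trivChar G)
    rw [hπ, frobenius_reciprocity H _ (IsIrr.isClassFunction (trivChar G).2)] at h
    have h2 := classInner_irr_self (trivChar H)
    exact_mod_cast (h.symm.trans h2)
  have hdeg : ∑ ψ, c ψ * Cfsg.charDegree (ψ : G → ℂ) = H.index := by
    have h := congrFun hsum 1
    rw [hπ1] at h
    simp only [Finset.sum_apply, Pi.smul_apply, ← cast_irrDegree, smul_eq_mul] at h
    exact_mod_cast h.symm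
  intro y hy
  by_contra hyH
  have hfix : π y = π 1 := by
    rw [hsum]
    simp only [Finset.sum_apply, Pi.smul_apply]
    refine Finset.sum_congr rfl fun ψ _ => ?_
    by_cases hc0 : c ψ = 0
    · simp [hc0]
    congr 1
    by_cases hψ : ψ = trivChar G
    · rw [hψ]; rfl
    refine hD ψ ?_ y hy
    rw [← Finset.add_sum_erase _ _ (Finset.mem_univ (trivChar G)), htriv, one_mul,
      ← Finset.add_sum_erase _ _ (Finset.mem_erase.mpr ⟨hψ, Finset.mem_univ ψ⟩)] at hdeg
    have h1 : Cfsg.charDegree (ψ : G → ℂ) ≤ c ψ * Cfsg.charDegree (ψ : G → ℂ) :=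
      Nat.le_mul_of_pos_left _ (Nat.pos_of_ne_zero hc0)
    have h2 := charDegree_pos (trivChar G)
    omega
  rw [hπ1, hπ, Cfsg.indFun,
    inv_mul_eq_iff_eq_mul₀ (Nat.cast_ne_zero.mpr Nat.card_pos.ne')] at hfix
  have hval : ∀ z : G, Cfsg.extendByZero H (fun _ => (1 : ℂ)) (z⁻¹ * y * z) =
      if z⁻¹ * y * z ∈ H then 1 else 0 := by
    intro z
    split_ifs with hz
    · exact extendByZero_of_mem H _ hz
    · exact extendByZero_of_notMem H _ hz
  simp only [hval, Finset.sum_boole] at hfix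
  have hcard : (Finset.univ.filter fun z : G => z⁻¹ * y * z ∈ H).card = Nat.card G := by
    rw [← H.card_mul_index]
    exact_mod_cast hfix
  rw [Nat.card_eq_fintype_card, Finset.card_eq_iff_eq_univ] at hcard
  have h1 := Finset.eq_univ_iff_forall.mp hcard 1
  simp [hyH] at h1

/-- Taketa's step. -/
theorem commutator_le_ker_of_induced (H : Subgroup G) (lam : H →* ℂˣ) (D : Subgroup G) [D.Normal]
    (hD : ∀ ψ : Cfsg.IrrCharacter G, Cfsg.charDegree (ψ : G → ℂ) < H.index →
      ∀ y ∈ D, (ψ : G → ℂ) y = (ψ : G → ℂ) 1) :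
    ∀ x ∈ ⁅D, D⁆, Cfsg.indFun H (fun h => (lam h : ℂ)) x =
      Cfsg.indFun H (fun h => (lam h : ℂ)) 1 := by
  intro x hx
  have hmem := le_of_induced H D hD
  simp only [Cfsg.indFun]
  congr 1
  refine Finset.sum_congr rfl fun z _ => ?_
  have hx' : z⁻¹ * x * z ∈ ⁅D, D⁆ := by
    have := (Subgroup.commutator_normal D D).conj_mem x hx z⁻¹
    rwa [inv_inv] at this
  have hle : ⁅D, D⁆ ≤ (MonoidHom.ker lam).map H.subtype := by
    rw [Subgroup.commutator_le]
    intro a ha b hb
    refine ⟨⁅(⟨a, hmem ha⟩ : H), (⟨b, hmem hb⟩ : H)⁆, ?_, rfl⟩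
    rw [SetLike.mem_coe, MonoidHom.mem_ker, map_commutatorElement,
      commutatorElement_eq_one_iff_mul_comm]
    exact mul_comm _ _
  obtain ⟨w, hw, hwe⟩ := hle hx'
  rw [mul_one, inv_mul_cancel, ← hwe]
  rw [Subgroup.coe_subtype, extendByZero_coe, extendByZero_of_mem H _ H.one_mem,
    MonoidHom.mem_ker.mp hw]
  exact (congrArg Units.val (map_one lam)).symm

/-- A nilpotent group with degrees `1, m` is metabelian. -/
theorem commutator_comm_of_nilpotent [Group.IsNilpotent G] {m : ℕ}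
    (hdeg : ∀ χ : Cfsg.IrrCharacter G, Cfsg.charDegree (χ : G → ℂ) = 1 ∨
      Cfsg.charDegree (χ : G → ℂ) = m) :
    ∀ a ∈ commutator G, ∀ b ∈ commutator G, a * b = b * a := by
  have := Fintype.ofFinite (Cfsg.IrrCharacter G)
  intro a ha b hb
  rw [← commutatorElement_eq_one_iff_mul_comm]
  by_contra hne
  have hz := sum_degree_mul_apply_of_ne_one hne
  rw [Finset.sum_congr rfl (g := fun χ : Cfsg.IrrCharacter G => (χ : G → ℂ) 1 ^ 2),
    sum_sq_degree] at hz
  · exact Nat.cast_ne_zero.mpr Nat.card_pos.ne' hz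
  intro χ _
  rw [sq]
  congr 1
  have hcom : ⁅a, b⁆ ∈ ⁅commutator G, commutator G⁆ := Subgroup.commutator_mem_commutator ha hb
  rcases hdeg χ with h | h
  · exact le_ker_of_degree_one χ h (Subgroup.commutator_le_self (commutator G) hcom)
  obtain ⟨H, lam, hH⟩ := Clifford.isMonomial_of_isNilpotent (χ : G → ℂ) χ.2
  have hidx : H.index = m := by
    have h1 := indFun_apply_one H (fun h => (lam h : ℂ))
    rw [← hH, ← cast_irrDegree, h, map_one, Units.val_one, mul_one] at h1
    exact_mod_cast h1.symm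
  rw [hH]
  refine commutator_le_ker_of_induced H lam (commutator G) (fun ψ hψ y hy => ?_) _ hcom
  exact le_ker_of_degree_one ψ ((hdeg ψ).resolve_right (by omega)) hy

end CfsgLib.CharDegree
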