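import Cfsg.Agent.Lib.CharDegree.Counting
import Cfsg.Agent.Lib.CharDegree.IndicatorVal
import Cfsg.Agent.Lib.Char.CliffordRestrict

/-!
# Real characters over a real character of a normal subgroup of odd index
-/

namespace CfsgLib.CharDegree

open scoped ComplexConjugate
open CfsgLib.Char CfsgLib.Clifford

variable {G : Type*} [Group G] [Fintype G] (N : Subgroup G) [N.Normal]

theorem sum_mul_smul_eq [Fintype N] (E : G → ℂ) (hE : Cfsg.IsClassFunction G E)
    (χ : Cfsg.IrrCharacter G) (g : G) :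
    ∑ n : N, E n * (χ : G → ℂ) ((n : G) * g) =
      (∑ n : N, E n * (χ : G → ℂ) n) * (χ : G → ℂ) g / (χ : G → ℂ) 1 := by
  have hG : (Nat.card G : ℂ) ≠ 0 := Nat.cast_ne_zero.mpr Nat.card_pos.ne'
  have hinv : ∀ a : G, ∑ n : N, E n * (χ : G → ℂ) ((n : G) * g) =
      ∑ n : N, E n * (χ : G → ℂ) (a * (n : G) * a⁻¹ * g) := fun a => by
    refine (Fintype.sum_equiv (MulAut.conjNormal a).toEquiv _ _ fun n => ?_).symm
    simp only [MulEquiv.toEquiv_eq_coe, MulEquiv.coe_toEquiv, MulAut.conjNormal_apply]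
    rw [hE (n : G) a]
  refine mul_left_cancel₀ hG ?_
  calc (Nat.card G : ℂ) * ∑ n : N, E n * (χ : G → ℂ) ((n : G) * g)
      = ∑ a : G, ∑ n : N, E n * (χ : G → ℂ) (a * (n : G) * a⁻¹ * g) := by
        simp only [← hinv, Finset.sum_const, Finset.card_univ, nsmul_eq_mul,
          Nat.card_eq_fintype_card]
    _ = ∑ n : N, E n * ((Nat.card G : ℂ) * (χ : G → ℂ) n * (χ : G → ℂ) g / (χ : G → ℂ) 1) := by
        rw [Finset.sum_comm]
        simp only [← Finset.mul_sum, sum_conj_mul]
    _ = _ := by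
        simp only [Finset.sum_mul, Finset.sum_div, Finset.mul_sum]
        exact Finset.sum_congr rfl fun n _ => by ring

omit [N.Normal] in
theorem mem_of_isConj_inv [N.Normal] (hodd : Odd N.index) {g : G} {n : G} (hn : n ∈ N)
    (h : IsConj (n * g) g⁻¹) : g ∈ N := by
  have h1 := (QuotientGroup.mk' N).map_isConj h
  rw [map_mul, map_inv, QuotientGroup.mk'_apply, QuotientGroup.mk'_apply,
    (QuotientGroup.eq_one_iff n).mpr hn, one_mul] at h1
  exact (QuotientGroup.eq_one_iff g).mp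
    (eq_one_of_isConj_inv (by rwa [← Subgroup.index_eq_card]) h1)

/-- Sums of `χ(g)²` weighted over a fibre vanish off `N`. -/
theorem weighted_sum_eq_zero [Fintype N] [Fintype (Cfsg.IrrCharacter G)] (hodd : Odd N.index)
    (E : G → ℂ) (hE : Cfsg.IsClassFunction G E) {g : G} (hg : g ∉ N) :
    ∑ χ : Cfsg.IrrCharacter G, (∑ n : N, E n * (χ : G → ℂ) n) / (χ : G → ℂ) 1 *
      ((χ : G → ℂ) g * (χ : G → ℂ) g) = 0 := by
  classical
  have h : ∀ χ : Cfsg.IrrCharacter G, (∑ n : N, E n * (χ : G → ℂ) n) / (χ : G → ℂ) 1 *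
      ((χ : G → ℂ) g * (χ : G → ℂ) g) =
      ∑ n : N, E n * ((χ : G → ℂ) ((n : G) * g) * conj ((χ : G → ℂ) g⁻¹)) := fun χ => by
    rw [IsIrr.map_inv χ.2, Complex.conj_conj]
    simp only [← mul_assoc]
    rw [← Finset.sum_mul, sum_mul_smul_eq N E hE]
    ring
  rw [Finset.sum_congr rfl fun χ _ => h χ, Finset.sum_comm]
  refine Finset.sum_eq_zero fun n _ => ?_
  rw [← Finset.mul_sum, column_orthogonality,
    if_neg (fun hc => hg (mem_of_isConj_inv N hodd n.2 hc)), mul_zero]

/-- Characters over `φ` restrict to multiples of the induced character. -/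
theorem restrict_eq_mul_indFun [Fintype N] (φ : Cfsg.IrrCharacter N) (χ : Cfsg.IrrCharacter G)
    (h : Cfsg.classInner (fun n : N => (χ : G → ℂ) n) (φ : N → ℂ) ≠ 0) :
    ∃ k : ℂ, ∀ n : N, (χ : G → ℂ) n = k * Cfsg.indFun N (φ : N → ℂ) n := by
  classical
  have hN : N.Normal := inferInstance
  have hres := restrict_eq_smul_orbit_sum hN χ.2 φ.2 h
  set O := Finset.univ.image (conjFn hN (φ : N → ℂ)) with hO
  set m := Cfsg.classInner (fun n : N => (χ : G → ℂ) n) (φ : N → ℂ) with hm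
  refine ⟨(Nat.card G : ℂ)⁻¹ * (Nat.card N : ℂ) * m * O.card, fun n => ?_⟩
  have h1 : ∀ g : G, conjFn hN (fun n : N => (χ : G → ℂ) n) g n = (χ : G → ℂ) n := fun g => by
    rw [conjFn_apply]
    exact IsIrr.isClassFunction χ.2 n g
  have h2 : ∀ ψ ∈ O, ∑ g : G, conjFn hN ψ g n = ∑ g : G, conjFn hN (φ : N → ℂ) g n := fun ψ hψ => by
    obtain ⟨a, -, rfl⟩ := Finset.mem_image.mp hψ
    simp only [← conjFn_mul]
    exact Fintype.sum_equiv (Equiv.mulLeft a) _ _ fun g => rfl
  have h3 : (Nat.card G : ℂ) * (χ : G → ℂ) n =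
      m * O.card * ∑ g : G, conjFn hN (φ : N → ℂ) g n := by
    calc (Nat.card G : ℂ) * (χ : G → ℂ) n
        = ∑ g : G, conjFn hN (fun n : N => (χ : G → ℂ) n) g n := by
          simp only [h1, Finset.sum_const, Finset.card_univ, nsmul_eq_mul, Nat.card_eq_fintype_card]
      _ = ∑ g : G, m * ∑ ψ ∈ O, conjFn hN ψ g n := by
          refine Finset.sum_congr rfl fun g _ => ?_
          conv_lhs => rw [hres]
          simp [conjFn_apply, Finset.sum_apply, Pi.smul_apply]
      _ = _ := by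
          rw [← Finset.mul_sum, Finset.sum_comm, Finset.sum_congr rfl h2, Finset.sum_const,
            nsmul_eq_mul, ← mul_assoc]
  have hG : (Nat.card G : ℂ) ≠ 0 := Nat.cast_ne_zero.mpr Nat.card_pos.ne'
  have hN0 : (Nat.card N : ℂ) ≠ 0 := Nat.cast_ne_zero.mpr Nat.card_pos.ne'
  rw [indFun_coe_normal hN]
  refine mul_left_cancel₀ hG ?_
  rw [h3]
  field_simp

/-- Exactly one real character lies over a real character when the index is odd. -/
theorem existsUnique_real_over [Fintype N] (hodd : Odd N.index) (φ : Cfsg.IrrCharacter N)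
    (hφ : ∀ n : N, ((φ : N → ℂ) n).im = 0) :
    ∃! χ : Cfsg.IrrCharacter G, (∀ g : G, ((χ : G → ℂ) g).im = 0) ∧
      Cfsg.classInner (fun n : N => (χ : G → ℂ) n) (φ : N → ℂ) ≠ 0 := by
  classical
  have := Fintype.ofFinite (Cfsg.IrrCharacter G)
  have hN : N.Normal := inferInstance
  set P := Cfsg.indFun N (φ : N → ℂ) with hP
  have hPc : Cfsg.IsCharacter G P := isCharacter_indFun N (IsIrr.isCharacter φ.2)
  obtain ⟨m, hm⟩ := IsChar.exists_sum hPc
  have hGne : (Nat.card G : ℂ) ≠ 0 := Nat.cast_ne_zero.mpr Nat.card_pos.ne'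
  have hP1 : P 1 ≠ 0 := by
    rw [hP, indFun_apply_one]
    exact mul_ne_zero (Nat.cast_ne_zero.mpr Subgroup.index_ne_zero_of_finite)
      (IsIrr.apply_one_ne_zero φ.2)
  have hPreal : ∀ g : G, conj (P g) = P g := fun g => by
    rw [Complex.conj_eq_iff_im]
    by_cases hg : g ∈ N
    · rw [hP, indFun_coe_normal hN _ ⟨g, hg⟩, Complex.mul_im, Complex.im_sum,
        Finset.sum_eq_zero fun x _ => (by rw [conjFn_apply]; exact hφ _)]
      simp [Complex.inv_im]
    · rw [hP, indFun_eq_zero_off_normal hN _ hg]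
      simp
  have hmult : ∀ χ : Cfsg.IrrCharacter G,
      Cfsg.classInner (fun n : N => (χ : G → ℂ) n) (φ : N → ℂ) = m χ := fun χ => by
    have h1 : Cfsg.classInner P (χ : G → ℂ) = m χ := by rw [hm, classInner_sum_irr]
    rw [hP, frobenius_reciprocity N _ (IsIrr.isClassFunction χ.2)] at h1
    rw [← classInner_conj_symm, h1, map_natCast]
  -- `E = conj P`
  have hsumN : ∀ f : G → ℂ, ∑ g : G, P g * f g = ∑ n : N, P n * f n := fun f => by
    rw [← Finset.sum_subtype (Finset.univ.filter fun g : G => g ∈ N) (fun g => by simp)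
      (fun g => P g * f g), Finset.sum_filter]
    refine Finset.sum_congr rfl fun g _ => ?_
    split_ifs with hg
    · rfl
    · rw [hP, indFun_eq_zero_off_normal hN _ hg, zero_mul]
  have hw : ∀ χ : Cfsg.IrrCharacter G,
      ∑ n : N, P n * (χ : G → ℂ) n = (Nat.card G : ℂ) * m χ := fun χ => by
    have h1 : Cfsg.classInner P (χ : G → ℂ) = m χ := by rw [hm, classInner_sum_irr]
    have h2 := congrArg conj h1
    rw [classInner_conj_symm, map_natCast, Cfsg.classInner] at h2
    simp only [hPreal] at h2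
    rw [← h2, ← mul_assoc, mul_inv_cancel₀ hGne, one_mul, ← hsumN]
    exact Finset.sum_congr rfl fun g _ => mul_comm _ _
  set S : ℂ := ∑ χ : Cfsg.IrrCharacter G, (m χ : ℂ) * m χ with hS
  have hPP : ∑ n : N, P n * P n = (Nat.card G : ℂ) * S := by
    rw [← hsumN]
    have h1 : Cfsg.classInner P P = S := by
      conv_lhs => arg 2; rw [hm]
      rw [classInner_sum_right, hS]
      refine Finset.sum_congr rfl fun χ _ => ?_
      rw [classInner_smul_right, hm, classInner_sum_irr, map_natCast]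
    rw [← h1, Cfsg.classInner, ← mul_assoc, mul_inv_cancel₀ hGne, one_mul]
    simp only [hPreal]
  -- restriction of a character over `φ`
  have hres : ∀ χ : Cfsg.IrrCharacter G, m χ ≠ 0 → ∀ n : N,
      (χ : G → ℂ) n = (χ : G → ℂ) 1 / P 1 * P n := fun χ hχ n => by
    obtain ⟨k, hk⟩ := restrict_eq_mul_indFun N φ χ (by rw [hmult]; exact_mod_cast hχ)
    have h1 := hk 1
    simp only [OneMemClass.coe_one, ← hP] at h1
    rw [hk n, ← hP, h1, mul_div_cancel_right₀ _ hP1]
  have hmform : ∀ χ : Cfsg.IrrCharacter G, m χ ≠ 0 →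
      (m χ : ℂ) / (χ : G → ℂ) 1 = S / P 1 := fun χ hχ => by
    have h1 := hw χ
    rw [Finset.sum_congr rfl fun (n : N) _ => show P n * (χ : G → ℂ) n =
      (χ : G → ℂ) 1 / P 1 * (P n * P n) by rw [hres χ hχ n]; ring, ← Finset.mul_sum, hPP] at h1
    have h2 : (χ : G → ℂ) 1 / P 1 * S = m χ :=
      mul_left_cancel₀ hGne (by linear_combination h1)
    rw [← h2]
    field_simp [IsIrr.apply_one_ne_zero χ.2]
  -- the weighted count of real characters
  set w : Cfsg.IrrCharacter G → ℂ := fun χ => (m χ : ℂ) / (χ : G → ℂ) 1 with hwdef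
  have hleft : ∀ χ : Cfsg.IrrCharacter G, ∑ g : G, (χ : G → ℂ) g * (χ : G → ℂ) g =
      if conjIrr χ = χ then (Nat.card G : ℂ) else 0 := fun χ => by
    have h1 := classInner_irr χ (conjIrr χ)
    rw [Cfsg.classInner, inv_mul_eq_iff_eq_mul₀ hGne] at h1
    simp only [conjIrr_apply, Complex.conj_conj] at h1
    rw [h1]
    by_cases hc : conjIrr χ = χ
    · rw [if_pos hc, if_pos hc.symm, mul_one]
    · rw [if_neg hc, if_neg (fun e => hc e.symm), mul_zero]
  have hoff : ∀ g ∉ N, ∑ χ : Cfsg.IrrCharacter G, w χ * ((χ : G → ℂ) g * (χ : G → ℂ) g) = 0 := by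
    intro g hg
    have h1 := weighted_sum_eq_zero N hodd P (IsChar.isClassFunction hPc) hg
    simp only [hw] at h1
    refine mul_left_cancel₀ hGne ?_
    rw [mul_zero, Finset.mul_sum, ← h1]
    exact Finset.sum_congr rfl fun χ _ => by simp only [hwdef]; ring
  have hright : ∑ g : G, ∑ χ : Cfsg.IrrCharacter G, w χ * ((χ : G → ℂ) g * (χ : G → ℂ) g) =
      (Nat.card G : ℂ) * (S / P 1) := by
    calc ∑ g : G, ∑ χ : Cfsg.IrrCharacter G, w χ * ((χ : G → ℂ) g * (χ : G → ℂ) g)
        = ∑ n : N, ∑ χ : Cfsg.IrrCharacter G, w χ * ((χ : G → ℂ) n * (χ : G → ℂ) n) := by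
          rw [← Finset.sum_subtype (Finset.univ.filter fun g : G => g ∈ N) (fun g => by simp)
            (fun g => ∑ χ : Cfsg.IrrCharacter G, w χ * ((χ : G → ℂ) g * (χ : G → ℂ) g)),
            Finset.sum_filter]
          refine Finset.sum_congr rfl fun g _ => ?_
          split_ifs with hg
          · rfl
          · exact hoff g hg
      _ = ∑ χ : Cfsg.IrrCharacter G, (m χ : ℂ) * (χ : G → ℂ) 1 *
            ((Nat.card G : ℂ) * S / P 1 ^ 2) := by
          rw [Finset.sum_comm]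
          refine Finset.sum_congr rfl fun χ _ => ?_
          by_cases hχ : m χ = 0
          · simp [hwdef, hχ]
          · rw [← Finset.mul_sum, Finset.sum_congr rfl fun (n : N) _ =>
              show (χ : G → ℂ) n * (χ : G → ℂ) n = ((χ : G → ℂ) 1 / P 1) ^ 2 * (P n * P n) by
                rw [hres χ hχ n]; ring, ← Finset.mul_sum, hPP, hwdef]
            field_simp [IsIrr.apply_one_ne_zero χ.2]
      _ = _ := by
          rw [← Finset.sum_mul]
          have h1 : ∑ χ : Cfsg.IrrCharacter G, (m χ : ℂ) * (χ : G → ℂ) 1 = P 1 := by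
            rw [hm]; simp
          rw [h1]
          field_simp
  rw [Finset.sum_comm] at hright
  simp only [← Finset.mul_sum, hleft] at hright
  set R := Finset.univ.filter (fun χ : Cfsg.IrrCharacter G => conjIrr χ = χ ∧ m χ ≠ 0) with hR
  have hcount : (R.card : ℂ) * ((Nat.card G : ℂ) * (S / P 1)) =
      (Nat.card G : ℂ) * (S / P 1) := by
    conv_rhs => rw [← hright]
    rw [← nsmul_eq_mul, ← Finset.sum_const, hR, Finset.sum_filter]
    refine Finset.sum_congr rfl fun χ _ => ?_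
    by_cases hc : conjIrr χ = χ
    · by_cases hχ : m χ = 0
      · simp [hwdef, hc, hχ]
      · rw [if_pos ⟨hc, hχ⟩, if_pos hc, hwdef]
        simp only
        rw [hmform χ hχ]
        ring
    · rw [if_neg (fun h => hc h.1), if_neg hc, mul_zero]
  have hS0 : S ≠ 0 := by
    obtain ⟨χ, hχ⟩ : ∃ χ, m χ ≠ 0 := by
      by_contra hno
      push Not at hno
      refine hP1 ?_
      rw [hm]
      simp [hno]
    intro h0
    have h1 := hmform χ hχ
    rw [h0, zero_div, div_eq_zero_iff, Nat.cast_eq_zero] at h1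
    exact h1.elim hχ (IsIrr.apply_one_ne_zero χ.2)
  have hcard : R.card = 1 := by
    have := (mul_eq_right₀ (mul_ne_zero hGne (div_ne_zero hS0 hP1))).mp hcount
    exact_mod_cast this
  obtain ⟨χ, hχ⟩ := Finset.card_eq_one.mp hcard
  have hmem : ∀ ψ, ψ ∈ R ↔ ((∀ g : G, ((ψ : G → ℂ) g).im = 0) ∧
      Cfsg.classInner (fun n : N => (ψ : G → ℂ) n) (φ : N → ℂ) ≠ 0) := fun ψ => by
    simp [hR, conjIrr_eq_iff, hmult]
  refine ⟨χ, (hmem χ).mp (by simp [hχ]), fun ψ hψ => ?_⟩
  simpa [hχ] using (hmem ψ).mpr hψ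

end CfsgLib.CharDegree
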