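import Cfsg.Agent.Lib.Char.Indicator

/-!
# Invariants of the symmetric and alternating squares grow on restriction to subgroups
-/

namespace CfsgLib.CharDegree

open scoped ComplexConjugate TensorProduct
open Module CfsgLib.Char

variable {G : Type*} [Group G] [Fintype G]

theorem exists_square_mono {χ : G → ℂ} (hχ : Cfsg.IsCharacter G χ) (H : Subgroup G) [Fintype H]
    {c : ℂ} (hc : c * c = 1) :
    ∃ k : ℕ, ((Nat.card H : ℂ)⁻¹ * ∑ h : H, χ h * χ h +
        c * ((Nat.card H : ℂ)⁻¹ * ∑ h : H, χ (h * h))) -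
      ((Nat.card G : ℂ)⁻¹ * ∑ g : G, χ g * χ g +
        c * ((Nat.card G : ℂ)⁻¹ * ∑ g : G, χ (g * g))) = 2 * (k : ℂ) := by
  obtain ⟨n, ρ, rfl⟩ := hχ
  set T : Representation ℂ G ((Fin n → ℂ) ⊗[ℂ] (Fin n → ℂ)) := ρ.tprod ρ with hT
  set τ : Module.End ℂ ((Fin n → ℂ) ⊗[ℂ] (Fin n → ℂ)) := tswap (Fin n → ℂ) with hτ
  set NG : ℂ := (Nat.card G : ℂ) with hNG
  set NH : ℂ := (Nat.card H : ℂ) with hNH
  have hNG0 : NG ≠ 0 := Nat.cast_ne_zero.mpr Nat.card_pos.ne'
  have hNH0 : NH ≠ 0 := Nat.cast_ne_zero.mpr Nat.card_pos.ne'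
  set E : Module.End ℂ ((Fin n → ℂ) ⊗[ℂ] (Fin n → ℂ)) := NG⁻¹ • ∑ g, T g with hE
  set D : Module.End ℂ ((Fin n → ℂ) ⊗[ℂ] (Fin n → ℂ)) := NH⁻¹ • ∑ h : H, T (h : G) with hD
  have hττ : τ * τ = 1 := TensorProduct.ext' fun x y => by simp [hτ, tswap]
  have hcomm : ∀ g, τ * T g = T g * τ := fun g =>
    TensorProduct.ext' fun x y => by simp [hτ, hT, tswap]
  have hEτ : E * τ = τ * E := by
    simp only [hE, smul_mul_assoc, mul_smul_comm, Finset.sum_mul, Finset.mul_sum, hcomm]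
  have hDτ : D * τ = τ * D := by
    simp only [hD, smul_mul_assoc, mul_smul_comm, Finset.sum_mul, Finset.mul_sum, hcomm]
  have habs : ∀ g, T g * E = E := fun g => by
    simp only [hE, mul_smul_comm, Finset.mul_sum, ← map_mul]
    congr 1
    exact Fintype.sum_equiv (Equiv.mulLeft g) _ _ fun x => rfl
  have habs' : ∀ g, E * T g = E := fun g => by
    simp only [hE, smul_mul_assoc, Finset.sum_mul, ← map_mul]
    congr 1
    exact Fintype.sum_equiv (Equiv.mulRight g) _ _ fun x => rfl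
  have habsD : ∀ h : H, T (h : G) * D = D := fun h => by
    simp only [hD, mul_smul_comm, Finset.mul_sum, ← map_mul]
    congr 1
    exact Fintype.sum_equiv (Equiv.mulLeft h) _ _ fun x => rfl
  have hEE : E * E = E := by
    conv_lhs => arg 1; rw [hE]
    rw [smul_mul_assoc, Finset.sum_mul]
    simp only [habs, Finset.sum_const, Finset.card_univ]
    rw [← Nat.cast_smul_eq_nsmul ℂ, smul_smul, ← Nat.card_eq_fintype_card, ← hNG,
      inv_mul_cancel₀ hNG0, one_smul]
  have hDE : D * E = E := by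
    conv_lhs => arg 1; rw [hD]
    rw [smul_mul_assoc, Finset.sum_mul]
    simp only [habs, Finset.sum_const, Finset.card_univ]
    rw [← Nat.cast_smul_eq_nsmul ℂ, smul_smul, ← Nat.card_eq_fintype_card, ← hNH,
      inv_mul_cancel₀ hNH0, one_smul]
  have hED : E * D = E := by
    conv_lhs => arg 2; rw [hD]
    rw [mul_smul_comm, Finset.mul_sum]
    simp only [habs', Finset.sum_const, Finset.card_univ]
    rw [← Nat.cast_smul_eq_nsmul ℂ, smul_smul, ← Nat.card_eq_fintype_card, ← hNH,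
      inv_mul_cancel₀ hNH0, one_smul]
  have hDD : D * D = D := by
    conv_lhs => arg 1; rw [hD]
    rw [smul_mul_assoc, Finset.sum_mul]
    simp only [habsD, Finset.sum_const, Finset.card_univ]
    rw [← Nat.cast_smul_eq_nsmul ℂ, smul_smul, ← Nat.card_eq_fintype_card, ← hNH,
      inv_mul_cancel₀ hNH0, one_smul]
  set F : Module.End ℂ ((Fin n → ℂ) ⊗[ℂ] (Fin n → ℂ)) := D + (-1 : ℂ) • E with hF
  have hFF : F * F = F := by
    simp only [hF, add_mul, mul_add, smul_mul_assoc, mul_smul_comm, hDD, hDE, hED, hEE, smul_smul]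
    match_scalars <;> ring
  have hFτ : F * τ = τ * F := by
    simp only [hF, add_mul, mul_add, smul_mul_assoc, mul_smul_comm, hDτ, hEτ]
  have e1 : F * τ * F = F * τ := by rw [mul_assoc, ← hFτ, ← mul_assoc, hFF]
  have e2 : F * τ * (F * τ) = F := by rw [← mul_assoc, e1, mul_assoc, hττ, mul_one]
  have e3 : F * (F * τ) = F * τ := by rw [← mul_assoc, hFF]
  have hidem : ((2 : ℂ)⁻¹ • (F + c • (F * τ))) * ((2 : ℂ)⁻¹ • (F + c • (F * τ))) =
      (2 : ℂ)⁻¹ • (F + c • (F * τ)) := by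
    simp only [smul_mul_assoc, mul_smul_comm, add_mul, mul_add, hFF, e1, e2, e3, smul_add,
      smul_smul]
    clear_value F
    match_scalars <;> first | ring1 | linear_combination (4⁻¹ : ℂ) * hc
  obtain ⟨k, hk⟩ := exists_natCast_trace_of_idem hidem
  refine ⟨k, ?_⟩
  rw [← hk]
  simp only [hF, hE, hD, add_mul, smul_mul_assoc, Finset.sum_mul, map_smul, map_add, map_sum,
    smul_eq_mul, hT, hτ, trace_tprod_tswap]
  have h2 : ∀ g, LinearMap.trace ℂ _ (ρ.tprod ρ g) = ρ.character g * ρ.character g := fun g =>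
    congrFun (Representation.char_tensor ρ ρ) g
  simp only [h2]
  ring

end CfsgLib.CharDegree
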