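import Cfsg.Agent.Lib.CharDegree.Basic
import Cfsg.Agent.Lib.CharDegree.Restriction

/-!
# Degrees of faithful characters of `q`-groups of class at most 2 with a coprime automorphism

If the automorphism fixes a faithful irreducible character and is not the identity, the degree is
divisible by a power `q ^ b`, `0 < b`, with `q ^ b ≡ 1` or `q ^ (2 b) ≡ 1` modulo `p`.
-/

set_option autoImplicit false

namespace CfsgLib.SmallLinear

open scoped ComplexConjugate
open CfsgLib.Char CfsgLib.CharIntegral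

variable {R : Type*} [Group R] [Finite R] {p q : ℕ}

omit [Finite R] in
theorem eq_one_of_step (φ : MulAut R) {b c : R} (hb : φ b = b * c) (hc : φ c = c) {m n : ℕ}
    (hφ : φ ^ m = 1) (hcn : c ^ n = 1) (hmn : m.Coprime n) : c = 1 := by
  have h : ∀ j : ℕ, (φ ^ j) b = b * c ^ j := by
    intro j
    induction j with
    | zero => simp
    | succ j ih =>
      rw [pow_succ', MulAut.mul_apply, ih, map_mul, hb, map_pow, hc, pow_succ', mul_assoc]
  have h1 := h m
  rw [hφ, MulAut.one_apply, left_eq_mul] at h1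
  have h2 : c ^ Nat.gcd m n = 1 := pow_gcd_eq_one.2 ⟨h1, hcn⟩
  rwa [hmn.gcd_eq_one, pow_one] at h2

/-- The number of fixed points of a `p`-automorphism of a `q`-group. -/
theorem exists_pow_modEq [Fact p.Prime] [Fact q.Prime] (hR : IsPGroup q R) (φ : MulAut R) {k : ℕ}
    (hφ : φ ^ (p ^ k) = 1) (hne : ∃ r, φ r ≠ r) :
    ∃ s f, Nat.card R = q ^ s ∧ f < s ∧ q ^ s ≡ q ^ f [MOD p] ∧
      ((∀ r, φ r = r → r = 1) → f = 0) := by
  classical
  obtain ⟨s, hs⟩ := IsPGroup.iff_card.1 hR
  let F : Subgroup R :=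
    { carrier := {r | φ r = r}
      one_mem' := map_one φ
      mul_mem' := fun {a b} ha hb => by
        show φ (a * b) = a * b
        rw [map_mul, show φ a = a from ha, show φ b = b from hb]
      inv_mem' := fun {a} ha => by
        show φ a⁻¹ = a⁻¹
        rw [map_inv, show φ a = a from ha] }
  obtain ⟨f, hf⟩ := IsPGroup.iff_card.1 (hR.to_subgroup F)
  have hP : IsPGroup p (Subgroup.zpowers φ) := by
    obtain ⟨i, -, hi⟩ := (Nat.dvd_prime_pow (Fact.out : p.Prime)).1 (orderOf_dvd_of_pow_eq_one hφ)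
    exact IsPGroup.of_card (n := i) (by rw [Nat.card_zpowers, hi])
  have hmod := hP.card_modEq_card_fixedPoints R
  have hfix : MulAction.fixedPoints (Subgroup.zpowers φ) R = (F : Set R) := by
    ext r
    constructor
    · exact fun h => h ⟨φ, Subgroup.mem_zpowers φ⟩
    · intro h g
      have h1 : φ ∈ MulAction.stabilizer (MulAut R) r := h
      exact Subgroup.zpowers_le.2 h1 g.2
  rw [hfix, hs] at hmod
  rw [show Nat.card ((F : Set R) : Type _) = q ^ f from hf] at hmod
  refine ⟨s, f, hs, ?_, hmod, fun h => ?_⟩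
  · refine lt_of_not_ge fun hle => ?_
    obtain ⟨r, hr⟩ := hne
    refine hr ?_
    have htop : F = ⊤ := Subgroup.eq_top_of_le_card F
      (by rw [hf, hs]; exact Nat.pow_le_pow_right (Fact.out : q.Prime).pos hle)
    exact (htop ▸ Subgroup.mem_top r : r ∈ F)
  · have hbot : F = ⊥ := (Subgroup.eq_bot_iff_forall F).2 h
    rw [hbot, Subgroup.card_bot] at hf
    exact (Nat.pow_eq_one.1 hf.symm).resolve_left (Fact.out : q.Prime).ne_one

omit [Finite R] in
theorem pow_sub_mod [Fact p.Prime] [Fact q.Prime] (hpq : p ≠ q) {s f : ℕ} (hfs : f ≤ s)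
    (h : q ^ s ≡ q ^ f [MOD p]) : q ^ (s - f) % p = 1 := by
  have hcop : Nat.gcd p (q ^ f) = 1 :=
    Nat.Coprime.pow_right f ((Nat.coprime_primes Fact.out Fact.out).2 hpq)
  rw [← Nat.add_sub_cancel' hfs, pow_add] at h
  have h1 := Nat.ModEq.cancel_left_of_coprime hcop (h.trans (by rw [mul_one]))
  rw [h1, Nat.mod_eq_of_lt (Fact.out : p.Prime).one_lt]

omit [Finite R] in
theorem exists_centralScalar (θ : Cfsg.IrrCharacter R) {z : R} (hz : z ∈ Subgroup.center R) :
    ∃ c : ℂ, ∀ g, (θ : R → ℂ) (z * g) = c * (θ : R → ℂ) g := by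
  obtain ⟨n, ρ, hρ, h, -⟩ := CharDegree.exists_rep θ
  obtain ⟨c, hc⟩ := exists_scalar_of_mem_center ρ hz
  exact ⟨c, fun g => by rw [← h]; exact character_smul_of_scalar ρ hc g⟩

omit [Finite R] in
/-- An irreducible character vanishes where a commutator is a nontrivial scalar. -/
theorem apply_eq_zero_of_comm (θ : Cfsg.IrrCharacter R) {g h : R}
    (hz : h * g * h⁻¹ * g⁻¹ ∈ Subgroup.center R)
    (hne : (θ : R → ℂ) (h * g * h⁻¹ * g⁻¹) ≠ (θ : R → ℂ) 1) : (θ : R → ℂ) g = 0 := by
  obtain ⟨c, hc⟩ := exists_centralScalar θ hz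
  have h1 := hc g
  rw [inv_mul_cancel_right, IsIrr.isClassFunction θ.2] at h1
  by_contra h0
  have hc1 : c = 1 := mul_right_cancel₀ h0 (h1.symm.trans (one_mul _).symm)
  refine hne ?_
  have h2 := hc 1
  rwa [mul_one, hc1, one_mul] at h2

theorem sq_degree_mul_card (θ : Cfsg.IrrCharacter R) (Z : Subgroup R)
    (hvan : ∀ g ∉ Z, (θ : R → ℂ) g = 0) (hsc : ∀ z ∈ Z, z ∈ Subgroup.center R) :
    Cfsg.charDegree (θ : R → ℂ) ^ 2 * Nat.card Z = Nat.card R := by
  classical
  have := Fintype.ofFinite R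
  have h := CharDegree.sum_norm_sq θ
  rw [← Finset.sum_subset (Finset.subset_univ (Finset.univ.filter (· ∈ Z))) (fun g _ hg => by
    rw [hvan g (fun hgZ => hg (Finset.mem_filter.2 ⟨Finset.mem_univ g, hgZ⟩)), norm_zero,
      zero_pow two_ne_zero]),
    Finset.sum_congr rfl (g := fun _ => (Cfsg.charDegree (θ : R → ℂ) : ℝ) ^ 2) fun g hg => ?_,
    Finset.sum_const, nsmul_eq_mul, ← Fintype.card_subtype, ← Nat.card_eq_fintype_card] at h
  · exact_mod_cast (mul_comm _ _).trans h
  · have hgZ := hsc g (Finset.mem_filter.1 hg).2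
    obtain ⟨c, hc⟩ := exists_centralScalar θ hgZ
    have h2 := hc 1
    have h3 := hc g⁻¹
    rw [mul_inv_cancel, IsIrr.map_inv θ.2] at h3
    rw [mul_one] at h2
    obtain ⟨d, hd0, hd⟩ := IsIrr.exists_degree θ.2
    rw [CharDegree.charDegree_eq_of_apply_one hd, h2, hd, norm_mul, Complex.norm_natCast]
    rw [h2, hd] at h3
    have h4 := congrArg norm h3
    rw [norm_mul, Complex.norm_conj, norm_mul, Complex.norm_natCast] at h4
    have hd' : (0 : ℝ) < d := Nat.cast_pos.2 hd0
    have h5 : ‖c‖ * ‖c‖ = 1 := by nlinarith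
    rw [mul_pow, pow_two ‖c‖, h5, one_mul]

/-- The restriction of an automorphism to a subgroup it maps into itself. -/
noncomputable def restrictAut (φ : MulAut R) (B : Subgroup R) (h : ∀ b ∈ B, φ b ∈ B) : MulAut B :=
  MulEquiv.ofBijective
    (MonoidHom.mk' (fun b : B => (⟨φ b, h b b.2⟩ : B)) fun u v => Subtype.ext (map_mul φ _ _))
    (Finite.injective_iff_bijective.1 fun _ _ huv =>
      Subtype.ext (φ.injective (congrArg Subtype.val huv)))

theorem coe_restrictAut (φ : MulAut R) (B : Subgroup R) (h : ∀ b ∈ B, φ b ∈ B) (b : B) :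
    (restrictAut φ B h b : R) = φ b := rfl

/-- The main lemma. -/
theorem exists_pow_dvd_degree [Fact p.Prime] [Fact q.Prime] (hR : IsPGroup q R) (hpq : p ≠ q)
    (φ : MulAut R) {k : ℕ} (hφ : φ ^ (p ^ k) = 1) (θ : Cfsg.IrrCharacter R)
    (hfaith : ∀ g, (θ : R → ℂ) g = (θ : R → ℂ) 1 → g = 1)
    (hcl : ∀ a b : R, a * b * a⁻¹ * b⁻¹ ∈ Subgroup.center R)
    (hfix : ∀ g, (θ : R → ℂ) (φ g) = (θ : R → ℂ) g) (hne : ∃ r, φ r ≠ r) :
    ∃ b, 0 < b ∧ q ^ b ∣ Cfsg.charDegree (θ : R → ℂ) ∧
      (q ^ b % p = 1 ∨ q ^ (2 * b) % p = 1) := by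
  classical
  have hp := (Fact.out : p.Prime)
  have hq := (Fact.out : q.Prime)
  have := Fintype.ofFinite R
  set Z := Subgroup.center R with hZ
  have hstep : ∀ b c : R, φ b = b * c → φ c = c → c = 1 := fun b c hb hc => by
    obtain ⟨j, hj⟩ := hR c
    exact eq_one_of_step φ hb hc hφ hj (Nat.Coprime.pow _ _ ((Nat.coprime_primes hp hq).2 hpq))
  have hφZ : ∀ z ∈ Z, φ z = z := by
    intro z hz
    obtain ⟨c, hc⟩ := exists_centralScalar θ hz
    have hφz : φ z ∈ Z := by
      rw [hZ, Subgroup.mem_center_iff]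
      intro g
      obtain ⟨g, rfl⟩ := φ.surjective g
      rw [← map_mul, ← map_mul, Subgroup.mem_center_iff.1 hz g]
    obtain ⟨c', hc'⟩ := exists_centralScalar θ hφz
    have h1 := hc 1
    have h2 := hc' 1
    rw [mul_one] at h1 h2
    rw [hfix, h1] at h2
    obtain ⟨d, hd0, hd⟩ := IsIrr.exists_degree θ.2
    have hcc : c = c' := mul_right_cancel₀ (b := (θ : R → ℂ) 1)
      (by rw [hd]; exact Nat.cast_ne_zero.2 hd0.ne') h2
    refine mul_inv_eq_one.1 (hfaith _ ?_)
    rw [hc', ← hcc, ← hc, mul_inv_cancel]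
  -- a minimal invariant subgroup above the centre which is moved
  obtain ⟨B, ⟨hZB, hBinv, hBne⟩, hBmin⟩ := WellFounded.has_min
    (wellFounded_lt (α := Subgroup R))
    {B : Subgroup R | Z ≤ B ∧ (∀ b ∈ B, φ b ∈ B) ∧ ∃ b ∈ B, φ b ≠ b}
    ⟨⊤, le_top, fun _ _ => Subgroup.mem_top _, hne.choose, Subgroup.mem_top _, hne.choose_spec⟩
  set D := Subgroup.closure ((Z : Set R) ∪ {c | ∃ b ∈ B, c = b⁻¹ * φ b}) with hD
  have hDB : D ≤ B := (Subgroup.closure_le B).2 (Set.union_subset hZB (by
    rintro _ ⟨b, hb, rfl⟩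
    exact mul_mem (inv_mem hb) (hBinv b hb)))
  have hDinv : ∀ c ∈ D, φ c ∈ D := by
    intro c hc
    have hle : D ≤ D.comap φ.toMonoidHom := by
      refine (Subgroup.closure_le _).2 (Set.union_subset (fun z hz => ?_) ?_)
      · show φ z ∈ D
        rw [hφZ z hz]
        exact Subgroup.subset_closure (Or.inl hz)
      · rintro _ ⟨b, hb, rfl⟩
        show φ (b⁻¹ * φ b) ∈ D
        rw [map_mul, map_inv]
        exact Subgroup.subset_closure (Or.inr ⟨φ b, hBinv b hb, rfl⟩)
    exact hle hc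
  have hDeq : D = B := by
    by_contra hne'
    have hfixD : ∀ c ∈ D, φ c = c := by
      intro c hc
      by_contra h
      exact hBmin D ⟨fun z hz => Subgroup.subset_closure (Or.inl hz), hDinv, c, hc, h⟩
        (lt_of_le_of_ne hDB hne')
    obtain ⟨b, hb, hbne⟩ := hBne
    have hc : b⁻¹ * φ b = 1 := hstep b _ (mul_inv_cancel_left _ _).symm
      (hfixD _ (Subgroup.subset_closure (Or.inr ⟨b, hb, rfl⟩)))
    exact hbne (inv_mul_eq_one.1 hc).symm
  set ZB := B ⊓ Subgroup.centralizer (B : Set R) with hZBdef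
  have hZZB : Z ≤ ZB := le_inf hZB (Subgroup.center_le_centralizer _)
  -- constituent
  have := Fintype.ofFinite B
  have hres0 : (fun b : B => (θ : R → ℂ) b) ≠ 0 := fun h =>
    IsIrr.apply_one_ne_zero θ.2 (congrFun h 1)
  obtain ⟨ψ, hψ⟩ : ∃ ψ : Cfsg.IrrCharacter B,
      Cfsg.classInner (fun b : B => (θ : R → ℂ) b) (ψ : B → ℂ) ≠ 0 := by
    by_contra h
    push Not at h
    exact hres0 (eq_zero_of_classInner_eq_zero
      (IsChar.isClassFunction (IsChar.restrict B (IsIrr.isCharacter θ.2))) h)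
  have hscal : ∀ (z : R) (hz : z ∈ Z) (c : ℂ), (∀ g, (θ : R → ℂ) (z * g) = c * (θ : R → ℂ) g) →
      ∀ b : B, (ψ : B → ℂ) (⟨z, hZB hz⟩ * b) = c * (ψ : B → ℂ) b := by
    intro z hz c hc
    have hzc : (⟨z, hZB hz⟩ : B) ∈ Subgroup.center B := Subgroup.mem_center_iff.2 fun g =>
      Subtype.ext (Subgroup.mem_center_iff.1 hz (g : R))
    obtain ⟨c', hc'⟩ := exists_centralScalar ψ hzc
    have hkey : c * conj c' = 1 := by
      have h1 : Cfsg.classInner (fun b : B => (θ : R → ℂ) b) (ψ : B → ℂ) =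
          (c * conj c') * Cfsg.classInner (fun b : B => (θ : R → ℂ) b) (ψ : B → ℂ) := by
        conv_lhs => rw [Cfsg.classInner,
          ← Equiv.sum_comp (Equiv.mulLeft (⟨z, hZB hz⟩ : B))]
        simp only [Equiv.coe_mulLeft, hc', Subgroup.coe_mul, hc, map_mul, Cfsg.classInner,
          Finset.mul_sum]
        exact Finset.sum_congr rfl fun b _ => by ring
      exact mul_right_cancel₀ hψ (h1.symm.trans (one_mul _).symm)
    have hnorm : ‖c'‖ = 1 := by
      have h2 := hc' 1
      have h3 := hc' (⟨z, hZB hz⟩ : B)⁻¹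
      rw [mul_one] at h2
      rw [mul_inv_cancel, IsIrr.map_inv ψ.2, h2] at h3
      have h4 := congrArg norm h3
      rw [norm_mul, Complex.norm_conj, norm_mul, ← mul_assoc] at h4
      have h0 : ‖(ψ : B → ℂ) 1‖ ≠ 0 := norm_ne_zero_iff.2 (IsIrr.apply_one_ne_zero ψ.2)
      have h5 : ‖c'‖ * ‖c'‖ = 1 := mul_right_cancel₀ h0 (h4.symm.trans (one_mul _).symm)
      nlinarith [norm_nonneg c']
    have hcc : c = c' := by
      calc c = c * (conj c' * c') := by rw [Complex.conj_mul', hnorm]; simp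
        _ = (c * conj c') * c' := (mul_assoc _ _ _).symm
        _ = c' := by rw [hkey, one_mul]
    exact hcc ▸ hc'
  obtain ⟨a, ha⟩ : ∃ a, Cfsg.charDegree (θ : R → ℂ) = q ^ a := by
    obtain ⟨s, hs⟩ := IsPGroup.iff_card.1 hR
    obtain ⟨a, -, ha⟩ := (Nat.dvd_prime_pow hq).1 (hs ▸ CharDegree.charDegree_dvd_card θ)
    exact ⟨a, ha⟩
  have hvan : ∀ g ∉ Z, (θ : R → ℂ) g = 0 := by
    intro g hg
    obtain ⟨h, hh⟩ : ∃ h, h * g ≠ g * h := by
      by_contra hno
      push Not at hno
      exact hg (Subgroup.mem_center_iff.2 hno)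
    exact apply_eq_zero_of_comm θ (hcl h g) fun h1 =>
      hh (mul_inv_eq_iff_eq_mul.1 (mul_inv_eq_one.1 (hfaith _ h1)))
  by_cases hab : ZB = B
  · -- the abelian case
    have hcomm : ∀ u v : B, u * v = v * u := fun u v => Subtype.ext
      (Subgroup.mem_centralizer_iff.1 (hab.ge v.2).2 (u : R) u.2)
    have hψ1 := (CharDegree.charDegree_eq_one_iff ψ).1 (CharDegree.charDegree_of_comm hcomm ψ)
    obtain ⟨m, hm⟩ := IsChar.classInner_eq_natCast (IsChar.restrict B (IsIrr.isCharacter θ.2))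
      (IsIrr.isCharacter ψ.2)
    have hmul : m * Nat.card B = Cfsg.charDegree (θ : R → ℂ) * Nat.card (Z.subgroupOf B) := by
      have h1 : Cfsg.classInner (fun b : B => (θ : R → ℂ) b) (ψ : B → ℂ) =
          (Nat.card B : ℂ)⁻¹ *
            ((Cfsg.charDegree (θ : R → ℂ) : ℂ) * Nat.card (Z.subgroupOf B)) := by
        rw [Cfsg.classInner]
        congr 1
        rw [← Finset.sum_subset (Finset.subset_univ (Finset.univ.filter (· ∈ Z.subgroupOf B)))
          (fun b _ hb => by rw [hvan b (fun hbZ => hb (Finset.mem_filter.2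
            ⟨Finset.mem_univ b, hbZ⟩)), zero_mul]),
          Finset.sum_congr rfl (g := fun _ => (Cfsg.charDegree (θ : R → ℂ) : ℂ)) fun b hb => ?_,
          Finset.sum_const, nsmul_eq_mul, ← Fintype.card_subtype, ← Nat.card_eq_fintype_card,
          mul_comm]
        have hbZ : (b : R) ∈ Z := (Finset.mem_filter.1 hb).2
        obtain ⟨c, hc⟩ := exists_centralScalar θ hbZ
        have h2 := hc 1
        have h3 : (ψ : B → ℂ) b = c := by
          have h4 := hscal _ hbZ c hc 1
          rwa [mul_one, hψ1, mul_one] at h4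
        obtain ⟨d, hd0, hd⟩ := IsIrr.exists_degree θ.2
        have h6 : conj c * c = 1 := by
          have h7 := hscal _ hbZ c hc b⁻¹
          rw [show (⟨(b : R), hZB hbZ⟩ : B) * b⁻¹ = 1 from mul_inv_cancel b, hψ1,
            IsIrr.map_inv ψ.2, h3] at h7
          rw [mul_comm]; exact h7.symm
        rw [mul_one] at h2
        rw [h3, h2, hd, CharDegree.charDegree_eq_of_apply_one hd, mul_comm c, mul_assoc,
          mul_comm c, h6, mul_one]
      rw [hm] at h1
      field_simp at h1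
      exact_mod_cast h1
    have hZn : (Z.subgroupOf B).Normal :=
      ⟨fun z hz g => by rwa [hcomm g z, mul_inv_cancel_right]⟩
    let φB : MulAut B := restrictAut φ B hBinv
    have hmap : (Z.subgroupOf B).map φB.toMonoidHom = Z.subgroupOf B := by
      ext b
      constructor
      · rintro ⟨z, hz, rfl⟩
        show φ (z : R) ∈ Z
        rw [hφZ (z : R) hz]; exact hz
      · exact fun hb => ⟨b, hb, Subtype.ext (hφZ _ hb)⟩
    let ψQ : MulAut (B ⧸ Z.subgroupOf B) := QuotientGroup.congr _ _ φB hmap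
    have hpow : ∀ (j : ℕ) (b : B), ((φB ^ j) b : R) = (φ ^ j) (b : R) := by
      intro j
      induction j with
      | zero => exact fun _ => rfl
      | succ j ih =>
        intro b
        rw [pow_succ', pow_succ', MulAut.mul_apply, MulAut.mul_apply, ← ih]
        rfl
    have hQpow : ∀ (j : ℕ) (b : B), (ψQ ^ j) (b : B ⧸ Z.subgroupOf B) = ((φB ^ j) b : B) := by
      intro j
      induction j with
      | zero => exact fun _ => rfl
      | succ j ih =>
        intro b
        rw [pow_succ', pow_succ', MulAut.mul_apply, MulAut.mul_apply, ih]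
        rfl
    have hψQ : ψQ ^ (p ^ k) = 1 := by
      refine MulEquiv.ext fun v => ?_
      induction v using QuotientGroup.induction_on with
      | H b => rw [hQpow, MulAut.one_apply, show (φB ^ (p ^ k)) b = b from
          Subtype.ext (by rw [hpow, hφ, MulAut.one_apply])]
    obtain ⟨b₀, hb₀, hb₀ne⟩ := hBne
    have hneQ : ∃ v, ψQ v ≠ v := by
      refine ⟨((⟨b₀, hb₀⟩ : B) : B ⧸ Z.subgroupOf B), fun h => ?_⟩
      have h1 : (⟨b₀, hb₀⟩ : B)⁻¹ * φB ⟨b₀, hb₀⟩ ∈ Z.subgroupOf B := QuotientGroup.eq.1 h.symm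
      exact hb₀ne (inv_mul_eq_one.1 (hstep b₀ _ (mul_inv_cancel_left _ _).symm (hφZ _ h1))).symm
    obtain ⟨s, f, hs, hfs, hmod, -⟩ := exists_pow_modEq ((hR.to_subgroup B).to_quotient _) ψQ hψQ
      hneQ
    refine ⟨s - f, Nat.sub_pos_of_lt hfs, ?_, Or.inl (pow_sub_mod hpq hfs.le hmod)⟩
    refine (pow_dvd_pow q (Nat.sub_le s f)).trans ⟨m, ?_⟩
    rw [← Subgroup.card_mul_index (Z.subgroupOf B), Subgroup.index_eq_card, hs, mul_left_comm,
      mul_comm (Cfsg.charDegree (θ : R → ℂ))] at hmul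
    exact (Nat.eq_of_mul_eq_mul_left Nat.card_pos hmul).symm.trans (mul_comm _ _)
  · -- the nonabelian case
    have hfixZB : ∀ z ∈ ZB, φ z = z := by
      intro z hz
      by_contra h
      refine hBmin ZB ⟨hZZB, fun u hu => ⟨hBinv u hu.1, ?_⟩, z, hz, h⟩
        (lt_of_le_of_ne inf_le_left hab)
      show φ u ∈ Subgroup.centralizer (B : Set R)
      rw [Subgroup.mem_centralizer_iff]
      intro v hv
      obtain ⟨y, hy⟩ := (restrictAut φ B hBinv).surjective ⟨v, hv⟩
      rw [← show φ (y : R) = v from congrArg Subtype.val hy, ← map_mul, ← map_mul,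
        Subgroup.mem_centralizer_iff.1 hu.2 y y.2]
    have hcen : Subgroup.center B = ZB.subgroupOf B := by
      ext u
      rw [Subgroup.mem_center_iff, Subgroup.mem_subgroupOf, hZBdef, Subgroup.mem_inf,
        Subgroup.mem_centralizer_iff]
      exact ⟨fun h => ⟨u.2, fun v hv => congrArg Subtype.val (h ⟨v, hv⟩)⟩,
        fun h v => Subtype.ext (h.2 v v.2)⟩
    have hvanψ : ∀ u ∉ Subgroup.center B, (ψ : B → ℂ) u = 0 := by
      intro u hu
      obtain ⟨v, hv⟩ : ∃ v, v * u ≠ u * v := by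
        by_contra hno
        push Not at hno
        exact hu (Subgroup.mem_center_iff.2 hno)
      have hzZ := hcl (v : R) (u : R)
      refine apply_eq_zero_of_comm ψ (h := v) (Subgroup.mem_center_iff.2 fun g => Subtype.ext
        (Subgroup.mem_center_iff.1 hzZ (g : R))) fun h1 => hv ?_
      obtain ⟨c, hc⟩ := exists_centralScalar θ hzZ
      have h2 := hscal _ hzZ c hc 1
      rw [mul_one] at h2
      have h3 : (ψ : B → ℂ) (v * u * v⁻¹ * u⁻¹) = c * (ψ : B → ℂ) 1 := h2
      rw [h1] at h3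
      have hc1 : c = 1 :=
        mul_right_cancel₀ (IsIrr.apply_one_ne_zero ψ.2) (h3.symm.trans (one_mul _).symm)
      have h4 := hc 1
      rw [mul_one, hc1, one_mul] at h4
      exact Subtype.ext (mul_inv_eq_iff_eq_mul.1 (mul_inv_eq_one.1 (hfaith _ h4)))
    have hsq := sq_degree_mul_card ψ (Subgroup.center B) hvanψ fun _ h => h
    have hle : Cfsg.charDegree (ψ : B → ℂ) ≤ Cfsg.charDegree (θ : R → ℂ) := by
      have := Fintype.ofFinite (Cfsg.IrrCharacter B)
      obtain ⟨m, hm⟩ := IsChar.exists_sum (IsChar.restrict B (IsIrr.isCharacter θ.2))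
      rw [hm, classInner_sum_irr] at hψ
      have h1 := congrFun hm 1
      simp only [OneMemClass.coe_one, Finset.sum_apply, Pi.smul_apply, smul_eq_mul] at h1
      rw [← CharDegree.cast_irrDegree] at h1
      simp only [← CharDegree.cast_irrDegree] at h1
      have h2 : Cfsg.charDegree (θ : R → ℂ) =
          ∑ χ : Cfsg.IrrCharacter B, m χ * Cfsg.charDegree (χ : B → ℂ) := by exact_mod_cast h1
      rw [h2]
      refine le_trans ?_ (Finset.single_le_sum (fun _ _ => Nat.zero_le _) (Finset.mem_univ ψ))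
      exact Nat.le_mul_of_pos_left _ (Nat.pos_of_ne_zero fun h0 => hψ (by simp [h0]))
    obtain ⟨e, he⟩ : ∃ e, Cfsg.charDegree (ψ : B → ℂ) = q ^ e := by
      obtain ⟨s, hs⟩ := IsPGroup.iff_card.1 (hR.to_subgroup B)
      obtain ⟨e, -, he⟩ := (Nat.dvd_prime_pow hq).1 (hs ▸ CharDegree.charDegree_dvd_card ψ)
      exact ⟨e, he⟩
    let φB : MulAut B := restrictAut φ B hBinv
    have hfixc : ∀ z ∈ Subgroup.center B, φB z = z := fun z hz => Subtype.ext
      (hfixZB _ (Subgroup.mem_subgroupOf.1 (hcen ▸ hz)))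
    have hmap : (Subgroup.center B).map φB.toMonoidHom = Subgroup.center B := by
      ext b
      constructor
      · rintro ⟨z, hz, rfl⟩
        show φB z ∈ _
        rw [hfixc z hz]; exact hz
      · exact fun hb => ⟨b, hb, hfixc b hb⟩
    let ψQ : MulAut (B ⧸ Subgroup.center B) := QuotientGroup.congr _ _ φB hmap
    have hpow : ∀ (j : ℕ) (b : B), ((φB ^ j) b : R) = (φ ^ j) (b : R) := by
      intro j
      induction j with
      | zero => exact fun _ => rfl
      | succ j ih =>
        intro b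
        rw [pow_succ', pow_succ', MulAut.mul_apply, MulAut.mul_apply, ← ih]
        rfl
    have hQpow : ∀ (j : ℕ) (b : B),
        (ψQ ^ j) (b : B ⧸ Subgroup.center B) = ((φB ^ j) b : B) := by
      intro j
      induction j with
      | zero => exact fun _ => rfl
      | succ j ih =>
        intro b
        rw [pow_succ', pow_succ', MulAut.mul_apply, MulAut.mul_apply, ih]
        rfl
    have hψQ : ψQ ^ (p ^ k) = 1 := by
      refine MulEquiv.ext fun v => ?_
      induction v using QuotientGroup.induction_on with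
      | H b => rw [hQpow, MulAut.one_apply, show (φB ^ (p ^ k)) b = b from
          Subtype.ext (by rw [hpow, hφ, MulAut.one_apply])]
    have hfree : ∀ v : B ⧸ Subgroup.center B, ψQ v = v → v = 1 := by
      intro v hv
      induction v using QuotientGroup.induction_on with
      | H u =>
      have h1 : u⁻¹ * φB u ∈ Subgroup.center B := QuotientGroup.eq.1 hv.symm
      have h2 : φ (u : R) = u := (inv_mul_eq_one.1 (hstep (u : R) _
        (mul_inv_cancel_left _ _).symm (congrArg Subtype.val (hfixc _ h1)))).symm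
      rw [QuotientGroup.eq_one_iff, Subgroup.mem_center_iff]
      intro g
      have hgen : D ≤ Subgroup.centralizer ({(u : R)} : Set R) := by
        refine (Subgroup.closure_le _).2 (Set.union_subset (fun z hz => ?_) ?_)
        · exact Subgroup.mem_centralizer_singleton_iff.2 (Subgroup.mem_center_iff.1 hz _).symm
        · rintro _ ⟨b, hb, rfl⟩
          refine Subgroup.mem_centralizer_singleton_iff.2 ?_
          have h3 := hφZ _ (hcl b (u : R))
          simp only [map_mul, map_inv, h2] at h3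
          calc b⁻¹ * φ b * (u : R) = b⁻¹ * (φ b * (u : R) * (φ b)⁻¹ * (u : R)⁻¹) * u * φ b := by
                group
            _ = (u : R) * (b⁻¹ * φ b) := by rw [h3]; group
      have h4 := hgen (hDeq.symm ▸ g.2 : (g : R) ∈ D)
      exact Subtype.ext (Subgroup.mem_centralizer_singleton_iff.1 h4)
    have hneQ : ∃ v, ψQ v ≠ v := by
      by_contra hno
      push Not at hno
      refine hab (le_antisymm inf_le_left fun b hb => ?_)
      have h1 := (QuotientGroup.eq_one_iff (⟨b, hb⟩ : B)).1 (hfree _ (hno _))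
      exact Subgroup.mem_subgroupOf.1 (hcen ▸ h1)
    obtain ⟨s, f, hs, hfs, hmod, hf0⟩ := exists_pow_modEq
      ((hR.to_subgroup B).to_quotient _) ψQ hψQ hneQ
    obtain rfl := hf0 hfree
    have hs2 : s = 2 * e := by
      refine Nat.pow_right_injective hq.two_le ?_
      show q ^ s = q ^ (2 * e)
      rw [← Subgroup.card_mul_index (Subgroup.center B), Subgroup.index_eq_card, hs,
        mul_comm, he, ← pow_mul, mul_comm e 2] at hsq
      exact (Nat.eq_of_mul_eq_mul_left Nat.card_pos hsq).symm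
    refine ⟨e, by omega, ?_, Or.inr (hs2 ▸ pow_sub_mod hpq (Nat.zero_le _) hmod)⟩
    rw [he, ha] at hle
    rw [ha]
    exact pow_dvd_pow q ((Nat.pow_le_pow_iff_right hq.one_lt).1 hle)

end CfsgLib.SmallLinear
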