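import Cfsg.Agent.Lib.PLocal.PSolvable
import Cfsg.Agent.Lib.Core.Coprime

/-! # A Sylow subgroup normalizing a Sylow subgroup of another prime -/

set_option autoImplicit false

namespace CfsgLib.SylowNorm

open Subgroup Cfsg
open scoped Pointwise

variable {G : Type*} [Group G] [Finite G] {p q : ℕ} [Fact p.Prime] [Fact q.Prime]

omit [Fact q.Prime] in
theorem exists_sylow_le {A : Subgroup G} (h : ¬ p ∣ A.index) : ∃ P : Sylow p G, (P : Subgroup G) ≤ A := by
  obtain ⟨P₀⟩ := (Sylow.nonempty : Nonempty (Sylow p A))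
  have hc : Nat.card ((P₀ : Subgroup A).map A.subtype) = p ^ (Nat.card G).factorization p := by
    rw [← Nat.card_congr ((P₀ : Subgroup A).equivMapOfInjective _ A.subtype_injective).toEquiv,
      P₀.card_eq_multiplicity, ← A.card_mul_index, Nat.factorization_mul Nat.card_pos.ne'
        Subgroup.index_ne_zero_of_finite, Finsupp.add_apply,
      Nat.factorization_eq_zero_of_not_dvd h, add_zero]
  exact ⟨Sylow.ofCard _ hc, by rw [Sylow.coe_ofCard]; exact map_subtype_le _⟩

omit [Fact p.Prime] [Fact q.Prime] in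
theorem relIndex_sup_eq (A N : Subgroup G) [N.Normal] :
    A.relIndex (A ⊔ N) = A.relIndex N := by
  have h1 : Nat.card (A ⊔ N : Subgroup G) = N.relIndex A * Nat.card N := by
    have h := relIndex_mul_relIndex (⊥ : Subgroup G) N (A ⊔ N) bot_le le_sup_right
    simp only [relIndex_bot_left] at h
    rw [← h, relIndex_sup_right, mul_comm]
  have h2 : Nat.card A = N.relIndex A * Nat.card (A ⊓ N : Subgroup G) := by
    have h := relIndex_mul_relIndex (⊥ : Subgroup G) (A ⊓ N) A bot_le inf_le_left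
    simp only [relIndex_bot_left, inf_relIndex_left] at h
    rw [← h, mul_comm]
  have h3 : Nat.card A * A.relIndex (A ⊔ N) = Nat.card (A ⊔ N : Subgroup G) := by
    have h := relIndex_mul_relIndex (⊥ : Subgroup G) A (A ⊔ N) bot_le le_sup_left
    simp only [relIndex_bot_left] at h
    exact h
  have h4 : Nat.card (A ⊓ N : Subgroup G) * A.relIndex N = Nat.card N := by
    have h := relIndex_mul_relIndex (⊥ : Subgroup G) (A ⊓ N) N bot_le inf_le_right
    simp only [relIndex_bot_left, inf_relIndex_right] at h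
    exact h
  rw [h1, h2, ← h4, mul_assoc] at h3
  have h0 : N.relIndex A ≠ 0 := Subgroup.index_ne_zero_of_finite
  exact mul_left_cancel₀ (Nat.card_pos (α := (A ⊓ N : Subgroup G))).ne' (mul_left_cancel₀ h0 h3)

omit [Fact p.Prime] in
theorem exists_sylow_mem {z : G} (hz : ∃ k, orderOf z = q ^ k) :
    ∃ Q : Sylow q G, z ∈ (Q : Subgroup G) := by
  obtain ⟨k, hk⟩ := hz
  obtain ⟨Q, hQ⟩ := (IsPGroup.of_card (n := k) (by rw [Nat.card_zpowers, hk]) :
    IsPGroup q (zpowers z)).exists_le_sylow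
  exact ⟨Q, hQ (mem_zpowers z)⟩

omit [Fact p.Prime] in
/-- `q`-elements of a quotient lift to `q`-elements. -/
theorem exists_lift (N : Subgroup G) [N.Normal] {z : G ⧸ N} (hz : ∃ k, orderOf z = q ^ k) :
    ∃ y : G, (∃ k, orderOf y = q ^ k) ∧ (y : G ⧸ N) = z := by
  obtain ⟨R, hR⟩ := exists_sylow_mem hz
  obtain ⟨Q⟩ := (Sylow.nonempty : Nonempty (Sylow q G))
  obtain ⟨g, hg⟩ := MulAction.exists_smul_eq (G ⧸ N)
    (Q.mapSurjective (f := QuotientGroup.mk' N) (QuotientGroup.mk'_surjective N)) R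
  rw [← hg, Sylow.coe_subgroup_smul, Sylow.coe_mapSurjective,
    mem_pointwise_smul_iff_inv_smul_mem] at hR
  obtain ⟨c, hc, hcz⟩ := hR
  obtain ⟨a, rfl⟩ := QuotientGroup.mk_surjective g
  refine ⟨a * c * a⁻¹, ?_, ?_⟩
  · obtain ⟨k, hk⟩ := (IsPGroup.iff_orderOf.1 Q.isPGroup') ⟨c, hc⟩
    refine ⟨k, ?_⟩
    rw [← hk, ← Subgroup.orderOf_coe]
    exact orderOf_injective (MulAut.conj a).toMonoidHom (MulAut.conj a).injective c
  · have h : (c : G ⧸ N) = (a : G ⧸ N)⁻¹ * z * a := by simpa using hcz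
    simp only [QuotientGroup.mk_mul, QuotientGroup.mk_inv, h]
    group

/-- The hypothesis: no `q`-element has class size divisible by `p`. -/
def Hyp (p q : ℕ) (G : Type*) [Group G] : Prop :=
  ∀ y : G, (∃ k : ℕ, orderOf y = q ^ k) → ¬ p ∣ (centralizer ({y} : Set G)).index

omit [Fact p.Prime] in
theorem hyp_quotient (h : Hyp p q G) (N : Subgroup G) [N.Normal] : Hyp p q (G ⧸ N) := by
  intro z hz hd
  obtain ⟨y, hy, rfl⟩ := exists_lift N hz
  refine h y hy (hd.trans ?_)
  have hle : (centralizer ({y} : Set G)).map (QuotientGroup.mk' N) ≤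
      centralizer ({(y : G ⧸ N)} : Set (G ⧸ N)) := by
    rintro _ ⟨c, hc, rfl⟩
    rw [mem_centralizer_iff]
    rintro _ rfl
    exact congrArg (QuotientGroup.mk' N) (mem_centralizer_iff.1 hc y rfl)
  exact (index_dvd_of_le hle).trans (index_map_dvd _ (QuotientGroup.mk'_surjective N))

theorem pair_of_subsingleton_index (hpq : p ≠ q) (hsol : IsPSolvable p G)
    (hd : ¬ q ∣ (pPrimeCore p G).index) :
    ∃ (P : Sylow p G) (Q : Sylow q G), (P : Subgroup G) ≤ normalizer ((Q : Subgroup G) : Set G) := by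
  obtain ⟨Q₀, hQ⟩ := exists_sylow_le (p := q) hd
  have hfr : normalizer ((Q₀ : Subgroup G) : Set G) ⊔ pPrimeCore p G = ⊤ :=
    Sylow.normalizer_sup_eq_top' (N := pPrimeCore p G) Q₀ hQ
  obtain ⟨P, hP⟩ := exists_sylow_le (p := p) (A := normalizer ((Q₀ : Subgroup G) : Set G)) (by
    intro h
    rw [← relIndex_top_right, ← hfr, relIndex_sup_eq] at h
    exact (Fact.out : p.Prime).ne_one (Nat.dvd_one.1 (
      (CfsgLib.Core.coprime_card_pPrimeCore p G) ▸
        Nat.dvd_gcd (h.trans (relIndex_dvd_card _ _)) dvd_rfl)))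
  exact ⟨P, Q₀, hP⟩

omit [Fact q.Prime] in
theorem inf_eq_bot_of_ne (hpq : p ≠ q) [Fact q.Prime] {U V : Subgroup G} (hU : IsPGroup p U)
    (hV : IsPGroup q V) : U ⊓ V = ⊥ :=
  disjoint_iff.1 (IsPGroup.disjoint_of_ne p q hpq U V hU hV)

/-- If `P` normalizes `Q` in a `p`-solvable group with trivial `p'`-core then `Q` is trivial. -/
theorem not_dvd_of_pair (hpq : p ≠ q) (hsol : IsPSolvable p G) (hO : pPrimeCore p G = ⊥)
    (P : Sylow p G) (Q : Sylow q G)
    (h : (P : Subgroup G) ≤ normalizer ((Q : Subgroup G) : Set G)) : ¬ q ∣ Nat.card G := by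
  intro hd
  have hUP : pCore p G ≤ (P : Subgroup G) := CfsgLib.Core.pCore_le_sylow P
  have hUQ : pCore p G ⊓ (Q : Subgroup G) = ⊥ :=
    inf_eq_bot_of_ne hpq (CfsgLib.Core.isPGroup_pCore p G) Q.isPGroup'
  have hQC : (Q : Subgroup G) ≤ centralizer (pCore p G : Set G) := by
    intro y hy
    rw [mem_centralizer_iff]
    intro u hu
    have h1 : u * y * u⁻¹ * y⁻¹ ∈ pCore p G ⊓ (Q : Subgroup G) := by
      refine ⟨?_, (Q : Subgroup G).mul_mem ((mem_normalizer_iff.1 (h (hUP hu)) y).1 hy)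
        ((Q : Subgroup G).inv_mem hy)⟩
      rw [mul_assoc, mul_assoc, ← mul_assoc y]
      exact (pCore p G).mul_mem hu ((CfsgLib.Core.normal_pCore p G).conj_mem _ ((pCore p G).inv_mem hu) y)
    rw [hUQ, mem_bot] at h1
    exact mul_inv_eq_iff_eq_mul.1 (mul_inv_eq_one.1 h1)
  have hbot : (Q : Subgroup G) = ⊥ := by
    rw [eq_bot_iff, ← hUQ]
    exact le_inf (hQC.trans (CfsgLib.PLocal.centralizer_pCore_le hsol hO)) le_rfl
  exact Q.ne_bot_of_dvd_card hd hbot

theorem not_dvd_of_hyp (hpq : p ≠ q) (hsol : IsPSolvable p G) (hO : pPrimeCore p G = ⊥)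
    (h : Hyp p q G) : ¬ q ∣ Nat.card G := by
  intro hd
  obtain ⟨y, hy⟩ := exists_prime_orderOf_dvd_card' q hd
  obtain ⟨P, hP⟩ := exists_sylow_le (p := p) (h y ⟨1, by rw [hy, pow_one]⟩)
  have hyC : y ∈ centralizer (pCore p G : Set G) := by
    rw [mem_centralizer_iff]
    intro u hu
    exact (mem_centralizer_iff.1 (hP (CfsgLib.Core.pCore_le_sylow P hu)) y rfl).symm
  have hyU := CfsgLib.PLocal.centralizer_pCore_le hsol hO hyC
  obtain ⟨k, hk⟩ := (IsPGroup.iff_orderOf.1 (CfsgLib.Core.isPGroup_pCore p G)) ⟨y, hyU⟩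
  rw [← Subgroup.orderOf_coe, hy] at hk
  exact hpq ((Nat.prime_dvd_prime_iff_eq Fact.out Fact.out).1
    ((Fact.out : q.Prime).dvd_of_dvd_pow (hk ▸ dvd_rfl : q ∣ p ^ k))).symm

omit [Fact p.Prime] in
theorem exists_normal (hsol : IsPSolvable q G) [Nontrivial G] :
    ∃ N : Subgroup G, N.Normal ∧ N ≠ ⊥ ∧ (IsPGroup q N ∨ (Nat.card N).Coprime q) := by
  obtain ⟨n, H, h0, hn, hmono, hnorm, hfac⟩ := hsol
  by_contra hne
  have key : ∀ i : Fin (n + 1), H i = ⊥ := by
    intro i
    induction i using Fin.induction with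
    | zero => exact h0
    | succ i ih =>
      by_contra hb
      refine hne ⟨H i.succ, hnorm _, hb, ?_⟩
      rcases hfac i with ⟨m, hm⟩ | hm <;> rw [ih, relIndex_bot_left] at hm
      · exact Or.inl (IsPGroup.of_card hm)
      · exact Or.inr hm
  exact bot_ne_top ((key _).symm.trans hn)

theorem pair_of_hyp_qSolvable (hpq : p ≠ q) (hsol : IsPSolvable q G) (h : Hyp p q G) :
    ∃ (P : Sylow p G) (Q : Sylow q G), (P : Subgroup G) ≤ normalizer ((Q : Subgroup G) : Set G) := by
  induction hn : Nat.card G using Nat.strong_induction_on generalizing G with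
  | _ n ih =>
  subst hn
  rcases subsingleton_or_nontrivial G with hs | hs
  · obtain ⟨P⟩ := (Sylow.nonempty : Nonempty (Sylow p G))
    obtain ⟨Q⟩ := (Sylow.nonempty : Nonempty (Sylow q G))
    exact ⟨P, Q, fun a _ => by rw [Subsingleton.elim a 1]; exact one_mem _⟩
  obtain ⟨N, hNn, hN, hcase⟩ := exists_normal hsol
  have hlt : Nat.card (G ⧸ N) < Nat.card G := by
    rw [← Subgroup.index_eq_card, ← N.card_mul_index]
    exact lt_mul_of_one_lt_left (Nat.pos_of_ne_zero index_ne_zero_of_finite)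
      (N.one_lt_card_iff_ne_bot.2 hN)
  obtain ⟨P₁, Q₁, hPQ⟩ := ih _ hlt (CfsgLib.PLocal.isPSolvable_quotient hsol N)
    (hyp_quotient h N) rfl
  obtain ⟨P, hP⟩ := Sylow.mapSurjective_surjective (QuotientGroup.mk'_surjective N) p P₁
  obtain ⟨Q, hQ⟩ := Sylow.mapSurjective_surjective (QuotientGroup.mk'_surjective N) q Q₁
  have hnorm : ∀ a ∈ (P : Subgroup G), ∀ y ∈ (Q : Subgroup G),
      a * y * a⁻¹ ∈ (Q : Subgroup G) ⊔ N := by
    intro a ha y hy
    have h1 : (QuotientGroup.mk' N) a ∈ (P₁ : Subgroup _) := by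
      rw [← hP, Sylow.coe_mapSurjective]; exact mem_map_of_mem _ ha
    have h2 : (QuotientGroup.mk' N) y ∈ (Q₁ : Subgroup _) := by
      rw [← hQ, Sylow.coe_mapSurjective]; exact mem_map_of_mem _ hy
    have h3 := (mem_normalizer_iff.1 (hPQ h1) _).1 h2
    rw [← hQ, Sylow.coe_mapSurjective, ← map_inv, ← map_mul, ← map_mul] at h3
    have : a * y * a⁻¹ ∈ ((Q : Subgroup G).map (QuotientGroup.mk' N)).comap
        (QuotientGroup.mk' N) := h3
    rwa [comap_map_eq, QuotientGroup.ker_mk'] at this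
  rcases hcase with hq | hq
  · have hNQ : N ≤ (Q : Subgroup G) :=
      (CfsgLib.Core.le_pCore hq).trans (CfsgLib.Core.pCore_le_sylow Q)
    refine ⟨P, Q, fun a ha => mem_normalizer_iff.2 fun y => ⟨fun hy => ?_, fun hy => ?_⟩⟩
    · simpa [sup_eq_left.2 hNQ] using hnorm a ha y hy
    · have := hnorm a⁻¹ (inv_mem ha) _ hy
      simpa [sup_eq_left.2 hNQ, mul_assoc] using this
  -- `N` has order prime to `q`
  set A := normalizer ((Q : Subgroup G) : Set G) with hA
  have hPW : (P : Subgroup G) ≤ A ⊔ N := by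
    intro a ha
    set M := (Q : Subgroup G) ⊔ N with hM
    have hle : MulAut.conj a • (Q : Subgroup G) ≤ M := by
      intro z hz
      rw [mem_pointwise_smul_iff_inv_smul_mem] at hz
      have := hnorm a ha _ hz
      simpa [mul_assoc] using this
    obtain ⟨⟨m, hm⟩, hmeq⟩ := MulAction.exists_smul_eq M (Q.subtype le_sup_left)
      ((a • Q).subtype (by rw [Sylow.coe_subgroup_smul]; exact hle))
    rw [Sylow.smul_subtype] at hmeq
    have hQe : m • Q = a • Q := Sylow.subtype_injective hmeq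
    rw [hM, CfsgLib.Core.mem_sup_iff_mul' (H := (Q : Subgroup G)) (N := N)
      (le_normalizer_of_normal)] at hm
    obtain ⟨w, hw, b, hb, rfl⟩ := hm
    have hb1 : b • Q = Q := Sylow.smul_eq_iff_mem_normalizer.2 (le_normalizer hb)
    rw [mul_smul, hb1] at hQe
    have hmem : w⁻¹ * a ∈ A := Sylow.smul_eq_iff_mem_normalizer.1
      (by rw [mul_smul, ← hQe, inv_smul_smul])
    rw [← mul_inv_cancel_left w a]
    exact mul_mem (mem_sup_right hw) (mem_sup_left hmem)
  -- a `Q`-invariant Sylow subgroup of `N` is centralized by `Q`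
  have hcop : ∀ B : Subgroup G, IsPGroup q B → (Nat.card B).Coprime (Nat.card N) := by
    intro B hB
    obtain ⟨k, hk⟩ := IsPGroup.iff_card.1 hB
    rw [hk]
    exact (Nat.Coprime.symm hq).pow_left k
  have hQsolv : Group.IsSolvable (Q : Subgroup G) := by
    have := Q.isPGroup'.isNilpotent
    infer_instance
  obtain ⟨S, hS⟩ := CfsgLib.Core.exists_invariant_sylow (A := (Q : Subgroup G)) (K := N)
    le_normalizer_of_normal (hcop _ Q.isPGroup') (Or.inl hQsolv) p
  have hSA : (S : Subgroup N).map N.subtype ≤ A := by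
    intro s hs
    refine centralizer_le_normalizer _ ?_
    rw [mem_centralizer_iff]
    intro y hy
    obtain ⟨k, hk⟩ := (IsPGroup.iff_orderOf.1 Q.isPGroup') ⟨y, hy⟩
    rw [← Subgroup.orderOf_coe] at hk
    obtain ⟨R, hR⟩ := exists_sylow_le (p := p) (h y ⟨k, hk⟩)
    obtain ⟨T, hT⟩ : ∃ T : Sylow p N, (T : Subgroup N).map N.subtype ≤ (R : Subgroup G) := by
      have hp' : IsPGroup p ((R : Subgroup G).subgroupOf N) :=
        R.isPGroup'.comap_of_injective N.subtype N.subtype_injective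
      obtain ⟨T, hT⟩ := hp'.exists_le_sylow
      refine ⟨T, ?_⟩
      obtain ⟨R', hR'⟩ := (T.isPGroup'.map N.subtype).exists_le_sylow
      obtain ⟨g, hg⟩ := MulAction.exists_smul_eq G R' R
      have hcard : Nat.card (T : Subgroup N) ≤ Nat.card ((R : Subgroup G).subgroupOf N) := by
        rw [Nat.card_congr ((T : Subgroup N).equivMapOfInjective _ N.subtype_injective).toEquiv]
        refine Nat.card_le_card_of_injective (fun z => ⟨⟨g * z.1 * g⁻¹,
          Subgroup.Normal.conj_mem ‹_› _ (map_subtype_le _ z.2) g⟩, ?_⟩) fun z z' he => ?_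
        · show g * z.1 * g⁻¹ ∈ (R : Subgroup G)
          rw [← hg, Sylow.coe_subgroup_smul, mem_pointwise_smul_iff_inv_smul_mem]
          simpa [mul_assoc] using hR' z.2
        · have : g * z.1 * g⁻¹ = g * z'.1 * g⁻¹ := congrArg (fun w => (w.1 : G)) he
          exact Subtype.ext (by simpa using this)
      rw [← eq_of_le_of_card_ge hT hcard]
      exact map_comap_le _ _
    have hinv : ∀ {B : Subgroup G}, zpowers y ≤ centralizer (B : Set G) →
        zpowers y ≤ normalizer (B : Set G) := fun hB => hB.trans (centralizer_le_normalizer _)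
    have hTc : zpowers y ≤ centralizer ((T : Subgroup N).map N.subtype : Set G) := by
      rw [zpowers_le, mem_centralizer_iff]
      exact fun z hz => (mem_centralizer_iff.1 (hR (hT hz)) y rfl).symm
    obtain ⟨c, hc, hcT⟩ := CfsgLib.Core.invariant_sylow_conj (A := zpowers y) (K := N)
      le_normalizer_of_normal (hcop _ (IsPGroup.of_card (n := k) (by rw [Nat.card_zpowers, hk])))
      (Or.inl inferInstance) T S (hinv hTc)
      ((zpowers_le.2 hy).trans hS)
    rw [← hcT] at hs
    obtain ⟨z, hz, rfl⟩ := hs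
    rw [Sylow.coe_subgroup_smul, SetLike.mem_coe, mem_pointwise_smul_iff_inv_smul_mem] at hz
    have h1 : Commute (((MulAut.conj c)⁻¹ • z : N) : G) y :=
      mem_centralizer_iff.1 (hTc (mem_zpowers y)) _ (mem_map_of_mem N.subtype hz)
    have h2 : Commute y (c : G) := mem_centralizer_iff.1 hc y (mem_zpowers y)
    have h3 : (z : G) = (c : G) * (((MulAut.conj c)⁻¹ • z : N) : G) * (c : G)⁻¹ := by
      simp [mul_assoc]
    show y * (z : G) = z * y
    rw [h3]
    exact ((h2.mul_right h1.symm).mul_right h2.inv_right).eq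
  obtain ⟨P', hP'⟩ := exists_sylow_le (p := p) (A := A) (by
    intro hd
    rw [← relIndex_mul_index (le_sup_left : A ≤ A ⊔ N)] at hd
    rcases (Fact.out : p.Prime).dvd_mul.1 hd with h1 | h1
    · rw [relIndex_sup_eq] at h1
      have h2 := h1.trans (relIndex_dvd_of_le_left N hSA)
      rw [relIndex, subgroupOf, comap_map_eq_self_of_injective N.subtype_injective] at h2
      exact S.not_dvd_index h2
    · exact P.not_dvd_index (h1.trans (index_dvd_of_le hPW)))
  exact ⟨P', Q, hP'⟩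

end CfsgLib.SylowNorm
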