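import Cfsg.Agent.Lib.CharDegree.Basic

/-!
# Characters of `p'`-degree over a linear character of a Sylow subgroup
-/

namespace CfsgLib.CharDegree

open scoped ComplexConjugate
open CfsgLib.Char

variable {G : Type*} [Group G] [Fintype G] {p : ℕ} [Fact p.Prime]

/-- Every linear character of a Sylow subgroup lies under a character of `p'`-degree. -/
theorem exists_not_dvd_over_sylow (P : Sylow p G) [Fintype (P : Subgroup G)]
    (θ : Cfsg.IrrCharacter (P : Subgroup G))
    (hθ : Cfsg.charDegree (θ : ↥(P : Subgroup G) → ℂ) = 1) :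
    ∃ χ : Cfsg.IrrCharacter G, ¬ p ∣ Cfsg.charDegree (χ : G → ℂ) ∧
      Cfsg.classInner (fun x : (P : Subgroup G) => (χ : G → ℂ) x) (θ : ↥(P : Subgroup G) → ℂ) ≠ 0 := by
  classical
  have := Fintype.ofFinite (Cfsg.IrrCharacter G)
  have hm : ∀ χ : Cfsg.IrrCharacter G, ∃ m : ℕ,
      Cfsg.classInner (fun x : (P : Subgroup G) => (χ : G → ℂ) x) (θ : ↥(P : Subgroup G) → ℂ) = m :=
    fun χ => IsChar.classInner_eq_natCast (IsChar.restrict _ (IsIrr.isCharacter χ.2))
      (IsIrr.isCharacter θ.2)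
  choose m hm using hm
  have hsum : ∑ χ : Cfsg.IrrCharacter G, Cfsg.charDegree (χ : G → ℂ) * m χ =
      (P : Subgroup G).index := by
    apply Nat.cast_injective (R := ℂ)
    push_cast
    have h1 : ∀ χ : Cfsg.IrrCharacter G, (Cfsg.charDegree (χ : G → ℂ) : ℂ) * m χ =
        (Nat.card (P : Subgroup G) : ℂ)⁻¹ * ∑ x : (P : Subgroup G),
          conj ((θ : ↥(P : Subgroup G) → ℂ) x) * ((χ : G → ℂ) 1 * (χ : G → ℂ) x) := fun χ => by
      rw [← hm, cast_irrDegree, Cfsg.classInner, mul_left_comm, Finset.mul_sum]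
      congr 1
      exact Finset.sum_congr rfl fun x _ => by ring
    rw [Finset.sum_congr rfl fun χ _ => h1 χ, ← Finset.mul_sum, Finset.sum_comm,
      Fintype.sum_eq_single (1 : (P : Subgroup G)) fun x hx => by
        rw [← Finset.mul_sum, sum_degree_mul_apply_of_ne_one (fun h => hx (Subtype.ext h)),
          mul_zero]]
    rw [← Finset.mul_sum, OneMemClass.coe_one]
    simp only [← sq, sum_sq_degree]
    rw [← cast_irrDegree θ, hθ, Nat.cast_one, map_one, one_mul,
      ← (P : Subgroup G).card_mul_index, Nat.cast_mul, ← mul_assoc,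
      inv_mul_cancel₀ (Nat.cast_ne_zero.2 Nat.card_pos.ne'), one_mul]
  by_contra hno
  push Not at hno
  refine Sylow.not_dvd_index P (hsum ▸ Finset.dvd_sum fun χ _ => ?_)
  by_cases hd : p ∣ Cfsg.charDegree (χ : G → ℂ)
  · exact hd.mul_right _
  · have h0 := hno χ hd
    rw [hm, Nat.cast_eq_zero] at h0
    simp [h0]

end CfsgLib.CharDegree
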