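import Cfsg.Agent.Lib.CharDegree.Counting
import Mathlib.GroupTheory.Sylow

/-!
# Large `p`-parts of degrees from missing products of two classes
-/

namespace CfsgLib.CharDegree

open scoped ComplexConjugate
open CfsgLib.Char

variable {G : Type*} [Group G] [Finite G]

/-- If no nontrivial element of the `p`-subgroup `P` is the product of an element of the class of
`x` and one of the class of `x⁻¹`, then some degree has large `p`-part. -/
theorem exists_pow_dvd_charDegree {p : ℕ} [Fact p.Prime] (x : G) (P : Subgroup G) {c : ℕ}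
    (hP : Nat.card P = p ^ c)
    (hno : ∀ a b : G, ∀ z ∈ P, z ≠ 1 → a * x * a⁻¹ * (b * x⁻¹ * b⁻¹ * z) ≠ 1) {a : ℕ}
    (ha : (Nat.card (Subgroup.centralizer ({x} : Set G))).factorization p = a) :
    ∃ χ : Cfsg.IrrCharacter G, p ^ (c - a) ∣ Cfsg.charDegree (χ : G → ℂ) := by
  classical
  have := Fintype.ofFinite G
  have := Fintype.ofFinite P
  have := Fintype.ofFinite (Cfsg.IrrCharacter G)
  have hp := Fact.out (p := p.Prime)
  by_contra hne
  push Not at hne
  have hca : a < c := by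
    by_contra h
    exact hne (trivChar G) (by rw [Nat.sub_eq_zero_of_le (by omega), pow_zero]; exact one_dvd _)
  set C := Nat.card (Subgroup.centralizer ({x} : Set G)) with hC
  have hN : (Nat.card G : ℂ) ≠ 0 := Nat.cast_ne_zero.mpr Nat.card_pos.ne'
  have hzero : ∀ z : P, z ≠ 1 → ∑ χ : Cfsg.IrrCharacter G,
      (χ : G → ℂ) x * (χ : G → ℂ) x⁻¹ * (χ : G → ℂ) z / (χ : G → ℂ) 1 = 0 := by
    intro z hz
    have h := sum_three x x⁻¹ (z : G)
    have hempty : IsEmpty {p : G × G // p.1 * x * p.1⁻¹ * (p.2 * x⁻¹ * p.2⁻¹ * z) = 1} :=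
      ⟨fun p => hno p.1.1 p.1.2 z z.2 (fun h1 => hz (Subtype.ext h1)) p.2⟩
    rw [@Nat.card_of_isEmpty {p : G × G // p.1 * x * p.1⁻¹ * (p.2 * x⁻¹ * p.2⁻¹ * (z : G)) = 1} hempty,
      Nat.cast_zero, mul_eq_zero] at h
    exact h.resolve_left hN
  -- multiplicity of the trivial character on `P`
  have hm : ∀ χ : Cfsg.IrrCharacter G, ∃ m : ℕ, ∑ z : P, (χ : G → ℂ) z = (p ^ c : ℕ) * (m : ℂ) := by
    intro χ
    obtain ⟨m, hm⟩ := IsChar.classInner_eq_natCast (G := P)
      (IsChar.restrict P (IsIrr.isCharacter χ.2)) isCharacter_one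
    refine ⟨m, ?_⟩
    rw [← hP, ← hm, Cfsg.classInner, mul_inv_cancel_left₀ (Nat.cast_ne_zero.mpr Nat.card_pos.ne')]
    simp
  choose m hm using hm
  have hmain : ((p ^ c : ℕ) : ℂ) * ∑ χ : Cfsg.IrrCharacter G,
      (m χ : ℂ) * ((χ : G → ℂ) x * (χ : G → ℂ) x⁻¹ / (χ : G → ℂ) 1) = (C : ℂ) := by
    calc _ = ∑ χ : Cfsg.IrrCharacter G, ∑ z : P,
          (χ : G → ℂ) x * (χ : G → ℂ) x⁻¹ * (χ : G → ℂ) z / (χ : G → ℂ) 1 := by
          rw [Finset.mul_sum]
          refine Finset.sum_congr rfl fun χ _ => ?_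
          rw [← mul_assoc, ← hm, Finset.sum_mul]
          exact Finset.sum_congr rfl fun z _ => by ring
      _ = ∑ χ : Cfsg.IrrCharacter G,
          (χ : G → ℂ) x * (χ : G → ℂ) x⁻¹ * (χ : G → ℂ) (1 : P) / (χ : G → ℂ) 1 := by
          rw [Finset.sum_comm, Finset.sum_eq_single (1 : P) (fun z _ hz => hzero z hz) (by simp)]
      _ = _ := by
          have h := column_orthogonality x x
          rw [if_pos (IsConj.refl x)] at h
          rw [hC, ← h]
          refine Finset.sum_congr rfl fun χ _ => ?_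
          rw [OneMemClass.coe_one, mul_div_cancel_right₀ _ (IsIrr.apply_one_ne_zero χ.2),
            IsIrr.map_inv χ.2]
  -- clear denominators with a multiple of the degrees
  set L := p ^ (c - a - 1) * (Nat.card G / p ^ (Nat.card G).factorization p) with hL
  have hdvd : ∀ χ : Cfsg.IrrCharacter G, Cfsg.charDegree (χ : G → ℂ) ∣ L := by
    intro χ
    have hd := charDegree_dvd_card χ
    have hd0 := (charDegree_pos χ).ne'
    have hle : (Cfsg.charDegree (χ : G → ℂ)).factorization p ≤ c - a - 1 := by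
      by_contra h
      exact hne χ ((Nat.Prime.pow_dvd_iff_le_factorization hp hd0).mpr (by omega))
    rw [← Nat.ordProj_mul_ordCompl_eq_self (Cfsg.charDegree (χ : G → ℂ)) p]
    exact mul_dvd_mul (pow_dvd_pow p hle) (Nat.ordCompl_dvd_ordCompl_of_dvd hd p)
  have hkey : p ^ c ∣ C * L := by
    refine CharIntegral.dvd_of_isIntegral_div (pow_ne_zero _ hp.ne_zero) ?_
    have hpc : ((p ^ c : ℕ) : ℂ) ≠ 0 := Nat.cast_ne_zero.mpr (pow_ne_zero _ hp.ne_zero)
    rw [Nat.cast_mul, ← hmain, mul_assoc, mul_div_cancel_left₀ _ hpc, Finset.sum_mul]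
    refine IsIntegral.sum _ fun χ _ => ?_
    obtain ⟨e, he⟩ := hdvd χ
    rw [show (m χ : ℂ) * ((χ : G → ℂ) x * (χ : G → ℂ) x⁻¹ / (χ : G → ℂ) 1) * (L : ℂ) =
      ((m χ * e : ℕ) : ℂ) * ((χ : G → ℂ) x * (χ : G → ℂ) x⁻¹) by
        rw [he, Nat.cast_mul, Nat.cast_mul, cast_irrDegree]
        field_simp [IsIrr.apply_one_ne_zero χ.2]]
    exact (isIntegral_algebraMap (R := ℤ) (x := ((m χ * e : ℕ) : ℤ))).mul
      ((IsChar.isIntegral (IsIrr.isCharacter χ.2) _).mul
        (IsChar.isIntegral (IsIrr.isCharacter χ.2) _)) |> fun h => by simpa using h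
  have hC0 : C ≠ 0 := Nat.card_pos.ne'
  have hG0 : Nat.card G / p ^ (Nat.card G).factorization p ≠ 0 :=
    (Nat.ordCompl_pos p Nat.card_pos.ne').ne'
  rw [Nat.Prime.pow_dvd_iff_le_factorization hp (Nat.mul_ne_zero hC0
    (Nat.mul_ne_zero (pow_ne_zero _ hp.ne_zero) hG0)), Nat.factorization_mul hC0
    (Nat.mul_ne_zero (pow_ne_zero _ hp.ne_zero) hG0),
    Nat.factorization_mul (pow_ne_zero _ hp.ne_zero) hG0, Nat.factorization_pow,
    hp.factorization] at hkey
  simp only [Finsupp.add_apply, Finsupp.smul_apply, Finsupp.single_eq_same, smul_eq_mul, mul_one,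
    ha, Nat.factorization_eq_zero_of_not_dvd (Nat.not_dvd_ordCompl hp Nat.card_pos.ne')] at hkey
  omega

/-- The defect-zero form of `exists_pow_dvd_charDegree`. -/
theorem exists_defectZero {p : ℕ} [Fact p.Prime] (x : G)
    (hx : ¬ p ∣ Nat.card (Subgroup.centralizer ({x} : Set G)))
    (hno : ∀ a b z : G, z ≠ 1 → (∃ k : ℕ, orderOf z = p ^ k) →
      a * x * a⁻¹ * (b * x⁻¹ * b⁻¹ * z) ≠ 1) :
    ∃ χ : Cfsg.IrrCharacter G,
      (Cfsg.charDegree (χ : G → ℂ)).factorization p = (Nat.card G).factorization p := by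
  have hp := Fact.out (p := p.Prime)
  obtain ⟨P⟩ := (inferInstance : Nonempty (Sylow p G))
  have hP := P.card_eq_multiplicity
  obtain ⟨χ, hχ⟩ := exists_pow_dvd_charDegree (a := 0) x (P : Subgroup G) hP
    (fun a b z hz hz1 => hno a b z hz1 (by
      obtain ⟨k, hk⟩ := IsPGroup.iff_orderOf.mp P.isPGroup' ⟨z, hz⟩
      exact ⟨k, by rwa [Subgroup.orderOf_mk] at hk⟩))
    (Nat.factorization_eq_zero_of_not_dvd hx)
  refine ⟨χ, le_antisymm ?_ ?_⟩
  · exact (Nat.factorization_le_iff_dvd (charDegree_pos χ).ne' Nat.card_pos.ne').mpr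
      (charDegree_dvd_card χ) p
  · rw [Nat.sub_zero] at hχ
    exact (Nat.Prime.pow_dvd_iff_le_factorization hp (charDegree_pos χ).ne').mp hχ

end CfsgLib.CharDegree
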