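import Cfsg.Agent.Lib.Char.RealForm
import Cfsg.Agent.Lib.CharDegree.IndicatorVal
import Mathlib.LinearAlgebra.Matrix.Trace

/-!
# Fixed points of a character with indicator `-1`

An invariant alternating form restricts to a nondegenerate form on the fixed points of a subgroup,
so these have even dimension.
-/

namespace CfsgLib.CharDegree

open CfsgLib.Char Module Matrix

variable {G : Type*} [Group G] [Fintype G]

/-- A skew form on the range of a compatible idempotent has even rank. -/
theorem even_trace_of_skew {n : ℕ} (M e : Matrix (Fin n) (Fin n) ℂ) (hu : IsUnit M.det)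
    (hskew : Mᵀ = -M) (hee : e * e = e) (hcomm : eᵀ * M = M * e) :
    ∃ a : ℕ, Even a ∧ e.trace = a := by
  classical
  let W := LinearMap.range (Matrix.toLin' e)
  let b := Module.finBasis ℂ W
  set a := finrank ℂ W
  let i : (Fin a → ℂ) →ₗ[ℂ] (Fin n → ℂ) := W.subtype ∘ₗ b.equivFun.symm.toLinearMap
  let q : (Fin n → ℂ) →ₗ[ℂ] (Fin a → ℂ) :=
    b.equivFun.toLinearMap ∘ₗ (Matrix.toLin' e).rangeRestrict
  set U : Matrix (Fin n) (Fin a) ℂ := LinearMap.toMatrix' i
  set V : Matrix (Fin a) (Fin n) ℂ := LinearMap.toMatrix' q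
  have hUV : U * V = e := by
    rw [← LinearMap.toMatrix'_comp]
    have : i ∘ₗ q = Matrix.toLin' e := LinearMap.ext fun v => by simp [i, q]
    rw [this, LinearMap.toMatrix'_toLin']
  have hVU : V * U = 1 := by
    rw [← LinearMap.toMatrix'_comp]
    have : q ∘ₗ i = LinearMap.id := LinearMap.ext fun v => by
      apply b.equivFun.symm.injective
      refine Subtype.ext ?_
      obtain ⟨u, hu⟩ := LinearMap.mem_range.1 (b.equivFun.symm v).2
      have h1 : Matrix.toLin' e ((b.equivFun.symm v : W) : Fin n → ℂ) = (b.equivFun.symm v : W) := by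
        rw [← hu]
        show Matrix.toLin' e (Matrix.toLin' e u) = _
        rw [← LinearMap.comp_apply, ← Matrix.toLin'_mul, hee]
      simpa [i, q] using h1
    rw [this, LinearMap.toMatrix'_id]
  refine ⟨a, ?_, ?_⟩
  · have hB : (Uᵀ * M * U) * (V * M⁻¹ * Vᵀ) = 1 := by
      calc (Uᵀ * M * U) * (V * M⁻¹ * Vᵀ) = Uᵀ * (M * (U * V)) * M⁻¹ * Vᵀ := by
            simp only [Matrix.mul_assoc]
        _ = Uᵀ * ((eᵀ * M) * M⁻¹) * Vᵀ := by rw [hUV, ← hcomm]; simp only [Matrix.mul_assoc]
        _ = (V * U * (V * U))ᵀ := by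
          rw [Matrix.mul_nonsing_inv_cancel_right _ _ hu]
          simp only [Matrix.transpose_mul, ← hUV, Matrix.mul_assoc]
        _ = 1 := by rw [hVU, one_mul, Matrix.transpose_one]
    have hsk : (Uᵀ * M * U)ᵀ = -(Uᵀ * M * U) := by
      simp [Matrix.transpose_mul, hskew, Matrix.mul_assoc]
    have h1 := congrArg Matrix.det hsk
    rw [Matrix.det_transpose, Matrix.det_neg, Fintype.card_fin] at h1
    have hne : (Uᵀ * M * U).det ≠ 0 := fun h0 => by
      have := congrArg Matrix.det hB
      rw [Matrix.det_mul, h0, zero_mul, Matrix.det_one] at this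
      exact zero_ne_one this
    by_contra hodd
    rw [Nat.not_even_iff_odd] at hodd
    rw [hodd.neg_one_pow, neg_one_mul, eq_neg_iff_add_eq_zero, ← two_mul, mul_eq_zero] at h1
    exact hne (h1.resolve_left two_ne_zero)
  · rw [← hUV, Matrix.trace_mul_comm, hVU, Matrix.trace_one, Fintype.card_fin]

/-- If the indicator is `-1`, every subgroup has a fixed space of even dimension. -/
theorem even_fixed_of_fsInd_neg (χ : Cfsg.IrrCharacter G) (hν : fsInd (χ : G → ℂ) = -1)
    (P : Subgroup G) [Fintype P] :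
    ∃ a : ℕ, Even a ∧ (Nat.card P : ℂ)⁻¹ * ∑ x : P, (χ : G → ℂ) x = a := by
  classical
  obtain ⟨n, ρ, hρ, hχ, -⟩ := exists_rep χ
  rw [← hχ] at hν ⊢
  have hreal : ∀ g, (ρ.character g).im = 0 := by
    by_contra h
    push Not at h
    rw [(fsInd_trichotomy ρ).2.mpr h] at hν
    norm_num at hν
  obtain ⟨M, hu, hM⟩ := exists_invariant_form ρ hreal
  have hsk : Mᵀ = -M := by
    have h := invariant_form_transpose ρ hreal M hM
    rwa [hν, neg_one_smul] at h
  set R := matHom ρ
  set e : Matrix (Fin n) (Fin n) ℂ := (Nat.card P : ℂ)⁻¹ • ∑ x : P, R x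
  have hinv : ∀ g, (R g)ᵀ * M = M * R g⁻¹ := fun g => by
    conv_rhs => rw [← hM g]
    rw [mul_assoc, map_mul_inv_cancel, mul_one]
  have hcomm : eᵀ * M = M * e := by
    rw [Matrix.transpose_smul, Matrix.smul_mul, Matrix.mul_smul, Matrix.transpose_sum,
      Finset.sum_mul, Finset.mul_sum]
    congr 1
    exact Fintype.sum_equiv (Equiv.inv P) _ _ fun x => by simp [hinv]
  have hee : e * e = e := by
    rw [Matrix.smul_mul, Matrix.mul_smul, Finset.sum_mul_sum]
    have hrow : ∀ x : P, ∑ y : P, R x * R y = ∑ y : P, R y := fun x =>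
      Fintype.sum_equiv (Equiv.mulLeft x) _ _ fun y => by simp [map_mul]
    rw [Finset.sum_congr rfl fun x _ => hrow x, Finset.sum_const, Finset.card_univ,
      ← Nat.card_eq_fintype_card, ← Nat.cast_smul_eq_nsmul ℂ, smul_smul, smul_smul]
    congr 1
    have : (Nat.card P : ℂ) ≠ 0 := Nat.cast_ne_zero.2 Nat.card_pos.ne'
    field_simp
  obtain ⟨a, ha, ht⟩ := even_trace_of_skew M e hu hsk hee hcomm
  refine ⟨a, ha, ?_⟩
  rw [← ht, Matrix.trace_smul, Matrix.trace_sum, smul_eq_mul]
  simp only [R, trace_matHom]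

end CfsgLib.CharDegree
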