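import Cfsg.Agent.Lib.CharAction.Galois
import Cfsg.Agent.Lib.CharDegree.Basic

/-!
# Averaging over conjugates of character values
-/

namespace CfsgLib.CharDegree

open scoped ComplexConjugate
open Module CfsgLib.Char

/-- Conjugates of a nonzero character value have product of norms at least one. -/
theorem exists_conjugates (G : Type*) [Group G] [Finite G] :
    ∃ (n : ℕ) (k : Fin n → ℕ), 0 < n ∧ (∀ i, (Nat.card G).Coprime (k i)) ∧
      ∀ (χ : G → ℂ) (g : G), Cfsg.IsCharacter G χ → χ g ≠ 0 →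
        1 ≤ ∏ i, ‖χ (g ^ k i)‖ := by
  classical
  set N := Nat.card G with hN
  have hN0 : 0 < N := Nat.card_pos
  let ζ : ℂ := Complex.exp (2 * Real.pi * Complex.I / N)
  have hζ : IsPrimitiveRoot ζ N := Complex.isPrimitiveRoot_exp N hN0.ne'
  let K : IntermediateField ℚ ℂ := IntermediateField.adjoin ℚ {ζ}
  have hfin : FiniteDimensional ℚ K :=
    IntermediateField.adjoin.finiteDimensional (IsIntegral.of_pow hN0 (by
      rw [hζ.pow_eq_one]; exact isIntegral_one))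
  let z : K := ⟨ζ, IntermediateField.mem_adjoin_simple_self ℚ ζ⟩
  have hz : IsPrimitiveRoot z N :=
    IsPrimitiveRoot.of_map_of_injective (f := K.val) hζ K.val.injective
  haveI : NeZero N := ⟨hN0.ne'⟩
  have hk : ∀ σ : K →ₐ[ℚ] ℂ, ∃ k : ℕ, k.Coprime N ∧ σ z = ζ ^ k := fun σ => by
    have h : IsPrimitiveRoot (σ z) N := hz.map_of_injective σ.injective
    obtain ⟨i, -, hi'⟩ := hζ.eq_pow_of_pow_eq_one h.pow_eq_one
    refine ⟨i, ?_, hi'.symm⟩
    rw [← hi'] at h
    exact (hζ.pow_iff_coprime hN0 i).mp h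
  choose kk hkc hke using hk
  let e := (Fintype.equivFin (K →ₐ[ℚ] ℂ)).symm
  refine ⟨Fintype.card (K →ₐ[ℚ] ℂ), fun i => kk (e i), ?_, fun i => (hkc _).symm, ?_⟩
  · exact Fintype.card_pos_iff.mpr ⟨{ K.val.toRingHom with commutes' := fun r => by simp }⟩
  intro χ g hχ hg
  obtain ⟨m, ρ, rfl⟩ := hχ
  obtain ⟨ε, hε, -, hpow, -⟩ := Char.exists_eigenvalues ρ g
  have hj : ∀ i, ∃ j : ℕ, ζ ^ j = ε i := fun i => by
    obtain ⟨d, hd⟩ := orderOf_dvd_natCard g
    obtain ⟨j, -, hj⟩ := hζ.eq_pow_of_pow_eq_one (ξ := ε i)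
      (by rw [hN, hd, pow_mul, hε i, one_pow])
    exact ⟨j, hj⟩
  choose j hj using hj
  let x : K := ∑ i, z ^ j i
  have hxv : ∀ k : ℕ, ρ.character (g ^ k) = ∑ i, (ζ ^ k) ^ j i := fun k => by
    rw [hpow]
    exact Finset.sum_congr rfl fun i _ => by rw [← hj i, ← pow_mul, ← pow_mul, Nat.mul_comm]
  have hσ : ∀ σ : K →ₐ[ℚ] ℂ, σ x = ρ.character (g ^ kk σ) := fun σ => by
    rw [hxv]; simp [x, hke σ]
  have hx0 : x ≠ 0 := fun h => hg (by
    have h2 := congrArg K.val h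
    have h1 := hxv 1
    simp only [pow_one] at h1
    rw [h1]
    simpa [x, z] using h2)
  have hxi : IsIntegral ℤ x := by
    refine IsIntegral.sum _ fun i _ => IsIntegral.pow (IsIntegral.of_pow hN0 ?_) _
    rw [hz.pow_eq_one]; exact isIntegral_one
  obtain ⟨c, hc⟩ := IsIntegrallyClosed.isIntegral_iff.mp (Algebra.isIntegral_norm ℚ hxi)
  have hprod := Algebra.norm_eq_prod_embeddings ℚ ℂ x
  have hc0 : c ≠ 0 := fun h => by
    rw [h, map_zero, eq_comm, Algebra.norm_eq_zero_iff] at hc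
    exact hx0 hc
  rw [Equiv.prod_comp e fun σ => ‖ρ.character (g ^ kk σ)‖, ← norm_prod,
    ← Finset.prod_congr rfl (fun σ _ => hσ σ), ← hprod, ← hc]
  simp only [eq_intCast, map_intCast, Complex.norm_intCast]
  exact_mod_cast Int.one_le_abs hc0

variable {G : Type*} [Group G] [Finite G]

theorem apply_pow_ne_zero {χ : G → ℂ} (hχ : Cfsg.IsCharacter G χ) {k : ℕ}
    (hk : (Nat.card G).Coprime k) {g : G} (h : χ g ≠ 0) : χ (g ^ k) ≠ 0 :=
  fun h0 => h (CharAction.eq_zero_of_pow_eq_zero hχ hk h0)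


/-- Sums of even or odd powers of the norms of nonzero values over a set closed under Galois
action are at least its size. -/
theorem card_le_sum_pow {χ : G → ℂ} (hχ : Cfsg.IsCharacter G χ) (T : Finset G) (e : ℕ)
    (hT : ∀ g ∈ T, ∀ k : ℕ, (Nat.card G).Coprime k → g ^ k ∈ T)
    (hne : ∀ g ∈ T, χ g ≠ 0) : (T.card : ℝ) ≤ ∑ g ∈ T, ‖χ g‖ ^ e := by
  classical
  obtain ⟨n, k, hn, hk, hprod⟩ := exists_conjugates G
  have h1 : ∀ g ∈ T, (n : ℝ) ≤ ∑ i, ‖χ (g ^ k i)‖ ^ e := fun g hg => by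
    have h := CharAction.card_le_sum_of_one_le_prod (Finset.univ : Finset (Fin n))
      (fun i => ‖χ (g ^ k i)‖ ^ e)
      (fun i _ => pow_pos (norm_pos_iff.mpr (apply_pow_ne_zero hχ (hk i) (hne g hg))) e)
      (by rw [Finset.prod_pow]; exact one_le_pow₀ (hprod χ g hχ (hne g hg)))
    simpa using h
  have h2 := Finset.sum_le_sum h1
  have h3 : ∀ i, ∑ g ∈ T, ‖χ (g ^ k i)‖ ^ e = ∑ g ∈ T, ‖χ g‖ ^ e := fun i => by
    rw [← Finset.sum_image (g := fun g : G => g ^ k i) (f := fun g => ‖χ g‖ ^ e)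
      (fun a _ b _ h => (powCoprime (hk i)).injective h)]
    refine Finset.sum_congr (Finset.eq_of_subset_of_card_le (Finset.image_subset_iff.mpr
      fun g hg => hT g hg _ (hk i)) ?_) fun _ _ => rfl
    exact (Finset.card_image_of_injective T
      (f := fun g : G => g ^ k i) fun a b h => (powCoprime (hk i)).injective h).ge
  rw [Finset.sum_const, nsmul_eq_mul, Finset.sum_comm, Finset.sum_congr rfl fun i _ => h3 i,
    Finset.sum_const, nsmul_eq_mul, Finset.card_univ, Fintype.card_fin, mul_comm] at h2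
  exact le_of_mul_le_mul_left h2 (Nat.cast_pos.mpr hn)

theorem pow_mem_iff (H : Subgroup G) {k : ℕ} (hk : (Nat.card G).Coprime k) {g : G} :
    g ^ k ∈ H ↔ g ∈ H := by
  refine ⟨fun h => ?_, fun h => H.pow_mem h k⟩
  obtain ⟨r, hr⟩ := exists_pow_eq_self_of_coprime (x := g)
    (hk.coprime_dvd_left (orderOf_dvd_natCard g)).symm
  rw [← hr]
  exact H.pow_mem h r

end CfsgLib.CharDegree
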