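import Cfsg.Agent.Lib.CharDegree.Basic
import Cfsg.Agent.Lib.Char.CliffordRestrict
import Cfsg.Agent.Lib.Char.Exceptional.NormalInd
import Cfsg.Agent.Lib.Core.MinNormal
import Cfsg.Agent.Lib.Core.Cores
import Cfsg.Agent.Lib.Components.Radicals

/-!
# Characters of larger degree (Broline, Garrison) and the nilpotent length

If the kernel `K` of an irreducible character `χ` is not in the Fitting subgroup, or is the
Fitting subgroup with solvable nontrivial quotient, some irreducible `ψ` has larger degree and a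
smaller kernel.
-/

namespace CfsgLib.Garrison

open CfsgLib.Char CfsgLib.CharDegree
open scoped Classical ComplexConjugate Pointwise

variable {G : Type*} [Group G] [Finite G]

/-- The main step: `P` is a Sylow subgroup of `U ⊇ K`, not normal in `G`, with `U = KP`. -/
theorem exists_larger (χ : Cfsg.IrrCharacter G) (K U : Subgroup G) [hKn : K.Normal] [hUn : U.Normal]
    (hK : ∀ g : G, g ∈ K ↔ (χ : G → ℂ) g = (χ : G → ℂ) 1) (hKU : K ≤ U)
    {p : ℕ} [hp : Fact p.Prime] (P : Sylow p U)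
    (hUP : U ≤ K ⊔ (P : Subgroup U).map U.subtype)
    (hnn : ¬ ((P : Subgroup U).map U.subtype).Normal)
    (hR : ∀ R : Subgroup G, R.Normal → IsPGroup p R → R ≤ U → R ≤ K) :
    ∃ ψ : Cfsg.IrrCharacter G, Cfsg.charDegree (χ : G → ℂ) < Cfsg.charDegree (ψ : G → ℂ) ∧
      kerSubgroup ψ < K := by
  have := Fintype.ofFinite G
  have := Fintype.ofFinite (Cfsg.IrrCharacter G)
  set P' : Subgroup G := (P : Subgroup U).map U.subtype with hP'def
  have hP'U : P' ≤ U := Subgroup.map_subtype_le _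
  have hP'p : IsPGroup p P' := P.2.map _
  let M : Subgroup G := Subgroup.normalizer (P' : Set G)
  have := Fintype.ofFinite M
  have hP'M : P' ≤ M := Subgroup.le_normalizer
  -- a `p`-subgroup of `U` normalizing `P'` lies in it
  have hin : ∀ Q : Subgroup G, IsPGroup p Q → Q ≤ U → Q ≤ M → Q ≤ P' := by
    intro Q hQp hQU hQM x hx
    have hQ' : IsPGroup p (Q.subgroupOf U) :=
      hQp.of_equiv (Subgroup.subgroupOfEquivOfLe hQU).symm
    have h1 := hQ'.inf_normalizer_sylow P
    have h2 : (⟨x, hQU hx⟩ : U) ∈ Q.subgroupOf U ⊓ Subgroup.normalizer (P : Set U) := by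
      refine ⟨Subgroup.mem_subgroupOf.mpr hx, Subgroup.mem_normalizer_iff.mpr fun y => ?_⟩
      have h := Subgroup.mem_normalizer_iff.mp (hQM hx) (y : G)
      rw [hP'def] at h
      have e1 : ∀ z : U, (z : G) ∈ (P : Subgroup U).map U.subtype ↔ z ∈ (P : Subgroup U) :=
        fun z => Subgroup.mem_map_iff_mem Subtype.val_injective
      rw [← e1, ← e1]
      simpa using h
    rw [h1] at h2
    exact ⟨⟨x, hQU hx⟩, h2.2, rfl⟩
  -- Frattini argument
  have hGM : ∀ g : G, ∃ k ∈ K, ∃ m ∈ M, g = k * m := by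
    intro g
    have htop : Subgroup.normalizer (P' : Set G) ⊔ U = ⊤ := Sylow.normalizer_sup_eq_top P
    have hg : g ∈ M ⊔ U := by rw [show M ⊔ U = ⊤ from htop]; trivial
    have hUKM : U ≤ K ⊔ M := hUP.trans (sup_le_sup_left hP'M _)
    have hg' : g ∈ ((K : Subgroup G) : Set G) * (M : Set G) := by
      rw [← Subgroup.normal_mul]
      exact sup_le le_sup_right hUKM hg
    obtain ⟨k, hk, m, hm, e⟩ := Set.mem_mul.mp hg'
    exact ⟨k, hk, m, hm, e.symm⟩
  have hχK : ∀ k ∈ K, ∀ g, (χ : G → ℂ) (k * g) = (χ : G → ℂ) g := by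
    obtain ⟨ψ, rfl⟩ := exists_infl (N := K) χ fun g hg => (hK g).mp hg
    intro k hk g
    rw [infl_apply, infl_apply, QuotientGroup.mk_mul, (QuotientGroup.eq_one_iff k).mpr hk, one_mul]
  -- the restriction to `M` is irreducible
  let θ : Cfsg.IrrCharacter M := ⟨fun m => (χ : G → ℂ) m, by
    obtain ⟨ψ, rfl⟩ := exists_infl (N := K) χ fun g hg => (hK g).mp hg
    exact IsIrr.comp_surjective ((QuotientGroup.mk' K).comp M.subtype) (fun q => by
      induction q using QuotientGroup.induction_on with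
      | H g =>
        obtain ⟨k, hk, m, hm, rfl⟩ := hGM g
        refine ⟨⟨m, hm⟩, ?_⟩
        show (QuotientGroup.mk m : G ⧸ K) = QuotientGroup.mk (k * m)
        rw [QuotientGroup.mk_mul, (QuotientGroup.eq_one_iff k).mpr hk, one_mul]) ψ.2⟩
  have hθ : ∀ m : M, (θ : M → ℂ) m = (χ : G → ℂ) m := fun _ => rfl
  obtain ⟨mult, hmult⟩ := IsChar.exists_sum (isCharacter_indFun M (IsIrr.isCharacter θ.2))
  have hcon : ∀ ψ : Cfsg.IrrCharacter G,
      Cfsg.classInner (fun m : M => (ψ : G → ℂ) m) (θ : M → ℂ) = (mult ψ : ℂ) := by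
    intro ψ
    rw [← classInner_conj_symm, ← frobenius_reciprocity M _ (IsIrr.isClassFunction ψ.2), hmult,
      classInner_sum_irr, Complex.conj_natCast]
  -- a constituent of the same degree extends `θ`
  have hext : ∀ ψ : Cfsg.IrrCharacter G, mult ψ ≠ 0 →
      Cfsg.charDegree (χ : G → ℂ) ≤ Cfsg.charDegree (ψ : G → ℂ) ∧
      (Cfsg.charDegree (χ : G → ℂ) = Cfsg.charDegree (ψ : G → ℂ) →
        ∀ m : M, (ψ : G → ℂ) m = (χ : G → ℂ) m) ∧
      ∀ m : M, (ψ : G → ℂ) m = (ψ : G → ℂ) 1 → (m : G) ∈ K := by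
    intro ψ hψ
    have := Fintype.ofFinite (Cfsg.IrrCharacter M)
    obtain ⟨c, hc⟩ := IsChar.exists_sum (IsChar.restrict M (IsIrr.isCharacter ψ.2))
    have hcθ : c θ ≠ 0 := fun h0 => by
      have h := hcon ψ
      rw [hc, classInner_sum_irr, h0] at h
      exact hψ (by exact_mod_cast h.symm)
    have hone := congrFun hc 1
    simp only [Finset.sum_apply, Pi.smul_apply, smul_eq_mul, OneMemClass.coe_one,
      ← cast_irrDegree] at hone
    have hnat : Cfsg.charDegree (ψ : G → ℂ) =
        ∑ η, c η * Cfsg.charDegree ((η : Cfsg.IrrCharacter M) : M → ℂ) := by exact_mod_cast hone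
    have hdθ : Cfsg.charDegree (θ : M → ℂ) = Cfsg.charDegree (χ : G → ℂ) :=
      charDegree_eq_of_apply_one (cast_irrDegree χ).symm
    have hle : c θ * Cfsg.charDegree (θ : M → ℂ) ≤ Cfsg.charDegree (ψ : G → ℂ) :=
      hnat ▸ Finset.single_le_sum (f := fun η => c η * Cfsg.charDegree
        ((η : Cfsg.IrrCharacter M) : M → ℂ)) (fun _ _ => Nat.zero_le _) (Finset.mem_univ θ)
    have hpos := charDegree_pos θ
    refine ⟨?_, fun heq m => ?_, fun m hm => ?_⟩
    · rw [← hdθ]
      exact le_trans (Nat.le_mul_of_pos_left _ (Nat.pos_of_ne_zero hcθ)) hle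
    · have hθ1 : c θ = 1 := by
        rw [← heq, ← hdθ] at hle
        have : c θ ≤ 1 := Nat.le_of_mul_le_mul_right (by simpa using hle) hpos
        omega
      have hrest : ∀ η ∈ Finset.univ, η ≠ θ → c η = 0 := by
        intro η _ hη
        rw [← Finset.add_sum_erase _ _ (Finset.mem_univ θ), hθ1, one_mul, hdθ, ← heq] at hnat
        have hz : ∑ η ∈ Finset.univ.erase θ, c η * Cfsg.charDegree
            ((η : Cfsg.IrrCharacter M) : M → ℂ) = 0 := by omega
        have := Finset.sum_eq_zero_iff.mp hz η (Finset.mem_erase.mpr ⟨hη, Finset.mem_univ _⟩)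
        exact (Nat.mul_eq_zero.mp this).resolve_right (charDegree_pos η).ne'
      have hv := congrFun hc m
      simp only [Finset.sum_apply, Pi.smul_apply, smul_eq_mul] at hv
      rw [hv, Finset.sum_eq_single θ (fun η h hη => by rw [hrest η h hη]; simp) (by simp), hθ1,
        Nat.cast_one, one_mul, hθ]
    · refine (hK _).mpr ?_
      have h := Exceptional.ker_of_constituent (G := M) (m := c) (g := m) ?_ hcθ
      · exact h
      · rw [← hc]
        exact hm
  -- some constituent has larger degree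
  have hbig : ∃ ψ, mult ψ ≠ 0 ∧ Cfsg.charDegree (χ : G → ℂ) < Cfsg.charDegree (ψ : G → ℂ) := by
    by_contra hno
    push Not at hno
    have hall : ∀ ψ, mult ψ ≠ 0 → ∀ m : M, (ψ : G → ℂ) m = (χ : G → ℂ) m := fun ψ hψ =>
      (hext ψ hψ).2.1 (le_antisymm (hext ψ hψ).1 (hno ψ hψ))
    let D : Subgroup G := M.normalCore
    have hzero : ∀ x ∈ M, (χ : G → ℂ) x ≠ 0 → x ∈ D := by
      intro x hx hx0
      have hS : ∀ m : M, Cfsg.indFun M (θ : M → ℂ) m = (M.index : ℂ) * (χ : G → ℂ) m := by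
        intro m
        have h1 : ∀ m : M, Cfsg.indFun M (θ : M → ℂ) m =
            (∑ ψ, (mult ψ : ℂ)) * (χ : G → ℂ) m := by
          intro m
          rw [hmult, Finset.sum_apply, Finset.sum_mul]
          refine Finset.sum_congr rfl fun ψ _ => ?_
          rcases eq_or_ne (mult ψ) 0 with h | h
          · simp [h]
          · rw [Pi.smul_apply, smul_eq_mul, hall ψ h m]
        have h2 := h1 1
        rw [show ((1 : M) : G) = 1 from rfl, indFun_apply_one, hθ] at h2
        rw [h1 m, mul_right_cancel₀ (IsIrr.apply_one_ne_zero χ.2) h2]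
      let A := Finset.univ.filter fun y : G => y⁻¹ * x * y ∈ M
      have hA : Cfsg.indFun M (θ : M → ℂ) x =
          (Nat.card M : ℂ)⁻¹ * ((A.card : ℂ) * (χ : G → ℂ) x) := by
        simp only [Cfsg.indFun]
        congr 1
        rw [← nsmul_eq_mul, ← Finset.sum_const, ← Finset.sum_filter_add_sum_filter_not Finset.univ
          (fun y : G => y⁻¹ * x * y ∈ M), Finset.sum_eq_zero (s := Finset.univ.filter fun y : G =>
          ¬ y⁻¹ * x * y ∈ M) fun y hy => extendByZero_of_notMem M _ (Finset.mem_filter.mp hy).2,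
          add_zero]
        refine Finset.sum_congr rfl fun y hy => ?_
        rw [extendByZero_of_mem M _ (Finset.mem_filter.mp hy).2, hθ]
        simpa using IsIrr.isClassFunction χ.2 x y⁻¹
      have hcard : A.card = Fintype.card G := by
        have h := hA.symm.trans (hS ⟨x, hx⟩)
        rw [← mul_assoc] at h
        have h' := mul_right_cancel₀ hx0 h
        rw [inv_mul_eq_iff_eq_mul₀ (Nat.cast_ne_zero.mpr Nat.card_pos.ne')] at h'
        rw [← Nat.card_eq_fintype_card, ← M.card_mul_index]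
        exact_mod_cast h'
      have huniv := Finset.card_eq_iff_eq_univ A |>.mp hcard
      intro y
      have := (Finset.mem_filter.mp (huniv ▸ Finset.mem_univ y⁻¹ : y⁻¹ ∈ A)).2
      simpa using this
    -- `P' ∩ D` is a normal `p`-subgroup
    have hPD : ((P' ⊓ D : Subgroup G)).Normal := by
      refine ⟨fun x hx g => ?_⟩
      let Q : Subgroup G := (P' ⊓ D).map (MulAut.conj g).toMonoidHom
      have hQD : ∀ y ∈ Q, y ∈ U ∧ y ∈ D := by
        rintro _ ⟨z, hz, rfl⟩
        exact ⟨hUn.conj_mem z (hP'U hz.1) g, M.normalCore_normal.conj_mem z hz.2 g⟩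
      have := hin Q ((hP'p.to_le inf_le_left).map _) (fun y hy => (hQD y hy).1)
        (fun y hy => M.normalCore_le (hQD y hy).2)
      exact ⟨this ⟨x, hx, rfl⟩, (hQD _ ⟨x, hx, rfl⟩).2⟩
    have hPDK : P' ⊓ D ≤ K := hR _ hPD (hP'p.to_le inf_le_left) (inf_le_left.trans hP'U)
    -- so `P'` acts trivially
    let P₀ : Subgroup M := P'.subgroupOf M
    have hP₀ : P₀.Normal := Subgroup.normal_subgroupOf_iff hP'M |>.mpr fun h k hh hk =>
      (Subgroup.mem_normalizer_iff.mp hk h).mp hh
    have := Fintype.ofFinite P₀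
    let B := Finset.univ.filter fun n : P₀ => ((n : M) : G) ∈ K
    have hB : Cfsg.classInner (fun n : P₀ => (θ : M → ℂ) n) (fun _ => 1) ≠ 0 := by
      simp only [Cfsg.classInner, map_one, mul_one]
      refine mul_ne_zero (inv_ne_zero (Nat.cast_ne_zero.mpr Nat.card_pos.ne')) ?_
      rw [← Finset.sum_filter_add_sum_filter_not Finset.univ fun n : P₀ => ((n : M) : G) ∈ K,
        Finset.sum_congr rfl (g := fun _ => (χ : G → ℂ) 1) fun n hn =>
          (hθ _).trans ((hK _).mp (Finset.mem_filter.mp hn).2), Finset.sum_const, nsmul_eq_mul,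
        Finset.sum_eq_zero (s := Finset.univ.filter fun n : P₀ => ¬ ((n : M) : G) ∈ K) fun n hn =>
          ?_, add_zero]
      · refine mul_ne_zero (Nat.cast_ne_zero.mpr (Finset.card_ne_zero.mpr ⟨1, ?_⟩))
          (IsIrr.apply_one_ne_zero χ.2)
        simp
      · by_contra h0
        exact (Finset.mem_filter.mp hn).2
          (hPDK ⟨Subgroup.mem_subgroupOf.mp n.2, hzero _ n.1.2 h0⟩)
    have hP'K : P' ≤ K := by
      intro x hx
      have h := Clifford.restrict_eq_smul_orbit_sum hP₀ θ.2 isIrrCharacter_one hB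
      have himg : Finset.univ.image (Clifford.conjFn hP₀ (fun _ : P₀ => (1 : ℂ))) =
          {fun _ => 1} := by
        ext f
        simp only [Finset.mem_image, Finset.mem_univ, true_and, Finset.mem_singleton]
        exact ⟨by rintro ⟨g, rfl⟩; rfl, fun hf => ⟨1, hf ▸ Clifford.conjFn_one hP₀ _⟩⟩
      rw [himg, Finset.sum_singleton] at h
      have h1 := congrFun h (⟨⟨x, hP'M hx⟩, Subgroup.mem_subgroupOf.mpr hx⟩ : P₀)
      exact (hK x).mpr (h1.trans (congrFun h 1).symm)
    refine hnn ?_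
    have hle : P' ≤ D := fun x hx => hzero x (hP'M hx) (by
      rw [(hK x).mp (hP'K hx)]; exact IsIrr.apply_one_ne_zero χ.2)
    rwa [inf_eq_left.mpr hle] at hPD
  obtain ⟨ψ, hψ, hlt⟩ := hbig
  refine ⟨ψ, hlt, ?_⟩
  set L := kerSubgroup ψ with hL
  have hLn : L.Normal := kerSubgroup_normal ψ
  have hLM : ∀ x ∈ L, x ∈ M → x ∈ K := fun x hx hm =>
    (hext ψ hψ).2.2 ⟨x, hm⟩ (mem_kerSubgroup.mp hx)
  -- the kernel lies in `K`
  have hconjP : ∀ k ∈ U, (∀ y ∈ P', k * y * k⁻¹ ∈ L ⊔ P') →
      ∃ x ∈ L ⊓ U, x⁻¹ * k ∈ M := by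
    intro k hk hkP
    let V : Subgroup G := L ⊓ U ⊔ P'
    have hVU : V ≤ U := sup_le inf_le_right hP'U
    have hkV : ∀ y ∈ P', k * y * k⁻¹ ∈ V := by
      intro y hy
      have hy' : k * y * k⁻¹ ∈ ((L : Subgroup G) : Set G) * (P' : Set G) := by
        rw [← Subgroup.normal_mul]; exact hkP y hy
      obtain ⟨l, hl, q, hq, e⟩ := Set.mem_mul.mp hy'
      rw [← e]
      have hlU : l ∈ U := by
        rw [show l = k * y * k⁻¹ * q⁻¹ by rw [← e]; group]
        exact U.mul_mem (hUn.conj_mem y (hP'U hy) k) (U.inv_mem (hP'U hq))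
      exact V.mul_mem (le_sup_left (a := L ⊓ U) ⟨hl, hlU⟩) (le_sup_right (a := L ⊓ U) hq)
    let W : Subgroup U := V.subgroupOf U
    have hPW : (P : Subgroup U) ≤ W := fun z hz =>
      Subgroup.mem_subgroupOf.mpr (le_sup_right (a := L ⊓ U) ⟨z, hz, rfl⟩)
    let kU : U := ⟨k, hk⟩
    have hPW' : ((kU • P : Sylow p U) : Subgroup U) ≤ W := by
      intro z hz
      rw [Sylow.coe_subgroup_smul, Subgroup.mem_smul_pointwise_iff_exists] at hz
      obtain ⟨y, hy, rfl⟩ := hz
      exact Subgroup.mem_subgroupOf.mpr (hkV y ⟨y, hy, rfl⟩)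
    obtain ⟨w, hw⟩ := MulAction.exists_smul_eq W (P.subtype hPW) ((kU • P).subtype hPW')
    have hwP : (w : U) • P = kU • P := by
      exact Sylow.subtype_injective (hQ := hPW') ((Sylow.smul_subtype hPW w).symm.trans hw)
    have hn : (w : U)⁻¹ * kU ∈ Subgroup.normalizer (P : Set U) := by
      rw [← Sylow.smul_eq_iff_mem_normalizer, mul_smul, ← hwP, inv_smul_smul]
    have hnM : ((w : U) : G)⁻¹ * k ∈ M := by
      refine Subgroup.mem_normalizer_iff.mpr fun y => ?_
      have e1 : ∀ z : U, (z : G) ∈ P' ↔ z ∈ (P : Subgroup U) :=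
        fun z => Subgroup.mem_map_iff_mem Subtype.val_injective
      have hval : (((w : U)⁻¹ * kU : U) : G) = ((w : U) : G)⁻¹ * k := rfl
      constructor
      · intro hy
        have := (Subgroup.mem_normalizer_iff.mp hn ⟨y, hP'U hy⟩).mp ((e1 _).mp hy)
        rw [← e1] at this
        exact this
      · intro hy
        have hyU : y ∈ U := by
          have := hUn.conj_mem _ (hP'U hy) (((w : U) : G)⁻¹ * k)⁻¹
          simpa [mul_assoc] using this
        refine (e1 ⟨y, hyU⟩).mpr ((Subgroup.mem_normalizer_iff.mp hn ⟨y, hyU⟩).mpr ?_)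
        rw [← e1]
        exact hy
    have hwmem : ((w : U) : G) ∈ ((L ⊓ U : Subgroup G) : Set G) * (P' : Set G) := by
      have := hLn
      rw [← Subgroup.normal_mul]
      exact Subgroup.mem_subgroupOf.mp w.2
    obtain ⟨x, hx, q, hq, e⟩ := Set.mem_mul.mp hwmem
    refine ⟨x, hx, ?_⟩
    rw [show x⁻¹ * k = q * (((w : U) : G)⁻¹ * k) by rw [← e]; group]
    exact M.mul_mem (hP'M hq) hnM
  have hLU : L ≤ U := by
    intro l hl
    obtain ⟨k, hk, m, hm, rfl⟩ := hGM l
    obtain ⟨x, hx, hxM⟩ := hconjP k (hKU hk) fun y hy => by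
      have hmy : m * y * m⁻¹ ∈ P' := (Subgroup.mem_normalizer_iff.mp hm y).mp hy
      have : k * y * k⁻¹ = (k * m) * (m⁻¹ * y * m) * (k * m)⁻¹ := by group
      rw [this]
      have hy' : m⁻¹ * y * m ∈ P' := by
        have := (Subgroup.mem_normalizer_iff.mp (M.inv_mem hm) y).mp hy
        simpa using this
      rw [show k * m * (m⁻¹ * y * m) * (k * m)⁻¹ =
        (k * m * ((m⁻¹ * y * m) * (k * m)⁻¹ * (m⁻¹ * y * m)⁻¹)) * (m⁻¹ * y * m) by group]
      exact Subgroup.mul_mem_sup (L.mul_mem hl (hLn.conj_mem _ (L.inv_mem hl) _)) hy'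
    have hxm : x⁻¹ * k * m ∈ K := hLM _ (by
      rw [mul_assoc]; exact L.mul_mem (L.inv_mem hx.1) hl) (M.mul_mem hxM hm)
    rw [show k * m = x * (x⁻¹ * k * m) by group]
    exact U.mul_mem hx.2 (hKU hxm)
  refine lt_of_le_of_ne (fun l hl => ?_) fun heq => ?_
  · -- `U/K` is a `p`-group and `L ∩ P'` is trivial in it
    have hbot : ∀ z : L.subgroupOf U, (∃ j : ℕ, z ^ p ^ j = 1) → ((z : U) : G) ∈ K := by
      rintro z ⟨j, hz⟩
      obtain ⟨Q, hQ⟩ := (show IsPGroup p (Subgroup.zpowers z) from IsPGroup.of_card_dvd_pow (n := j) (by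
          rw [Nat.card_zpowers]; exact orderOf_dvd_of_pow_eq_one hz)).exists_le_sylow
      obtain ⟨Q', hQ'⟩ := Q.exists_comap_subtype_eq
      obtain ⟨v, hv⟩ := MulAction.exists_smul_eq U Q' P
      have hzQ : (z : U) ∈ (Q' : Subgroup U) := by
        have : z ∈ (Q : Subgroup _) := hQ (Subgroup.mem_zpowers z)
        rw [← hQ'] at this
        exact this
      have hvz : v * (z : U) * v⁻¹ ∈ (P : Subgroup U) := by
        rw [← hv, Sylow.coe_subgroup_smul, Subgroup.mem_smul_pointwise_iff_exists]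
        exact ⟨z, hzQ, rfl⟩
      have hzL : ((z : U) : G) ∈ L := Subgroup.mem_subgroupOf.mp z.2
      have hconjK : (v : G) * (z : U) * (v : G)⁻¹ ∈ K :=
        hLM _ (hLn.conj_mem _ hzL _) (hP'M ⟨_, hvz, rfl⟩)
      have := hKn.conj_mem _ hconjK (v : G)⁻¹
      simpa [mul_assoc] using this
    -- write `l` as a `p`-part and a `p'`-part
    have hlU := hLU hl
    let lU : L.subgroupOf U := ⟨⟨l, hlU⟩, Subgroup.mem_subgroupOf.mpr hl⟩
    have hpow : ∃ j : ℕ, l ^ p ^ j ∈ K := by
      have hl' : l ∈ ((K : Subgroup G) : Set G) * (P' : Set G) := by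
        rw [← Subgroup.normal_mul]; exact hUP hlU
      obtain ⟨k, hk, q, hq, rfl⟩ := Set.mem_mul.mp hl'
      obtain ⟨j, hj⟩ := hP'p ⟨q, hq⟩
      refine ⟨j, (QuotientGroup.eq_one_iff _).mp ?_⟩
      rw [QuotientGroup.mk_pow, QuotientGroup.mk_mul, (QuotientGroup.eq_one_iff k).mpr hk, one_mul,
        ← QuotientGroup.mk_pow]
      have := congrArg Subtype.val hj
      simp only [SubmonoidClass.coe_pow, OneMemClass.coe_one] at this
      rw [this, QuotientGroup.mk_one]
    obtain ⟨j, hj⟩ := hpow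
    obtain ⟨e, r, hr, hord⟩ := Nat.exists_eq_pow_mul_and_not_dvd (orderOf_pos l).ne' p
      hp.out.ne_one
    have hcop : (r : ℤ).gcd ((p : ℤ) ^ j) = 1 := by
      rw [← Nat.cast_pow, Int.gcd_natCast_natCast]
      exact Nat.Coprime.pow_right _ ((hp.out.coprime_iff_not_dvd.mpr hr).symm)
    have hz : (lU ^ r) ^ p ^ e = 1 := by
      apply Subtype.ext; apply Subtype.ext
      simp only [SubmonoidClass.coe_pow, OneMemClass.coe_one]
      rw [← pow_mul, mul_comm r, ← hord]
      exact pow_orderOf_eq_one l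
    have h1 : l ^ r ∈ K := by
      have := hbot (lU ^ r) ⟨e, hz⟩
      simpa using this
    have hb := Int.gcd_eq_gcd_ab (r : ℤ) ((p : ℤ) ^ j)
    rw [hcop, Nat.cast_one] at hb
    rw [show l = l ^ (1 : ℤ) from (zpow_one l).symm, hb, zpow_add, zpow_mul, zpow_mul]
    refine K.mul_mem (K.zpow_mem ?_ _) (K.zpow_mem ?_ _)
    · rw [zpow_natCast]; exact h1
    · rw [← Nat.cast_pow, zpow_natCast]; exact hj
  · -- otherwise `ψ` would be an extension
    have hd := (hext ψ hψ).1
    obtain ⟨ψ', rfl⟩ := exists_infl (N := K) ψ fun g hg => mem_kerSubgroup.mp (show g ∈ L by rw [heq]; exact hg)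
    let η : Cfsg.IrrCharacter M := ⟨fun m => (infl K ψ' : G → ℂ) m,
      IsIrr.comp_surjective ((QuotientGroup.mk' K).comp M.subtype) (fun q => by
      induction q using QuotientGroup.induction_on with
      | H g =>
        obtain ⟨k, hk, m, hm, rfl⟩ := hGM g
        refine ⟨⟨m, hm⟩, ?_⟩
        show (QuotientGroup.mk m : G ⧸ K) = QuotientGroup.mk (k * m)
        rw [QuotientGroup.mk_mul, (QuotientGroup.eq_one_iff k).mpr hk, one_mul]) ψ'.2⟩
    have h := hcon (infl K ψ')
    rw [show (fun m : M => (infl K ψ' : G → ℂ) m) = (η : M → ℂ) from rfl, classInner_irr] at h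
    split_ifs at h with he
    · have h1 : (infl K ψ' : G → ℂ) 1 = (χ : G → ℂ) 1 :=
        congrFun (congrArg Subtype.val he) (1 : M)
      rw [← cast_irrDegree, ← cast_irrDegree, Nat.cast_inj] at h1
      omega
    · exact hψ (by exact_mod_cast h.symm)

/-- Broline and Garrison. -/
theorem exists_degree_gt (χ : Cfsg.IrrCharacter G) (K : Subgroup G) [hKn : K.Normal]
    (hK : ∀ g : G, g ∈ K ↔ (χ : G → ℂ) g = (χ : G → ℂ) 1)
    (h : ¬ K ≤ Cfsg.fittingSubgroup G ∨
      (K = Cfsg.fittingSubgroup G ∧ Group.IsSolvable (G ⧸ K) ∧ K ≠ ⊤)) :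
    ∃ ψ : Cfsg.IrrCharacter G, Cfsg.charDegree (χ : G → ℂ) < Cfsg.charDegree (ψ : G → ℂ) ∧
      kerSubgroup ψ < K := by
  rcases h with h | ⟨hF, hsol, htop⟩
  · have hnil : ¬ Group.IsNilpotent K := fun hn => h (Components.le_fitting hKn hn)
    have hex : ∃ p : ℕ, ∃ _ : Fact p.Prime, ∃ P : Sylow p K,
        ¬ ((P : Subgroup K).map K.subtype).Normal := by
      by_contra hno
      push Not at hno
      refine hnil (((Group.isNilpotent_of_finite_tfae (G := K)).out 0 3).mpr fun p hp P => ?_)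
      have := hno p hp P
      have hc := Subgroup.comap_map_eq_self_of_injective K.subtype_injective (P : Subgroup K)
      rw [← hc]
      exact this.comap _
    obtain ⟨p, hp, P, hP⟩ := hex
    exact exists_larger χ K K hK le_rfl P le_sup_left hP fun R _ _ hR => hR
  · have : Nontrivial (G ⧸ K) := QuotientGroup.nontrivial_iff.mpr htop
    obtain ⟨p, hp, hne⟩ := Core.exists_pCore_ne_bot (G := G ⧸ K)
    let U : Subgroup G := (Cfsg.pCore p (G ⧸ K)).comap (QuotientGroup.mk' K)
    have : Fact p.Prime := ⟨hp⟩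
    have hn : (Cfsg.pCore p (G ⧸ K)).Normal := inferInstance
    have hKU : K ≤ U := fun k hk => by
      rw [Subgroup.mem_comap, QuotientGroup.mk'_apply, (QuotientGroup.eq_one_iff k).mpr hk]
      exact one_mem _
    have hKUne : K ≠ U := by
      intro e
      apply hne
      rw [← Subgroup.map_comap_eq_self_of_surjective (QuotientGroup.mk'_surjective K)
        (Cfsg.pCore p (G ⧸ K))]
      show U.map _ = ⊥
      rw [← e, QuotientGroup.map_mk'_self]
    obtain ⟨P⟩ : Nonempty (Sylow p U) := inferInstance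
    have hUP : U ≤ K ⊔ (P : Subgroup U).map U.subtype := by
      have hKU' : (K.subgroupOf U).Normal := inferInstance
      have hidx : ∃ j, (K.subgroupOf U).index = p ^ j := by
        have hmap : U.map (QuotientGroup.mk' K) = Cfsg.pCore p (G ⧸ K) :=
          Subgroup.map_comap_eq_self_of_surjective (QuotientGroup.mk'_surjective K) _
        obtain ⟨j, hj⟩ := IsPGroup.iff_card.mp (Core.isPGroup_pCore (p := p) (G := G ⧸ K))
        refine ⟨j, ?_⟩
        rw [← hj, ← hmap]
        show K.relIndex U = _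
        rw [← Subgroup.relIndex_bot_left, ← QuotientGroup.map_mk'_self K,
          Subgroup.relIndex_map_map, QuotientGroup.ker_mk', sup_idem, sup_eq_left.mpr hKU]
      obtain ⟨j, hj⟩ := hidx
      have htop' : K.subgroupOf U ⊔ (P : Subgroup U) = ⊤ := by
        rw [← Subgroup.index_eq_one]
        refine Nat.eq_one_of_dvd_coprimes (k := (K.subgroupOf U ⊔ (P : Subgroup U)).index)
          ((Nat.Coprime.pow_left j ((Fact.out : p.Prime).coprime_iff_not_dvd.mpr P.not_dvd_index)))
          (hj ▸ Subgroup.index_dvd_of_le le_sup_left) (Subgroup.index_dvd_of_le le_sup_right)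
      intro u hu
      have h1 : (⟨u, hu⟩ : U) ∈ K.subgroupOf U ⊔ (P : Subgroup U) := htop' ▸ Subgroup.mem_top _
      have h2 := Subgroup.mem_map_of_mem U.subtype h1
      rw [Subgroup.map_sup] at h2
      exact sup_le_sup_right (show (K.subgroupOf U).map U.subtype ≤ K by rintro _ ⟨z, hz, rfl⟩; exact hz) _ h2
    have hle : ∀ R : Subgroup G, R.Normal → IsPGroup p R → R ≤ K := fun R hR hRp =>
      hF ▸ Components.le_fitting hR hRp.isNilpotent
    refine exists_larger χ K U hK hKU P hUP (fun hP => hKUne ?_) fun R hR hRp _ => hle R hR hRp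
    exact le_antisymm hKU (hUP.trans (sup_le le_rfl (hle _ hP (P.2.map _))))

end CfsgLib.Garrison
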