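import Cfsg.Agent.Lib.CharDegree.Twist
import Cfsg.Agent.Lib.Char.CosetZeros

/-!
# Inducing an extension of a character from its inertia group
-/

namespace CfsgLib.CharDegree

open scoped ComplexConjugate
open CfsgLib.Char

variable {G : Type*} [Group G] [Fintype G] {N I : Subgroup G}

/-- The setting: `ψ` on `I` extends `φ` on the normal subgroup `N`, `I` is the stabiliser. -/
structure ExtData (N I : Subgroup G) (φ : Cfsg.IrrCharacter N) (ψ : Cfsg.IrrCharacter I) : Prop where
  normal : N.Normal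
  le : N ≤ I
  stab : ∀ g : G, g ∈ I ↔ ∀ n n' : N, (n' : G) = g * (n : G) * g⁻¹ → (φ : N → ℂ) n' = (φ : N → ℂ) n
  ext : ∀ n : N, (ψ : I → ℂ) (Subgroup.inclusion le n) = (φ : N → ℂ) n

variable {φ : Cfsg.IrrCharacter N} {ψ : Cfsg.IrrCharacter I}

/-- The conjugate of `φ` by `x`. -/
noncomputable def cjIrr (hN : N.Normal) (φ : Cfsg.IrrCharacter N) (x : G) : Cfsg.IrrCharacter N :=
  ⟨fun n => (φ : N → ℂ) (@MulAut.conjNormal G _ N hN x⁻¹ n),
    IsIrr.comp_surjective (@MulAut.conjNormal G _ N hN x⁻¹).toMonoidHom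
      (MulEquiv.surjective _) φ.2⟩

theorem cjIrr_apply (hN : N.Normal) (φ : Cfsg.IrrCharacter N) (x : G) (n : N) :
    (cjIrr hN φ x : N → ℂ) n =
      (φ : N → ℂ) ⟨x⁻¹ * n * x, by simpa using hN.conj_mem n n.2 x⁻¹⟩ :=
  congrArg (φ : N → ℂ) (Subtype.ext (by
    simp [@MulAut.conjNormal_apply G _ N hN]))

namespace ExtData

variable (h : ExtData N I φ ψ)
include h

theorem cjIrr_eq_iff (x : G) : cjIrr h.normal φ x = φ ↔ x ∈ I := by
  rw [← inv_mem_iff, h.stab]
  constructor
  · intro he n n' hn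
    have h1 := congrFun (congrArg Subtype.val he) n
    rw [cjIrr_apply] at h1
    rw [← h1]
    exact congrArg _ (Subtype.ext (by simp [hn]))
  · intro he
    refine irr_ext fun n => ?_
    rw [cjIrr_apply]
    exact he n _ (by simp)

theorem indFun_apply_coe (n : N) :
    Cfsg.indFun I (ψ : I → ℂ) n = (Nat.card I : ℂ)⁻¹ * ∑ x : G, (cjIrr h.normal φ x : N → ℂ) n := by
  rw [Cfsg.indFun]
  congr 1
  refine Finset.sum_congr rfl fun x _ => ?_
  have hm : x⁻¹ * (n : G) * x ∈ N := by simpa using h.normal.conj_mem n n.2 x⁻¹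
  rw [extendByZero_of_mem I _ (h.le hm), cjIrr_apply, ← h.ext]
  rfl

theorem classInner_restrict_indFun [Fintype N] :
    Cfsg.classInner (fun n : N => Cfsg.indFun I (ψ : I → ℂ) n) (φ : N → ℂ) = 1 := by
  classical
  have he : (fun n : N => Cfsg.indFun I (ψ : I → ℂ) n) =
      (Nat.card I : ℂ)⁻¹ • ∑ x : G, (cjIrr h.normal φ x : N → ℂ) := by
    funext n
    rw [h.indFun_apply_coe, Pi.smul_apply, Finset.sum_apply, smul_eq_mul]
  rw [he, classInner_smul_left, classInner_sum_left]
  simp only [classInner_irr, h.cjIrr_eq_iff, Finset.sum_boole]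
  rw [show (Finset.univ.filter fun x : G => x ∈ I).card = Nat.card I by
    rw [Nat.card_eq_fintype_card, Fintype.card_subtype],
    inv_mul_cancel₀ (Nat.cast_ne_zero.mpr Nat.card_pos.ne')]

theorem isIrr_and_unique :
    Cfsg.IsIrrCharacter G (Cfsg.indFun I (ψ : I → ℂ)) ∧
      ∀ ψ' : Cfsg.IrrCharacter I, ExtData N I φ ψ' →
        Cfsg.indFun I (ψ' : I → ℂ) = Cfsg.indFun I (ψ : I → ℂ) → ψ' = ψ := by
  classical
  have := Fintype.ofFinite I
  have := Fintype.ofFinite N
  have := Fintype.ofFinite (Cfsg.IrrCharacter I)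
  have hη := isCharacter_indFun I (IsIrr.isCharacter ψ.2)
  set η := Cfsg.indFun I (ψ : I → ℂ) with hηdef
  obtain ⟨m, hm⟩ := IsChar.exists_sum (IsChar.restrict I hη)
  have hinner : ∀ θ : Cfsg.IrrCharacter I,
      Cfsg.classInner (fun i : I => η i) (θ : I → ℂ) = m θ := fun θ => by
    rw [hm, classInner_sum_irr]
  -- multiplicities over `φ`
  have hnat : ∀ θ : Cfsg.IrrCharacter I, ∃ b : ℕ,
      Cfsg.classInner (fun n : N => (θ : I → ℂ) (Subgroup.inclusion h.le n)) (φ : N → ℂ) = b :=
    fun θ => IsChar.classInner_eq_natCast (IsChar.comp _ (IsIrr.isCharacter θ.2))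
      (IsIrr.isCharacter φ.2)
  choose b hb using hnat
  have hsum : ∑ θ, m θ * b θ = 1 := by
    have h1 := h.classInner_restrict_indFun
    have he : (fun n : N => η n) = ∑ θ : Cfsg.IrrCharacter I,
        (m θ : ℂ) • fun n : N => (θ : I → ℂ) (Subgroup.inclusion h.le n) := by
      funext n
      have h2 := congrFun hm (Subgroup.inclusion h.le n)
      simp only [Finset.sum_apply, Pi.smul_apply] at h2 ⊢
      exact h2
    rw [he, classInner_sum_left] at h1
    simp only [classInner_smul_left, hb] at h1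
    exact_mod_cast h1
  have hb1 : ∀ ψ', ExtData N I φ ψ' → b ψ' = 1 := fun ψ' h' => by
    have h1 := hb ψ'
    rw [show (fun n : N => (ψ' : I → ℂ) (Subgroup.inclusion h.le n)) = (φ : N → ℂ) from
      funext h'.ext, classInner_irr_self] at h1
    exact_mod_cast h1.symm
  have hrec : ∀ θ : Cfsg.IrrCharacter I,
      Cfsg.classInner (Cfsg.indFun I (θ : I → ℂ)) η = m θ := fun θ => by
    rw [frobenius_reciprocity I _ (isClassFunction_indFun I (ψ : I → ℂ)), ← classInner_conj_symm,
      hinner, map_natCast]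
  obtain ⟨k, hk⟩ : ∃ k : ℕ, m ψ = k + 1 := by
    refine ⟨m ψ - 1, ?_⟩
    have h1 : m ψ ≠ 0 := fun h0 => by
      have h2 := hrec ψ
      rw [h0, Nat.cast_zero, ← hηdef] at h2
      have h3 := congrFun (IsChar.eq_zero_of_classInner_self hη h2) 1
      rw [hηdef, indFun_apply_one, Pi.zero_apply, mul_eq_zero, Nat.cast_eq_zero] at h3
      exact h3.elim Subgroup.index_ne_zero_of_finite (IsIrr.apply_one_ne_zero ψ.2)
    omega
  have hk0 : k = 0 := by
    have h1 := Finset.single_le_sum (fun θ _ => Nat.zero_le (m θ * b θ)) (Finset.mem_univ ψ)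
    rw [hsum, hb1 ψ h, mul_one] at h1
    omega
  refine ⟨IsChar.isIrr_of_classInner_eq_one hη ?_, fun ψ' h' he => ?_⟩
  · have h2 := hrec ψ
    rw [hk, hk0, zero_add, Nat.cast_one] at h2
    exact h2
  · by_contra hne
    have h1 : m ψ' = m ψ := by
      have h2 := hrec ψ'
      rw [he] at h2
      exact Nat.cast_inj.mp (h2.symm.trans (hrec ψ))
    have h3 : m ψ * b ψ + m ψ' * b ψ' ≤ ∑ θ, m θ * b θ := by
      rw [← Finset.sum_pair (f := fun θ => m θ * b θ) (fun e => hne e.symm)]
      exact Finset.sum_le_sum_of_subset (Finset.subset_univ _)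
    rw [hsum, h1, hb1 ψ h, hb1 ψ' h', hk] at h3
    omega

theorem indFun_mul_linear (l : G →* ℂˣ) (g : G) :
    Cfsg.indFun I (twist ψ (l.comp I.subtype) : I → ℂ) g = Cfsg.indFun I (ψ : I → ℂ) g * (l g : ℂ) := by
  rw [Cfsg.indFun, Cfsg.indFun, mul_assoc _ (∑ x : G, _), Finset.sum_mul]
  congr 1
  refine Finset.sum_congr rfl fun x _ => ?_
  by_cases hx : x⁻¹ * g * x ∈ I
  · rw [extendByZero_of_mem I _ hx, extendByZero_of_mem I _ hx, twist_apply]
    have hl : l (x⁻¹ * g * x) = l g := by
      rw [map_mul, map_mul, mul_comm (l x⁻¹), mul_assoc, ← map_mul, inv_mul_cancel, map_one, mul_one]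
    simp [MonoidHom.comp_apply, hl]
  · rw [extendByZero_of_notMem I _ hx, extendByZero_of_notMem I _ hx, zero_mul]

theorem twist_ext (l : G →* ℂˣ) (hl : ∀ n ∈ N, l n = 1) :
    ExtData N I φ (twist ψ (l.comp I.subtype)) where
  normal := h.normal
  le := h.le
  stab := h.stab
  ext n := by
    rw [twist_apply, h.ext]
    simp [hl n n.2]

/-- Twisting by linear characters fixes `ψ` only trivially. -/
theorem twist_eq_self (l : I →* ℂˣ) (hl : ∀ n : N, l (Subgroup.inclusion h.le n) = 1)
    (he : twist ψ l = ψ) : l = 1 := by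
  classical
  have := Fintype.ofFinite I
  have := Fintype.ofFinite N
  have := h.normal
  set K := N.subgroupOf I with hK
  let e : K ≃* N := Subgroup.subgroupOfEquivOfLe h.le
  have hψK : Cfsg.IsIrrCharacter K (fun k : K => (ψ : I → ℂ) k) := by
    have h1 := IsIrr.comp_surjective e.toMonoidHom e.surjective φ.2
    convert h1 using 1
    funext k
    exact (h.ext (e k))
  by_contra hne
  obtain ⟨i, hi⟩ : ∃ i, l i ≠ 1 := by
    by_contra hno
    push Not at hno
    exact hne (MonoidHom.ext hno)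
  refine (restriction_reducible_iff K ψ).mpr ⟨i, fun k => ?_⟩ hψK
  have h1 := congrFun (congrArg Subtype.val he) ((k : I) * i)
  simp only [twist_apply] at h1
  by_contra hne'
  have hk : l (k : I) = 1 := hl ⟨((k : I) : G), k.2⟩
  have h2 : l ((k : I) * i) = 1 := Units.ext (mul_left_cancel₀ hne' (h1.trans (mul_one _).symm))
  rw [map_mul, hk, one_mul] at h2
  exact hi h2

/-- The irreducible induced character. -/
noncomputable def indIrr : Cfsg.IrrCharacter G :=
  ⟨Cfsg.indFun I (ψ : I → ℂ), h.isIrr_and_unique.1⟩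

theorem charDegree_indIrr :
    Cfsg.charDegree (h.indIrr : G → ℂ) = Cfsg.charDegree (φ : N → ℂ) * I.index := by
  refine charDegree_eq_of_apply_one ?_
  show Cfsg.indFun I (ψ : I → ℂ) 1 = _
  have h1 : (ψ : I → ℂ) 1 = (φ : N → ℂ) 1 := by rw [← h.ext, map_one]
  rw [indFun_apply_one, h1, Nat.cast_mul, cast_irrDegree, mul_comm]

theorem mul_linear_eq_indIrr {l : G →* ℂˣ} (hl : ∀ n ∈ N, l n = 1)
    (he : twist h.indIrr l = h.indIrr) : ∀ i ∈ I, l i = 1 := by
  have h1 := h.isIrr_and_unique.2 _ (h.twist_ext l hl) (funext fun g => by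
    rw [h.indFun_mul_linear]
    exact congrFun (congrArg Subtype.val he) g)
  have h2 := h.twist_eq_self (l.comp I.subtype) (fun n => hl n n.2) h1
  exact fun i hi => DFunLike.congr_fun h2 ⟨i, hi⟩

/-- Counting linear characters against characters of the induced degree. -/
theorem card_linear_le (hN : N ≤ commutator G) (P Q : Cfsg.IrrCharacter G → Prop)
    (hPQ : ∀ (l : G →* ℂˣ) (χ : Cfsg.IrrCharacter G), (χ : G → ℂ) = (fun g => (l g : ℂ)) → P χ →
      Q (twist h.indIrr l)) :
    Nat.card {χ : Cfsg.IrrCharacter G // Cfsg.charDegree (χ : G → ℂ) = 1 ∧ P χ} ≤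
      I.index * Nat.card {χ : Cfsg.IrrCharacter G //
        Cfsg.charDegree (χ : G → ℂ) = Cfsg.charDegree (φ : N → ℂ) * I.index ∧ Q χ} := by
  classical
  have := Fintype.ofFinite (Cfsg.IrrCharacter G)
  set A := {χ : Cfsg.IrrCharacter G // Cfsg.charDegree (χ : G → ℂ) = 1 ∧ P χ}
  set B := {χ : Cfsg.IrrCharacter G //
    Cfsg.charDegree (χ : G → ℂ) = Cfsg.charDegree (φ : N → ℂ) * I.index ∧ Q χ}
  choose lam hlam using fun a : A => exists_hom_of_degree_one a.1 a.2.1
  let f : A → B := fun a => ⟨twist h.indIrr (lam a),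
    by rw [charDegree_twist, h.charDegree_indIrr], hPQ _ a.1 (hlam a) a.2.2⟩
  have hker : ∀ (a : A) (n : G), n ∈ commutator G → lam a n = 1 := fun a n hn =>
    MonoidHom.mem_ker.mp (Abelianization.commutator_subset_ker _ hn)
  set M := I ⊔ commutator G with hM
  have hMn : M.Normal := Subgroup.Normal.of_commutator_le G le_sup_right
  have hS : Nat.card {χ : Cfsg.IrrCharacter G // ∀ g ∈ M, (χ : G → ℂ) g = (χ : G → ℂ) 1} ≤ I.index := by
    rw [← Nat.card_congr (inflEquiv M), card_irrCharacter]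
    refine le_trans (Nat.card_le_card_of_surjective _ ConjClasses.mk_surjective) ?_
    rw [← Subgroup.index_eq_card]
    exact Nat.le_of_dvd (Nat.pos_of_ne_zero Subgroup.index_ne_zero_of_finite)
      (Subgroup.index_dvd_of_le le_sup_left)
  have hfib : ∀ a₀ a : A, f a = f a₀ → ∀ g ∈ M, lam a g = lam a₀ g := by
    intro a₀ a he g hg
    have he' : twist h.indIrr (lam a) = twist h.indIrr (lam a₀) := congrArg Subtype.val he
    let l : G →* ℂˣ :=
      { toFun := fun g => lam a g * (lam a₀ g)⁻¹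
        map_one' := by simp
        map_mul' := fun x y => by
          simp only [map_mul, mul_inv]
          exact mul_mul_mul_comm _ _ _ _ }
    have hl : twist h.indIrr l = h.indIrr := irr_ext fun x => by
      have h1 := congrFun (congrArg Subtype.val he') x
      simp only [twist_apply] at h1
      show (h.indIrr : G → ℂ) x * ((lam a x * (lam a₀ x)⁻¹ : ℂˣ) : ℂ) = _
      rw [Units.val_mul, ← mul_assoc, h1, mul_assoc, Units.mul_inv, mul_one]
    have hI := h.mul_linear_eq_indIrr (l := l) (fun n hn => by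
      show lam a n * (lam a₀ n)⁻¹ = 1
      rw [hker a n (hN hn), hker a₀ n (hN hn)]; simp) hl
    have hMker : M ≤ l.ker := sup_le hI (Abelianization.commutator_subset_ker l)
    exact mul_inv_eq_one.mp (MonoidHom.mem_ker.mp (hMker hg))
  have hcard : ∀ b ∈ (Finset.univ : Finset B),
      (Finset.univ.filter fun a : A => f a = b).card ≤ I.index := by
    intro b _
    by_cases hb : ∃ a₀, f a₀ = b
    · obtain ⟨a₀, rfl⟩ := hb
      let il : G →* ℂˣ :=
        { toFun := fun g => (lam a₀ g)⁻¹
          map_one' := by simp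
          map_mul' := fun x y => by simp [mul_comm] }
      refine le_trans ?_ hS
      rw [← Fintype.card_subtype, ← Nat.card_eq_fintype_card]
      refine Nat.card_le_card_of_injective (fun a => ⟨twist a.1.1 il, fun g hg => ?_⟩) ?_
      · simp only [twist_apply, congrFun (hlam a.1) g, congrFun (hlam a.1) 1, hfib a₀ a.1 a.2 g hg]
        simp [il]
      · intro a a' he
        refine Subtype.ext (Subtype.ext (irr_ext fun g => ?_))
        have h1 := congrFun (congrArg Subtype.val (congrArg Subtype.val he)) g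
        simp only [twist_apply] at h1
        exact mul_right_cancel₀ (Units.ne_zero _) h1
    · rw [Finset.filter_false_of_mem (fun a _ ha => hb ⟨a, ha⟩), Finset.card_empty]
      exact Nat.zero_le _
  have hfin := Finset.card_le_mul_card_image_of_maps_to (s := (Finset.univ : Finset A))
    (t := (Finset.univ : Finset B)) (f := f) (fun a _ => Finset.mem_univ _) I.index hcard
  rwa [Finset.card_univ, Finset.card_univ, ← Nat.card_eq_fintype_card,
    ← Nat.card_eq_fintype_card] at hfin

end ExtData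

/-- A non-abelian minimal normal subgroup lies in the derived subgroup. -/
theorem le_commutator_of_minimal {G : Type*} [Group G] (N : Subgroup G) (hN : N.Normal)
    (hmin : ∀ M : Subgroup G, M.Normal → M ≤ N → M = ⊥ ∨ M = N) (hna : ¬ IsMulCommutative ↥N) :
    N ≤ commutator G := by
  have hn : (⁅N, N⁆).Normal := Subgroup.commutator_normal N N
  rcases hmin _ hn (Subgroup.commutator_le_self N) with h | h
  · refine absurd ⟨⟨fun a b => Subtype.ext ?_⟩⟩ hna
    rw [Subgroup.commutator_eq_bot_iff_le_centralizer] at h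
    exact (Subgroup.mem_centralizer_iff.mp (h a.2) b b.2).symm
  · rw [← h]
    exact Subgroup.commutator_mono le_top le_top

end CfsgLib.CharDegree
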