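import Cfsg.Prelude.Def_Blocks
import Mathlib.RingTheory.Valuation.LocalSubring
import Mathlib.RingTheory.Valuation.ValuationSubring
import Mathlib.RingTheory.IntegralClosure.IntegrallyClosed
import Mathlib.RingTheory.LocalRing.ResidueField.Basic
import Mathlib.RepresentationTheory.Character
import Mathlib.LinearAlgebra.Matrix.ToLin
import Mathlib.Algebra.CharP.Lemmas
import Mathlib.Data.Complex.Basic

/-!
# Integral forms of complex representations over a valuation ring of residue characteristic `p`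
-/

namespace CfsgLib.CharDegree

open Module

/-- A valuation subring of `ℂ` with `p` in the maximal ideal. -/
theorem exists_valuationSubring {p : ℕ} (hp : p.Prime) :
    ∃ O : ValuationSubring ℂ, (p : ℂ) ∈ O.nonunits := by
  let A : Subring ℂ := ⊥
  have hpA : (p : ℂ) ∈ A := natCast_mem A p
  have hI : Ideal.span {(⟨(p : ℂ), hpA⟩ : A)} ≠ ⊤ := by
    rw [Ne, Ideal.span_singleton_eq_top, isUnit_iff_exists_inv]
    rintro ⟨⟨b, hb⟩, hab⟩
    obtain ⟨k, rfl⟩ := Subring.mem_bot.mp hb
    have h1 : ((p : ℤ) : ℂ) * (k : ℂ) = 1 := by simpa using congrArg Subtype.val hab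
    have h2 : (p : ℤ) * k = 1 := by exact_mod_cast h1
    have h3 : (p : ℤ) = 1 := Int.eq_one_of_mul_eq_one_right (by positivity) h2
    exact hp.one_lt.ne' (by exact_mod_cast h3)
  obtain ⟨B, -, hB⟩ := Ideal.image_subset_nonunits_valuationSubring _ hI
  exact ⟨B, hB ⟨_, Ideal.subset_span rfl, rfl⟩⟩

theorem mem_of_isIntegral (O : ValuationSubring ℂ) {z : ℂ} (hz : IsIntegral ℤ z) : z ∈ O := by
  obtain ⟨y, hy⟩ := IsIntegrallyClosed.isIntegral_iff.mp (hz.tower_top (A := O))
  exact hy ▸ y.2

theorem charP_residue (O : ValuationSubring ℂ) {p : ℕ} (hp : p.Prime) (h : (p : ℂ) ∈ O.nonunits) :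
    CharP (IsLocalRing.ResidueField O) p := by
  refine (CharP.charP_iff_prime_eq_zero hp).mpr ?_
  rw [← map_natCast (IsLocalRing.residue O), IsLocalRing.residue_eq_zero_iff,
    ← ValuationSubring.coe_mem_nonunits_iff]
  exact h

variable {W : Type*} [AddCommGroup W] [Module ℂ W]

open scoped Classical in
/-- Inside a finite set of vectors some linearly independent part spans integrally. -/
theorem exists_integral_basis (O : ValuationSubring ℂ) (s : Finset W) :
    ∃ t ⊆ s, LinearIndepOn ℂ id (t : Set W) ∧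
      ∀ v ∈ s, ∃ c : W → ℂ, (∀ w, c w ∈ O) ∧ v = ∑ w ∈ t, c w • w := by
  let Q : Finset W → Prop := fun t => ∀ v ∈ s, ∃ c : W → ℂ, (∀ w, c w ∈ O) ∧ v = ∑ w ∈ t, c w • w
  suffices h : ∀ t, t ⊆ s → Q t → ∃ t' ⊆ s, LinearIndepOn ℂ id (t' : Set W) ∧ Q t' by
    refine h s subset_rfl fun v hv => ⟨fun w => if w = v then 1 else 0, fun w => ?_, ?_⟩
    · dsimp only
      split_ifs
      · exact one_mem O
      · exact zero_mem O
    · simp [hv]
  intro t
  induction t using Finset.strongInduction with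
  | H t ih =>
    intro hts hQ
    by_cases hind : LinearIndepOn ℂ id (t : Set W)
    · exact ⟨t, hts, hind, hQ⟩
    rw [linearIndepOn_finset_iff] at hind
    push Not at hind
    obtain ⟨f, hf, i₀, hi₀, hfi₀⟩ := hind
    obtain ⟨i₁, hi₁, hmax⟩ := t.exists_max_image (fun i => O.valuation (f i)) ⟨i₀, hi₀⟩
    have hf1 : f i₁ ≠ 0 := fun h0 => by
      have h1 := hmax i₀ hi₀
      rw [h0, map_zero] at h1
      exact hfi₀ ((Valuation.zero_iff _).mp (le_zero_iff.mp h1))
    have hq : ∀ i ∈ t, f i / f i₁ ∈ O := fun i hi => by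
      rw [← O.valuation_le_one_iff, map_div₀]
      exact div_le_one_of_le₀ (hmax i hi) zero_le'
    simp only [id_eq] at hf
    refine ih (t.erase i₁) (Finset.erase_ssubset hi₁) ((Finset.erase_subset _ _).trans hts)
      fun v hv => ?_
    obtain ⟨c, hc, hcv⟩ := hQ v hv
    refine ⟨fun w => if w ∈ t then c w - c i₁ * (f w / f i₁) else 0, fun w => ?_, ?_⟩
    · dsimp only
      split_ifs with hw
      · exact sub_mem (hc w) (mul_mem (hc i₁) (hq w hw))
      · exact zero_mem O
    · have h1 : v = ∑ w ∈ t, (c w - c i₁ * (f w / f i₁)) • w := by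
        rw [Finset.sum_congr rfl (g := fun w => c w • w - (c i₁ / f i₁) • (f w • w)) fun w _ => by
          rw [sub_smul, smul_smul]; ring_nf, Finset.sum_sub_distrib, ← hcv, ← Finset.smul_sum, hf,
          smul_zero, sub_zero]
      rw [h1, ← Finset.add_sum_erase _ _ hi₁, div_self hf1, mul_one, sub_self, zero_smul, zero_add]
      exact Finset.sum_congr rfl fun w hw => by simp only [if_pos (Finset.mem_of_mem_erase hw)]

variable {G : Type*} [Group G] [Finite G]

/-- A representation can be written with entries in the valuation ring. -/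
theorem exists_integral_form (O : ValuationSubring ℂ) {n : ℕ}
    (ρ : Representation ℂ G (Fin n → ℂ)) :
    ∃ R : G →* Matrix (Fin n) (Fin n) O, ∀ g, ((Matrix.trace (R g) : O) : ℂ) = ρ.character g := by
  classical
  have := Fintype.ofFinite G
  set s : Finset (Fin n → ℂ) :=
    (Finset.univ : Finset (G × Fin n)).image (fun q => ρ q.1 (Pi.single q.2 1)) with hs
  obtain ⟨t, hts, hind, hQ⟩ := exists_integral_basis O s
  have hspan : (⊤ : Submodule ℂ (Fin n → ℂ)) ≤ Submodule.span ℂ (Set.range (fun x : (t : Set (Fin n → ℂ)) => id (x : Fin n → ℂ))) := by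
    intro x _
    rw [pi_eq_sum_univ x]
    refine Submodule.sum_mem _ fun i _ => Submodule.smul_mem _ _ ?_
    have hi : (fun j => if i = j then (1 : ℂ) else 0) = ρ 1 (Pi.single i 1) := by
      rw [map_one]; funext j; simp [Pi.single_apply, eq_comm]
    rw [hi]
    obtain ⟨c, -, hcv⟩ := hQ (ρ 1 (Pi.single i 1))
      (Finset.mem_image.mpr ⟨(1, i), Finset.mem_univ _, rfl⟩)
    rw [hcv]
    exact Submodule.sum_mem _ fun w hw =>
      Submodule.smul_mem _ _ (Submodule.subset_span ⟨⟨w, hw⟩, rfl⟩)
  let b₀ : Basis (t : Set (Fin n → ℂ)) ℂ (Fin n → ℂ) := Basis.mk hind hspan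
  have hb₀ : ∀ i, b₀ i = (i : Fin n → ℂ) := fun i => congrFun (Basis.coe_mk hind hspan) i
  let b : Basis (Fin n) ℂ (Fin n → ℂ) :=
    b₀.reindex (Fintype.equivFinOfCardEq (by
      rw [← finrank_eq_card_basis b₀, finrank_fin_fun]))
  have hmem : ∀ g i j, LinearMap.toMatrix b b (ρ g) i j ∈ O := by
    intro g i j
    rw [LinearMap.toMatrix_apply]
    set e := Fintype.equivFinOfCardEq (α := (t : Set (Fin n → ℂ))) (n := n) (by
      rw [← finrank_eq_card_basis b₀, finrank_fin_fun])
    have hbj : b j = (e.symm j : Fin n → ℂ) := by rw [Basis.reindex_apply, hb₀]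
    obtain ⟨⟨g', i'⟩, -, hgi⟩ := Finset.mem_image.mp (hts (e.symm j).2)
    simp only at hgi
    obtain ⟨c, hc, hcv⟩ := hQ (ρ g (b j)) (Finset.mem_image.mpr ⟨(g * g', i'), Finset.mem_univ _, by
      simp [hbj, ← hgi]⟩)
    rw [hcv, map_sum, Finsupp.finset_sum_apply]
    refine sum_mem fun w hw => ?_
    rw [map_smul, Finsupp.smul_apply, smul_eq_mul]
    refine mul_mem (hc w) ?_
    have hw' : w = b (e ⟨w, hw⟩) := by rw [Basis.reindex_apply, Equiv.symm_apply_apply, hb₀]
    rw [hw', Basis.repr_self, Finsupp.single_apply]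
    split_ifs
    · exact one_mem O
    · exact zero_mem O
  let R : G →* Matrix (Fin n) (Fin n) O :=
    { toFun := fun g => Matrix.of fun i j => (⟨_, hmem g i j⟩ : O)
      map_one' := by
        ext i j
        simp [Matrix.one_apply, apply_ite Subtype.val]
      map_mul' := fun g h => by
        ext i j
        simp [Matrix.mul_apply, LinearMap.toMatrix_mul] }
  refine ⟨R, fun g => ?_⟩
  rw [Representation.character, LinearMap.trace_eq_matrix_trace ℂ b, Matrix.trace, Matrix.trace,
    AddSubmonoidClass.coe_finsetSum]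
  rfl

end CfsgLib.CharDegree
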