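import Cfsg.Agent.Lib.CharDegree.Divisibility
import Cfsg.Agent.Lib.Core.Coprime
import Mathlib.GroupTheory.FixedPointFree
import Mathlib.GroupTheory.Sylow

/-!
# No `p`-defect zero and odd centralizers: every involution inverts a Sylow `p`-subgroup
-/

namespace CfsgLib.CharDegree

open Cfsg
open scoped Pointwise

variable {G : Type*} [Group G] [Finite G]

/-- Involutions with product of odd order are conjugate. -/
theorem isConj_of_odd_orderOf_mul {s t : G} (hs : s * s = 1) (ht : t * t = 1)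
    (hodd : Odd (orderOf (s * t))) : IsConj t s := by
  obtain ⟨m, hm⟩ := hodd
  set d := (s * t) ^ (m + 1)
  have hd2 : d * d = s * t := by
    rw [← pow_add, show m + 1 + (m + 1) = orderOf (s * t) + 1 by omega, pow_succ, pow_orderOf_eq_one,
      one_mul]
  have hti : t⁻¹ = t := inv_eq_of_mul_eq_one_right ht
  have hsi : s⁻¹ = s := inv_eq_of_mul_eq_one_right hs
  have hinv : t * d * t⁻¹ = d⁻¹ := by
    rw [← inv_pow, ← conj_pow]
    congr 1
    rw [_root_.mul_inv_rev, hti, hsi, mul_assoc, mul_assoc, ht, mul_one]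
  refine isConj_iff.2 ⟨d, ?_⟩
  have h1 : t * d⁻¹ = d * t := by rw [← hinv, hti, ← mul_assoc, ← mul_assoc, ht, one_mul]
  calc d * t * d⁻¹ = d * d * t := by rw [mul_assoc, h1, ← mul_assoc]
    _ = s := by rw [hd2, mul_assoc, ht, mul_one]

variable {p : ℕ} [Fact p.Prime]

theorem not_dvd_card_centralizer_involution
    (hC : ∀ g : G, g ≠ 1 → (∃ k : ℕ, orderOf g = p ^ k) →
      Odd (Nat.card ↥(Subgroup.centralizer ({g} : Set G))))
    {t : G} (ht : orderOf t = 2) : ¬ p ∣ Nat.card ↥(Subgroup.centralizer ({t} : Set G)) := by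
  intro h
  obtain ⟨g, hg⟩ := exists_prime_orderOf_dvd_card' p h
  have hg' : orderOf (g : G) = p := by rw [Subgroup.orderOf_coe, hg]
  have hne : (g : G) ≠ 1 := fun h1 => by
    rw [h1, orderOf_one] at hg'
    exact (Fact.out : p.Prime).one_lt.ne hg'
  have hmem : t ∈ Subgroup.centralizer ({(g : G)} : Set G) :=
    Subgroup.mem_centralizer_singleton_iff.2 (Subgroup.mem_centralizer_singleton_iff.1 g.2).symm
  have hodd := hC g hne ⟨1, by rw [pow_one, hg']⟩
  have h2 : 2 ∣ Nat.card ↥(Subgroup.centralizer ({(g : G)} : Set G)) :=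
    ht ▸ Subgroup.orderOf_dvd_natCard _ hmem
  exact (Nat.not_even_iff_odd.2 hodd) (even_iff_two_dvd.2 h2)

/-- Without a `p`-defect zero character, each involution inverts a nontrivial `p`-element. -/
theorem exists_inverted
    (hC : ∀ g : G, g ≠ 1 → (∃ k : ℕ, orderOf g = p ^ k) →
      Odd (Nat.card ↥(Subgroup.centralizer ({g} : Set G))))
    (hno : ¬ ∃ χ : Cfsg.IrrCharacter G,
      (Cfsg.charDegree (χ : G → ℂ)).factorization p = (Nat.card G).factorization p)
    {t : G} (ht : orderOf t = 2) :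
    ∃ u : G, u ≠ 1 ∧ (∃ k : ℕ, orderOf u = p ^ k) ∧ t * u * t⁻¹ = u⁻¹ := by
  by_contra hcon
  push Not at hcon
  refine hno (exists_defectZero t (not_dvd_card_centralizer_involution hC ht) fun a b z hz hzp h => ?_)
  have hti : t⁻¹ = t := inv_eq_iff_mul_eq_one.2 (by rw [← pow_two, ← ht, pow_orderOf_eq_one])
  obtain ⟨k, hk⟩ := hzp
  refine hcon (a⁻¹ * z * a) (fun h1 => hz ?_) ⟨k, ?_⟩ ?_
  · calc z = a * (a⁻¹ * z * a) * a⁻¹ := by group
      _ = 1 := by rw [h1]; group
  · rw [← hk]
    calc orderOf (a⁻¹ * z * a) = orderOf (MulAut.conj a⁻¹ z) := by simp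
      _ = orderOf z := MulEquiv.orderOf_eq _ _
  · have hz' : z = b * t * b⁻¹ * (a * t * a⁻¹) := by
      have h2 := eq_inv_of_mul_eq_one_right h
      calc z = b * t * b⁻¹ * (b * t⁻¹ * b⁻¹ * z) := by group
        _ = b * t * b⁻¹ * (a * t * a⁻¹)⁻¹ := by rw [h2]
        _ = b * t * b⁻¹ * (a * t * a⁻¹) := by
          rw [_root_.mul_inv_rev, _root_.mul_inv_rev, inv_inv, hti, ← mul_assoc a]
    calc t * (a⁻¹ * z * a) * t⁻¹ = t * a⁻¹ * (b * t * b⁻¹) * a * (t * t⁻¹) := by rw [hz']; group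
      _ = t * a⁻¹ * (b * t * b⁻¹) * a := by group
      _ = t⁻¹ * a⁻¹ * (b * t⁻¹ * b⁻¹) * a := by rw [hti]
      _ = (a⁻¹ * z * a)⁻¹ := by rw [hz']; group

open Subgroup in
/-- Without a `p`-defect zero character, each involution inverts a nontrivial Sylow `p`-subgroup,
and the centralizer of the latter has odd order. -/
theorem exists_inverted_sylow
    (hC : ∀ g : G, g ≠ 1 → (∃ k : ℕ, orderOf g = p ^ k) →
      Odd (Nat.card ↥(Subgroup.centralizer ({g} : Set G))))
    (hno : ¬ ∃ χ : Cfsg.IrrCharacter G,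
      (Cfsg.charDegree (χ : G → ℂ)).factorization p = (Nat.card G).factorization p)
    {t : G} (ht : orderOf t = 2) :
    ∃ P : Sylow p G, (∀ x ∈ (P : Subgroup G), t * x * t⁻¹ = x⁻¹) ∧
      Odd (Nat.card ↥(centralizer ((P : Subgroup G) : Set G))) := by
  have htt : t * t = 1 := by rw [← pow_two, ← ht, pow_orderOf_eq_one]
  have hti : t⁻¹ = t := inv_eq_of_mul_eq_one_right htt
  obtain ⟨u, hu1, hup, hu⟩ := exists_inverted hC hno ht
  have hCu := hC u hu1 hup
  set K : Subgroup G := centralizer ({u} : Set G) with hK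
  have hnorm : zpowers t ≤ normalizer (K : Set G) := by
    rw [zpowers_le, mem_normalizer_iff]
    have key : ∀ h ∈ K, t * h * t⁻¹ ∈ K := by
      intro h hh
      have h1 : Commute h u := mem_centralizer_singleton_iff.1 hh
      have h2 := h1.inv_right.map (MulAut.conj t).toMonoidHom
      simp only [MulEquiv.coe_toMonoidHom, MulAut.conj_apply] at h2
      have h3 : t * u⁻¹ * t⁻¹ = u := by rw [← conj_inv, hu, inv_inv]
      rw [h3] at h2
      exact mem_centralizer_singleton_iff.2 h2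
    refine fun h => ⟨key h, fun hh => ?_⟩
    have := key _ hh
    have e : t * (t * h * t⁻¹) * t⁻¹ = h := by
      rw [hti]
      calc t * (t * h * t) * t = (t * t) * h * (t * t) := by group
        _ = h := by rw [htt, one_mul, mul_one]
    rwa [e] at this
  have hnil : Group.IsNilpotent (zpowers t) :=
    (IsPGroup.of_card (p := 2) (n := 1) (by rw [Nat.card_zpowers, ht, pow_one])).isNilpotent
  obtain ⟨Q₀, hQ₀⟩ := CfsgLib.Core.exists_invariant_sylow hnorm (by
      rw [Nat.card_zpowers, ht]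
      exact (Nat.coprime_two_left).2 hCu) (Or.inl inferInstance) p
  set Q : Subgroup G := (Q₀ : Subgroup K).map K.subtype with hQ
  have hQK : Q ≤ K := map_subtype_le _
  have hQp : IsPGroup p Q := Q₀.isPGroup'.map _
  have hmax : ∀ R : Subgroup G, IsPGroup p R → Q ≤ R → R ≤ K → R = Q := by
    intro R hR hQR hRK
    have h1 := Q₀.3 (hR.of_equiv (subgroupOfEquivOfLe hRK).symm) (fun x hx =>
      mem_subgroupOf.2 (hQR (mem_map_of_mem _ hx)))
    rw [hQ, ← h1, map_subgroupOf_eq_of_le hRK]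
  -- `t` inverts `Q`
  have htn : ∀ x ∈ Q, t * x * t⁻¹ ∈ Q := fun x hx =>
    (mem_normalizer_iff.1 (hQ₀ (mem_zpowers t)) x).1 hx
  let φ : Q →* Q := ((MulAut.conj t).toMonoidHom.comp Q.subtype).codRestrict Q fun x => htn x x.2
  have hφ : ∀ x : Q, ((φ x : Q) : G) = t * x * t⁻¹ := fun x => rfl
  have hfix : MonoidHom.FixedPointFree φ := by
    intro x hx
    by_contra hne
    obtain ⟨k, hk⟩ := IsPGroup.iff_orderOf.1 hQp x
    have hxo := hC (x : G) (fun h => hne (Subtype.ext h)) ⟨k, by rw [← hk, orderOf_coe]⟩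
    have hmem : t ∈ centralizer ({(x : G)} : Set G) := by
      rw [mem_centralizer_singleton_iff]
      have := congrArg Subtype.val hx
      rw [hφ] at this
      exact mul_inv_eq_iff_eq_mul.1 this
    have h2 := ht ▸ Subgroup.orderOf_dvd_natCard _ hmem
    exact Nat.not_even_iff_odd.2 hxo (even_iff_two_dvd.2 h2)
  have hinvol : Function.Involutive φ := fun x => Subtype.ext (by
    rw [hφ, hφ, hti]
    calc t * (t * x * t) * t = (t * t) * x * (t * t) := by group
      _ = x := by rw [htt, one_mul, mul_one])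
  have hQinv : ∀ x ∈ Q, t * x * t⁻¹ = x⁻¹ := fun x hx => by
    have := congrArg Subtype.val (congrFun (hfix.coe_eq_inv_of_involutive hinvol) ⟨x, hx⟩)
    rwa [hφ] at this
  have hQab : ∀ x ∈ Q, ∀ y ∈ Q, Commute x y := fun x hx y hy =>
    congrArg Subtype.val (hfix.commute_all_of_involutive hinvol ⟨x, hx⟩ ⟨y, hy⟩)
  have huQ : u ∈ Q := by
    have hz : zpowers u ≤ K := zpowers_le.2 (mem_centralizer_singleton_iff.2 rfl)
    have hnz : Q ≤ normalizer (zpowers u : Set G) := fun x hx => by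
      rw [mem_normalizer_iff]
      have hxu : Commute x u := mem_centralizer_singleton_iff.1 (hQK hx)
      intro h
      have hpow : ∀ h ∈ zpowers u, x * h * x⁻¹ = h := by
        rintro _ ⟨j, rfl⟩
        rw [(hxu.zpow_right j).eq, mul_inv_cancel_right]
      refine ⟨fun hh => by rwa [hpow h hh], fun hh => ?_⟩
      have h2 : h = x * h * x⁻¹ := by
        obtain ⟨j, hj⟩ := hh
        have e : h = x⁻¹ * u ^ j * x := by rw [show u ^ j = x * h * x⁻¹ from hj]; group
        rw [← hj]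
        calc h = x⁻¹ * u ^ j * x := e
          _ = u ^ j := by rw [mul_assoc, ← (hxu.zpow_right j).eq, inv_mul_cancel_left]
      rw [h2]; exact hh
    have hzp : IsPGroup p (zpowers u) := by
      obtain ⟨k, hk⟩ := hup
      exact IsPGroup.of_card (n := k) (by rw [Nat.card_zpowers, hk])
    have := hmax (Q ⊔ zpowers u) (hQp.to_sup_of_normal_right' hzp hnz) le_sup_left (sup_le hQK hz)
    exact this ▸ (le_sup_right : zpowers u ≤ _) (mem_zpowers u)
  -- `Q` is a Sylow subgroup
  obtain ⟨P, hP⟩ := hQp.exists_le_sylow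
  have hPQ : (P : Subgroup G) = Q := by
    by_contra hne
    have hlt : Q.subgroupOf (P : Subgroup G) < ⊤ := by
      rw [lt_top_iff_ne_top, Ne, subgroupOf_eq_top]
      exact fun h => hne (le_antisymm h hP)
    have := P.isPGroup'.isNilpotent
    obtain ⟨g, hgn, hgQ⟩ :=
      Set.exists_of_ssubset (Group.normalizerCondition_of_isNilpotent _ hlt)
    have hgn' : ∀ x ∈ Q, (g : G) * x * (g : G)⁻¹ ∈ Q := fun x hx =>
      mem_subgroupOf.1 ((mem_normalizer_iff.1 hgn ⟨x, hP hx⟩).1 (mem_subgroupOf.2 hx))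
    have hgn'' : ∀ x ∈ Q, (g : G)⁻¹ * x * (g : G) ∈ Q := fun x hx => by
      have := (mem_normalizer_iff''.1 hgn ⟨x, hP hx⟩).1 (mem_subgroupOf.2 hx)
      exact mem_subgroupOf.1 this
    set s : G := (g : G)⁻¹ * t * g with hs
    have hss : s * s = 1 := by
      calc s * s = (g : G)⁻¹ * (t * t) * g := by rw [hs]; group
        _ = 1 := by rw [htt]; group
    have hsinv : ∀ x ∈ Q, s * x * s⁻¹ = x⁻¹ := fun x hx => by
      calc s * x * s⁻¹ = (g : G)⁻¹ * (t * ((g : G) * x * (g : G)⁻¹) * t⁻¹) * g := by rw [hs]; group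
        _ = (g : G)⁻¹ * ((g : G) * x * (g : G)⁻¹)⁻¹ * g := by rw [hQinv _ (hgn' x hx)]
        _ = x⁻¹ := by group
    have hstC : ∀ x ∈ Q, Commute (s * t) x := fun x hx => by
      refine mul_inv_eq_iff_eq_mul.1 ?_
      calc s * t * x * (s * t)⁻¹ = s * (t * x * t⁻¹) * s⁻¹ := by group
        _ = x := by rw [hQinv x hx, ← conj_inv, hsinv x hx, inv_inv]
    have hodd : Odd (orderOf (s * t)) := Odd.of_dvd_nat hCu
      (orderOf_dvd_natCard _ (mem_centralizer_singleton_iff.2 (hstC u huQ)))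
    obtain ⟨m, hm⟩ := hodd
    set d := (s * t) ^ (m + 1)
    have hd2 : d * d = s * t := by
      rw [← pow_add, show m + 1 + (m + 1) = orderOf (s * t) + 1 by omega, pow_succ,
        pow_orderOf_eq_one, one_mul]
    have hsi : s⁻¹ = s := inv_eq_of_mul_eq_one_right hss
    have hdinv : t * d * t⁻¹ = d⁻¹ := by
      rw [← inv_pow, ← conj_pow]
      congr 1
      rw [_root_.mul_inv_rev, hti, hsi, mul_assoc, mul_assoc, htt, mul_one]
    have hst : s = d * t * d⁻¹ := by
      have h1 : t * d⁻¹ = d * t := by rw [← hdinv, hti, ← mul_assoc, ← mul_assoc, htt, one_mul]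
      rw [mul_assoc, h1, ← mul_assoc, hd2, mul_assoc, htt, mul_one]
    set h : G := (g : G) * d with hh
    have hhC : h ∈ centralizer ({t} : Set G) := by
      rw [mem_centralizer_singleton_iff]
      calc h * t = (g : G) * (d * t * d⁻¹) * d := by rw [hh]; group
        _ = (g : G) * s * d := by rw [← hst]
        _ = t * h := by rw [hs, hh]; group
    have hdQ : ∀ x ∈ Q, d * x * d⁻¹ = x := fun x hx => by
      rw [((hstC x hx).pow_left (m + 1)).eq, mul_inv_cancel_right]
    have hpow : ∀ j : ℕ, ∀ x ∈ Q,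
        (g : G) ^ j * x * ((g : G) ^ j)⁻¹ = h ^ j * x * (h ^ j)⁻¹ ∧
          (g : G) ^ j * x * ((g : G) ^ j)⁻¹ ∈ Q := by
      intro j
      induction j with
      | zero => intro x hx; simpa using hx
      | succ j ih =>
        intro x hx
        obtain ⟨e, hm'⟩ := ih x hx
        have e1 : (g : G) ^ (j + 1) * x * ((g : G) ^ (j + 1))⁻¹ =
            (g : G) * ((g : G) ^ j * x * ((g : G) ^ j)⁻¹) * (g : G)⁻¹ := by
          rw [pow_succ']; group
        refine ⟨?_, e1 ▸ hgn' _ hm'⟩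
        calc (g : G) ^ (j + 1) * x * ((g : G) ^ (j + 1))⁻¹
            = (g : G) * (d * ((g : G) ^ j * x * ((g : G) ^ j)⁻¹) * d⁻¹) * (g : G)⁻¹ := by
              rw [hdQ _ hm', e1]
          _ = h * ((g : G) ^ j * x * ((g : G) ^ j)⁻¹) * h⁻¹ := by rw [hh]; group
          _ = h ^ (j + 1) * x * (h ^ (j + 1))⁻¹ := by rw [e, pow_succ']; group
    set o := orderOf h with ho
    have hcop : Nat.Coprime o (orderOf (g : G)) := by
      obtain ⟨k, hk⟩ := IsPGroup.iff_orderOf.1 P.isPGroup' g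
      rw [orderOf_coe, hk]
      refine Nat.Coprime.pow_right k ((Nat.Prime.coprime_iff_not_dvd Fact.out).2 fun hd =>
        not_dvd_card_centralizer_involution hC ht ?_).symm
      exact hd.trans (orderOf_dvd_natCard _ hhC)
    obtain ⟨l, hl⟩ := exists_pow_eq_self_of_coprime hcop
    have hgK : (g : G) ∈ K := by
      have : Commute ((g : G) ^ o) u := by
        refine mul_inv_eq_iff_eq_mul.1 ?_
        rw [(hpow o u huQ).1, ho, pow_orderOf_eq_one]
        group
      rw [hK, mem_centralizer_singleton_iff, ← hl]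
      exact (this.pow_left l).eq
    have hsup : Q ⊔ zpowers (g : G) = Q := hmax _
      (P.isPGroup'.to_le (sup_le hP (zpowers_le.2 g.2))) le_sup_left (sup_le hQK (zpowers_le.2 hgK))
    exact hgQ (mem_subgroupOf.2 (hsup ▸ (le_sup_right : zpowers (g : G) ≤ _) (mem_zpowers _)))
  refine ⟨P, hPQ ▸ hQinv, Odd.of_dvd_nat hCu (card_dvd_of_le fun x hx => ?_)⟩
  exact mem_centralizer_singleton_iff.2 ((mem_centralizer_iff.1 hx u (hPQ ▸ huQ)).symm)

end CfsgLib.CharDegree
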