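import Cfsg.Agent.Lib.CharDegree.Basic
import Cfsg.Agent.Lib.Char.Complete
import Cfsg.Agent.Lib.Char.Monomial
import Cfsg.Agent.Lib.Char.Exceptional.NormalInd
import Cfsg.Agent.Lib.Blocks.Covering
import Cfsg.Agent.Lib.Core.Cores
import Cfsg.Agent.Lib.Core.SolvableStruct
import Cfsg.Agent.Lib.PLocal.PSolvable
import Cfsg.Agent.S0887
import Mathlib.GroupTheory.GroupAction.Quotient

/-!
# The theorem of Itô and Michler for `p`-solvable groups
-/

namespace CfsgLib.CharDegree

open CfsgLib.Char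

variable {G : Type*} [Group G] [Finite G]

/-- If all irreducible characters are linear, the group is commutative. -/
theorem comm_of_forall_linear (h : ∀ χ : Cfsg.IrrCharacter G, Cfsg.charDegree (χ : G → ℂ) = 1)
    (a b : G) : a * b = b * a := by
  have := Fintype.ofFinite G
  have := Fintype.ofFinite (Cfsg.IrrCharacter G)
  by_contra hne
  have hg : a * b * a⁻¹ * b⁻¹ ≠ 1 := fun h1 => hne (by
    rw [mul_inv_eq_one, mul_inv_eq_iff_eq_mul] at h1; exact h1)
  have h1 := sum_degree_mul_apply_of_ne_one (G := G) hg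
  have h2 : ∀ χ : Cfsg.IrrCharacter G,
      (χ : G → ℂ) 1 * (χ : G → ℂ) (a * b * a⁻¹ * b⁻¹) = 1 := fun χ => by
    obtain ⟨l, hl⟩ := exists_hom_of_degree_one χ (h χ)
    rw [hl]
    simp only [map_one, Units.val_one, one_mul]
    rw [show l (a * b * a⁻¹ * b⁻¹) = 1 by
      simp only [map_mul, map_inv]; rw [mul_comm (l a) (l b), mul_inv_cancel_right, mul_inv_cancel]]
    rfl
  simp only [h2, Finset.sum_const, Finset.card_univ, nsmul_eq_mul, mul_one, Nat.cast_eq_zero,
    Fintype.card_eq_zero_iff] at h1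
  exact h1.false (CfsgLib.Char.trivChar G)

omit [Finite G] in
/-- Irreducible characters separate classes. -/
theorem isConj_of_forall_irr [Finite G] {a b : G}
    (h : ∀ χ : Cfsg.IrrCharacter G, (χ : G → ℂ) a = (χ : G → ℂ) b) : IsConj a b := by
  classical
  have := Fintype.ofFinite G
  have := Fintype.ofFinite (Cfsg.IrrCharacter G)
  let f : G → ℂ := fun x => if IsConj a x then 1 else 0
  have hf : Cfsg.IsClassFunction G f := isClassFunction_iff_isConj.2 fun x y hxy => by
    simp only [f]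
    exact if_congr ⟨fun hx => hx.trans hxy, fun hy => hy.trans hxy.symm⟩ rfl rfl
  have h1 : f a = f b := by
    rw [classFunction_apply_eq_sum hf a, classFunction_apply_eq_sum hf b]
    simp only [h]
  by_contra hne
  rw [show f a = 1 from if_pos (IsConj.refl a), show f b = 0 from if_neg hne] at h1
  exact one_ne_zero h1

/-- A `p`-group of automorphisms fixing all classes of a normal `p'`-subgroup centralizes it. -/
theorem le_centralizer_of_fixes_classes {p : ℕ} [Fact p.Prime] (N : Subgroup G) [N.Normal]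
    (hN : ¬ p ∣ Nat.card N) (P : Subgroup G) (hP : IsPGroup p P)
    (h : ∀ x ∈ P, ∀ n : N, IsConj n (MulAut.conjNormal (x : G) n)) :
    N ≤ Subgroup.centralizer (P : Set G) := by
  classical
  have := Fintype.ofFinite N
  let C : Subgroup N := (Subgroup.centralizer (P : Set G)).subgroupOf N
  have hfix : ∀ n : N, ∃ m ∈ C, IsConj n m := by
    intro n
    let X := {m : N // IsConj n m}
    let _ : MulAction P X :=
      { smul := fun x m => ⟨MulAut.conjNormal (x : G) m.1, (h x x.2 n).trans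
          (MonoidHom.map_isConj ((MulAut.conjNormal (x : G) : MulAut N)).toMonoidHom m.2)⟩
        one_smul := fun m => Subtype.ext (show MulAut.conjNormal ((1 : P) : G) m.1 = m.1 by
          rw [Subgroup.coe_one, map_one]; rfl)
        mul_smul := fun x y m => Subtype.ext
          (show MulAut.conjNormal ((x * y : P) : G) m.1 =
              MulAut.conjNormal (x : G) (MulAut.conjNormal (y : G) m.1) by
            rw [Subgroup.coe_mul, map_mul]; rfl) }
    have hX : ¬ p ∣ Nat.card X := by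
      refine fun hd => hN (hd.trans ?_)
      have e : Nat.card X = (Subgroup.centralizer ({n} : Set N)).index := by
        rw [← card_carrier_eq_index]
        exact Nat.card_congr (Equiv.subtypeEquivRight fun m => by
          rw [ConjClasses.mem_carrier_iff_mk_eq, ConjClasses.mk_eq_mk_iff_isConj]
          exact isConj_comm)
      rw [e]
      exact Subgroup.index_dvd_card _
    obtain ⟨m, hm⟩ := hP.nonempty_fixed_point_of_prime_not_dvd_card X hX
    refine ⟨m.1, Subgroup.mem_subgroupOf.2 (Subgroup.mem_centralizer_iff.2 fun x hx => ?_), m.2⟩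
    have h1 : x * (m.1 : G) * x⁻¹ = m.1 := by
      have := congrArg (fun z : X => ((z.1 : N) : G)) (hm ⟨x, hx⟩)
      exact (MulAut.conjNormal_apply (x : G) m.1).symm.trans this
    exact mul_inv_eq_iff_eq_mul.1 h1
  have hC : C = ⊤ := by
    have hsum := MulAction.sum_card_fixedBy_eq_card_orbits_mul_card_group N (N ⧸ C)
    have h1 : ∀ n : N, 1 ≤ Fintype.card (MulAction.fixedBy (N ⧸ C) n) := by
      intro n
      obtain ⟨m, hm, hc⟩ := hfix n
      obtain ⟨y, hy⟩ := isConj_iff.1 hc
      refine Fintype.card_pos_iff.2 ⟨⟨QuotientGroup.mk y⁻¹, ?_⟩⟩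
      rw [MulAction.mem_fixedBy, MulAction.Quotient.smul_mk, QuotientGroup.eq, smul_eq_mul,
        mul_inv_rev, inv_inv,
        show y * n⁻¹ * y⁻¹ = (y * n * y⁻¹)⁻¹ by group, hy]
      exact C.inv_mem hm
    have horb : Fintype.card (Quotient (MulAction.orbitRel N (N ⧸ C))) = 1 := by
      have := MulAction.pretransitive_iff_subsingleton_quotient N (N ⧸ C) |>.1 inferInstance
      exact Fintype.card_eq_one_iff.2 ⟨Quotient.mk _ (QuotientGroup.mk 1), fun x => Subsingleton.elim _ _⟩
    rw [horb, one_mul] at hsum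
    by_contra hne
    have h2 : ∑ n : N, 1 < ∑ n : N, Fintype.card (MulAction.fixedBy (N ⧸ C) n) := by
      refine Finset.sum_lt_sum (fun n _ => h1 n) ⟨1, Finset.mem_univ _, ?_⟩
      rw [← Nat.card_eq_fintype_card, Nat.card_congr
        ((Equiv.setCongr (MulAction.fixedBy_one_eq_univ (N ⧸ C) N)).trans (Equiv.Set.univ _)),
        ← Subgroup.index_eq_card]
      exact Nat.one_lt_iff_ne_zero_and_ne_one.2
        ⟨Subgroup.index_ne_zero_of_finite, fun e => hne (Subgroup.index_eq_one.1 e)⟩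
    rw [Finset.sum_const, smul_eq_mul, mul_one, Finset.card_univ, hsum] at h2
    exact lt_irrefl _ h2
  exact Subgroup.subgroupOf_eq_top.1 hC

/-- If `p` divides no degree and `G` is `p`-solvable, the Sylow `p`-subgroups are normal. -/
theorem sylow_normal_of_not_dvd_degree {p : ℕ} [Fact p.Prime] :
    ∀ (n : ℕ) {G : Type*} [Group G] [Finite G], Nat.card G = n → Cfsg.IsPSolvable p G ∨ Group.IsSolvable G →
      (∀ χ : Cfsg.IrrCharacter G, ¬ p ∣ Cfsg.charDegree (χ : G → ℂ)) →
      ∀ P : Sylow p G, (P : Subgroup G).Normal := by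
  intro n
  induction n using Nat.strongRecOn with
  | ind n ih =>
  intro G _ _ hn hsol hdeg P
  classical
  have := Fintype.ofFinite G
  have hp : p.Prime := Fact.out
  rcases subsingleton_or_nontrivial G with hs | hnt
  · exact ⟨fun a ha g => by rwa [Subsingleton.elim (g * a * g⁻¹) a]⟩
  obtain ⟨N, hNn, hN1, hcase⟩ : ∃ N : Subgroup G, N.Normal ∧ N ≠ ⊥ ∧
      (IsPGroup p N ∨ ¬ p ∣ Nat.card N) := by
    by_cases h0 : Cfsg.pPrimeCore p G = ⊥
    · refine ⟨Cfsg.pCore p G, inferInstance, fun h1 => ?_,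
        Or.inl (CfsgLib.Core.isPGroup_pCore p G)⟩
      have hC : Subgroup.centralizer (Cfsg.pCore p G : Set G) ≤ Cfsg.pCore p G := by
        rcases hsol with h | h
        · exact CfsgLib.PLocal.centralizer_pCore_le h h0
        · exact CfsgLib.Core.centralizer_pCore_le_of_pPrimeCore_eq_bot h0
      rw [h1] at hC
      obtain ⟨g, hg⟩ := exists_ne (1 : G)
      exact hg (Subgroup.mem_bot.1 (hC (Subgroup.mem_centralizer_iff.2 fun y hy => by
        rw [Subgroup.mem_bot.1 hy, one_mul, mul_one])))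
    · exact ⟨Cfsg.pPrimeCore p G, inferInstance, h0, Or.inr fun h =>
        hp.coprime_iff_not_dvd.1 (CfsgLib.Core.coprime_card_pPrimeCore p G).symm h⟩
  have hlt : Nat.card (G ⧸ N) < n := by
    rw [← hn, Subgroup.card_eq_card_quotient_mul_card_subgroup N]
    exact lt_mul_of_one_lt_right Nat.card_pos ((Subgroup.one_lt_card_iff_ne_bot N).2 hN1)
  have hq := ih _ hlt (G := G ⧸ N) rfl (hsol.imp (CfsgLib.PLocal.isPSolvable_quotient · N) fun h => @Group.isSolvable_of_surjective _ _ _ _ _ (QuotientGroup.mk'_surjective N) h)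
    (fun χ => by rw [← charDegree_infl N χ]; exact hdeg _)
    (P.mapSurjective (QuotientGroup.mk'_surjective N))
  have hH : ((P : Subgroup G) ⊔ N).Normal := by
    have h1 := hq.comap (QuotientGroup.mk' N)
    rw [Sylow.coe_mapSurjective, Subgroup.comap_map_eq, QuotientGroup.ker_mk'] at h1
    exact h1
  rcases hcase with hNp | hNp'
  · have hle : N ≤ P := hNp.le_sylow_of_normal P
    rwa [sup_eq_left.2 hle] at hH
  let H := (P : Subgroup G) ⊔ N
  have hPH : (P : Subgroup G) ≤ H := le_sup_left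
  have := Fintype.ofFinite H
  -- the degrees of `H` are prime to `p`
  have hdegH : ∀ ψ : Cfsg.IrrCharacter H, ¬ p ∣ Cfsg.charDegree (ψ : H → ℂ) := by
    intro ψ hd
    obtain ⟨χ, hχ⟩ := CfsgLib.Blocks.exists_irr_over H ψ
    exact hdeg χ (hd.trans (Cfsg.Agent.S0887.result H χ χ.2 ψ ψ.2 hχ _ _
      (cast_irrDegree χ).symm (cast_irrDegree ψ).symm).1)
  -- `P` fixes the classes of `N`
  let K : Subgroup H := N.subgroupOf H
  have := Fintype.ofFinite K
  have := Fintype.ofFinite (Cfsg.IrrCharacter K)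
  have hcK : ¬ p ∣ Nat.card K := by
    rwa [Nat.card_congr (Subgroup.subgroupOfEquivOfLe (show N ≤ H from le_sup_right)).toEquiv]
  have hidx : ∀ q : ℕ, q.Prime → q ∣ K.index → q = p := by
    intro q hq' hd
    have h1 : K.index ∣ Nat.card (P : Subgroup G) := by
      show N.relIndex ((P : Subgroup G) ⊔ N) ∣ _
      rw [Subgroup.relIndex_sup_right]
      exact Subgroup.relIndex_dvd_card _ _
    obtain ⟨k, hk⟩ := IsPGroup.iff_card.1 P.2
    exact (Nat.prime_dvd_prime_iff_eq hq' hp).1 (hq'.dvd_of_dvd_pow (hk ▸ hd.trans h1))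
  have hfix : ∀ x ∈ (P : Subgroup G).subgroupOf H, ∀ m : K,
      IsConj m (MulAut.conjNormal (x : H) m) := by
    refine fun x _ m => isConj_of_forall_irr fun θ => ?_
    obtain ⟨ψ, hψ⟩ := CfsgLib.Blocks.exists_irr_over K θ
    obtain ⟨h1, h2⟩ := Cfsg.Agent.S0887.result K ψ ψ.2 θ θ.2 hψ _ _
      (cast_irrDegree ψ).symm (cast_irrDegree θ).symm
    have he : Cfsg.charDegree (ψ : H → ℂ) = Cfsg.charDegree (θ : K → ℂ) := by
      refine (Nat.eq_of_dvd_of_div_eq_one h1 ?_).symm
      by_contra hne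
      obtain ⟨q, hq', hqd⟩ := Nat.exists_prime_and_dvd hne
      exact hdegH ψ (hidx q hq' (hqd.trans h2) ▸ hqd.trans (Nat.div_dvd_of_dvd h1))
    obtain ⟨c, hc⟩ := IsChar.exists_sum (IsChar.restrict K (IsIrr.isCharacter ψ.2))
    have hc' : ∀ y : K, (ψ : H → ℂ) y = ∑ η, (c η : ℂ) * (η : K → ℂ) y := fun y => by
      rw [congrFun hc y]; simp
    have hcθ : c θ ≠ 0 := fun h0 => hψ (by
      rw [show (fun n : K => (ψ : H → ℂ) n) = ∑ η, (c η : ℂ) • (η : K → ℂ) from
        funext fun y => congrFun hc y, classInner_sum_irr, h0, Nat.cast_zero])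
    have h3 : Cfsg.charDegree (θ : K → ℂ) = ∑ η, c η * Cfsg.charDegree (η : K → ℂ) := by
      have h4 := hc' 1
      rw [OneMemClass.coe_one, ← cast_irrDegree, he] at h4
      simp only [← cast_irrDegree] at h4
      exact_mod_cast h4
    have h5 : c θ = 1 ∧ ∀ η, η ≠ θ → c η = 0 := by
      rw [← Finset.add_sum_erase _ _ (Finset.mem_univ θ)] at h3
      have hpos := charDegree_pos θ
      have hc1 : 1 * Cfsg.charDegree (θ : K → ℂ) ≤ c θ * Cfsg.charDegree (θ : K → ℂ) :=
        Nat.mul_le_mul_right _ (Nat.pos_of_ne_zero hcθ)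
      refine ⟨Nat.eq_of_mul_eq_mul_right hpos (by omega), fun η hη => ?_⟩
      have hz : ∑ η ∈ Finset.univ.erase θ, c η * Cfsg.charDegree (η : K → ℂ) = 0 := by omega
      exact (mul_eq_zero.1 ((Finset.sum_eq_zero_iff.1 hz) η (by simp [hη]))).resolve_right
        (charDegree_pos η).ne'
    have hv : ∀ y : K, (θ : K → ℂ) y = (ψ : H → ℂ) y := fun y => by
      rw [hc' y, Finset.sum_eq_single θ (fun η _ hη => by rw [h5.2 η hη, Nat.cast_zero, zero_mul])
        (fun h => absurd (Finset.mem_univ _) h), h5.1, Nat.cast_one, one_mul]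
    rw [hv, hv, MulAut.conjNormal_apply]
    exact (IsIrr.isClassFunction ψ.2 _ _).symm
  have hcent := le_centralizer_of_fixes_classes K hcK ((P : Subgroup G).subgroupOf H)
    P.2.comap_subtype hfix
  have hNnorm : H ≤ Subgroup.normalizer ((P : Subgroup G) : Set G) := by
    refine sup_le Subgroup.le_normalizer fun m hm => ?_
    refine Subgroup.centralizer_le_normalizer _ (Subgroup.mem_centralizer_iff.2 fun x hx => ?_)
    have h := Subgroup.mem_centralizer_iff.1
      (hcent (show (⟨m, (le_sup_right : N ≤ H) hm⟩ : H) ∈ K from hm)) ⟨x, hPH hx⟩ hx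
    exact congrArg Subtype.val h
  have : H.Normal := hH
  have := Sylow.normalizer_sup_eq_top' (N := H) P hPH
  rw [← Sylow.coe_coe, sup_eq_left.2 hNnorm] at this
  exact Subgroup.normalizer_eq_top_iff.1 this

/-- The theorem of Itô and Michler for `p`-solvable groups. -/
theorem itoMichler {p : ℕ} [Fact p.Prime] (hsol : Cfsg.IsPSolvable p G ∨ Group.IsSolvable G) (P : Sylow p G) :
    ((P : Subgroup G).Normal ∧ IsMulCommutative P) ↔
      ∀ χ : Cfsg.IrrCharacter G, ¬ p ∣ Cfsg.charDegree (χ : G → ℂ) := by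
  have hp : p.Prime := Fact.out
  refine ⟨fun ⟨hn, hc⟩ χ hd => ?_, fun h => ?_⟩
  · obtain ⟨n, ρ, hρ, -, hn'⟩ := exists_rep χ
    have := hρ
    have h1 := CfsgLib.Clifford.finrank_dvd_index n ρ (P : Subgroup G) fun a ha b hb =>
      congrArg Subtype.val (hc.1.comm (⟨a, ha⟩ : P) ⟨b, hb⟩)
    rw [Module.finrank_pi, Fintype.card_fin, hn'] at h1
    exact Sylow.not_dvd_index P (hd.trans h1)
  have hn := sylow_normal_of_not_dvd_degree _ rfl hsol h P
  refine ⟨hn, ⟨⟨comm_of_forall_linear fun θ => ?_⟩⟩⟩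
  have := Fintype.ofFinite G
  have := Fintype.ofFinite (P : Subgroup G)
  obtain ⟨χ, hχ⟩ := CfsgLib.Blocks.exists_irr_over (P : Subgroup G) θ
  have hd := (Cfsg.Agent.S0887.result (P : Subgroup G) χ χ.2 θ θ.2 hχ _ _
    (cast_irrDegree χ).symm (cast_irrDegree θ).symm).1
  obtain ⟨k, hk⟩ := IsPGroup.iff_card.1 P.2
  obtain ⟨j, -, hj⟩ := (Nat.dvd_prime_pow hp).1 (hk ▸ charDegree_dvd_card θ)
  rcases j with _ | j
  · simpa using hj
  · exact absurd ((dvd_pow_self p (Nat.succ_ne_zero j)).trans (hj ▸ hd)) (h χ)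

end CfsgLib.CharDegree
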