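import Cfsg.Agent.Lib.CharAction.Galois
import Mathlib.GroupTheory.FiniteAbelian.Duality
import Mathlib.RingTheory.RootsOfUnity.Complex
import Mathlib.Analysis.Complex.Polynomial.Basic
import Mathlib.RingTheory.RootsOfUnity.AlgebraicallyClosed
import Mathlib.Analysis.Complex.Norm

/-!
# A weighted norm inequality on a finite abelian group

For subgroups `K` of a finite abelian group `A` the weight `1 + |A : K| [h ∉ K]` multiplies the
squared norm of a combination of linear characters by at least the index. The coefficients are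
vectors of conjugate algebraic integers, whose squared norms are at least their length on average.
-/

namespace CfsgLib.CharDegree.Knorr

open scoped ComplexConjugate

/-- Conjugate vectors of integers of a cyclotomic field. -/
theorem exists_conj_vectors (q : ℕ) (hq : 0 < q) :
    ∃ (ζ : ℂ) (N : ℕ) (k : Fin N → ℕ), IsPrimitiveRoot ζ q ∧ 0 < N ∧ (∀ i, q.Coprime (k i)) ∧
      ∀ P : Polynomial ℤ, (fun i => Polynomial.aeval (ζ ^ k i) P) ≠ 0 →
        (N : ℝ) ≤ ∑ i, ‖Polynomial.aeval (ζ ^ k i) P‖ ^ 2 := by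
  classical
  let ζ : ℂ := Complex.exp (2 * Real.pi * Complex.I / q)
  have hζ : IsPrimitiveRoot ζ q := Complex.isPrimitiveRoot_exp q hq.ne'
  let K : IntermediateField ℚ ℂ := IntermediateField.adjoin ℚ {ζ}
  have hfin : FiniteDimensional ℚ K :=
    IntermediateField.adjoin.finiteDimensional (IsIntegral.of_pow hq (by
      rw [hζ.pow_eq_one]; exact isIntegral_one))
  let z : K := ⟨ζ, IntermediateField.mem_adjoin_simple_self ℚ ζ⟩
  have hz : IsPrimitiveRoot z q :=
    IsPrimitiveRoot.of_map_of_injective (f := K.val) hζ K.val.injective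
  haveI : NeZero q := ⟨hq.ne'⟩
  have hk : ∀ σ : K →ₐ[ℚ] ℂ, ∃ k : ℕ, k.Coprime q ∧ σ z = ζ ^ k := fun σ => by
    have h : IsPrimitiveRoot (σ z) q := hz.map_of_injective σ.injective
    obtain ⟨i, -, hi'⟩ := hζ.eq_pow_of_pow_eq_one h.pow_eq_one
    refine ⟨i, ?_, hi'.symm⟩
    rw [← hi'] at h
    exact (hζ.pow_iff_coprime hq i).mp h
  choose kk hkc hke using hk
  let e := (Fintype.equivFin (K →ₐ[ℚ] ℂ)).symm
  refine ⟨ζ, Fintype.card (K →ₐ[ℚ] ℂ), fun i => kk (e i), hζ, ?_, fun i => (hkc _).symm, ?_⟩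
  · exact Fintype.card_pos_iff.mpr ⟨{ K.val.toRingHom with commutes' := fun r => by simp }⟩
  intro P hP
  set x : K := Polynomial.aeval z P with hx
  have hσ : ∀ σ : K →ₐ[ℚ] ℂ, σ x = Polynomial.aeval (ζ ^ kk σ) P := fun σ => by
    rw [← hke σ, hx]
    exact (Polynomial.aeval_algHom_apply (σ.restrictScalars ℤ) z P).symm
  have hx0 : x ≠ 0 := fun h => hP (funext fun i => by
    show Polynomial.aeval (ζ ^ kk (e i)) P = 0
    rw [← hσ, h, map_zero])
  have hxi : IsIntegral ℤ x :=
    (Algebra.adjoin_le (S := integralClosure ℤ K) (s := {z}) (Set.singleton_subset_iff.2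
      (IsIntegral.of_pow hq (by rw [hz.pow_eq_one]; exact isIntegral_one))))
      (Polynomial.aeval_mem_adjoin_singleton ℤ z)
  obtain ⟨c, hc⟩ := IsIntegrallyClosed.isIntegral_iff.mp (Algebra.isIntegral_norm ℚ hxi)
  have hprod := Algebra.norm_eq_prod_embeddings ℚ ℂ x
  have hc0 : c ≠ 0 := fun h => by
    rw [h, map_zero, eq_comm, Algebra.norm_eq_zero_iff] at hc
    exact hx0 hc
  have h1 : (1 : ℝ) ≤ ∏ σ : K →ₐ[ℚ] ℂ, ‖σ x‖ ^ 2 := by
    rw [Finset.prod_pow, ← norm_prod, ← hprod, ← hc]
    simp only [eq_intCast, map_intCast, Complex.norm_intCast]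
    exact one_le_pow₀ (by exact_mod_cast Int.one_le_abs hc0)
  have h2 := CfsgLib.CharAction.card_le_sum_of_one_le_prod (Finset.univ : Finset (K →ₐ[ℚ] ℂ))
    (fun σ => ‖σ x‖ ^ 2) (fun σ _ => pow_pos (norm_pos_iff.2 ((map_ne_zero_iff σ σ.injective).2 hx0)) 2) h1
  rw [Finset.card_univ] at h2
  refine h2.trans (le_of_eq ?_)
  rw [← Equiv.sum_comp e]
  simp only [hσ]

variable {A : Type*} [CommGroup A] [Finite A]

theorem finite_dual : Finite (A →* ℂˣ) :=
  Nat.finite_of_card_ne_zero (by
    rw [CommGroup.card_monoidHom_of_hasEnoughRootsOfUnity A ℂ]; exact Nat.card_pos.ne')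

attribute [local instance] finite_dual

/-- The linear characters trivial on a subgroup. -/
def ann (K : Subgroup A) : Subgroup (A →* ℂˣ) where
  carrier := {l | ∀ k ∈ K, l k = 1}
  one_mem' _ _ := rfl
  mul_mem' {a b} ha hb k hk := by rw [MonoidHom.mul_apply, ha k hk, hb k hk, mul_one]
  inv_mem' {a} ha k hk := by rw [MonoidHom.inv_apply, ha k hk, inv_one]

theorem card_ann (K : Subgroup A) : Nat.card (ann K) = K.index := by
  rw [Subgroup.index_eq_card, ← CommGroup.card_monoidHom_of_hasEnoughRootsOfUnity (A ⧸ K) ℂ]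
  exact Nat.card_congr
    { toFun := fun l => QuotientGroup.lift K l.1 fun k hk => MonoidHom.mem_ker.2 (l.2 k hk)
      invFun := fun m => ⟨m.comp (QuotientGroup.mk' K), fun k hk => by
        rw [MonoidHom.comp_apply, QuotientGroup.mk'_apply, (QuotientGroup.eq_one_iff k).2 hk, map_one]⟩
      left_inv := fun l => Subtype.ext (MonoidHom.ext fun x => rfl)
      right_inv := fun m => MonoidHom.ext fun q => QuotientGroup.induction_on q fun x => rfl }

theorem sum_ann_apply (K : Subgroup A) [Fintype (ann K)] (h : A) [Decidable (h ∈ K)] :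
    ∑ l : ann K, ((l.1 h : ℂˣ) : ℂ) = if h ∈ K then (K.index : ℂ) else 0 := by
  classical
  split_ifs with hh
  · rw [Finset.sum_congr rfl fun l _ => by rw [l.2 h hh, Units.val_one], Finset.sum_const,
      Finset.card_univ, ← Nat.card_eq_fintype_card, card_ann, nsmul_one]
  · obtain ⟨m, hm⟩ := CommGroup.exists_apply_ne_one_of_hasEnoughRootsOfUnity (A ⧸ K) ℂ
      (a := (h : A ⧸ K)) fun h1 => hh ((QuotientGroup.eq_one_iff h).1 h1)
    let l₀ : ann K := ⟨m.comp (QuotientGroup.mk' K), fun k hk => by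
      rw [MonoidHom.comp_apply, QuotientGroup.mk'_apply, (QuotientGroup.eq_one_iff k).2 hk, map_one]⟩
    have h1 : (l₀.1 h : ℂ) * ∑ l : ann K, ((l.1 h : ℂˣ) : ℂ) = ∑ l : ann K, ((l.1 h : ℂˣ) : ℂ) := by
      rw [Finset.mul_sum]
      exact Fintype.sum_equiv (Equiv.mulLeft l₀) _ _ fun l => by simp
    by_contra hne
    refine hm (Units.ext ?_)
    have := mul_right_cancel₀ hne (h1.trans (one_mul _).symm)
    simpa [l₀] using this

theorem norm_apply (b : A →* ℂˣ) (h : A) : ‖(b h : ℂ)‖ = 1 := by
  have h1 : (b h : ℂ) ^ Nat.card A = 1 := by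
    rw [← Units.val_pow_eq_pow_val, ← map_pow, pow_card_eq_one', map_one, Units.val_one]
  exact Complex.norm_eq_one_of_pow_eq_one h1 Nat.card_pos.ne'

theorem sum_norm_one_sub (K : Subgroup A) [Fintype (ann K)] (h : A) [Decidable (h ∈ K)] :
    ∑ l : ann K, ‖(1 : ℂ) - (l.1 h : ℂ)‖ ^ 2 = if h ∈ K then 0 else 2 * (K.index : ℝ) := by
  have h1 : ∀ l : ann K, ‖(1 : ℂ) - (l.1 h : ℂ)‖ ^ 2 = 2 - 2 * ((l.1 h : ℂ)).re := fun l => by
    have h2 := norm_apply l.1 h
    have h3 : ((l.1 h : ℂ)).re ^ 2 + ((l.1 h : ℂ)).im ^ 2 = 1 := by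
      have h4 := Complex.normSq_eq_norm_sq (l.1 h : ℂ)
      rw [h2, one_pow, Complex.normSq_apply] at h4
      nlinarith [h4]
    rw [← Complex.normSq_eq_norm_sq, Complex.normSq_apply]
    simp only [Complex.sub_re, Complex.sub_im, Complex.one_re, Complex.one_im]
    nlinarith [h3]
  rw [Finset.sum_congr rfl fun l _ => h1 l, Finset.sum_sub_distrib, ← Finset.mul_sum,
    ← Complex.re_sum, sum_ann_apply, Finset.sum_const, Finset.card_univ,
    ← Nat.card_eq_fintype_card, card_ann, nsmul_eq_mul]
  split_ifs <;> simp <;> ring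

open scoped Classical in
/-- The weight of a list of subgroups. -/
noncomputable def wt (L : List (Subgroup A)) (h : A) : ℝ :=
  (L.map fun K => if h ∈ K then (1 : ℝ) else (K.index : ℝ) + 1).prod

theorem wt_nonneg (L : List (Subgroup A)) (h : A) : 0 ≤ wt L h := by
  classical
  induction L with
  | nil => simp [wt]
  | cons K L ih =>
    simp only [wt, List.map_cons, List.prod_cons]
    exact mul_nonneg (by split_ifs <;> positivity) ih

/-- The intersection of a list of subgroups. -/
def meet (L : List (Subgroup A)) : Subgroup A := L.foldr (· ⊓ ·) ⊤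

variable [Fintype A] [Fintype (A →* ℂˣ)] {N : ℕ}

/-- The combination of linear characters. -/
noncomputable def comb (a : (A →* ℂˣ) → Fin N → ℂ) (i : Fin N) (h : A) : ℂ :=
  ∑ b, a b i * (b h : ℂ)

/-- The weighted sum of squared norms. -/
noncomputable def form (L : List (Subgroup A)) (a : (A →* ℂˣ) → Fin N → ℂ) : ℝ :=
  ∑ h, wt L h * ∑ i, ‖comb a i h‖ ^ 2

open scoped Classical in
/-- The restrictions of the support. -/
noncomputable def restrSupp (J : Subgroup A) (a : (A →* ℂˣ) → Fin N → ℂ) : Finset (J →* ℂˣ) :=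
  (Finset.univ.filter fun b => a b ≠ 0).image fun b => b.comp J.subtype

theorem comb_delta (a : (A →* ℂˣ) → Fin N → ℂ) (l : A →* ℂˣ) (i : Fin N) (h : A) :
    comb (fun b => a b - a (b * l⁻¹)) i h = (1 - (l h : ℂ)) * comb a i h := by
  simp only [comb, Pi.sub_apply, sub_mul, Finset.sum_sub_distrib]
  rw [one_mul, Finset.mul_sum]
  congr 1
  refine Fintype.sum_equiv (Equiv.mulRight l⁻¹) _ _ fun b => ?_
  rw [Equiv.coe_mulRight, MonoidHom.mul_apply, MonoidHom.inv_apply, Units.val_mul]
  have h1 : (l h : ℂ) * ((l h)⁻¹ : ℂˣ) = 1 := Units.mul_inv _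
  linear_combination -(a (b * l⁻¹) i * (b h : ℂ)) * h1

theorem form_cons (K : Subgroup A) [Fintype (ann K)] (L : List (Subgroup A))
    (a : (A →* ℂˣ) → Fin N → ℂ) :
    form (K :: L) a = form L a +
      (1 / 2 : ℝ) * ∑ l : ann K, form L (fun b => a b - a (b * (l : A →* ℂˣ)⁻¹)) := by
  classical
  simp only [form, comb_delta, norm_mul, mul_pow]
  rw [Finset.sum_comm, Finset.mul_sum, ← Finset.sum_add_distrib]
  refine Finset.sum_congr rfl fun h _ => ?_
  rw [← Finset.mul_sum, ← Finset.sum_mul_sum, sum_norm_one_sub]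
  simp only [wt, List.map_cons, List.prod_cons]
  split_ifs with hh
  · simp
  · ring

theorem form_nil (a : (A →* ℂˣ) → Fin N → ℂ) :
    form ([] : List (Subgroup A)) a = (Nat.card A : ℝ) * ∑ b, ∑ i, ‖a b i‖ ^ 2 := by
  classical
  simp only [form, wt, List.map_nil, List.prod_nil, one_mul]
  rw [Finset.sum_comm, Finset.sum_comm (γ := A →* ℂˣ), Finset.mul_sum]
  refine Finset.sum_congr rfl fun i _ => ?_
  apply Complex.ofReal_injective
  push_cast
  simp only [← Complex.mul_conj', comb, map_sum, map_mul, Finset.sum_mul_sum]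
  rw [Finset.sum_comm, Finset.mul_sum]
  refine Finset.sum_congr rfl fun b _ => ?_
  rw [Finset.sum_comm, Finset.sum_eq_single b]
  · have h1 : ∀ h : A, (b h : ℂ) * conj (b h : ℂ) = 1 := fun h => by
      rw [Complex.mul_conj', norm_apply]; simp
    rw [Finset.sum_congr rfl (g := fun _ : A => a b i * conj (a b i)) fun h _ => by
      linear_combination (a b i * conj (a b i)) * h1 h]
    rw [Finset.sum_const, Finset.card_univ, nsmul_eq_mul, Nat.card_eq_fintype_card]
  · intro c _ hc
    have h0 : ∑ h : A, (b h : ℂ) * conj (c h : ℂ) = 0 := by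
      obtain ⟨x, hx⟩ := DFunLike.ne_iff.1 hc
      have hx' : (b x : ℂ) * conj (c x : ℂ) ≠ 1 := fun h1 => hx (Units.ext (by
        have h2 : (c x : ℂ) * conj (c x : ℂ) = 1 := by rw [Complex.mul_conj', norm_apply]; simp
        have h3 : conj (c x : ℂ) ≠ 0 := fun h4 => by simp [h4] at h2
        exact mul_right_cancel₀ h3 (h2.trans h1.symm)))
      have h5 : ((b x : ℂ) * conj (c x : ℂ)) * ∑ h : A, (b h : ℂ) * conj (c h : ℂ) =
          ∑ h : A, (b h : ℂ) * conj (c h : ℂ) := by
        rw [Finset.mul_sum]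
        exact Fintype.sum_equiv (Equiv.mulLeft x) _ _ fun h => by
          simp only [Equiv.coe_mulLeft, map_mul, Units.val_mul]; ring
      by_contra hne
      exact hx' (mul_right_cancel₀ hne (h5.trans (one_mul _).symm))
    rw [Finset.sum_congr rfl (g := fun h : A => (a b i * conj (a c i)) * ((b h : ℂ) * conj (c h : ℂ)))
      fun h _ => by ring, ← Finset.mul_sum, h0, mul_zero]
  · simp

omit [Fintype A] [Fintype (A →* ℂˣ)] in
theorem meet_cons (K : Subgroup A) (L : List (Subgroup A)) : meet (K :: L) = K ⊓ meet L := rfl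

/-- The main inequality. -/
theorem le_form (R : AddSubgroup (Fin N → ℂ))
    (hR : ∀ x ∈ R, x ≠ 0 → (N : ℝ) ≤ ∑ i, ‖x i‖ ^ 2) :
    ∀ (L : List (Subgroup A)) (a : (A →* ℂˣ) → Fin N → ℂ), (∀ b, a b ∈ R) →
      (N : ℝ) * Nat.card A * (meet L).index * (restrSupp (meet L) a).card ≤ form L a := by
  classical
  intro L
  induction L with
  | nil =>
    intro a ha
    rw [show meet ([] : List (Subgroup A)) = ⊤ from rfl, Subgroup.index_top, Nat.cast_one, mul_one,
      form_nil, mul_comm (N : ℝ), mul_assoc]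
    refine mul_le_mul_of_nonneg_left ?_ (Nat.cast_nonneg _)
    refine le_trans ?_ (Finset.sum_le_univ_sum_of_nonneg (s := Finset.univ.filter fun b => a b ≠ 0)
      fun b => Finset.sum_nonneg fun i _ => sq_nonneg _)
    refine le_trans ?_ (Finset.card_nsmul_le_sum _ _ (N : ℝ)
      fun b hb => hR _ (ha b) (Finset.mem_filter.1 hb).2)
    rw [nsmul_eq_mul, mul_comm (N : ℝ)]
    exact mul_le_mul_of_nonneg_right (Nat.cast_le.2 Finset.card_image_le) (Nat.cast_nonneg _)
  | cons K L ih =>
    intro a ha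
    set J := meet L
    have := Fintype.ofFinite (ann K)
    rw [form_cons, meet_cons]
    set T := restrSupp J a with hT
    let res : ann K →* (J →* ℂˣ) :=
      { toFun := fun l => (l : A →* ℂˣ).comp J.subtype
        map_one' := rfl
        map_mul' := fun _ _ => rfl }
    have hcan1 : ∀ {B : Type _} [CommGroup B] (x y : B →* ℂˣ), x * y⁻¹ * y = x := fun x y => by
      ext z; simp
    have hcan2 : ∀ {B : Type _} [CommGroup B] (x y : B →* ℂˣ), x * y * y⁻¹ = x := fun x y => by
      ext z; simp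
    -- each translate contributes
    have hl : ∀ l : ann K, (N : ℝ) * Nat.card A * J.index *
        (2 * (T.filter fun t => t * (res l)⁻¹ ∉ T).card : ℝ) ≤
        form L (fun b => a b - a (b * (l : A →* ℂˣ)⁻¹)) := by
      intro l
      refine le_trans ?_ (ih _ fun b => sub_mem (ha b) (ha _))
      refine mul_le_mul_of_nonneg_left ?_ (by positivity)
      have h1 : (T.filter fun t => t * (res l)⁻¹ ∉ T) = T \ T.image (· * res l) := by
        ext t
        simp only [Finset.mem_filter, Finset.mem_sdiff, Finset.mem_image, and_congr_right_iff]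
        exact fun _ => not_congr ⟨fun h => ⟨_, h, hcan1 _ _⟩,
          fun ⟨s, hs, he⟩ => by rwa [← he, hcan2]⟩
      have h2 : (T \ T.image (· * res l)).card = (T.image (· * res l) \ T).card :=
        Finset.card_sdiff_comm (Finset.card_image_of_injective _ (mul_left_injective _)).symm
      have h3 : (T \ T.image (· * res l)) ∪ (T.image (· * res l) \ T) ⊆
          restrSupp J (fun b => a b - a (b * (l : A →* ℂˣ)⁻¹)) := by
        intro s hs
        have hmul : ∀ b : A →* ℂˣ, (b * (l : A →* ℂˣ)).comp J.subtype = b.comp J.subtype * res l :=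
          fun b => rfl
        rcases Finset.mem_union.1 hs with h4 | h4
        · obtain ⟨h5, h6⟩ := Finset.mem_sdiff.1 h4
          obtain ⟨b, hb, rfl⟩ := Finset.mem_image.1 h5
          have h7 : a (b * (l : A →* ℂˣ)⁻¹) = 0 := by
            by_contra hne
            exact h6 (Finset.mem_image.2 ⟨_, Finset.mem_image.2
              ⟨_, Finset.mem_filter.2 ⟨Finset.mem_univ _, hne⟩, rfl⟩, by
                rw [← hmul, hcan1]⟩)
          refine Finset.mem_image.2 ⟨b, Finset.mem_filter.2 ⟨Finset.mem_univ _, ?_⟩, rfl⟩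
          show a b - a (b * (l : A →* ℂˣ)⁻¹) ≠ 0
          rw [h7, sub_zero]
          exact (Finset.mem_filter.1 hb).2
        · obtain ⟨h5, h6⟩ := Finset.mem_sdiff.1 h4
          obtain ⟨u, hu, rfl⟩ := Finset.mem_image.1 h5
          obtain ⟨b, hb, rfl⟩ := Finset.mem_image.1 hu
          have h7 : a (b * (l : A →* ℂˣ)) = 0 := by
            by_contra hne
            exact h6 (Finset.mem_image.2 ⟨_, Finset.mem_filter.2 ⟨Finset.mem_univ _, hne⟩, hmul b⟩)
          refine Finset.mem_image.2 ⟨b * (l : A →* ℂˣ), Finset.mem_filter.2 ⟨Finset.mem_univ _, ?_⟩,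
            hmul b⟩
          show a (b * (l : A →* ℂˣ)) - a (b * (l : A →* ℂˣ) * (l : A →* ℂˣ)⁻¹) ≠ 0
          rw [h7, hcan2, zero_sub, neg_ne_zero]
          exact (Finset.mem_filter.1 hb).2
      have h8 := Finset.card_le_card h3
      rw [Finset.card_union_of_disjoint disjoint_sdiff_sdiff, ← h2, ← two_mul, ← h1] at h8
      exact_mod_cast h8
    -- classes under restriction
    set m := K.relIndex J with hm
    have horbit : m ≤ (Finset.univ.image fun l : ann K => res l).card := by
      have hker : (Nat.card res.ker) = (K ⊔ J).index := by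
        rw [← card_ann (K ⊔ J)]
        refine Nat.card_congr
          { toFun := fun l => ⟨(l.1 : A →* ℂˣ), fun x hx => ?_⟩
            invFun := fun l => ⟨⟨l.1, fun k hk => l.2 k (Subgroup.mem_sup_left hk)⟩,
              MonoidHom.mem_ker.2 (MonoidHom.ext fun j => l.2 j (Subgroup.mem_sup_right j.2))⟩
            left_inv := fun l => rfl
            right_inv := fun l => rfl }
        have hle : K ⊔ J ≤ (l.1 : A →* ℂˣ).ker := sup_le (fun k hk => MonoidHom.mem_ker.2 (l.1.2 k hk))
          fun j hj => MonoidHom.mem_ker.2 (DFunLike.congr_fun (MonoidHom.mem_ker.1 l.2) ⟨j, hj⟩)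
        exact MonoidHom.mem_ker.1 (hle hx)
      have h1 : res.ker.index * (K ⊔ J).index = K.index := by
        rw [← hker, mul_comm, Subgroup.card_mul_index, card_ann]
      rw [← Subgroup.relIndex_mul_index (le_sup_left : K ≤ K ⊔ J), sup_comm,
        Subgroup.relIndex_sup_right] at h1
      have h2 := Nat.eq_of_mul_eq_mul_right (Nat.pos_of_ne_zero Subgroup.index_ne_zero_of_finite) h1
      rw [hm, ← h2, Subgroup.index_ker, ← Fintype.card_coe, ← Nat.card_eq_fintype_card]
      exact le_of_eq (Nat.card_congr (Equiv.subtypeEquivRight fun x => by simp [MonoidHom.mem_range]))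
    set π : (J →* ℂˣ) → ((K ⊓ J : Subgroup A) →* ℂˣ) :=
      fun t => t.comp (Subgroup.inclusion inf_le_right) with hπ
    have hclass : restrSupp (K ⊓ J) a = T.image π := by
      rw [hT, restrSupp, restrSupp, Finset.image_image]
      rfl
    have hinv : ∀ (t : J →* ℂˣ) (l : ann K), π (t * (res l)⁻¹) = π t := fun t l => by
      refine MonoidHom.ext fun x => ?_
      show t _ * ((l : A →* ℂˣ) (x : A))⁻¹ = t _
      rw [l.2 _ x.2.1, inv_one, mul_one]
    have hcount : m * (T.image π).card ≤
        T.card + ∑ l : ann K, (T.filter fun t => t * (res l)⁻¹ ∉ T).card := by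
      rw [Finset.sum_congr rfl fun l _ => Finset.card_filter _ _, Finset.sum_comm,
        Finset.card_eq_sum_ones T, ← Finset.sum_add_distrib,
        ← Finset.sum_fiberwise_of_maps_to (g := π) fun t ht => Finset.mem_image_of_mem π ht,
        mul_comm, ← smul_eq_mul]
      refine Finset.card_nsmul_le_sum _ _ _ fun r hr => ?_
      obtain ⟨t, ht, rfl⟩ := Finset.mem_image.1 hr
      have hmem : t ∈ T.filter fun s => π s = π t := Finset.mem_filter.2 ⟨ht, rfl⟩
      rw [Finset.sum_add_distrib, ← Finset.card_eq_sum_ones]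
      refine le_trans ?_ (Nat.add_le_add_left (Finset.single_le_sum
        (f := fun s => ∑ l : ann K, if s * (res l)⁻¹ ∉ T then 1 else 0)
        (fun _ _ => Nat.zero_le _) hmem) _)
      rw [← Finset.card_filter]
      set O := (Finset.univ.image fun l : ann K => t * (res l)⁻¹) with hO
      have hOc : m ≤ O.card := by
        refine horbit.trans (le_of_eq ?_)
        rw [hO, ← Finset.card_image_of_injective (Finset.univ.image fun l : ann K => res l)
          (f := fun s => t * s⁻¹) (fun x y h => inv_injective (mul_left_cancel h)), Finset.image_image]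
        rfl
      refine hOc.trans ((le_of_eq (Finset.card_filter_add_card_filter_not (p := (· ∈ T))).symm).trans
        (Nat.add_le_add (Finset.card_le_card fun s hs => ?_) ?_))
      · obtain ⟨hsO, hsT⟩ := Finset.mem_filter.1 hs
        obtain ⟨l, -, rfl⟩ := Finset.mem_image.1 hsO
        exact Finset.mem_filter.2 ⟨hsT, hinv t l⟩
      · rw [hO, Finset.filter_image]
        exact Finset.card_image_le
    have hsum : (N : ℝ) * Nat.card A * J.index *
        ∑ l : ann K, ((T.filter fun t => t * (res l)⁻¹ ∉ T).card : ℝ) ≤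
        (1 / 2 : ℝ) * ∑ l : ann K, form L (fun b => a b - a (b * (l : A →* ℂˣ)⁻¹)) := by
      rw [Finset.mul_sum, Finset.mul_sum]
      refine Finset.sum_le_sum fun l _ => ?_
      have := hl l
      nlinarith [this]
    have hidx : (K ⊓ J).index = m * J.index := by
      rw [hm, ← Subgroup.inf_relIndex_right, Subgroup.relIndex_mul_index inf_le_right]
    rw [hclass, hidx]
    have h9 : ((m : ℝ) * (T.image π).card) ≤
        (T.card : ℝ) + ∑ l : ann K, ((T.filter fun t => t * (res l)⁻¹ ∉ T).card : ℝ) := by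
      exact_mod_cast hcount
    push_cast
    calc _ = (N : ℝ) * Nat.card A * J.index * ((m : ℝ) * (T.image π).card) := by ring
      _ ≤ (N : ℝ) * Nat.card A * J.index * ((T.card : ℝ) +
          ∑ l : ann K, ((T.filter fun t => t * (res l)⁻¹ ∉ T).card : ℝ)) :=
        mul_le_mul_of_nonneg_left h9 (by positivity)
      _ ≤ _ := by rw [mul_add]; exact add_le_add (ih a ha) hsum

/-- The inequality for a family of subgroups with trivial intersection. -/
theorem sq_card_le_form (R : AddSubgroup (Fin N → ℂ))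
    (hR : ∀ x ∈ R, x ≠ 0 → (N : ℝ) ≤ ∑ i, ‖x i‖ ^ 2) (L : List (Subgroup A)) (hL : meet L = ⊥)
    (a : (A →* ℂˣ) → Fin N → ℂ) (ha : ∀ b, a b ∈ R) (hne : a ≠ 0) :
    (N : ℝ) * Nat.card A ^ 2 ≤ form L a := by
  classical
  refine le_trans ?_ (le_form R hR L a ha)
  rw [hL, Subgroup.index_bot]
  have h1 : (1 : ℝ) ≤ (restrSupp (⊥ : Subgroup A) a).card := by
    obtain ⟨b, hb⟩ := Function.ne_iff.1 hne
    have h2 : b.comp (⊥ : Subgroup A).subtype ∈ restrSupp (⊥ : Subgroup A) a := by
      simp only [restrSupp, Finset.mem_image, Finset.mem_filter, Finset.mem_univ, true_and]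
      exact ⟨b, hb, rfl⟩
    exact_mod_cast Finset.card_pos.2 ⟨_, h2⟩
  have h0 : (0 : ℝ) ≤ (N : ℝ) * Nat.card A * Nat.card A := by positivity
  calc (N : ℝ) * (Nat.card A : ℝ) ^ 2 = (N : ℝ) * Nat.card A * Nat.card A * 1 := by ring
    _ ≤ _ := mul_le_mul_of_nonneg_left h1 h0

end CfsgLib.CharDegree.Knorr
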