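import Cfsg.Agent.Lib.CharDegree.Garrison

/-!
# The nilpotent length of a solvable group is at most the number of character degrees
-/

namespace CfsgLib.Garrison

open CfsgLib.Char CfsgLib.CharDegree

universe u

/-- The set of degrees. -/
def degSet (G : Type u) [Group G] : Set ℕ :=
  {n | ∃ χ : Cfsg.IrrCharacter G, Cfsg.charDegree (χ : G → ℂ) = n}

theorem degSet_finite (G : Type u) [Group G] [Finite G] : (degSet G).Finite :=
  (Nat.divisors (Nat.card G)).finite_toSet.subset fun n hn => by
    obtain ⟨χ, rfl⟩ := hn
    exact Finset.mem_coe.mpr (Nat.mem_divisors.mpr ⟨charDegree_dvd_card χ, Nat.card_pos.ne'⟩)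

/-- Modulo the Fitting subgroup a non-nilpotent solvable group has fewer degrees. -/
theorem degSet_quotient_lt {G : Type u} [Group G] [Finite G] [Group.IsSolvable G]
    [hn : (Cfsg.fittingSubgroup G).Normal] (hG : ¬ Group.IsNilpotent G) :
    (degSet (G ⧸ Cfsg.fittingSubgroup G)).ncard < (degSet G).ncard := by
  refine Set.ncard_lt_ncard ?_ (degSet_finite G)
  have hsub : degSet (G ⧸ Cfsg.fittingSubgroup G) ⊆ degSet G := by
    rintro n ⟨χ, rfl⟩
    exact ⟨infl _ χ, charDegree_infl _ χ⟩
  refine ⟨hsub, fun h => ?_⟩
  obtain ⟨d, hd, hmax⟩ := (degSet_finite G).toFinset.exists_max_image id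
    ⟨1, (degSet_finite G).mem_toFinset.mpr ⟨trivChar G, charDegree_one⟩⟩
  obtain ⟨ψ, rfl⟩ := h ((degSet_finite G).mem_toFinset.mp hd)
  let χ := infl (Cfsg.fittingSubgroup G) ψ
  have := kerSubgroup_normal χ
  have hFK : Cfsg.fittingSubgroup G ≤ kerSubgroup χ := fun g hg =>
    mem_kerSubgroup.mpr (infl_ker _ ψ hg)
  have hhyp : ¬ kerSubgroup χ ≤ Cfsg.fittingSubgroup G ∨ (kerSubgroup χ = Cfsg.fittingSubgroup G ∧
      Group.IsSolvable (G ⧸ kerSubgroup χ) ∧ kerSubgroup χ ≠ ⊤) := by
    by_cases hle : kerSubgroup χ ≤ Cfsg.fittingSubgroup G
    · refine Or.inr ⟨le_antisymm hle hFK, inferInstance, fun ht => hG ?_⟩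
      have htop : Cfsg.fittingSubgroup G = ⊤ := top_le_iff.mp (ht ▸ hle)
      have := Components.fitting_isNilpotent (G := G)
      rw [htop] at this
      exact Group.nilpotent_of_mulEquiv (_h := this) Subgroup.topEquiv
    · exact Or.inl hle
  obtain ⟨φ, hlt, -⟩ := exists_degree_gt χ (kerSubgroup χ) (fun g => mem_kerSubgroup) hhyp
  have := hmax _ ((degSet_finite G).mem_toFinset.mpr ⟨φ, rfl⟩)
  simp only [id, χ, charDegree_infl] at this hlt
  omega

/-- The nilpotent series. -/
theorem exists_series : ∀ (n : ℕ) (G : Type u) [Group G] [Finite G], Group.IsSolvable G →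
    (degSet G).ncard ≤ n → ∃ N : Fin (n + 1) → Subgroup G, N 0 = ⊥ ∧ N (Fin.last n) = ⊤ ∧
      Monotone N ∧ (∀ i, (N i).Normal) ∧ ∀ i : Fin n,
        ∀ h : (N i.castSucc).subgroupOf (N i.succ) |>.Normal,
          Group.IsNilpotent (↥(N i.succ) ⧸ (N i.castSucc).subgroupOf (N i.succ)) := by
  intro n
  induction n with
  | zero =>
    intro G _ _ _ hle
    have h1 : 1 ∈ degSet G := ⟨trivChar G, charDegree_one⟩
    have := (Set.ncard_pos (degSet_finite G)).mpr ⟨1, h1⟩
    omega
  | succ n ih =>
    intro G _ _ hsol hle
    by_cases hG : Group.IsNilpotent G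
    · refine ⟨fun i => if i = 0 then ⊥ else ⊤, if_pos rfl, if_neg (Fin.last_pos.ne'), ?_, ?_, ?_⟩
      · intro i j hij
        by_cases hi : i = 0
        · simp [hi]
        · have hj : j ≠ 0 := fun hj => hi (le_antisymm (hj ▸ hij) (Fin.zero_le i))
          simp [hi, hj]
      · intro i
        dsimp only
        split_ifs <;> infer_instance
      · intro i h
        infer_instance
    · set F := Cfsg.fittingSubgroup G with hF
      have hFn : F.Normal := Components.fitting_normal
      have hsolq : Group.IsSolvable (G ⧸ F) := inferInstance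
      have hlt : (degSet (G ⧸ F)).ncard < (degSet G).ncard := degSet_quotient_lt hG
      obtain ⟨M, h0, hl, hmono, hnorm, hnilp⟩ := ih (G ⧸ F) hsolq (by omega)
      refine ⟨Fin.cases ⊥ fun i => (M i).comap (QuotientGroup.mk' F), rfl, ?_, ?_, ?_, ?_⟩
      · rw [← Fin.succ_last]
        show (M (Fin.last n)).comap (QuotientGroup.mk' F) = ⊤
        rw [hl, Subgroup.comap_top]
      · intro i j hij
        induction i using Fin.cases with
        | zero => simp
        | succ i =>
          induction j using Fin.cases with
          | zero => exact absurd hij (not_le.mpr (Fin.succ_pos i))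
          | succ j =>
            simp only [Fin.cases_succ]
            exact Subgroup.comap_mono (hmono (Fin.succ_le_succ_iff.mp hij))
      · intro i
        induction i using Fin.cases with
        | zero => simpa using (inferInstance : (⊥ : Subgroup G).Normal)
        | succ i => simpa using (hnorm i).comap _
      · intro i h
        induction i using Fin.cases with
        | zero =>
          have : Group.IsNilpotent ((M 0).comap (QuotientGroup.mk' F)) := by
            rw [h0, MonoidHom.comap_bot, QuotientGroup.ker_mk']
            exact Components.fitting_isNilpotent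
          haveI : Group.IsNilpotent ↥(Fin.cases (motive := fun _ => Subgroup G) ⊥
              (fun i => (M i).comap (QuotientGroup.mk' F)) (0 : Fin (n + 1)).succ) := by
            rw [Fin.cases_succ]; exact this
          infer_instance
        | succ i =>
          have hM : ((M i.castSucc).subgroupOf (M i.succ)).Normal := (hnorm _).subgroupOf _
          have hq := hnilp i hM
          let A := M i.succ
          let f : ↥(A.comap (QuotientGroup.mk' F)) →* ↥A ⧸ (M i.castSucc).subgroupOf A :=
            (QuotientGroup.mk' ((M i.castSucc).subgroupOf A)).comp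
              ((QuotientGroup.mk' F).subgroupComap A)
          have hf : Function.Surjective f := fun q => by
            induction q using QuotientGroup.induction_on with
            | H a =>
              obtain ⟨x, hx⟩ := MonoidHom.subgroupComap_surjective_of_surjective (QuotientGroup.mk' F)
                A (QuotientGroup.mk'_surjective F) a
              exact ⟨x, congrArg (QuotientGroup.mk' _) hx⟩
          have hker : f.ker = ((M i.castSucc).comap (QuotientGroup.mk' F)).subgroupOf
              (A.comap (QuotientGroup.mk' F)) := by
            ext x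
            rw [MonoidHom.mem_ker, MonoidHom.comp_apply, QuotientGroup.mk'_apply,
              QuotientGroup.eq_one_iff]
            rfl
          have : Group.IsNilpotent (↥(A.comap (QuotientGroup.mk' F)) ⧸
              ((M i.castSucc).comap (QuotientGroup.mk' F)).subgroupOf
                (A.comap (QuotientGroup.mk' F))) :=
            Group.nilpotent_of_mulEquiv (_h := hq)
              ((QuotientGroup.quotientKerEquivOfSurjective f hf).symm.trans
                (QuotientGroup.quotientMulEquivOfEq hker))
          exact this

end CfsgLib.Garrison
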