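import Cfsg.Agent.Lib.Char.GaloisFixedExtension
import Cfsg.Agent.Lib.Char.CliffordRestrict
import Cfsg.Agent.Lib.Char.Clifford
import Cfsg.Agent.Lib.Char.SchurBound
import Cfsg.Agent.Lib.Char.Rationality
import Cfsg.Agent.Lib.Char.Integral
import Cfsg.Agent.Lib.Char.Exceptional.NormalInd
import Cfsg.Agent.Lib.Char.Central
import Cfsg.Agent.Lib.PGroups.FrattiniModule
import Cfsg.Agent.Lib.Core.Cores
import Cfsg.Agent.S0001

/-!
# The Sylow `p`-order of `G / O_p(G)` for `p`-solvable linear groups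

A `p`-group acting on a `p'`-group of linear transformations of dimension `n` has, modulo the
kernel of the action, a faithful rational character of degree at most `n` (canonical extensions),
so Schur's bound applies.
-/

set_option autoImplicit false

namespace CfsgLib.PSylowBound

open Cfsg CfsgLib.Char CfsgLib.CharExt
open Module
open scoped Classical ComplexConjugate Pointwise

/-- The canonical extension is fixed by the power maps that fix the normal subgroup. -/
theorem exists_fixed_canonical {H : Type*} [Group H] [Fintype H] (N : Subgroup H) [N.Normal]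
    [Fintype N] {p a : ℕ} [Fact p.Prime] (hcard : ¬ p ∣ Nat.card N) (ha : N.index ∣ p ^ a)
    (θ : IrrCharacter N) (hinv : ∀ g n, (θ : N → ℂ) (cn g n) = (θ : N → ℂ) n) :
    ∃ χ : IrrCharacter H, (∀ n : N, (χ : H → ℂ) n = (θ : N → ℂ) n) ∧
      ∀ k : ℕ, k.Coprime (Nat.card H) → k ≡ 1 [MOD Nat.card N] →
        ∀ g, (χ : H → ℂ) (g ^ k) = (χ : H → ℂ) g := by
  obtain ⟨θ, d, σ, hσ, rfl⟩ := θ
  have hco : (Nat.card N).Coprime N.index :=
    ((((Fact.out : p.Prime).coprime_iff_not_dvd).2 hcard).symm.pow_right a).coprime_dvd_right ha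
  have hd : (finrank ℂ (Fin d → ℂ)).Coprime N.index :=
    hco.coprime_dvd_left (CfsgLib.CharIntegral.finrank_dvd_card σ)
  have hcop : (orderOf (detHom σ) * finrank ℂ (Fin d → ℂ)).Coprime N.index :=
    Nat.Coprime.mul_left (hco.coprime_dvd_left (orderOf_dvd_of_pow_eq_one (hom_pow_card _))) hd
  obtain ⟨ρ, hρ, hρd⟩ := exists_canonical_extension σ hinv hcop
  have hirr : ρ.IsIrreducible := isIrreducible_of_restrict ρ N.subtype σ hρ
  have hρn : ∀ n : N, ρ.character n = σ.character n := fun n => by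
    show LinearMap.trace ℂ _ (ρ (n : H)) = LinearMap.trace ℂ _ (σ n)
    rw [hρ]
  have hχ : IsIrrCharacter H ρ.character := isIrrCharacter_rep ρ
  refine ⟨⟨ρ.character, hχ⟩, hρn, fun k hk hk1 => ?_⟩
  obtain ⟨m, τ, hτ, hτc⟩ := isIrrCharacter_pow hχ hk
  have hτρ : ∀ g, τ.character g = ρ.character (g ^ k) := fun g => congrFun hτc g
  have hdet : detHom τ = detHom ρ ^ k := by
    refine MonoidHom.ext fun g => ?_
    let Z := Subgroup.zpowers g
    let π : Z →* Z :=
      { toFun := fun z => z ^ k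
        map_one' := one_pow k
        map_mul' := fun a b => (show Commute a b from mul_comm' a b).mul_pow k }
    let τZ : Representation ℂ Z (Fin m → ℂ) := τ.comp Z.subtype
    let ρZ : Representation ℂ Z (Fin d → ℂ) := ρ.comp (Z.subtype.comp π)
    have h := detHom_eq_of_character_eq τZ ρZ (funext fun z => hτρ (z : H))
    have h1 := congrArg Units.val (DFunLike.congr_fun h ⟨g, Subgroup.mem_zpowers g⟩)
    rw [detHom_apply, detHom_apply] at h1
    refine Units.ext ?_
    rw [MonoidHom.pow_apply, ← map_pow, detHom_apply, detHom_apply]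
    exact h1
  have hρ' : (orderOf (detHom ρ)).Coprime N.index :=
    hρd ▸ hcop.coprime_dvd_left (dvd_mul_right _ _)
  have h := Gallagher.eq_of_extensions (N := N) ρ τ
    (by rw [show (fun n : N => ρ.character n) = σ.character from funext hρn]
        exact ⟨d, σ, hσ, rfl⟩)
    (fun n => by
      rw [hτρ, ← SubgroupClass.coe_pow,
        show n ^ k = n ^ 1 from pow_eq_pow_iff_modEq.2 (hk1.of_dvd (orderOf_dvd_natCard n)),
        pow_one])
    hρ' (hρ'.coprime_dvd_left (hdet ▸ orderOf_pow_dvd k)) hd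
  intro g
  show ρ.character (g ^ k) = ρ.character g
  rw [← hτρ, h]

section Orbit

variable {H : Type*} [Group H] [Fintype H] (N : Subgroup H) [hN : N.Normal] [Fintype N]

/-- The stabilizer of a function on a normal subgroup. -/
def stab (θ : N → ℂ) : Subgroup H where
  carrier := {g | ∀ n, θ (cn g n) = θ n}
  one_mem' := fun n => by rw [cn_one]
  mul_mem' := fun {a b} ha hb n => by rw [cn_mul, ha, hb]
  inv_mem' := fun {a} ha n => by
    have h := ha (cn a⁻¹ n)
    rw [← cn_mul, mul_inv_cancel, cn_one] at h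
    exact h.symm

variable {N}

/-- The property of being fixed by the power maps which fix `N`. -/
def FixedPowers (N : Subgroup H) (η : H → ℂ) : Prop :=
  ∀ k : ℕ, k.Coprime (Nat.card H) → k ≡ 1 [MOD Nat.card N] → ∀ g, η (g ^ k) = η g

/-- A character whose restriction is the sum over one orbit. -/
theorem exists_orbit_char {p a : ℕ} [Fact p.Prime] (hcard : ¬ p ∣ Nat.card N)
    (ha : N.index ∣ p ^ a) (θ : IrrCharacter N) :
    ∃ (O : Finset (IrrCharacter N)) (η : H → ℂ), Cfsg.IsCharacter H η ∧ θ ∈ O ∧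
      (∀ φ, φ ∈ O ↔ ∃ g : H, ∀ n, (φ : N → ℂ) n = (θ : N → ℂ) (cn g n)) ∧
      (∀ n : N, η n = ∑ φ ∈ O, (φ : N → ℂ) n) ∧ FixedPowers N η := by
  set T := stab N (θ : N → ℂ) with hT
  have hNT : N ≤ T := fun x hx n => by
    have := IsIrr.isClassFunction θ.2 n ⟨x, hx⟩
    exact this
  let : Fintype T := Fintype.ofFinite T
  let : Fintype (N.subgroupOf T) := Fintype.ofFinite _
  let e : N.subgroupOf T ≃* N := Subgroup.subgroupOfEquivOfLe hNT
  let θ' : IrrCharacter (N.subgroupOf T) :=
    ⟨fun x => (θ : N → ℂ) (e x), IsIrr.comp_surjective (f := e.toMonoidHom) e.surjective θ.2⟩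
  have hc : Nat.card (N.subgroupOf T) = Nat.card N := Nat.card_congr e.toEquiv
  have hinv : ∀ g n, (θ' : N.subgroupOf T → ℂ) (cn g n) = (θ' : N.subgroupOf T → ℂ) n := fun g n =>
    g.2 (e n)
  obtain ⟨χ, hχN, hχk⟩ := exists_fixed_canonical (N.subgroupOf T) (p := p) (a := a) (hc ▸ hcard)
    ((Subgroup.relIndex_dvd_index_of_normal N T).trans ha) θ' hinv
  let : Fintype (H ⧸ T) := Fintype.ofFinite _
  let φ : H ⧸ T → IrrCharacter N := fun q =>
    ⟨CfsgLib.Clifford.conjFn hN (θ : N → ℂ) q.out⁻¹,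
      CfsgLib.Clifford.isIrrCharacter_conjFn hN θ.2 _⟩
  have hφ : ∀ q n, (φ q : N → ℂ) n = (θ : N → ℂ) (cn q.out⁻¹ n) := fun q n => rfl
  have hinj : Function.Injective φ := by
    intro q q' h
    have h1 : q.out⁻¹ * q'.out ∈ T := by
      intro n
      have h2 := congrFun (congrArg Subtype.val h) (cn q'.out n)
      rw [hφ, hφ, ← cn_mul, ← cn_mul, inv_mul_cancel, cn_one] at h2
      exact h2
    have h3 := QuotientGroup.eq.2 h1
    rwa [QuotientGroup.out_eq', QuotientGroup.out_eq'] at h3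
  have horb : ∀ g : H, ∀ n, (φ (QuotientGroup.mk g⁻¹) : N → ℂ) n = (θ : N → ℂ) (cn g n) := by
    intro g n
    obtain ⟨t, ht⟩ := QuotientGroup.mk_out_eq_mul T g⁻¹
    rw [hφ, ht, mul_inv_rev, inv_inv, cn_mul]
    exact (t⁻¹).2 _
  refine ⟨Finset.univ.image φ, Cfsg.indFun T (χ : T → ℂ), CfsgLib.Char.isCharacter_indFun T (IsIrr.isCharacter χ.2),
    ?_, fun ψ => ⟨?_, ?_⟩, fun n => ?_, fun k hk hk1 g => ?_⟩
  · refine Finset.mem_image.2 ⟨QuotientGroup.mk (1 : H)⁻¹, Finset.mem_univ _, irr_ext fun n => ?_⟩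
    rw [horb, cn_one]
  · intro h
    obtain ⟨q, -, rfl⟩ := Finset.mem_image.1 h
    exact ⟨q.out⁻¹, hφ q⟩
  · rintro ⟨g, hg⟩
    exact Finset.mem_image.2 ⟨QuotientGroup.mk g⁻¹, Finset.mem_univ _, irr_ext fun n => by rw [horb, hg]⟩
  · rw [CfsgLib.Clifford.indFun_eq_sum_quotient T (IsIrr.isClassFunction χ.2),
      Finset.sum_image fun x _ y _ h => hinj h]
    refine Finset.sum_congr rfl fun q _ => ?_
    have hmem : q.out⁻¹ * (n : H) * q.out ∈ N := by
      have := hN.conj_mem (n : H) n.2 q.out⁻¹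
      rwa [inv_inv] at this
    rw [extendByZero_of_mem T _ (hNT hmem), hφ]
    have h4 := hχN ⟨⟨_, hNT hmem⟩, hmem⟩
    rw [h4]
    show (θ : N → ℂ) (e _) = _
    refine congrArg (θ : N → ℂ) (Subtype.ext ?_)
    show q.out⁻¹ * (n : H) * q.out = q.out⁻¹ * n * q.out⁻¹⁻¹
    rw [inv_inv]
  · rw [CfsgLib.Clifford.indFun_eq_sum_quotient T (IsIrr.isClassFunction χ.2),
      CfsgLib.Clifford.indFun_eq_sum_quotient T (IsIrr.isClassFunction χ.2)]
    refine Finset.sum_congr rfl fun q _ => ?_
    have hpow : q.out⁻¹ * g ^ k * q.out = (q.out⁻¹ * g * q.out) ^ k := by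
      have h5 := conj_pow (a := q.out⁻¹) (b := g) (i := k)
      rw [inv_inv] at h5
      exact h5.symm
    rw [hpow]
    by_cases hy : q.out⁻¹ * g * q.out ∈ T
    · rw [extendByZero_of_mem T _ hy, extendByZero_of_mem T _ (pow_mem hy k)]
      exact hχk k (hk.coprime_dvd_right (Subgroup.card_subgroup_dvd_card T)) (hc ▸ hk1) ⟨_, hy⟩
    · rw [extendByZero_of_notMem T _ hy, extendByZero_of_notMem T]
      intro h
      refine hy ?_
      obtain ⟨j, hj⟩ := exists_pow_eq_self_of_coprime
        (hk.coprime_dvd_right (orderOf_dvd_natCard (q.out⁻¹ * g * q.out)))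
      rw [← hj]
      exact pow_mem h j

/-- A character whose restriction is the sum over a stable set. -/
theorem exists_sum_char {p a : ℕ} [Fact p.Prime] (hcard : ¬ p ∣ Nat.card N)
    (ha : N.index ∣ p ^ a) (S : Finset (IrrCharacter N))
    (hS : ∀ φ ∈ S, ∀ g : H, ∀ ψ : IrrCharacter N,
      (∀ n, (ψ : N → ℂ) n = (φ : N → ℂ) (cn g n)) → ψ ∈ S) :
    ∃ η : H → ℂ, Cfsg.IsCharacter H η ∧ (∀ n : N, η n = ∑ φ ∈ S, (φ : N → ℂ) n) ∧
      FixedPowers N η := by
  induction S using Finset.strongInduction with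
  | H S ih =>
    rcases S.eq_empty_or_nonempty with rfl | ⟨θ, hθ⟩
    · exact ⟨0, isCharacter_zero, fun n => by simp, fun k _ _ g => rfl⟩
    obtain ⟨O, η₁, hη₁, hθO, hO, hsum₁, hfix₁⟩ := exists_orbit_char hcard ha θ
    have hOS : O ⊆ S := fun ψ hψ => by
      obtain ⟨g, hg⟩ := (hO ψ).1 hψ
      exact hS θ hθ g ψ hg
    obtain ⟨η₂, hη₂, hsum₂, hfix₂⟩ := ih (S \ O)
      (Finset.sdiff_ssubset hOS ⟨θ, hθO⟩) (fun φ hφ g ψ hg => by
        rw [Finset.mem_sdiff] at hφ ⊢
        refine ⟨hS φ hφ.1 g ψ hg, fun hψ => hφ.2 ?_⟩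
        obtain ⟨b, hb⟩ := (hO ψ).1 hψ
        refine (hO φ).2 ⟨b * g⁻¹, fun n => ?_⟩
        rw [cn_mul, ← hb, hg, ← cn_mul, mul_inv_cancel, cn_one])
    refine ⟨η₁ + η₂, IsChar.add hη₁ hη₂, fun n => ?_, fun k hk hk1 g => ?_⟩
    · rw [Pi.add_apply, hsum₁, hsum₂, add_comm]
      exact Finset.sum_sdiff hOS
    · simp only [Pi.add_apply, hfix₁ k hk hk1 g, hfix₂ k hk hk1 g]

end Orbit

/-- The character attached to a faithful character. -/
theorem exists_rational_char {H : Type*} [Group H] [Fintype H] {N : Subgroup H} [N.Normal]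
    [Fintype N] {p a : ℕ} [Fact p.Prime] (hcard : ¬ p ∣ Nat.card N) (ha : N.index ∣ p ^ a)
    {χ : H → ℂ} (hχ : Cfsg.IsCharacter H χ) (hfaith : ∀ g : H, χ g = χ 1 → g = 1) {n : ℕ}
    (hn : χ 1 = n) :
    ∃ (m : ℕ) (ρ : Representation ℂ H (Fin m → ℂ)), m ≤ n ∧ FixedPowers N ρ.character ∧
      ∀ g, ρ g = 1 → ∀ x ∈ N, g * x = x * g := by
  let : Fintype (IrrCharacter N) := Fintype.ofFinite _
  have hres : Cfsg.IsCharacter N fun x : N => χ x := IsChar.restrict N hχ
  obtain ⟨w, hw⟩ := IsChar.exists_sum hres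
  set S : Finset (IrrCharacter N) := Finset.univ.filter fun φ => w φ ≠ 0 with hSd
  have hcoef : ∀ φ : IrrCharacter N,
      Cfsg.classInner (fun x : N => χ x) (φ : N → ℂ) = (w φ : ℂ) := fun φ => by
    rw [hw]
    exact classInner_sum_irr _ φ
  have hS : ∀ φ ∈ S, ∀ g : H, ∀ ψ : IrrCharacter N,
      (∀ x, (ψ : N → ℂ) x = (φ : N → ℂ) (cn g x)) → ψ ∈ S := by
    intro φ hφ g ψ hψ
    have h : Cfsg.classInner (fun x : N => χ x) (ψ : N → ℂ) =
        Cfsg.classInner (fun x : N => χ x) (φ : N → ℂ) := by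
      unfold Cfsg.classInner
      congr 1
      refine Fintype.sum_equiv (MulAut.conjNormal g).toEquiv _ _ fun x => ?_
      show χ x * conj ((ψ : N → ℂ) x) = χ ((MulAut.conjNormal g x : N) : H) * conj ((φ : N → ℂ) (cn g x))
      rw [hψ, MulAut.conjNormal_apply, IsChar.isClassFunction hχ]
    rw [hcoef, hcoef, Nat.cast_inj] at h
    rw [hSd, Finset.mem_filter] at hφ ⊢
    exact ⟨Finset.mem_univ _, h ▸ hφ.2⟩
  obtain ⟨η, hη, hsum, hfix⟩ := exists_sum_char hcard ha S hS
  obtain ⟨m, ρ, rfl⟩ := hη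
  refine ⟨m, ρ, ?_, hfix, fun g hg x hx => ?_⟩
  · choose d hd0 hd using fun φ : IrrCharacter N => IsIrr.exists_degree φ.2
    have h1 : (m : ℂ) = ((∑ φ ∈ S, d φ : ℕ) : ℂ) := by
      rw [Nat.cast_sum, show (m : ℂ) = ρ.character ((1 : N) : H) by
        rw [OneMemClass.coe_one, Representation.char_one, finrank_fin_fun], hsum]
      exact Finset.sum_congr rfl fun φ _ => hd φ
    have h2 : (n : ℂ) = ((∑ φ, w φ * d φ : ℕ) : ℂ) := by
      rw [← hn, show χ 1 = (fun x : N => χ x) 1 from rfl, hw, Nat.cast_sum]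
      simp [Finset.sum_apply, hd]
    rw [Nat.cast_inj] at h1 h2
    rw [h1, h2]
    refine (Finset.sum_le_sum fun φ hφ => ?_).trans
      (Finset.sum_le_sum_of_subset (f := fun φ => w φ * d φ) (Finset.subset_univ S))
    exact Nat.le_mul_of_pos_left _ (Nat.pos_of_ne_zero (Finset.mem_filter.1 hφ).2)
  · -- the commutator lies in the kernel of the restriction
    have hc : g * x * g⁻¹ * x⁻¹ ∈ N :=
      N.mul_mem ((inferInstance : N.Normal).conj_mem x hx g) (N.inv_mem hx)
    set c : N := ⟨_, hc⟩ with hcd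
    have hρc : ρ (c : H) = 1 := by
      have hgi : ρ g⁻¹ = 1 := by
        have h := map_mul ρ g g⁻¹
        rw [mul_inv_cancel, map_one, hg, one_mul] at h
        exact h.symm
      show ρ (g * x * g⁻¹ * x⁻¹) = 1
      rw [map_mul, map_mul, map_mul, hg, hgi, one_mul, mul_one, ← map_mul, mul_inv_cancel, map_one]
    have h3 : (∑ φ, ((if φ ∈ S then 1 else 0 : ℕ) : ℂ) • (φ : N → ℂ)) c =
        (∑ φ, ((if φ ∈ S then 1 else 0 : ℕ) : ℂ) • (φ : N → ℂ)) 1 := by
      have e : ∀ y : N, (∑ φ, ((if φ ∈ S then 1 else 0 : ℕ) : ℂ) • (φ : N → ℂ)) y =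
          ρ.character (y : H) := fun y => by
        rw [hsum]
        rw [Finset.sum_apply, ← Finset.sum_filter_add_sum_filter_not Finset.univ (fun φ => φ ∈ S),
          Finset.sum_eq_zero (s := Finset.univ.filter fun φ => φ ∉ S) (fun φ hφ => by
            simp [(Finset.mem_filter.1 hφ).2]), add_zero,
          show Finset.univ.filter (fun φ => φ ∈ S) = S by ext; simp]
        exact Finset.sum_congr rfl fun φ hφ => by simp [hφ]
      rw [e, e]
      show LinearMap.trace ℂ _ (ρ (c : H)) = LinearMap.trace ℂ _ (ρ ((1 : N) : H))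
      rw [hρc, show ρ ((1 : N) : H) = 1 from map_one ρ]
    have h4 : χ c = χ 1 := by
      rw [show χ 1 = (fun x : N => χ x) 1 from rfl, show χ c = (fun x : N => χ x) c from rfl, hw,
        Finset.sum_apply, Finset.sum_apply]
      refine Finset.sum_congr rfl fun φ _ => ?_
      simp only [Pi.smul_apply, smul_eq_mul]
      rcases eq_or_ne (w φ) 0 with h0 | h0
      · simp [h0]
      · rw [Exceptional.ker_of_constituent (m := fun φ => if φ ∈ S then 1 else 0) h3 (ψ := φ)
          (by simp [hSd, h0])]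
    have h5 : g * x * g⁻¹ * x⁻¹ = 1 := hfaith _ h4
    rw [mul_inv_eq_one, mul_inv_eq_iff_eq_mul] at h5
    exact h5

/-- A `p`-group acting on a `p'`-group of matrices: the index of the kernel. -/
theorem factorization_index_le {H : Type*} [Group H] [Fintype H] {p : ℕ} [hp : Fact p.Prime]
    (N : Subgroup H) [N.Normal] (P : Subgroup H) (hP : IsPGroup p P) (hcard : ¬ p ∣ Nat.card N)
    (hsup : N ⊔ P = ⊤) {χ : H → ℂ} (hχ : Cfsg.IsCharacter H χ)
    (hfaith : ∀ g : H, χ g = χ 1 → g = 1) {n : ℕ} (hn : χ 1 = n) :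
    ∃ K : Subgroup P, (∀ x ∈ K, ∀ y ∈ N, (x : H) * y = y * x) ∧
      K.index.factorization p ≤ ∑ i ∈ Finset.range (n + 1), n / ((p - 1) * p ^ i) := by
  let : Fintype N := Fintype.ofFinite N
  obtain ⟨b, hb⟩ := IsPGroup.iff_card.1 hP
  have ha : N.index ∣ p ^ b := by
    rw [← Subgroup.relIndex_top_right, ← hsup, sup_comm, Subgroup.relIndex_sup_right, ← hb]
    exact Subgroup.relIndex_dvd_card N P
  obtain ⟨m, ρ, hmn, hfix, hker⟩ := exists_rational_char hcard ha hχ hfaith hn
  let f : ↥P →* Module.End ℂ (Fin m → ℂ) := ρ.comp P.subtype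
  let fU : ↥P →* (Module.End ℂ (Fin m → ℂ))ˣ := f.toHomUnits
  refine ⟨fU.ker, fun x hx y hy => hker x (congrArg Units.val (MonoidHom.mem_ker.1 hx)) y hy, ?_⟩
  let ρ' : Representation ℂ (P ⧸ fU.ker) (Fin m → ℂ) :=
    (Units.coeHom _).comp (QuotientGroup.kerLift fU)
  have hρ' : ∀ x : P, ρ'.character (QuotientGroup.mk x) = ρ.character (x : H) := fun x => rfl
  have hrat : ∀ g, ρ'.character g ∈ IntermediateField.adjoin ℚ
      ({Complex.exp (2 * Real.pi * Complex.I / (1 : ℕ))} : Set ℂ) := by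
    intro g
    obtain ⟨x, rfl⟩ := QuotientGroup.mk_surjective g
    let ρP : Representation ℂ P (Fin m → ℂ) := MonoidHom.comp ρ P.subtype
    suffices h : ∃ q : ℚ, ρP.character x = (q : ℂ) by
      obtain ⟨q, hq⟩ := h
      rw [hρ', show ρ.character (x : H) = (q : ℂ) from hq, ← eq_ratCast (algebraMap ℚ ℂ)]
      exact IntermediateField.algebraMap_mem _ q
    rcases eq_or_ne x 1 with rfl | hx1
    · exact ⟨(m : ℚ), by rw [Representation.char_one, finrank_fin_fun, Rat.cast_natCast]⟩
    refine CfsgLib.CharRational.exists_rat_of_apply_pow_eq _ _ fun t ht => ?_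
    have htp : t.Coprime p := by
      refine ht.coprime_dvd_right ?_
      rw [hb]
      refine dvd_pow_self p fun hb0 => hx1 ?_
      rw [hb0, pow_zero, Nat.card_eq_one_iff_unique] at hb
      exact hb.1.elim _ _
    have hco : (p ^ b).Coprime (Nat.card N) :=
      Nat.Coprime.pow_left b (hp.out.coprime_iff_not_dvd.2 hcard)
    obtain ⟨k, hk1, hk2⟩ := Nat.chineseRemainder hco t 1
    have hxk : x ^ t = x ^ k :=
      pow_eq_pow_iff_modEq.2 (hk1.symm.of_dvd (hb ▸ orderOf_dvd_natCard x))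
    have hkp : k.Coprime p := by
      have hb0 : b ≠ 0 := fun hb0 => hx1 (by
        rw [hb0, pow_zero, Nat.card_eq_one_iff_unique] at hb
        exact hb.1.elim _ _)
      have h := Nat.ModEq.gcd_eq (hk1.of_dvd (dvd_pow_self p hb0))
      rw [Nat.coprime_iff_gcd_eq_one, h]
      exact htp
    have hkN : k.Coprime (Nat.card N) := by
      rw [Nat.coprime_iff_gcd_eq_one, Nat.ModEq.gcd_eq hk2, Nat.gcd_one_left]
    have hkH : k.Coprime (Nat.card H) := by
      rw [← Subgroup.card_mul_index N]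
      exact Nat.Coprime.mul_right hkN ((hkp.pow_right b).coprime_dvd_right ha)
    show ρ.character ((x ^ t : P) : H) = ρ.character (x : H)
    rw [hxk, SubgroupClass.coe_pow]
    exact hfix k hkH hk2 x
  have hfaith' : ∀ g, ρ'.character g = ρ'.character 1 → g = 1 := by
    intro g hg
    rw [Representation.char_one] at hg
    have h := (CfsgLib.CharIntegral.character_eq_finrank_iff ρ' g).1 hg
    apply QuotientGroup.kerLift_injective fU
    refine Units.ext ?_
    rw [map_one]
    exact h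
  have h := CfsgLib.SchurBound.factorization_le (p := p) (isCharacter_rep ρ') hfaith'
    Nat.one_pos hp.out.not_dvd_one hrat (n := m)
    (by rw [Representation.char_one, finrank_fin_fun])
  rw [Subgroup.index_eq_card]
  refine h.trans ((Finset.sum_le_sum fun i _ => Nat.div_le_div_right hmn).trans
    (Finset.sum_le_sum_of_subset fun i hi => ?_))
  simp only [Finset.mem_range] at hi ⊢
  omega

/-- Schur–Zassenhaus and Frattini above a normal `p`-subgroup. -/
theorem exists_complement {G : Type*} [Group G] [Finite G] {p : ℕ} [Fact p.Prime] :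
    ∃ Q : Subgroup G, ¬ p ∣ Nat.card Q ∧
      Q.map (QuotientGroup.mk' (pCore p G)) = pPrimeCore p (G ⧸ pCore p G) ∧
      (Subgroup.normalizer (Q : Set G)).map (QuotientGroup.mk' (pCore p G)) = ⊤ := by
  set O := pCore p G with hO
  set π := QuotientGroup.mk' O with hπ
  set M := (pPrimeCore p (G ⧸ O)).comap π with hM
  have hOM : O ≤ M := le_of_eq_of_le (QuotientGroup.ker_mk' _).symm (π.ker_le_comap _)
  have hMn : M.Normal := (CfsgLib.Core.normal_pPrimeCore p (G ⧸ O)).comap π
  have hMπ : M.map π = pPrimeCore p (G ⧸ O) :=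
    Subgroup.map_comap_eq_self_of_surjective (QuotientGroup.mk'_surjective O) _
  set O' := O.subgroupOf M with hO'
  have hO'p : IsPGroup p O' :=
    (CfsgLib.Core.isPGroup_pCore p G).of_equiv (Subgroup.subgroupOfEquivOfLe hOM).symm
  obtain ⟨b, hb⟩ := IsPGroup.iff_card.1 hO'p
  have hidx : O'.index.Coprime p := by
    have h := Subgroup.relIndex_ker π (K := M)
    rw [hπ, QuotientGroup.ker_mk'] at h
    show (O.relIndex M).Coprime p
    rw [h, ← hπ, hMπ]
    exact CfsgLib.Core.coprime_card_pPrimeCore p _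
  have hcop : (Nat.card O').Coprime O'.index := hb ▸ (hidx.symm.pow_left b)
  obtain ⟨Q', hQ'⟩ := Subgroup.exists_right_complement'_of_coprime hcop
  have hQmap : ∀ R : Subgroup M, Subgroup.IsComplement' O' R →
      (R.map M.subtype).map π = pPrimeCore p (G ⧸ O) := by
    intro R hR
    rw [← hMπ]
    conv_rhs => arg 2; rw [show M = (⊤ : Subgroup M).map M.subtype by
      rw [← MonoidHom.range_eq_map, Subgroup.range_subtype]]
    rw [← hR.sup_eq_top, Subgroup.map_sup, Subgroup.map_sup]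
    rw [show (O'.map M.subtype).map π = ⊥ from by
      rw [hO', Subgroup.map_subgroupOf_eq_of_le hOM, hπ, QuotientGroup.map_mk'_self], bot_sup_eq]
  refine ⟨Q'.map M.subtype, ?_, hQmap Q' hQ', ?_⟩
  · rw [Subgroup.card_map_of_injective M.subtype_injective]
    intro hd
    rw [← hQ'.symm.index_eq_card] at hd
    exact (Fact.out : p.Prime).ne_one (Nat.eq_one_of_dvd_coprimes hidx hd dvd_rfl)
  · rw [eq_top_iff]
    intro q _
    obtain ⟨g, rfl⟩ := QuotientGroup.mk'_surjective O q
    let c : M ≃* M := MulAut.conjNormal g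
    have hcO : O'.map c.toMonoidHom = O' := by
      ext x
      rw [Subgroup.mem_map_equiv]
      show ((c.symm x : M) : G) ∈ O ↔ (x : G) ∈ O
      rw [show ((c.symm x : M) : G) = g⁻¹ * x * g from MulAut.conjNormal_symm_apply g x]
      refine ⟨fun h => ?_, fun h => by simpa using (CfsgLib.Core.normal_pCore p G).conj_mem _ h g⁻¹⟩
      simpa [mul_assoc] using (CfsgLib.Core.normal_pCore p G).conj_mem _ h g
    have hcomp : Subgroup.IsComplement' O' (Q'.map c.toMonoidHom) := by
      refine Subgroup.isComplement'_of_coprime ?_ ?_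
      · rw [Subgroup.card_map_of_injective (f := c.toMonoidHom) c.injective, hQ'.card_mul_card]
      · rw [Subgroup.card_map_of_injective (f := c.toMonoidHom) c.injective, ← hQ'.symm.index_eq_card]
        exact hcop
    have hsolv : Group.IsSolvable O' := by
      have := hO'p.isNilpotent
      infer_instance
    obtain ⟨u, hu⟩ := Cfsg.Agent.S0001.result O' hcop (Or.inl hsolv) Q' (Q'.map c.toMonoidHom) hQ' hcomp
    obtain ⟨o, ho, r, hr, rfl⟩ : ∃ o ∈ O', ∃ r ∈ Q', o * r = u := by
      obtain ⟨⟨o, r⟩, h, -⟩ := hQ'.existsUnique u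
      exact ⟨o, o.2, r, r.2, h⟩
    refine ⟨(o : G)⁻¹ * g, ?_, ?_⟩
    · have key : ∀ y ∈ Q', (o : G)⁻¹ * g * (y : G) * ((o : G)⁻¹ * g)⁻¹ ∈ Q'.map M.subtype := by
        intro y hy
        have h1 : c y ∈ MulAut.conj (o * r) • Q' := hu ▸ ⟨y, hy, rfl⟩
        rw [Subgroup.mem_pointwise_smul_iff_inv_smul_mem] at h1
        have h2 := Q'.mul_mem (Q'.mul_mem hr h1) (Q'.inv_mem hr)
        refine ⟨_, h2, ?_⟩
        simp only [Subgroup.coe_subtype, Subgroup.coe_mul, InvMemClass.coe_inv, MulAut.smul_def,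
          MulAut.inv_apply, MulAut.conj_symm_apply, c, MulAut.conjNormal_apply, mul_inv_rev]
        group
      rw [SetLike.mem_coe, Subgroup.mem_normalizer_iff_map_conj_eq]
      refine Subgroup.eq_of_le_of_card_ge ?_ (le_of_eq ?_)
      · rintro _ ⟨_, ⟨y, hy, rfl⟩, rfl⟩
        exact key y hy
      · exact (Subgroup.card_map_of_injective (MulAut.conj ((o : G)⁻¹ * g)).injective).symm
    · rw [map_mul, map_inv, show π (o : G) = 1 from (QuotientGroup.eq_one_iff _).2 ho, inv_one,
        one_mul]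

/-- The bound for the `p`-part of `|G : O_p(G)|`. -/
theorem factorization_index_pCore_le {G : Type*} [Group G] [Finite G] {p : ℕ} [hp : Fact p.Prime]
    (hsolv : IsPSolvable p G) {χ : G → ℂ} (hχ : Cfsg.IsCharacter G χ)
    (hfaith : ∀ g : G, χ g = χ 1 → g = 1) {n : ℕ} (hn : χ 1 = n) :
    ((pCore p G).index).factorization p ≤ ∑ i ∈ Finset.range (n + 1), n / ((p - 1) * p ^ i) := by
  set O := pCore p G with hO
  set π := QuotientGroup.mk' O with hπ
  obtain ⟨Q, hQp, hQπ, hNπ⟩ := exists_complement (G := G) (p := p)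
  set N0 := Subgroup.normalizer (Q : Set G) with hN0
  let f : N0 →* G ⧸ O := π.comp N0.subtype
  have hf : Function.Surjective f := by
    intro q
    obtain ⟨x, hx, rfl⟩ : q ∈ N0.map π := hNπ ▸ Subgroup.mem_top q
    exact ⟨⟨x, hx⟩, rfl⟩
  obtain ⟨S⟩ : Nonempty (Sylow p N0) := inferInstance
  set P := (S : Subgroup N0).map N0.subtype with hP
  have hPN : P ≤ Subgroup.normalizer (Q : Set G) := Subgroup.map_subtype_le _
  have hPp : IsPGroup p P := S.2.map _
  set H := Q ⊔ P with hH
  let : Fintype H := Fintype.ofFinite H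
  have hQn : (Q.subgroupOf H).Normal :=
    (Subgroup.normal_subgroupOf_iff_le_normalizer le_sup_left).2
      (sup_le Subgroup.le_normalizer hPN)
  obtain ⟨K, hK, hKb⟩ := factorization_index_le (p := p) (Q.subgroupOf H) (P.subgroupOf H)
    (hPp.of_equiv (Subgroup.subgroupOfEquivOfLe le_sup_right).symm)
    (by rwa [Nat.card_congr (Subgroup.subgroupOfEquivOfLe (le_sup_left : Q ≤ H)).toEquiv])
    (by rw [← Subgroup.subgroupOf_sup le_sup_left le_sup_right, Subgroup.subgroupOf_self])
    (χ := fun x => χ x) (IsChar.restrict H hχ)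
    (fun g hg => Subtype.ext (hfaith g hg)) hn
  let π' : P.subgroupOf H →* G ⧸ O := π.comp (H.subtype.comp (P.subgroupOf H).subtype)
  have hKπ : K ≤ π'.ker := by
    intro x hx
    have hO' : pCore p (G ⧸ O) = ⊥ := CfsgLib.Core.pCore_quotient_pCore p G
    have h1 : π' x ∈ pPrimeCore p (G ⧸ O) := by
      refine CfsgLib.PGroups.centralizer_pPrimeCore_le (CfsgLib.PLocal.isPSolvable_quotient hsolv O) hO' ?_
      rw [Subgroup.mem_centralizer_iff]
      intro y hy
      rw [SetLike.mem_coe, ← hQπ] at hy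
      obtain ⟨z, hz, rfl⟩ := hy
      have h := hK x hx ⟨z, (le_sup_left : Q ≤ H) hz⟩ hz
      have h' := congrArg (fun w : H => π (w : G)) h
      simp only [Subgroup.coe_mul, map_mul] at h'
      exact h'.symm
    have h2 : IsPGroup p (P.subgroupOf H) :=
      hPp.of_equiv (Subgroup.subgroupOfEquivOfLe le_sup_right).symm
    obtain ⟨e, he⟩ := h2 x
    rw [MonoidHom.mem_ker, ← orderOf_eq_one_iff]
    refine Nat.eq_one_of_dvd_coprimes ?_
      (Subgroup.orderOf_dvd_natCard _ h1) (orderOf_dvd_of_pow_eq_one (n := p ^ e) ?_)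
    · exact (CfsgLib.Core.coprime_card_pPrimeCore p _).pow_right e
    · rw [← map_pow, he, map_one]
  have hrange : Nat.card π'.range = p ^ O.index.factorization p := by
    let S' := S.mapSurjective hf
    have hS' : π'.range = (S' : Subgroup (G ⧸ O)) := by
      show _ = (S : Subgroup N0).map f
      rw [show π' = π.comp (H.subtype.comp (P.subgroupOf H).subtype) from rfl, MonoidHom.range_comp,
        MonoidHom.range_comp, Subgroup.range_subtype,
        Subgroup.map_subgroupOf_eq_of_le le_sup_right, hP, Subgroup.map_map]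
    rw [hS', S'.card_eq_multiplicity, Subgroup.index_eq_card]
  have hdvd : p ^ O.index.factorization p ∣ K.index := by
    rw [← hrange, ← Subgroup.index_ker]
    exact Subgroup.index_dvd_of_le hKπ
  refine le_trans ?_ hKb
  exact (hp.out.pow_dvd_iff_le_factorization Subgroup.index_ne_zero_of_finite).1 hdvd

end CfsgLib.PSylowBound
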