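import Cfsg.Agent.Lib.CharDegree.Restriction

/-!
# Irreducible characters with prime codegree
-/

namespace CfsgLib.CharDegree

open CfsgLib.Char

variable {Q : Type*} [Group Q] [Finite Q]

/-- If `|Q| = p d` for an irreducible degree `d`, then there is a normal subgroup of order `p`
equal to its own centralizer. -/
theorem exists_selfcentralizing_of_card_eq (χ : Cfsg.IrrCharacter Q) {p : ℕ} (hp : p.Prime)
    (hcard : Nat.card Q = p * Cfsg.charDegree (χ : Q → ℂ)) :
    ∃ P : Subgroup Q, P.Normal ∧ Nat.card P = p ∧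
      Subgroup.centralizer (P : Set Q) = P ∧ ¬ p ∣ Cfsg.charDegree (χ : Q → ℂ) := by
  classical
  have := Fact.mk hp
  set d := Cfsg.charDegree (χ : Q → ℂ) with hd
  have hdpos : 0 < d := charDegree_pos χ
  have hle : d ≤ p := by
    have h := sq_charDegree_le χ
    rw [← hd, hcard, sq] at h
    exact Nat.le_of_mul_le_mul_right h hdpos
  have hlt : d < p := by
    refine lt_of_le_of_ne hle fun heq => ?_
    have hcard2 : Nat.card Q = p ^ 2 := by rw [hcard, heq, sq]
    have hcomm := IsPGroup.commutative_of_card_eq_prime_sq hcard2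
    have h1 := charDegree_of_comm hcomm χ
    exact hp.one_lt.ne' (heq.symm.trans h1)
  have hnd : ¬ p ∣ d := fun h => absurd (Nat.le_of_dvd hdpos h) (not_le.mpr hlt)
  obtain ⟨P, hP⟩ : ∃ P : Sylow p Q, True := ⟨Classical.arbitrary _, trivial⟩
  have hPcard : Nat.card P = p := by
    rw [P.card_eq_multiplicity, hcard, Nat.factorization_mul hp.ne_zero hdpos.ne',
      Finsupp.add_apply, hp.factorization_self, Nat.factorization_eq_zero_of_not_dvd hnd, pow_one]
  have hindex : (P : Subgroup Q).index = d := by
    have h := (P : Subgroup Q).card_mul_index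
    rw [hPcard, hcard] at h
    exact Nat.eq_of_mul_eq_mul_left hp.pos h
  have hone : Nat.card (Sylow p Q) = 1 := by
    have h1 := P.card_dvd_index
    rw [hindex] at h1
    have h2 : Nat.card (Sylow p Q) < p := lt_of_le_of_lt (Nat.le_of_dvd hdpos h1) hlt
    have h3 := card_sylow_modEq_one p Q
    rwa [Nat.ModEq, Nat.mod_eq_of_lt h2, Nat.mod_eq_of_lt hp.one_lt] at h3
  have hnormal : (P : Subgroup Q).Normal := by
    have := (Nat.card_eq_one_iff_unique.mp hone).1
    exact P.normal_of_subsingleton
  refine ⟨P, hnormal, hPcard, ?_, hnd⟩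
  set C := Subgroup.centralizer ((P : Subgroup Q) : Set Q) with hC
  have hPC : (P : Subgroup Q) ≤ C := by
    intro x hx
    rw [hC, Subgroup.mem_centralizer_iff]
    intro y hy
    have hcyc : IsCyclic (P : Subgroup Q) := isCyclic_of_prime_card (p := p) hPcard
    have : IsMulCommutative (P : Subgroup Q) := IsCyclic.isMulCommutative
    exact congrArg Subtype.val (this.is_comm.comm (⟨y, hy⟩ : (P : Subgroup Q)) ⟨x, hx⟩)
  obtain ⟨θ, hθ⟩ := exists_constituent_bound χ C
  have hcent : (P : Subgroup Q).subgroupOf C ≤ Subgroup.center C := by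
    intro z hz
    rw [Subgroup.mem_center_iff]
    intro c
    exact Subtype.ext (Subgroup.mem_centralizer_iff.mp c.2 z.1 hz).symm
  have hsq := sq_charDegree_mul_card_le θ ((P : Subgroup Q).subgroupOf C) hcent
  rw [Nat.card_congr (Subgroup.subgroupOfEquivOfLe hPC).toEquiv, hPcard] at hsq
  have hCcard : Nat.card C = Nat.card (P : Subgroup Q) := by
    refine le_antisymm ?_ (Subgroup.card_le_of_le hPC)
    rw [hPcard]
    set e := Cfsg.charDegree (θ : C → ℂ) with he
    have hepos : 0 < e := charDegree_pos θ
    have h1 : Nat.card C * C.index = p * d := by rw [C.card_mul_index, hcard]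
    have h2 : Nat.card C * C.index ≤ p * e * C.index := by
      rw [h1, mul_assoc, mul_comm e]
      exact Nat.mul_le_mul_left p hθ
    have h3 : Nat.card C ≤ p * e :=
      Nat.le_of_mul_le_mul_right h2 (Nat.pos_of_ne_zero Subgroup.index_ne_zero_of_finite)
    have h4 : e ≤ 1 := by
      refine Nat.le_of_mul_le_mul_right (c := e * p) ?_ (Nat.mul_pos hepos hp.pos)
      calc e * (e * p) = e ^ 2 * p := by ring
        _ ≤ Nat.card C := hsq
        _ ≤ 1 * (e * p) := by rw [one_mul, mul_comm]; exact h3
    exact h3.trans (by nlinarith)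
  exact (Subgroup.eq_of_le_of_card_ge hPC hCcard.le).symm

end CfsgLib.CharDegree
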