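import Cfsg.Agent.Lib.CharDegree.Twist
import Cfsg.Agent.Lib.CharDegree.ThreeDegrees.Basic
import Cfsg.Agent.Lib.Char.Gallagher
import Cfsg.Agent.Lib.Char.Extension

/-!
# Groups all of whose nonlinear degrees are prime

Such a solvable group has at most two distinct nonlinear degrees.
-/

set_option autoImplicit false

namespace CfsgLib.PrimeDegrees

open Cfsg CfsgLib.Char CfsgLib.CharDegree CfsgLib.CharExt CfsgLib.Gallagher
open scoped commutatorElement Classical

variable {G : Type*} [Group G] [Fintype G]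

/-- A constituent with the full degree is the whole restriction. -/
theorem restrict_eq {N : Subgroup G} [Fintype N] {χ : IrrCharacter G} {θ : IrrCharacter N}
    (hc : classInner (fun n : N => (χ : G → ℂ) n) (θ : N → ℂ) ≠ 0)
    (hd : charDegree (θ : N → ℂ) = charDegree (χ : G → ℂ)) :
    (fun n : N => (χ : G → ℂ) n) = (θ : N → ℂ) :=
  Clifford.eq_irr_of_degree_le (IsChar.restrict N (IsIrr.isCharacter χ.2)) θ hc
    (c := charDegree (χ : G → ℂ)) (c' := charDegree (θ : N → ℂ))
    (by simp [cast_irrDegree]) (cast_irrDegree θ).symm hd.ge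

theorem exists_constituent_res {N : Subgroup G} [Fintype N] (χ : IrrCharacter G) :
    ∃ θ : IrrCharacter N, classInner (fun n : N => (χ : G → ℂ) n) (θ : N → ℂ) ≠ 0 :=
  Clifford.exists_constituent (IsChar.isClassFunction (IsChar.restrict N (IsIrr.isCharacter χ.2)))
    fun h => IsIrr.apply_one_ne_zero χ.2 (congrFun h 1)

variable (h : ∀ χ : IrrCharacter G, charDegree (χ : G → ℂ) ≠ 1 → (charDegree (χ : G → ℂ)).Prime)
  {p q : ℕ} (hp : p.Prime) (hq : q.Prime) (hpq : p ≠ q)
  (hpd : ∃ χ : IrrCharacter G, charDegree (χ : G → ℂ) = p)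
  (hqd : ∃ χ : IrrCharacter G, charDegree (χ : G → ℂ) = q)

include h hp hq hpq hpd hqd in
/-- With two nonlinear degrees every nilpotent quotient is abelian. -/
theorem comm_of_nilpotent {H : Type*} [Group H] [Finite H] [Group.IsNilpotent H] (f : G →* H)
    (hf : Function.Surjective f) : ∀ a b : H, a * b = b * a := by
  by_contra hne
  obtain ⟨e⟩ := (Group.isNilpotent_of_finite_tfae (G := H)).out 0 4 rfl rfl |>.mp ‹_›
  obtain ⟨s, S, hS⟩ : ∃ (s : (Nat.card H).primeFactors) (S : Sylow s H),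
      ¬ ∀ a b : (S : Subgroup H), a * b = b * a := by
    by_contra hall
    push Not at hall
    refine hne fun a b => ?_
    obtain ⟨a, rfl⟩ := e.surjective a
    obtain ⟨b, rfl⟩ := e.surjective b
    rw [← map_mul, ← map_mul]
    exact congrArg e (funext fun s => funext fun S => hall s S _ _)
  haveI hs := Fact.mk (Nat.prime_of_mem_primeFactors s.2)
  let g : G →* (S : Subgroup H) :=
    (((Pi.evalMonoidHom (fun S' : Sylow s H => (S' : Subgroup H)) S).comp
      (Pi.evalMonoidHom (fun t : (Nat.card H).primeFactors => ∀ S' : Sylow t H, (S' : Subgroup H)) s)).comp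
      e.symm.toMonoidHom).comp f
  have hg : Function.Surjective g := fun y => by
    obtain ⟨z, hz⟩ := Function.surjective_eval (α := (Nat.card H).primeFactors)
      (β := fun t => ∀ S' : Sylow t H, (S' : Subgroup H)) s (Function.update (fun S' => 1) S y)
    obtain ⟨x, hx⟩ := hf (e z)
    refine ⟨x, ?_⟩
    show (e.symm (f x)) s S = y
    rw [hx, MulEquiv.symm_apply_apply, show z s = _ from hz, Function.update_self]
  haveI := Fintype.ofFinite (S : Subgroup H)
  obtain ⟨β, hβ⟩ : ∃ β : IrrCharacter (S : Subgroup H), charDegree (β : ↥(S : Subgroup H) → ℂ) ≠ 1 := by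
    by_contra hall
    push Not at hall
    refine hS fun a b => commutatorElement_eq_one_iff_mul_comm.1
      (ThreeDegrees.eq_one_of_mem_all_ker fun χ => le_ker_of_degree_one χ (hall χ) ?_)
    exact Subgroup.commutator_mem_commutator (Subgroup.mem_top _) (Subgroup.mem_top _)
  let eq := QuotientGroup.quotientKerEquivOfSurjective g hg
  let β' : IrrCharacter (G ⧸ g.ker) :=
    ⟨_, IsIrr.comp_surjective eq.toMonoidHom eq.surjective β.2⟩
  have hβd : charDegree (β' : G ⧸ g.ker → ℂ) = charDegree (β : ↥(S : Subgroup H) → ℂ) := by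
    refine Nat.cast_injective (R := ℂ) ?_
    rw [cast_irrDegree, cast_irrDegree]
    exact congrArg (β : ↥(S : Subgroup H) → ℂ) (map_one eq)
  have hidx : g.ker.index = Nat.card (S : Subgroup H) := Nat.card_congr eq.toEquiv
  obtain ⟨k, hk⟩ := S.2.exists_card_eq
  have hsdeg : charDegree (β : ↥(S : Subgroup H) → ℂ) = s := by
    have h1 : charDegree (infl g.ker β' : G → ℂ) = charDegree (β : ↥(S : Subgroup H) → ℂ) :=
      (charDegree_infl g.ker β').trans hβd
    exact (Nat.prime_dvd_prime_iff_eq (h1 ▸ h _ (h1.symm ▸ hβ)) hs.out).1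
      ((h1 ▸ h _ (h1.symm ▸ hβ)).dvd_of_dvd_pow (hk ▸ charDegree_dvd_card β))
  obtain ⟨χ, hχs, hχp⟩ : ∃ χ : IrrCharacter G, charDegree (χ : G → ℂ) ≠ s ∧
      (charDegree (χ : G → ℂ)).Prime := by
    obtain ⟨χ, hχ⟩ := hpd
    obtain ⟨χ', hχ'⟩ := hqd
    rcases eq_or_ne p (s : ℕ) with h1 | h1
    · exact ⟨χ', by rw [hχ']; exact fun h2 => hpq (h1.trans h2.symm), hχ'.symm ▸ hq⟩
    · exact ⟨χ, by rwa [hχ], hχ.symm ▸ hp⟩
  haveI := Fintype.ofFinite g.ker
  obtain ⟨θ, hθ⟩ := exists_constituent_res (N := g.ker) χ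
  obtain ⟨h1, h2⟩ := ThreeDegrees.degree_dvd_of_over g.ker χ θ hθ
  have hθd : charDegree (θ : g.ker → ℂ) = charDegree (χ : G → ℂ) := by
    refine Nat.eq_of_dvd_of_div_eq_one h1 (Nat.eq_one_of_dvd_coprimes
      (?_ : Nat.Coprime (charDegree (χ : G → ℂ)) (s ^ k)) (Nat.div_dvd_of_dvd h1) ?_)
    · exact ((Nat.coprime_primes hχp hs.out).2 hχs).pow_right k
    · rwa [hidx, hk] at h2
  have hres := restrict_eq hθ hθd
  have hirr := isIrr_twistBy (IsIrr.isCharacter χ.2) (show IsIrrCharacter g.ker (fun n => (χ : G → ℂ) n) by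
    rw [hres]; exact θ.2) β'
  have hd : charDegree (twistBy (χ : G → ℂ) (β' : G ⧸ g.ker → ℂ)) = (s : ℕ) * charDegree (χ : G → ℂ) := by
    refine Nat.cast_injective (R := ℂ) ?_
    rw [cast_irrDegree ⟨_, hirr⟩, Nat.cast_mul, cast_irrDegree χ]
    conv_rhs => arg 1; rw [show (s : ℕ) = charDegree (β' : G ⧸ g.ker → ℂ) from (hβd.trans hsdeg).symm,
      cast_irrDegree β']
    simp [twistBy_apply]
  have h3 := h ⟨_, hirr⟩ (by
    show charDegree (twistBy (χ : G → ℂ) (β' : G ⧸ g.ker → ℂ)) ≠ 1
    rw [hd]; exact fun h4 => hs.out.ne_one (Nat.eq_one_of_mul_eq_one_right h4))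
  simp only [hd] at h3
  exact Nat.not_prime_mul hs.out.ne_one hχp.ne_one h3

section Linear

variable [hGf : Fintype (commutator G)]

/-- A conjugate of a linear character of the derived subgroup. -/
def conjHom (l : commutator G →* ℂˣ) (g : G) : commutator G →* ℂˣ :=
  l.comp (MulAut.conjNormal g : MulAut (commutator G)).toMonoidHom

theorem conjFn_linear (l : commutator G →* ℂˣ) (g : G) :
    Clifford.conjFn (inferInstance : (commutator G).Normal) (fun x => (l x : ℂ)) g =
      fun x => (conjHom l g x : ℂ) := by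
  funext x
  rw [Clifford.conjFn_apply]
  exact congrArg (fun y => ((l y : ℂˣ) : ℂ)) (Subtype.ext (MulAut.conjNormal_apply g x).symm)

/-- The stabilizer of a linear character. -/
noncomputable def stab (l : commutator G →* ℂˣ) : Subgroup G :=
  Clifford.inertia (inferInstance : (commutator G).Normal) (fun x => (l x : ℂ))

theorem mem_stab {l : commutator G →* ℂˣ} {g : G} : g ∈ stab l ↔ conjHom l g = l := by
  rw [stab, Clifford.mem_inertia, conjFn_linear]
  exact ⟨fun h => MonoidHom.ext fun x => Units.ext (congrFun h x), fun h => by rw [h]⟩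

theorem stab_normal (l : commutator G →* ℂˣ) : (stab l).Normal := by
  have hle : commutator G ≤ stab l :=
    Clifford.le_inertia _ (IsIrr.isClassFunction (isIrrCharacter_linear l))
  refine ⟨fun x hx g => ?_⟩
  rw [show g * x * g⁻¹ = ⁅g, x⁆ * x by rw [commutatorElement_def, inv_mul_cancel_right]]
  exact mul_mem (hle (Subgroup.commutator_mem_commutator (Subgroup.mem_top _) (Subgroup.mem_top _))) hx

include h in
theorem index_stab (l : commutator G →* ℂˣ) : (stab l).index = 1 ∨ (stab l).index.Prime := by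
  obtain ⟨χ, hχ⟩ := ThreeDegrees.exists_over (commutator G) ⟨_, isIrrCharacter_linear l⟩
  obtain ⟨m, hm⟩ := IsChar.classInner_eq_natCast (IsChar.restrict (commutator G) (IsIrr.isCharacter χ.2))
    (IsIrr.isCharacter (isIrrCharacter_linear l))
  have hd := Clifford.degree_eq (inferInstance : (commutator G).Normal) (isIrrCharacter_linear l) χ.2 hχ
  rw [hm, ← cast_irrDegree χ, map_one, Units.val_one, mul_one] at hd
  have hd' : charDegree (χ : G → ℂ) = m * (stab l).index := by
    refine Nat.cast_injective (R := ℂ) ?_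
    rw [Nat.cast_mul]; exact hd
  by_cases h1 : charDegree (χ : G → ℂ) = 1
  · exact Or.inl (Nat.eq_one_of_mul_eq_one_left (hd'.symm.trans h1))
  · rcases (Nat.dvd_prime (h χ h1)).1 (Dvd.intro_left m hd'.symm) with h2 | h2
    · exact Or.inl h2
    · exact Or.inr (h2.symm ▸ h χ h1)

include h hp hq hpq hpd hqd in
/-- The invariant linear characters are trivial. -/
theorem eq_one_of_stab_eq_top (l : commutator G →* ℂˣ) (hl : stab l = ⊤) : l = 1 := by
  set K := l.ker.map (commutator G).subtype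
  have hfix : ∀ (g : G) (x : commutator G), l ((MulAut.conjNormal g : MulAut (commutator G)) x) = l x :=
    fun g x => DFunLike.congr_fun (mem_stab.1 (hl ▸ Subgroup.mem_top g)) x
  haveI hKn : K.Normal := ⟨by
    rintro _ ⟨x, hx, rfl⟩ g
    exact ⟨(MulAut.conjNormal g : MulAut (commutator G)) x, (hfix g x).trans hx,
      MulAut.conjNormal_apply g x⟩⟩
  haveI hnil : Group.IsNilpotent (G ⧸ K) := by
    refine isNilpotent_of_ker_le_center (Abelianization.of (G := G ⧸ K)) ?_
    rw [Abelianization.ker_of, commutator_def,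
      ← Subgroup.map_top_of_surjective _ (QuotientGroup.mk'_surjective K),
      ← Subgroup.map_commutator, ← commutator_def]
    rintro _ ⟨c, hc, rfl⟩
    refine Subgroup.mem_center_iff.2 fun y => ?_
    obtain ⟨g, rfl⟩ := QuotientGroup.mk'_surjective K y
    rw [← map_mul, ← map_mul]
    refine QuotientGroup.eq.2 ⟨⟨c, hc⟩⁻¹ * (MulAut.conjNormal g⁻¹ : MulAut (commutator G)) ⟨c, hc⟩, ?_, ?_⟩
    · rw [SetLike.mem_coe, MonoidHom.mem_ker, map_mul, map_inv, hfix, inv_mul_cancel]
    · simp [MulAut.conjNormal_apply, mul_assoc]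
  have hcomm := comm_of_nilpotent h hp hq hpq hpd hqd (QuotientGroup.mk' K) (QuotientGroup.mk'_surjective K)
  refine MonoidHom.ext fun x => ?_
  have hle : commutator G ≤ K := by
    rw [commutator_def, Subgroup.commutator_le]
    intro a _ b _
    refine (QuotientGroup.eq_one_iff _).1 ?_
    show QuotientGroup.mk' K ⁅a, b⁆ = 1
    rw [map_commutatorElement, commutatorElement_eq_one_iff_mul_comm]
    exact hcomm _ _
  obtain ⟨y, hy, hyx⟩ := hle x.2
  rw [← Subtype.ext hyx]
  exact hy

end Linear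

include h hp hq hpq hpd hqd in
/-- A degree whose characters restrict irreducibly kills every quotient of conjugate linear characters. -/
theorem pow_eq_one_of_restrict [Fintype (commutator G)] {t : ℕ} (ht : t.Prime) (χ : IrrCharacter G)
    (hχ : charDegree (χ : G → ℂ) = t) :
    (∀ (l : commutator G →* ℂˣ) (g : G), (conjHom l g * l⁻¹) ^ t = 1) ∨
      ∃ l : commutator G →* ℂˣ, (stab l).index = t := by
  obtain ⟨θ, hθ⟩ := exists_constituent_res (N := commutator G) χ
  have hdvd := (ThreeDegrees.degree_dvd_of_over (commutator G) χ θ hθ).1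
  rw [hχ] at hdvd
  rcases (Nat.dvd_prime ht).1 hdvd with hθ1 | hθt
  · refine Or.inr ?_
    obtain ⟨l, hl⟩ := exists_hom_of_degree_one θ hθ1
    have hd := Clifford.degree_eq (inferInstance : (commutator G).Normal) θ.2 χ.2 hθ
    obtain ⟨m, hm⟩ := IsChar.classInner_eq_natCast (IsChar.restrict (commutator G) (IsIrr.isCharacter χ.2))
      (IsIrr.isCharacter θ.2)
    rw [hm, ← cast_irrDegree χ, hl, hχ] at hd
    simp only [map_one, Units.val_one, mul_one] at hd
    have hd' : t = m * (stab l).index := Nat.cast_injective (R := ℂ) (by rw [Nat.cast_mul]; exact hd)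
    rcases (Nat.dvd_prime ht).1 (Dvd.intro_left m hd'.symm) with h2 | h2
    · exfalso
      have hl1 := eq_one_of_stab_eq_top h hp hq hpq hpd hqd l (Subgroup.index_eq_one.1 h2)
      refine ht.ne_one (hχ.symm.trans ((charDegree_eq_one_iff_commutator χ).2 fun c hc => ?_))
      have hr := Clifford.restrict_eq_smul_orbit_sum (inferInstance : (commutator G).Normal) χ.2 θ.2 hθ
      have hone : ∀ ψ ∈ Finset.univ.image
          (Clifford.conjFn (inferInstance : (commutator G).Normal) (θ : commutator G → ℂ)),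
          ∀ y, ψ y = 1 := by
        intro ψ hψ y
        obtain ⟨g, -, rfl⟩ := Finset.mem_image.1 hψ
        rw [Clifford.conjFn_apply, hl, hl1]
        simp
      have e1 := congrFun hr ⟨c, hc⟩
      have e2 := congrFun hr 1
      simp only [Pi.smul_apply, Finset.sum_apply, smul_eq_mul, OneMemClass.coe_one] at e1 e2
      rw [Finset.sum_congr rfl fun ψ hψ => hone ψ hψ _] at e1 e2
      exact e1.trans e2.symm
    · exact ⟨l, h2⟩
  · refine Or.inl fun l g => ?_
    have hres := restrict_eq hθ (hθt.trans hχ.symm)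
    set φ := twist θ l
    obtain ⟨χ', hχ'⟩ := ThreeDegrees.exists_over (commutator G) φ
    have hφd : charDegree (φ : commutator G → ℂ) = t := (charDegree_twist θ l).trans hθt
    have hd' := (ThreeDegrees.degree_dvd_of_over (commutator G) χ' φ hχ').1
    rw [hφd] at hd'
    have hχ'1 : charDegree (χ' : G → ℂ) ≠ 1 := fun h1 => ht.ne_one (Nat.dvd_one.1 (h1 ▸ hd'))
    have hres' := restrict_eq hχ' (hφd.trans ((Nat.prime_dvd_prime_iff_eq ht (h χ' hχ'1)).1 hd'))
    have hμ : ∀ x : commutator G,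
        ((conjHom l g * l⁻¹) x : ℂ) * (θ : commutator G → ℂ) x = (θ : commutator G → ℂ) x := by
      intro x
      set x' := (MulAut.conjNormal g : MulAut (commutator G)) x
      have hx' : (x' : G) = g * x * g⁻¹ := MulAut.conjNormal_apply g x
      have h1 : (θ : commutator G → ℂ) x' = (θ : commutator G → ℂ) x := by
        rw [← hres]
        show (χ : G → ℂ) (x' : G) = (χ : G → ℂ) (x : G)
        rw [hx']
        exact IsIrr.isClassFunction χ.2 (x : G) g
      have h2 : (φ : commutator G → ℂ) x' = (φ : commutator G → ℂ) x := by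
        rw [← hres']
        show (χ' : G → ℂ) (x' : G) = (χ' : G → ℂ) (x : G)
        rw [hx']
        exact IsIrr.isClassFunction χ'.2 (x : G) g
      rw [twist_apply, twist_apply, h1] at h2
      show ((l x' * (l x)⁻¹ : ℂˣ) : ℂ) * _ = _
      rw [Units.val_mul, Units.val_inv_eq_inv_val, mul_comm, ← mul_assoc, h2,
        mul_inv_cancel_right₀ (Units.ne_zero _)]
    obtain ⟨n, σ, hσ, hσc, hn⟩ := exists_rep θ
    have h3 := detHom_eq_of_character_eq (twistRep σ (conjHom l g * l⁻¹)) σ (by
      rw [character_twistRep, hσc]; exact funext hμ)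
    rw [detHom_twistRep, Module.finrank_fin_fun] at h3
    rw [← hθt, ← hn]
    exact mul_right_cancel (h3.trans (one_mul (detHom σ)).symm)

include h hp hq hpq hpd hqd in
/-- Two distinct degrees both induced from the derived subgroup are impossible. -/
theorem not_two_stab [Fintype (commutator G)] (l l' : commutator G →* ℂˣ) :
    ¬ ((stab l).index = p ∧ (stab l').index = q) := by
  rintro ⟨hl, hl'⟩
  haveI := stab_normal l; haveI := stab_normal l'; haveI := stab_normal (l * l')
  have key : ∀ a b : commutator G →* ℂˣ, stab (a * b) ⊓ stab a ≤ stab b := by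
    intro a b g ⟨h1, h2⟩
    have h3 : conjHom (a * b) g = conjHom a g * conjHom b g := rfl
    replace h1 : conjHom (a * b) g = a * b := mem_stab.1 h1
    rw [h3, mem_stab.1 h2] at h1
    exact mem_stab.2 (mul_left_cancel h1)
  have hdvd : ∀ a b : commutator G →* ℂˣ, (stab a).Normal → (stab (a * b)).Normal →
      (stab b).index ∣ (stab (a * b)).index * (stab a).index := by
    intro a b _ _
    refine (Subgroup.index_dvd_of_le (key a b)).trans ?_
    rw [← Subgroup.relIndex_mul_index (inf_le_right : stab (a * b) ⊓ stab a ≤ stab a),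
      Subgroup.inf_relIndex_right]
    exact Nat.mul_dvd_mul_right (Subgroup.relIndex_dvd_index_of_normal _ _) _
  have hq1 := hdvd l l' (stab_normal l) (stab_normal _)
  have hp1 := hdvd l' l (stab_normal l') (stab_normal _)
  rw [mul_comm l' l] at hp1
  rw [hl, hl'] at hq1 hp1
  have hq2 : q ∣ (stab (l * l')).index :=
    ((Nat.coprime_primes hq hp).2 hpq.symm).dvd_of_dvd_mul_right hq1
  have hp2 : p ∣ (stab (l * l')).index :=
    ((Nat.coprime_primes hp hq).2 hpq).dvd_of_dvd_mul_right hp1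
  rcases index_stab h (l * l') with h1 | h1
  · exact hq.ne_one (Nat.dvd_one.1 (h1 ▸ hq2))
  · exact hpq (((Nat.prime_dvd_prime_iff_eq hp h1).1 hp2).trans
      ((Nat.prime_dvd_prime_iff_eq hq h1).1 hq2).symm)

omit h hpd hqd in
include hp hq hpq in
theorem eq_one_of_two_pow {M : Type*} [Monoid M] {x : M} (h1 : x ^ p = 1) (h2 : x ^ q = 1) : x = 1 :=
  orderOf_eq_one_iff.1 (Nat.eq_one_of_dvd_coprimes ((Nat.coprime_primes hp hq).2 hpq)
    (orderOf_dvd_of_pow_eq_one h1) (orderOf_dvd_of_pow_eq_one h2))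

include h hp hq hpq hpd hqd in
/-- There is no third degree. -/
theorem no_third [Group.IsSolvable G] {r : ℕ} (hr : r.Prime) (hpr : p ≠ r) (hqr : q ≠ r)
    (hrd : ∃ χ : IrrCharacter G, charDegree (χ : G → ℂ) = r) : False := by
  haveI := Fintype.ofFinite (commutator G)
  obtain ⟨χp, hχp⟩ := hpd
  obtain ⟨χq, hχq⟩ := hqd
  obtain ⟨χr, hχr⟩ := hrd
  have hallinv : ∀ (l : commutator G →* ℂˣ) (g : G), conjHom l g = l := by
    intro l g
    refine mul_inv_eq_one.1 ?_
    rcases pow_eq_one_of_restrict h hp hq hpq ⟨χp, hχp⟩ ⟨χq, hχq⟩ hp χp hχp with h1 | ⟨lp, h1⟩ <;>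
    rcases pow_eq_one_of_restrict h hp hq hpq ⟨χp, hχp⟩ ⟨χq, hχq⟩ hq χq hχq with h2 | ⟨lq, h2⟩
    · exact eq_one_of_two_pow hp hq hpq (h1 l g) (h2 l g)
    · rcases pow_eq_one_of_restrict h hp hq hpq ⟨χp, hχp⟩ ⟨χq, hχq⟩ hr χr hχr with h3 | ⟨lr, h3⟩
      · exact eq_one_of_two_pow hp hr hpr (h1 l g) (h3 l g)
      · exact (not_two_stab h hq hr hqr ⟨χq, hχq⟩ ⟨χr, hχr⟩ lq lr ⟨h2, h3⟩).elim
    · rcases pow_eq_one_of_restrict h hp hq hpq ⟨χp, hχp⟩ ⟨χq, hχq⟩ hr χr hχr with h3 | ⟨lr, h3⟩
      · exact eq_one_of_two_pow hq hr hqr (h2 l g) (h3 l g)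
      · exact (not_two_stab h hp hr hpr ⟨χp, hχp⟩ ⟨χr, hχr⟩ lp lr ⟨h1, h3⟩).elim
    · exact (not_two_stab h hp hq hpq ⟨χp, hχp⟩ ⟨χq, hχq⟩ lp lq ⟨h1, h2⟩).elim
  have hne : commutator G ≠ ⊥ := fun hbot => hp.ne_one
    (hχp.symm.trans ((charDegree_eq_one_iff_commutator χp).2 fun c hc => by
      rw [hbot, Subgroup.mem_bot] at hc; rw [hc]))
  have hperf : commutator (commutator G) ≠ ⊤ := by
    haveI : Nontrivial (commutator G) := (Subgroup.nontrivial_iff_ne_bot _).2 hne
    exact (Group.IsSolvable.commutator_lt_top_of_nontrivial (commutator G)).ne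
  obtain ⟨x, hx⟩ : ∃ x, x ∉ commutator (commutator G) := by
    by_contra hh
    push Not at hh
    exact hperf (eq_top_iff.2 fun x _ => hh x)
  obtain ⟨φ, hφ⟩ := CommGroup.exists_apply_ne_one_of_hasEnoughRootsOfUnity
    (Abelianization (commutator G)) ℂ (a := Abelianization.of x) fun h1 => hx (by
      rw [← Abelianization.ker_of (commutator G)]; exact MonoidHom.mem_ker.2 h1)
  refine hφ ?_
  have h1 := eq_one_of_stab_eq_top h hp hq hpq ⟨χp, hχp⟩ ⟨χq, hχq⟩ (φ.comp Abelianization.of)
    (eq_top_iff.2 fun g _ => mem_stab.2 (hallinv _ g))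
  exact DFunLike.congr_fun h1 x

end CfsgLib.PrimeDegrees
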