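import Cfsg.Agent.S4866
import Cfsg.Agent.S4911
import Cfsg.Agent.Lib.CharDegree.OddIndex
import Cfsg.Agent.Lib.CharDegree.Basic
import Mathlib.GroupTheory.Sylow

/-!
# Real classes met by the centralizer of a Sylow subgroup
-/

namespace CfsgLib.CharDegree.RealFixed

open Cfsg CfsgLib.Char CfsgLib.CharAction CfsgLib.Clifford
open scoped ComplexConjugate

variable {G : Type*} [Group G]

open scoped Classical in
/-- An orbit of size prime to `p` contains a character fixed by the Sylow `p`-subgroup. -/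
theorem exists_fixed_conj [Fintype G] {p : ℕ} [Fact p.Prime] (P : Sylow p G) (K : Subgroup G)
    [hN : K.Normal] (θ : IrrCharacter K)
    (hOp : ¬ p ∣ (Finset.univ.image (conjFn hN (θ : K → ℂ))).card) :
    ∃ g : G, ∀ a ∈ (P : Subgroup G), ∀ k : K,
      (θ : K → ℂ) (MulAut.conjNormal g (MulAut.conjNormal a k)) =
        (θ : K → ℂ) (MulAut.conjNormal g k) := by
  classical
  set O := Finset.univ.image (conjFn hN (θ : K → ℂ)) with hO
  -- the action of `P` on the orbit
  letI : MulAction (P : Subgroup G) {f : K → ℂ // f ∈ O} :=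
    { smul := fun a f => ⟨fun k => f.1 (MulAut.conjNormal (a : G)⁻¹ k), by
        obtain ⟨g, -, hg⟩ := Finset.mem_image.mp f.2
        refine Finset.mem_image.mpr ⟨g * (a : G)⁻¹, Finset.mem_univ _, ?_⟩
        rw [← hg]
        funext k
        rw [conjFn_apply, conjFn_apply]
        exact congrArg _ (Subtype.ext (by simp [MulAut.conjNormal_apply, mul_assoc]))⟩
      one_smul := fun f => Subtype.ext (funext fun k =>
        congrArg f.1 (Subtype.ext (by simp [MulAut.conjNormal_apply])))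
      mul_smul := fun a b f => Subtype.ext (funext fun k =>
        congrArg f.1 (Subtype.ext (by simp [MulAut.conjNormal_apply, mul_assoc]))) }
  obtain ⟨f, hf⟩ := P.2.nonempty_fixed_point_of_prime_not_dvd_card {f : K → ℂ // f ∈ O}
    (by rw [Nat.card_eq_fintype_card, Fintype.card_coe]; exact hOp)
  obtain ⟨g, -, hg⟩ := Finset.mem_image.mp f.2
  refine ⟨g, fun a ha k => ?_⟩
  have hval : ∀ k : K, f.1 k = (θ : K → ℂ) (MulAut.conjNormal g k) := fun k => by
    rw [← hg, conjFn_apply]
    exact congrArg _ (Subtype.ext (by simp [MulAut.conjNormal_apply]))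
  have h := congrFun (congrArg Subtype.val (hf ⟨a, ha⟩⁻¹)) k
  rw [← hval k, ← h, ← hval]
  exact congrArg f.1 (Subtype.ext (by simp [MulAut.conjNormal_apply]))


/-- Real characters of `G` of degree prime to `p` force an invariant conjugate of each real
character of a normal subgroup of odd index. -/
theorem exists_invariant_conj [Finite G] {p : ℕ} [Fact p.Prime] (P : Sylow p G) (K : Subgroup G)
    [K.Normal] (hodd : Odd K.index)
    (hreal : ∀ χ : IrrCharacter G, (∀ g : G, ((χ : G → ℂ) g).im = 0) →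
      ¬ p ∣ charDegree (χ : G → ℂ))
    (θ : IrrCharacter K) (hθ : ∀ k : K, ((θ : K → ℂ) k).im = 0) :
    ∃ g : G, ∀ a ∈ (P : Subgroup G), ∀ k : K,
      (θ : K → ℂ) (MulAut.conjNormal g (MulAut.conjNormal a k)) =
        (θ : K → ℂ) (MulAut.conjNormal g k) := by
  classical
  have := Fintype.ofFinite G
  have hN : K.Normal := inferInstance
  obtain ⟨χ, ⟨hχr, hχ⟩, -⟩ := CfsgLib.CharDegree.existsUnique_real_over K hodd θ hθ
  have hres := restrict_eq_smul_orbit_sum hN χ.2 θ.2 hχ
  obtain ⟨e, he⟩ := IsChar.classInner_eq_natCast (IsChar.restrict K (IsIrr.isCharacter χ.2))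
    (IsIrr.isCharacter θ.2)
  set O := Finset.univ.image (conjFn hN (θ : K → ℂ)) with hO
  have hdeg : charDegree (χ : G → ℂ) = e * (O.card * charDegree (θ : K → ℂ)) := by
    apply Nat.cast_injective (R := ℂ)
    have h := congrFun hres 1
    simp only [Pi.smul_apply, Finset.sum_apply, OneMemClass.coe_one, smul_eq_mul] at h
    rw [Finset.sum_congr rfl (fun ψ hψ => show ψ 1 = (θ : K → ℂ) 1 by
      obtain ⟨g, -, rfl⟩ := Finset.mem_image.mp hψ
      rw [conjFn_apply]
      exact congrArg _ (Subtype.ext (by simp))), Finset.sum_const, nsmul_eq_mul] at h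
    push_cast
    rw [CharDegree.cast_irrDegree, CharDegree.cast_irrDegree, h, he]
  have hOp : ¬ p ∣ O.card := fun hd => hreal χ hχr (hdeg ▸ (hd.mul_right _).mul_left e)
  exact exists_fixed_conj P K θ hOp

/-- If every real character of a normal `p'`-subgroup `K` of odd index has a conjugate invariant
under the Sylow `p`-subgroup `P`, then every real element of `K` has a conjugate in the
normalizer of `P`. -/
theorem exists_conj_mem_normalizer [Finite G] {p : ℕ} [Fact p.Prime] (P : Sylow p G) (K : Subgroup G)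
    [K.Normal] (hodd : Odd K.index) (hpK : ¬ p ∣ Nat.card K)
    (hreal : ∀ χ : IrrCharacter G, (∀ g : G, ((χ : G → ℂ) g).im = 0) →
      ¬ p ∣ charDegree (χ : G → ℂ))
    (x : K) (hx : IsConj x x⁻¹) :
    ∃ y ∈ Subgroup.normalizer ((P : Subgroup G) : Set G), IsConj (x : G) y := by
  classical
  set N := Subgroup.normalizer ((P : Subgroup G) : Set G) with hNdef
  set D : Subgroup N := K.subgroupOf N with hDdef
  have : D.Normal := Subgroup.normal_subgroupOf
  have hDodd : Odd D.index := hodd.of_dvd_nat (Subgroup.relIndex_dvd_index_of_normal K N)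
  have := Fintype.ofFinite K
  have := Fintype.ofFinite D
  have hPK : (P : Subgroup G) ≤ Subgroup.normalizer (K : Set G) := by
    rw [Subgroup.normalizer_eq_top]; exact le_top
  letI := Cfsg.Agent.S4911.conjAction hPK
  have hsmul : ∀ (a : (P : Subgroup G)) (k : K), ((a • k : K) : G) = (a : G) * k * (a : G)⁻¹ :=
    fun _ _ => rfl
  let ι : D →* K :=
    { toFun := fun c => ⟨((c : N) : G), c.2⟩
      map_one' := rfl
      map_mul' := fun _ _ => rfl }
  have hι : Function.Injective ι := fun c d h =>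
    Subtype.ext (Subtype.ext (congrArg Subtype.val h :))
  have hDcent : ∀ c : D, ∀ a : (P : Subgroup G), (a : G) * ((c : N) : G) = ((c : N) : G) * a := by
    intro c a
    have h1 : (a : G) * ((c : N) : G) * (a : G)⁻¹ * ((c : N) : G)⁻¹ ∈ K ⊓ (P : Subgroup G) := by
      refine Subgroup.mem_inf.mpr
        ⟨mul_mem ((inferInstance : K.Normal).conj_mem _ c.2 a) (inv_mem c.2), ?_⟩
      have := mul_mem a.2 ((Subgroup.mem_normalizer_iff.mp (c : N).2 _).mp (inv_mem a.2))
      simpa [mul_assoc] using this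
    have hbot : K ⊓ (P : Subgroup G) = ⊥ := by
      obtain ⟨n, hn⟩ := IsPGroup.iff_card.mp P.2
      refine (Subgroup.disjoint_of_coprime_natCard ?_).eq_bot
      rw [hn]
      exact (((Fact.out : p.Prime).coprime_iff_not_dvd.mpr hpK).symm).pow_right n
    rw [hbot, Subgroup.mem_bot, mul_inv_eq_one, mul_inv_eq_iff_eq_mul] at h1
    exact h1
  have hC : ∀ k : K, k ∈ ι.range ↔ ∀ a : (P : Subgroup G), a • k = k := by
    refine fun k => ⟨?_, fun h => ?_⟩
    · rintro ⟨c, rfl⟩ a
      refine Subtype.ext ?_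
      rw [hsmul]
      exact mul_inv_eq_iff_eq_mul.mpr (hDcent c a)
    · have hk : (k : G) ∈ N := by
        rw [hNdef, Subgroup.mem_normalizer_iff]
        intro z
        have hfix : ∀ z ∈ (P : Subgroup G), (k : G) * z * (k : G)⁻¹ = z := fun z hz => by
          have h1 := congrArg Subtype.val (h ⟨z, hz⟩)
          rw [hsmul] at h1
          rw [mul_inv_eq_iff_eq_mul] at h1 ⊢
          exact h1.symm
        refine ⟨fun hz => by rwa [hfix z hz], fun hz => ?_⟩
        have h1 := hfix _ hz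
        have : (k : G) * z * (k : G)⁻¹ = z := by
          have h' := congrArg (fun t => (k : G)⁻¹ * t * k) h1
          simpa [mul_assoc] using h'
        rwa [← this]
      exact ⟨⟨⟨k, hk⟩, k.2⟩, rfl⟩
  -- the correspondence on characters
  have hcorr : ∀ θ : {θ : IrrCharacter K // ∀ k : K, ((θ : K → ℂ) k).im = 0},
      IsInv (P : Subgroup G) (θ.1 : K → ℂ) →
      ∃ β : {β : IrrCharacter D // ∀ c : D, ((β : D → ℂ) c).im = 0}, ¬ p ∣ mult ι θ.1 β.1 := by
    rintro ⟨θ, hr⟩ hinv
    obtain ⟨β, -, hβ1⟩ := exists_correspondent P.2 ι hι hC hpK hinv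
    have hβ : ¬ p ∣ mult ι θ β := fun hd => by
      have hp1 : ¬ (p : ℤ) ∣ 1 := fun h => (Fact.out : p.Prime).one_lt.ne'
        (Nat.dvd_one.mp (Int.natCast_dvd_natCast.mp (by simpa using h)))
      have hdz : (p : ℤ) ∣ (mult ι θ β : ℤ) := Int.natCast_dvd_natCast.mpr hd
      rcases hβ1 with h | h
      · exact hp1 (by simpa using dvd_add (Int.ModEq.dvd h) hdz)
      · exact hp1 (Int.dvd_neg.mp (by simpa using dvd_add (Int.ModEq.dvd h) hdz))
    refine ⟨⟨β, (conjIrr_eq_iff β).mp ?_⟩, hβ⟩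
    refine correspondent_unique P.2 ι hι hC hpK hinv ?_ hβ
    show ¬ p ∣ mult ι θ (conjIrr β)
    rwa [← (conjIrr_eq_iff θ).mpr hr, Cfsg.Agent.S4911.mult_conj]
  set RX := fun θ η : {θ : IrrCharacter K // ∀ k : K, ((θ : K → ℂ) k).im = 0} =>
    ∃ g : G, ∀ k k' : K, (k' : G) = g * (k : G) * g⁻¹ → (η.1 : K → ℂ) k' = (θ.1 : K → ℂ) k with hRX
  set RD := fun θ η : {θ : IrrCharacter D // ∀ k : D, ((θ : D → ℂ) k).im = 0} =>
    ∃ g : N, ∀ k k' : D, (k' : N) = g * (k : N) * g⁻¹ → (η.1 : D → ℂ) k' = (θ.1 : D → ℂ) k with hRD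
  have hrep : ∀ q : Quot RX, ∃ θ, Quot.mk RX θ = q ∧ IsInv (P : Subgroup G) (θ.1 : K → ℂ) := by
    intro q
    induction q using Quot.ind with
    | _ θ =>
    obtain ⟨g, hg⟩ := exists_invariant_conj P K hodd hreal θ.1 θ.2
    refine ⟨⟨⟨fun k => (θ.1 : K → ℂ) (MulAut.conjNormal g k),
      IsIrr.comp_surjective (MulAut.conjNormal g : K ≃* K).toMonoidHom
        (MulAut.conjNormal g : K ≃* K).surjective θ.1.2⟩, fun k => θ.2 _⟩,
      Quot.sound ⟨g, fun k k' hk => ?_⟩, fun a k => ?_⟩
    · show (θ.1 : K → ℂ) k' = (θ.1 : K → ℂ) (MulAut.conjNormal g k)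
      exact congrArg _ (Subtype.ext (by rw [MulAut.conjNormal_apply, hk]))
    · show (θ.1 : K → ℂ) (MulAut.conjNormal g (a • k)) = _
      rw [show a • k = MulAut.conjNormal (a : G) k from
        Subtype.ext (by rw [hsmul, MulAut.conjNormal_apply])]
      exact hg a a.2 k
  choose rep hrep1 hrep2 using hrep
  choose cor hcor using fun q => hcorr (rep q) (hrep2 q)
  -- injectivity on orbits
  have hequiv : Equivalence RD := by
    refine ⟨fun θ => ⟨1, fun k k' hk => ?_⟩, fun {a b} ⟨g, hg⟩ => ⟨g⁻¹, fun k k' hk => ?_⟩,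
      fun {a b c} ⟨g, hg⟩ ⟨h, hh⟩ => ⟨h * g, fun k k' hk => ?_⟩⟩
    · rw [show k' = k from Subtype.ext (by rw [hk]; group)]
    · exact (hg k' k (by rw [hk]; group)).symm
    · have hmem : g * (k : N) * g⁻¹ ∈ D := (inferInstance : D.Normal).conj_mem _ k.2 g
      rw [hh ⟨_, hmem⟩ k' (by rw [hk]; group), hg k ⟨_, hmem⟩ rfl]
  have hXinj : Function.Injective fun q => Quot.mk RD (cor q) := by
    intro q q' h
    have h1 := hequiv.eqvGen_iff.mp (Quot.eqvGen_exact h)
    obtain ⟨n, hn⟩ := h1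
    rw [← hrep1 q, ← hrep1 q']
    refine Quot.sound ⟨(n : G), ?_⟩
    -- the conjugate of `rep q` by `n` has the same correspondent as `rep q'`
    let e : K ≃* K := MulAut.conjNormal (n : G)⁻¹
    let θ' : IrrCharacter K := ⟨fun k => ((rep q).1 : K → ℂ) (e k),
      IsIrr.comp_surjective e.toMonoidHom e.surjective (rep q).1.2⟩
    have hθ'inv : IsInv (P : Subgroup G) (θ' : K → ℂ) := fun a k => by
      have hb : (n : G)⁻¹ * a * n ∈ (P : Subgroup G) := by
        have := (Subgroup.mem_normalizer_iff.mp (inv_mem n.2) (a : G)).mp a.2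
        rwa [inv_inv] at this
      show ((rep q).1 : K → ℂ) (e (a • k)) = ((rep q).1 : K → ℂ) (e k)
      rw [← hrep2 q ⟨_, hb⟩ (e k)]
      refine congrArg _ (Subtype.ext ?_)
      simp only [e, MulAut.conjNormal_apply, hsmul]
      group
    have hmult : mult ι θ' (cor q').1 = mult ι (rep q).1 (cor q).1 := by
      apply Nat.cast_injective (R := ℂ)
      rw [← classInner_eq_mult, ← classInner_eq_mult, Cfsg.classInner, Cfsg.classInner]
      congr 1
      have he : ∀ c : D, (n : N)⁻¹ * (c : N) * n ∈ D := fun c => by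
        simpa using (inferInstance : D.Normal).conj_mem _ c.2 n⁻¹
      let eD : D ≃ D :=
        { toFun := fun c => ⟨_, he c⟩
          invFun := fun c => ⟨n * (c : N) * n⁻¹, (inferInstance : D.Normal).conj_mem _ c.2 n⟩
          left_inv := fun c => Subtype.ext (by simp [mul_assoc])
          right_inv := fun c => Subtype.ext (by simp [mul_assoc]) }
      refine Fintype.sum_equiv eD _ _ fun c => ?_
      rw [hn (eD c) c (by simp [eD, mul_assoc])]
      show ((rep q).1 : K → ℂ) (e (ι c)) * _ = ((rep q).1 : K → ℂ) (ι (eD c)) * _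
      congr 1
      refine congrArg _ (Subtype.ext ?_)
      simp [e, eD, ι, MulAut.conjNormal_apply, mul_assoc]
    have hkey : θ' = (rep q').1 := correspondent_injective P.2 ι hι hC hpK hθ'inv (hrep2 q')
      (hmult ▸ hcor q) (hcor q')
    intro k k' hk
    rw [← hkey]
    show ((rep q).1 : K → ℂ) (e k') = _
    exact congrArg _ (Subtype.ext (by simp [e, MulAut.conjNormal_apply, hk, mul_assoc]))
  -- classes
  set SX := fun a b : {a : K // IsConj a a⁻¹} => ∃ g : G, (b.1 : G) = g * a.1 * g⁻¹ with hSX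
  set SD := fun a b : {a : D // IsConj a a⁻¹} => ∃ g : N, (b.1 : N) = g * a.1 * g⁻¹ with hSD
  have hι' : ∀ a : {a : D // IsConj a a⁻¹}, IsConj (ι a.1) (ι a.1)⁻¹ := fun a => by
    rw [← map_inv]; exact ι.map_isConj a.2
  let Ψ : Quot SD → Quot SX := Quot.lift (fun a => Quot.mk SX ⟨ι a.1, hι' a⟩)
    fun a b ⟨g, hg⟩ => Quot.sound ⟨(g : G), by
      show ((b.1 : N) : G) = _
      rw [hg]; rfl⟩
  have hequivS : Equivalence SX := by
    refine ⟨fun a => ⟨1, by group⟩, fun {a b} ⟨g, hg⟩ => ⟨g⁻¹, by rw [hg]; group⟩,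
      fun {a b c} ⟨g, hg⟩ ⟨h, hh⟩ => ⟨h * g, by rw [hh, hg]; group⟩⟩
  have hΨ : Function.Injective Ψ := by
    intro a b
    induction a using Quot.ind with
    | _ a =>
    induction b using Quot.ind with
    | _ b =>
    intro h
    obtain ⟨g, hg⟩ := hequivS.eqvGen_iff.mp (Quot.eqvGen_exact h)
    have hmem : ∀ c : D, ((c : N) : G) ∈ Subgroup.centralizer ((P : Subgroup G) : Set G) :=
      fun c => Subgroup.mem_centralizer_iff.mpr fun z hz => hDcent c ⟨z, hz⟩
    have hg' : ((b.1 : N) : G) = g * ((a.1 : N) : G) * g⁻¹ := hg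
    obtain ⟨n, hn, hn'⟩ := P.conj_eq_normalizer_conj_of_mem_centralizer ((a.1 : N) : G) g⁻¹
      (hmem a.1) (by rw [inv_inv, ← hg']; exact hmem b.1)
    refine Quot.sound ⟨⟨n, hn⟩⁻¹, Subtype.ext ?_⟩
    rw [hg']
    simpa using hn'
  have h1 : Nat.card (Quot RX) = Nat.card (Quot SX) := Cfsg.Agent.S4866.result K hodd
  have h2 : Nat.card (Quot RD) = Nat.card (Quot SD) := Cfsg.Agent.S4866.result D hDodd
  have h3 := Nat.card_le_card_of_injective _ hXinj
  have h4 := Nat.card_le_card_of_injective _ hΨ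
  have hbij := (Nat.bijective_iff_injective_and_card Ψ).mpr ⟨hΨ, by omega⟩
  obtain ⟨a, ha⟩ := hbij.2 (Quot.mk SX ⟨x, hx⟩)
  induction a using Quot.ind with
  | _ a =>
  obtain ⟨g, hg⟩ := hequivS.eqvGen_iff.mp (Quot.eqvGen_exact ha)
  exact ⟨((a.1 : N) : G), (a.1 : N).2, (isConj_iff.mpr ⟨g, hg.symm⟩).symm⟩

end CfsgLib.CharDegree.RealFixed
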