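import Cfsg.Agent.Lib.Char.Real
import Cfsg.Agent.Lib.Char.PPrimeKernel
import Cfsg.Agent.Lib.Char.CliffordRestrict
import Cfsg.Agent.Lib.CharDegree.Basic
import Mathlib.Algebra.Group.Subgroup.Pointwise
import Mathlib.GroupTheory.Perm.Cycle.Type

/-!
# Real characters that are nontrivial on a normal subgroup
-/

namespace CfsgLib.CharDegree.RealKernel

open Cfsg CfsgLib.Char CfsgLib.CharDegree CfsgLib.Clifford
open scoped ComplexConjugate Pointwise

variable {G : Type*} [Group G]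

theorem isConj_inv' {a b : G} (h : IsConj a b) : IsConj a⁻¹ b⁻¹ := by
  obtain ⟨c, hc⟩ := isConj_iff.mp h
  exact isConj_iff.mpr ⟨c, by rw [← hc]; group⟩

theorem real_of_isConj {a b : G} (h : IsConj a b) (hb : IsConj b b⁻¹) : IsConj a a⁻¹ :=
  h.trans (hb.trans (isConj_inv' h.symm))

/-- If real classes of the quotient lift and `N` has a nontrivial real element, then some real
irreducible character is nontrivial on `N`. -/
theorem exists_real_not_trivial [Finite G] (N : Subgroup G) [N.Normal] {x : G} (hx : x ∈ N)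
    (hx1 : x ≠ 1) (hreal : IsConj x x⁻¹)
    (hlift : ∀ y : G, IsConj (y : G ⧸ N) (y : G ⧸ N)⁻¹ → ∃ z : G, (z : G ⧸ N) = y ∧ IsConj z z⁻¹) :
    ∃ χ : IrrCharacter G, (∀ g : G, ((χ : G → ℂ) g).im = 0) ∧
      ∃ n ∈ N, (χ : G → ℂ) n ≠ (χ : G → ℂ) 1 := by
  classical
  by_contra hcon
  push Not at hcon
  let RC (H : Type _) [Group H] :=
    {C : ConjClasses H // ∀ g : H, ConjClasses.mk g = C → IsConj g g⁻¹}
  have hmk : ∀ {H : Type _} [Group H] {a : H}, IsConj a a⁻¹ →
      ∀ g : H, ConjClasses.mk g = ConjClasses.mk a → IsConj g g⁻¹ := fun {H} _ {a} ha g hg =>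
    real_of_isConj (ConjClasses.mk_eq_mk_iff_isConj.mp hg) ha
  let π : RC G → RC (G ⧸ N) := fun C => ⟨ConjClasses.map (QuotientGroup.mk' N) C.1, by
    obtain ⟨g, hg⟩ := ConjClasses.mk_surjective C.1
    intro h hh
    rw [← hg] at hh
    refine hmk ?_ h hh
    rw [← map_inv]
    exact (QuotientGroup.mk' N).map_isConj (C.2 g hg)⟩
  have hsurj : Function.Surjective π := by
    rintro ⟨C, hC⟩
    obtain ⟨yb, rfl⟩ := ConjClasses.mk_surjective C
    obtain ⟨y, rfl⟩ := QuotientGroup.mk_surjective yb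
    obtain ⟨z, hz, hzr⟩ := hlift y (hC _ rfl)
    exact ⟨⟨ConjClasses.mk z, hmk hzr⟩, Subtype.ext (congrArg ConjClasses.mk hz)⟩
  have : Finite (ConjClasses G) := Finite.of_surjective _ ConjClasses.mk_surjective
  have hcard : Nat.card (RC G) = Nat.card (RC (G ⧸ N)) := by
    rw [← card_real_irr_eq_card_real_classes, ← card_real_irr_eq_card_real_classes]
    refine (Nat.card_eq_of_bijective (fun ψ : {ψ : IrrCharacter (G ⧸ N) //
      ∀ g, ((ψ : G ⧸ N → ℂ) g).im = 0} => (⟨infl N ψ.1, fun g => by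
        rw [infl_apply]; exact ψ.2 _⟩ : {χ : IrrCharacter G // ∀ g, ((χ : G → ℂ) g).im = 0}))
      ⟨fun a b h => Subtype.ext (infl_injective N (congrArg Subtype.val h)), fun χ => ?_⟩).symm
    obtain ⟨ψ, hψ⟩ := exists_infl N χ.1 (hcon χ.1 χ.2)
    refine ⟨⟨ψ, fun q => ?_⟩, Subtype.ext hψ⟩
    obtain ⟨g, rfl⟩ := QuotientGroup.mk_surjective q
    rw [← infl_apply, hψ]
    exact χ.2 g
  have hbij := (Nat.bijective_iff_surjective_and_card π).mpr ⟨hsurj, hcard⟩
  have h1 : IsConj (1 : G) (1 : G)⁻¹ := by rw [inv_one]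
  have heq := @hbij.1 ⟨ConjClasses.mk x, hmk hreal⟩ ⟨ConjClasses.mk 1, hmk h1⟩
    (Subtype.ext (congrArg ConjClasses.mk (by
      show (x : G ⧸ N) = ((1 : G) : G ⧸ N)
      rw [(QuotientGroup.eq_one_iff x).mpr hx, QuotientGroup.mk_one])))
  have h2 := ConjClasses.mk_eq_mk_iff_isConj.mp (congrArg Subtype.val heq)
  exact hx1 (isConj_one_left.mp h2)

/-- Real classes lift through a normal subgroup of odd order. -/
theorem real_lift_of_odd [Finite G] (N : Subgroup G) [N.Normal] (hN : Odd (Nat.card N)) (y : G)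
    (hy : IsConj (y : G ⧸ N) (y : G ⧸ N)⁻¹) :
    ∃ z : G, (z : G ⧸ N) = y ∧ IsConj z z⁻¹ := by
  classical
  obtain ⟨ub, hu⟩ := isConj_iff.mp hy
  obtain ⟨u₀, rfl⟩ := QuotientGroup.mk_surjective ub
  obtain ⟨a, m, hm, he⟩ : ∃ a m, Odd m ∧ orderOf u₀ = 2 ^ a * m := by
    obtain ⟨a, m, hm, he⟩ := Nat.exists_eq_two_pow_mul_odd (orderOf_pos u₀).ne'
    exact ⟨a, m, hm, he⟩
  set u := u₀ ^ m with hu_def
  have hu2 : u ^ 2 ^ a = 1 := by rw [hu_def, ← pow_mul, mul_comm, ← he, pow_orderOf_eq_one]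
  have huy : (u : G ⧸ N) * y * (u : G ⧸ N)⁻¹ = (y : G ⧸ N)⁻¹ := by
    rw [hu_def, QuotientGroup.mk_pow]
    generalize (u₀ : G ⧸ N) = v at hu ⊢
    generalize (y : G ⧸ N) = w at hu ⊢
    have h2 : ∀ j : ℕ, v ^ (2 * j) * w * (v ^ (2 * j))⁻¹ = w := by
      intro j
      induction j with
      | zero => simp
      | succ j ih =>
        have h3 : v * w⁻¹ * v⁻¹ = w := by
          have := congrArg (·⁻¹) hu
          simpa [mul_assoc] using this
        calc v ^ (2 * (j + 1)) * w * (v ^ (2 * (j + 1)))⁻¹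
            = v * (v * (v ^ (2 * j) * w * (v ^ (2 * j))⁻¹) * v⁻¹) * v⁻¹ := by
              rw [show 2 * (j + 1) = 2 + 2 * j by ring, pow_add, sq]; group
          _ = w := by rw [ih, hu, h3]
    obtain ⟨j, rfl⟩ := hm
    calc v ^ (2 * j + 1) * w * (v ^ (2 * j + 1))⁻¹
        = v * (v ^ (2 * j) * w * (v ^ (2 * j))⁻¹) * v⁻¹ := by rw [pow_succ']; group
      _ = w⁻¹ := by rw [h2, hu]
  let X := {z : G // (z : G ⧸ N) = y}
  have hmap : ∀ z : G, (z : G ⧸ N) = y → ((u * z⁻¹ * u⁻¹ : G) : G ⧸ N) = y := fun z hz => by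
    rw [QuotientGroup.mk_mul, QuotientGroup.mk_mul, QuotientGroup.mk_inv, QuotientGroup.mk_inv, hz]
    have := congrArg (·⁻¹) huy
    simpa [mul_assoc] using this
  let f : X → X := fun z => ⟨u * z.1⁻¹ * u⁻¹, hmap z.1 z.2⟩
  have hf : Function.Injective f := fun z w h => Subtype.ext (by
    simpa [f] using congrArg Subtype.val h)
  let σ : Equiv.Perm X := Equiv.ofBijective f (Finite.injective_iff_bijective.mp hf)
  have hσ : ∀ (n : ℕ) (z : X),
      ((σ ^ n) z).1 = u ^ n * (if Even n then z.1 else z.1⁻¹) * (u ^ n)⁻¹ := by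
    intro n
    induction n with
    | zero => intro z; simp
    | succ n ih =>
      intro z
      rw [pow_succ' σ, Equiv.Perm.mul_apply]
      show u * ((σ ^ n) z).1⁻¹ * u⁻¹ = _
      rw [ih, pow_succ' u]
      rcases Nat.even_or_odd n with hn | hn
      · rw [if_pos hn, if_neg (Nat.not_even_iff_odd.mpr hn.add_one)]; group
      · rw [if_neg (Nat.not_even_iff_odd.mpr hn), if_pos hn.add_one]; group
  have hord : σ ^ 2 ^ (a + 1) = 1 := Equiv.ext fun z => Subtype.ext (by
    rw [hσ, if_pos (Nat.even_pow.mpr ⟨even_two, a.succ_ne_zero⟩), pow_succ, pow_mul, hu2]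
    simp)
  have := Fintype.ofFinite X
  have hX : Fintype.card X = Nat.card N := by
    rw [← Nat.card_eq_fintype_card]
    refine Nat.card_congr ⟨fun z => ⟨y⁻¹ * z.1, QuotientGroup.eq.mp z.2.symm⟩,
      fun n => ⟨y * n.1, ?_⟩, fun z => Subtype.ext (by simp), fun n => Subtype.ext (by simp)⟩
    rw [QuotientGroup.mk_mul, (QuotientGroup.eq_one_iff _).mpr n.2, mul_one]
  obtain ⟨z, hz⟩ := Equiv.Perm.exists_fixed_point_of_prime (p := 2)
    (by rw [hX]; exact Nat.not_even_iff_odd.mpr hN ∘ even_iff_two_dvd.mpr) hord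
  have hz' : u * z.1⁻¹ * u⁻¹ = z.1 := congrArg Subtype.val hz
  refine ⟨z.1, z.2, isConj_iff.mpr ⟨u, ?_⟩⟩
  have := congrArg (·⁻¹) hz'
  simpa [mul_assoc] using this

/-- Real classes lift along a complement. -/
theorem real_lift_of_complement (N H : Subgroup G) [N.Normal] (hsup : N ⊔ H = ⊤)
    (hinf : N ⊓ H = ⊥) (y : G) (hy : IsConj (y : G ⧸ N) (y : G ⧸ N)⁻¹) :
    ∃ z : G, (z : G ⧸ N) = y ∧ IsConj z z⁻¹ := by
  have hrep : ∀ g : G, ∃ h ∈ H, (h : G ⧸ N) = g := fun g => by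
    obtain ⟨n, hn, h, hh, e⟩ : g ∈ (↑N * ↑H : Set G) := by
      rw [← Subgroup.normal_mul N H, hsup]; trivial
    refine ⟨h, hh, ?_⟩
    rw [← e, QuotientGroup.mk_mul, (QuotientGroup.eq_one_iff n).mpr hn, one_mul]
  obtain ⟨c, hc⟩ := isConj_iff.mp hy
  obtain ⟨c₀, rfl⟩ := QuotientGroup.mk_surjective c
  obtain ⟨h, hh, ehy⟩ := hrep y
  obtain ⟨k, hk, ekc⟩ := hrep c₀
  refine ⟨h, ehy, isConj_iff.mpr ⟨k, mul_right_cancel (b := h) ?_⟩⟩
  rw [inv_mul_cancel]
  refine (Subgroup.mem_bot).mp (hinf ▸ Subgroup.mem_inf.mpr ⟨?_, ?_⟩)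
  · rw [← QuotientGroup.eq_one_iff, QuotientGroup.mk_mul, QuotientGroup.mk_mul,
      QuotientGroup.mk_mul, QuotientGroup.mk_inv, ehy, ekc, hc, inv_mul_cancel]
  · exact mul_mem (mul_mem (mul_mem hk hh) (inv_mem hk)) hh

/-- A `2`-element not centralising a normal subgroup inverts one of its nontrivial elements. -/
theorem exists_inverted (N : Subgroup G) [N.Normal] {g : G} {k : ℕ} (hg : orderOf g = 2 ^ k)
    (hgN : g ∉ Subgroup.centralizer (N : Set G)) : ∃ x ∈ N, x ≠ 1 ∧ IsConj x x⁻¹ := by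
  obtain ⟨h, hh, hh2⟩ : ∃ h : G, h ∉ Subgroup.centralizer (N : Set G) ∧
      h ^ 2 ∈ Subgroup.centralizer (N : Set G) := by
    by_contra hne
    push Not at hne
    have : ∀ j : ℕ, g ^ 2 ^ j ∉ Subgroup.centralizer (N : Set G) := by
      intro j
      induction j with
      | zero => simpa using hgN
      | succ j ih => rw [pow_succ, pow_mul]; exact hne _ ih
    exact this k (by rw [← hg, pow_orderOf_eq_one]; exact one_mem _)
  rw [Subgroup.mem_centralizer_iff] at hh
  push Not at hh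
  obtain ⟨n, hn, hne⟩ := hh
  refine ⟨n⁻¹ * (h * n * h⁻¹), mul_mem (inv_mem hn) ((inferInstance : N.Normal).conj_mem n hn h),
    fun e => hne ?_, isConj_iff.mpr ⟨h, ?_⟩⟩
  · rw [inv_mul_eq_one] at e
    calc n * h = h * n * h⁻¹ * h := by rw [← e]
      _ = h * n := by group
  · have h2 : h ^ 2 * n = n * h ^ 2 := ((Subgroup.mem_centralizer_iff.mp hh2) n hn).symm
    calc h * (n⁻¹ * (h * n * h⁻¹)) * h⁻¹ = h * n⁻¹ * h⁻¹ * ((h ^ 2 * n) * (h ^ 2)⁻¹) := by
          simp only [sq]; group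
      _ = h * n⁻¹ * h⁻¹ * n := by rw [h2, mul_inv_cancel_right]
      _ = _ := by group

/-- A character of `p'`-degree is trivial on a normal abelian subgroup `N` lying in the derived
subgroup of a normal subgroup `M` with `M ⧸ N` a `p`-group. -/
theorem apply_eq_of_not_dvd [Finite G] {p : ℕ} [Fact p.Prime] (N M : Subgroup G) [N.Normal] [M.Normal]
    (hNM : N ≤ M) (hab : ∀ a ∈ N, ∀ b ∈ N, a * b = b * a) {e : ℕ} (hidx : N.relIndex M = p ^ e)
    (hcomm : N ≤ ⁅M, M⁆) (χ : IrrCharacter G) (hχ : ¬ p ∣ charDegree (χ : G → ℂ)) {n : G}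
    (hn : n ∈ N) : (χ : G → ℂ) n = (χ : G → ℂ) 1 := by
  classical
  have := Fintype.ofFinite G
  obtain ⟨θ, hθp, hθ⟩ := PPrimeKernel.exists_constituent_not_dvd
    (IsChar.restrict M (IsIrr.isCharacter χ.2)) (n := charDegree (χ : G → ℂ)) (p := p)
    (by rw [OneMemClass.coe_one, CharDegree.cast_irrDegree]) hχ
  have hθ1 : charDegree (θ : M → ℂ) = 1 := by
    obtain ⟨d, ρ, hρ, -, hd⟩ := exists_rep θ
    have h := CfsgLib.Clifford.finrank_dvd_index d ρ (N.subgroupOf M)
      (fun a ha b hb => Subtype.ext (hab a ha b hb))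
    rw [Module.finrank_fin_fun, hd, show (N.subgroupOf M).index = N.relIndex M from rfl, hidx] at h
    obtain ⟨i, -, hi⟩ := (Nat.dvd_prime_pow (Fact.out : p.Prime)).mp h
    rcases Nat.eq_zero_or_pos i with rfl | hi0
    · simpa using hi
    · exact absurd (hi ▸ dvd_pow_self p hi0.ne') hθp
  have hker : ∀ g : M, (g : G) ∈ N → (θ : M → ℂ) g = (θ : M → ℂ) 1 := fun g hg => by
    have h1 : g ∈ commutator M := by
      have h2 : (g : G) ∈ (commutator M).map M.subtype := by
        rw [Subgroup.map_subtype_commutator]; exact hcomm hg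
      obtain ⟨a, ha, hae⟩ := h2
      rwa [← Subtype.ext hae]
    exact le_ker_of_degree_one θ hθ1 h1
  have hres := restrict_eq_smul_orbit_sum (inferInstance : M.Normal) χ.2 θ.2 hθ
  have h1 := congrFun hres ⟨n, hNM hn⟩
  have h2 := congrFun hres 1
  simp only [Pi.smul_apply, Finset.sum_apply, OneMemClass.coe_one] at h1 h2
  rw [h1, h2]
  congr 1
  refine Finset.sum_congr rfl fun ψ hψ => ?_
  obtain ⟨g, -, rfl⟩ := Finset.mem_image.mp hψ
  rw [conjFn_apply, conjFn_apply, hker _ ((inferInstance : N.Normal).conj_mem n hn g)]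
  exact congrArg _ (Subtype.ext (by simp))

/-- A character of `p'`-degree is trivial on a normal subgroup inside the derived subgroup of a
Sylow `p`-subgroup. -/
theorem apply_eq_of_le_commutator [Finite G] {p : ℕ} [Fact p.Prime] (P : Sylow p G) (N : Subgroup G)
    [hN : N.Normal] (hNP : N ≤ ⁅(P : Subgroup G), (P : Subgroup G)⁆) (χ : IrrCharacter G)
    (hχ : ¬ p ∣ charDegree (χ : G → ℂ)) {n : G} (hn : n ∈ N) :
    (χ : G → ℂ) n = (χ : G → ℂ) 1 := by
  classical
  have := Fintype.ofFinite G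
  obtain ⟨θ, hθp, hθ⟩ := PPrimeKernel.exists_constituent_not_dvd
    (IsChar.restrict (P : Subgroup G) (IsIrr.isCharacter χ.2)) (n := charDegree (χ : G → ℂ)) (p := p)
    (by rw [OneMemClass.coe_one, CharDegree.cast_irrDegree]) hχ
  have hθ1 : charDegree (θ : ↥(P : Subgroup G) → ℂ) = 1 := by
    obtain ⟨a, ha⟩ := IsPGroup.iff_card.mp P.2
    obtain ⟨i, -, hi⟩ := (Nat.dvd_prime_pow (Fact.out : p.Prime)).mp
      (ha ▸ charDegree_dvd_card θ)
    rcases Nat.eq_zero_or_pos i with rfl | hi0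
    · simpa using hi
    · exact absurd (hi ▸ dvd_pow_self p hi0.ne') hθp
  -- restrict to `N`
  obtain ⟨l, hl⟩ := exists_hom_of_degree_one θ hθ1
  have hNle : N ≤ (P : Subgroup G) := hNP.trans (Subgroup.commutator_le_self _)
  have hl1 : ∀ g : N, (l ⟨g, hNle g.2⟩ : ℂ) = 1 := fun g => by
    have h2 : (g : G) ∈ (commutator ↥(P : Subgroup G)).map (P : Subgroup G).subtype := by
      rw [Subgroup.map_subtype_commutator]; exact hNP g.2
    obtain ⟨c, hc, hce⟩ := h2
    rw [show (⟨g, hNle g.2⟩ : ↥(P : Subgroup G)) = c from Subtype.ext hce.symm,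
      MonoidHom.mem_ker.mp (Abelianization.commutator_subset_ker l hc), Units.val_one]
  have := Fintype.ofFinite (IrrCharacter ↥(P : Subgroup G))
  have htriv : classInner (fun n : N => (χ : G → ℂ) n) (trivChar N : N → ℂ) ≠ 0 := by
    obtain ⟨m, hm⟩ := IsChar.exists_sum (IsChar.restrict (P : Subgroup G) (IsIrr.isCharacter χ.2))
    have hk : ∀ ψ : IrrCharacter ↥(P : Subgroup G), ∃ a : ℕ,
        classInner (fun n : N => (ψ : ↥(P : Subgroup G) → ℂ) (Subgroup.inclusion hNle n))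
          (trivChar N : N → ℂ) = a := fun ψ => by
      obtain ⟨d, ρ, -, hρ, -⟩ := exists_rep ψ
      refine IsChar.classInner_eq_natCast ?_ (IsIrr.isCharacter (trivChar N).2)
      exact ⟨d, ρ.comp (Subgroup.inclusion hNle), funext fun n => by rw [← hρ]; rfl⟩
    choose a ha using hk
    have hsum : classInner (fun n : N => (χ : G → ℂ) n) (trivChar N : N → ℂ) =
        ((∑ ψ, m ψ * a ψ : ℕ) : ℂ) := by
      have h : (fun n : N => (χ : G → ℂ) n) = ∑ ψ : IrrCharacter ↥(P : Subgroup G), (m ψ : ℂ) •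
          fun n : N => (ψ : ↥(P : Subgroup G) → ℂ) (Subgroup.inclusion hNle n) := by
        funext n
        have h0 := congrFun hm (Subgroup.inclusion hNle n)
        simpa [Finset.sum_apply, Pi.smul_apply] using h0
      rw [h, classInner_sum_left]
      simp only [classInner_smul_left, ha]
      push_cast
      rfl
    have hmθ : m θ ≠ 0 := fun h0 => hθ (by rw [hm, classInner_sum_irr, h0, Nat.cast_zero])
    have haθ : a θ = 1 := by
      have h := ha θ
      rw [show (fun n : N => (θ : ↥(P : Subgroup G) → ℂ) (Subgroup.inclusion hNle n)) =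
        (trivChar N : N → ℂ) from funext fun g => by rw [hl, trivChar_apply]; exact hl1 g,
        classInner_irr_self] at h
      exact_mod_cast h.symm
    rw [hsum]
    refine Nat.cast_ne_zero.mpr fun h0 => ?_
    have := Finset.sum_eq_zero_iff.mp h0 θ (Finset.mem_univ θ)
    simp [haθ, hmθ] at this
  have hres := restrict_eq_smul_orbit_sum hN χ.2 (trivChar N).2 htriv
  have h1 := congrFun hres ⟨n, hn⟩
  have h2 := congrFun hres 1
  simp only [Pi.smul_apply, Finset.sum_apply, OneMemClass.coe_one] at h1 h2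
  rw [h1, h2]
  congr 1
  refine Finset.sum_congr rfl fun ψ hψ => ?_
  obtain ⟨g, -, rfl⟩ := Finset.mem_image.mp hψ
  simp [conjFn_apply]

end CfsgLib.CharDegree.RealKernel
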