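import Cfsg.Agent.Lib.CharDegree.RealKernel
import Cfsg.Agent.Lib.Core.MinNormal
import Mathlib.GroupTheory.Sylow

/-!
# Groups whose real irreducible characters have degree prime to `p`
-/

namespace CfsgLib.CharDegree.RealPPrime

open Cfsg CfsgLib.Char CfsgLib.CharDegree
open scoped commutatorElement

universe u

variable {G : Type u} [Group G]

/-- The subgroup generated by the `p`-elements. -/
def gen (p : ℕ) (G : Type u) [Group G] : Subgroup G :=
  Subgroup.closure {g : G | ∃ k : ℕ, orderOf g = p ^ k}

instance gen_normal (p : ℕ) : (gen p G).Normal := by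
  refine Subgroup.Normal.mk fun n hn g => ?_
  have h : gen p G ≤ (gen p G).comap (MulAut.conj g).toMonoidHom := by
    refine (Subgroup.closure_le _).mpr fun x hx => ?_
    obtain ⟨k, hk⟩ := hx
    refine Subgroup.subset_closure ⟨k, ?_⟩
    show orderOf (MulAut.conj g x) = p ^ k
    rw [MulEquiv.orderOf_eq, hk]
  exact h hn

theorem mem_gen_of_isPGroup {p : ℕ} [Fact p.Prime] {Q : Subgroup G} (hQ : IsPGroup p Q) :
    Q ≤ gen p G := fun x hx => by
  obtain ⟨k, hk⟩ := IsPGroup.iff_orderOf.mp hQ ⟨x, hx⟩
  exact Subgroup.subset_closure ⟨k, by rw [← hk, Subgroup.orderOf_mk]⟩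

theorem map_gen [Finite G] {p : ℕ} [Fact p.Prime] {H : Type u} [Group H] (f : G →* H)
    (hf : Function.Surjective f) : (gen p G).map f = gen p H := by
  rw [gen, MonoidHom.map_closure]
  refine le_antisymm ((Subgroup.closure_le _).mpr ?_) ((Subgroup.closure_le _).mpr ?_)
  · rintro _ ⟨x, ⟨k, hk⟩, rfl⟩
    obtain ⟨j, -, hj⟩ := (Nat.dvd_prime_pow (Fact.out : p.Prime)).mp (hk ▸ orderOf_map_dvd f x)
    exact Subgroup.subset_closure ⟨j, hj⟩
  · rintro y ⟨k, hk⟩
    obtain ⟨x, rfl⟩ := hf y
    obtain ⟨a, m, hm, he⟩ := Nat.exists_eq_pow_mul_and_not_dvd (orderOf_pos x).ne' p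
      (Fact.out : p.Prime).ne_one
    have hcop : m.Coprime (orderOf (f x)) := by
      rw [hk]
      exact (((Fact.out : p.Prime).coprime_iff_not_dvd.mpr hm).symm).pow_right k
    obtain ⟨j, hj⟩ := exists_pow_eq_self_of_coprime hcop
    rw [← hj, ← map_pow]
    have hx : x ^ m ∈ {g : G | ∃ k : ℕ, orderOf g = p ^ k} := by
      refine ⟨a, ?_⟩
      have hm0 : m ≠ 0 := by rintro rfl; exact hm (dvd_zero p)
      rw [orderOf_pow' x hm0, he, Nat.gcd_mul_left_left,
        Nat.mul_div_cancel _ (Nat.pos_of_ne_zero hm0)]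
    exact pow_mem (Subgroup.subset_closure (Set.mem_image_of_mem f hx)) j

theorem isPGroup_two_abelianization [Finite G] {g : G} (hg : g ∈ gen 2 G) :
    ∃ j : ℕ, g ^ 2 ^ j ∈ ⁅gen 2 G, gen 2 G⁆ := by
  have hq : ∀ a : G, a ∈ gen 2 G → ∀ b : G, b ∈ gen 2 G →
      Commute (a : G ⧸ ⁅gen 2 G, gen 2 G⁆) b := fun a ha b hb => by
    rw [← commutatorElement_eq_one_iff_commute]
    exact (QuotientGroup.eq_one_iff (N := ⁅gen 2 G, gen 2 G⁆) ⁅a, b⁆).mpr
      (Subgroup.commutator_mem_commutator ha hb)
  refine Subgroup.closure_induction (p := fun x _ => ∃ j : ℕ, x ^ 2 ^ j ∈ ⁅gen 2 G, gen 2 G⁆)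
    (fun x hx => ?_) ⟨0, by simp [one_mem]⟩ (fun x y hx hy h1 h2 => ?_) (fun x _ h => ?_) hg
  · obtain ⟨k, hk⟩ := hx
    exact ⟨k, by rw [← hk, pow_orderOf_eq_one]; exact one_mem _⟩
  · obtain ⟨i, hi⟩ := h1
    obtain ⟨j, hj⟩ := h2
    refine ⟨i + j, ?_⟩
    rw [← QuotientGroup.eq_one_iff] at hi hj ⊢
    rw [QuotientGroup.mk_pow] at hi hj ⊢
    rw [QuotientGroup.mk_mul, (hq x hx y hy).mul_pow, pow_add, pow_mul, hi, one_pow, one_mul,
      mul_comm, pow_mul, hj, one_pow]
  · obtain ⟨i, hi⟩ := h
    exact ⟨i, by rw [inv_pow]; exact inv_mem hi⟩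

theorem exists_normal_sylow {p : ℕ} [Fact p.Prime] : ∀ (n : ℕ) {G : Type u} [Group G] [Finite G],
    Nat.card G ≤ n → Group.IsSolvable (gen p G) →
    (∀ χ : IrrCharacter G, (∀ g : G, ((χ : G → ℂ) g).im = 0) → ¬ p ∣ charDegree (χ : G → ℂ)) →
    ∀ U : Subgroup G, U.Normal → gen 2 G ≤ U → (∃ a, (gen 2 G).relIndex U = p ^ a) →
      ∃ V : Subgroup G, V.Normal ∧ V ≤ U ∧ IsPGroup p V ∧ ¬ p ∣ V.relIndex U := by
  intro n
  induction n with
  | zero =>
    intro G _ _ hn
    exact absurd hn (Nat.not_le.mpr Nat.card_pos)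
  | succ n ih =>
    intro G _ _ hn hsolv hreal U hU hKU hidx
    by_cases hpU : p ∣ Nat.card U
    swap
    · exact ⟨⊥, inferInstance, bot_le, IsPGroup.of_bot, by rwa [Subgroup.relIndex_bot_left]⟩
    -- the induction step
    have hstep : ∀ N : Subgroup G, N.Normal → N ≠ ⊥ → N ≤ U → ∃ V : Subgroup G,
        V.Normal ∧ N ≤ V ∧ V ≤ U ∧ (∃ e, N.relIndex V = p ^ e) ∧ ¬ p ∣ V.relIndex U := by
      intro N hN hN0 hNU
      set f := QuotientGroup.mk' N
      have hf : Function.Surjective f := QuotientGroup.mk'_surjective N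
      have hlt : Nat.card (G ⧸ N) ≤ n := by
        have h1 := N.card_eq_card_quotient_mul_card_subgroup
        have h2 : 1 < Nat.card N := N.one_lt_card_iff_ne_bot.mpr hN0
        have h3 : 0 < Nat.card (G ⧸ N) := Nat.card_pos
        have h4 : Nat.card (G ⧸ N) * 2 ≤ Nat.card G := h1 ▸ Nat.mul_le_mul_left _ h2
        omega
      have hidx' : ∃ a, (gen 2 (G ⧸ N)).relIndex (U.map f) = p ^ a := by
        obtain ⟨a, ha⟩ := hidx
        rw [← map_gen f hf, Subgroup.relIndex_map_map, QuotientGroup.ker_mk', sup_eq_left.mpr hNU]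
        obtain ⟨b, -, hb⟩ := (Nat.dvd_prime_pow (Fact.out : p.Prime)).mp
          (ha ▸ Subgroup.relIndex_dvd_of_le_left U (le_sup_left : gen 2 G ≤ gen 2 G ⊔ N))
        exact ⟨b, hb⟩
      have hs' : Group.IsSolvable (gen p (G ⧸ N)) := by
        rw [← map_gen f hf]
        exact Group.isSolvable_of_surjective (f.subgroupMap_surjective (gen p G))
      have hr' : ∀ χ : IrrCharacter (G ⧸ N), (∀ g : G ⧸ N, ((χ : G ⧸ N → ℂ) g).im = 0) →
          ¬ p ∣ charDegree (χ : G ⧸ N → ℂ) := fun χ hχ => by
        rw [← charDegree_infl N χ]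
        exact hreal _ fun g => by rw [infl_apply]; exact hχ _
      obtain ⟨W, hW, hWU, hWp, hWi⟩ := ih hlt hs' hr' (U.map f) (hU.map f hf)
        ((map_gen (p := 2) f hf).ge.trans (Subgroup.map_mono hKU)) hidx'
      refine ⟨W.comap f, hW.comap f, (QuotientGroup.ker_mk' N).ge.trans (MonoidHom.comap_bot f ▸ Subgroup.comap_mono bot_le), ?_, ?_, ?_⟩
      · exact (Subgroup.comap_mono hWU).trans (by
          rw [Subgroup.comap_map_eq, QuotientGroup.ker_mk', sup_eq_left.mpr hNU])
      · obtain ⟨e, he⟩ := IsPGroup.iff_card.mp hWp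
        refine ⟨e, ?_⟩
        have h := Subgroup.relIndex_comap ⊥ f (W.comap f)
        rw [MonoidHom.comap_bot, QuotientGroup.ker_mk',
          Subgroup.map_comap_eq_self_of_surjective hf, Subgroup.relIndex_bot_left, he] at h
        exact h
      · rwa [Subgroup.relIndex_comap]
    by_cases hA : ∃ N : Subgroup G, N.Normal ∧ N ≠ ⊥ ∧ N ≤ U ∧ IsPGroup p N
    · obtain ⟨N, hN, hN0, hNU, hNp⟩ := hA
      obtain ⟨V, hV, hNV, hVU, ⟨e, he⟩, hVi⟩ := hstep N hN hN0 hNU
      refine ⟨V, hV, hVU, ?_, hVi⟩
      obtain ⟨a, ha⟩ := IsPGroup.iff_card.mp hNp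
      refine IsPGroup.of_card (n := a + e) ?_
      rw [← Subgroup.relIndex_bot_left, ← Subgroup.relIndex_mul_relIndex _ N _ bot_le hNV,
        Subgroup.relIndex_bot_left, ha, he, pow_add]
    exfalso
    push Not at hA
    have hU0 : U ≠ ⊥ := fun h => by
      rw [h, Subgroup.card_bot] at hpU
      exact (Fact.out : p.Prime).one_lt.ne' (Nat.dvd_one.mp hpU)
    obtain ⟨N, hN, hN0, hNU, hmin⟩ := CfsgLib.Core.exists_minimal_normal_le' U hU0
    obtain ⟨V, hV, hNV, hVU, ⟨e, he⟩, hVi⟩ := hstep N hN hN0 hNU
    obtain ⟨Q₀⟩ : Nonempty (Sylow p V) := inferInstance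
    set Q := (Q₀ : Subgroup V).map V.subtype with hQdef
    have hQp : IsPGroup p Q := Q₀.2.map _
    have hQV : Q ≤ V := Subgroup.map_subtype_le _
    have hQ0 : Q ≠ ⊥ := by
      rw [hQdef, Ne, Subgroup.map_eq_bot_iff_of_injective _ V.subtype_injective]
      refine Sylow.ne_bot_of_dvd_card _ ?_
      have h2 : (⊥ : Subgroup G).relIndex V * V.relIndex U = (⊥ : Subgroup G).relIndex U :=
        Subgroup.relIndex_mul_relIndex _ _ _ bot_le hVU
      rw [Subgroup.relIndex_bot_left, Subgroup.relIndex_bot_left] at h2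
      rw [← h2] at hpU
      exact ((Fact.out : p.Prime).dvd_mul.mp hpU).resolve_right hVi
    -- `Q` is not centralised by `N`
    have hsup : N.subgroupOf V ⊔ (Q₀ : Subgroup V) = ⊤ := by
      rw [← Subgroup.index_eq_one]
      refine Nat.eq_one_of_dvd_coprimes ?_ (Subgroup.index_dvd_of_le le_sup_left)
        (Subgroup.index_dvd_of_le le_sup_right)
      rw [show (N.subgroupOf V).index = N.relIndex V from rfl, he]
      exact ((Fact.out : p.Prime).coprime_iff_not_dvd.mpr Q₀.not_dvd_index).pow_left e
    have hVsup : V = N ⊔ Q := by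
      have h := congrArg (Subgroup.map V.subtype) hsup
      rwa [Subgroup.map_sup, Subgroup.subgroupOf_map_subtype, inf_eq_left.mpr hNV,
        ← MonoidHom.range_eq_map, Subgroup.range_subtype, eq_comm] at h
    have hncent : ¬ Q ≤ Subgroup.centralizer (N : Set G) := fun hc => by
      have hn : (Q₀ : Subgroup V).Normal := by
        rw [← Subgroup.normalizer_eq_top_iff, eq_top_iff, ← hsup]
        refine sup_le (fun x hx => ?_) Subgroup.le_normalizer
        rw [Subgroup.mem_normalizer_iff]
        intro y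
        have hxy : ∀ z : V, z ∈ (Q₀ : Subgroup V) → x * z * x⁻¹ = z := fun z hz => by
          have h := Subgroup.mem_centralizer_iff.mp (hc (Subgroup.mem_map_of_mem V.subtype hz))
            x hx
          exact mul_inv_eq_iff_eq_mul.mpr (Subtype.ext h)
        refine ⟨fun hy => by rwa [hxy y hy], fun hy => ?_⟩
        have h := hxy _ hy
        have : x * y * x⁻¹ = y := by
          have h' := congrArg (fun t => x⁻¹ * t * x) h
          simpa [mul_assoc] using h'
        rwa [← this]
      have hch := Sylow.characteristic_of_normal Q₀ hn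
      have : Q.Normal := by rw [hQdef]; exact ConjAct.normal_of_characteristic_of_normal
      exact hA Q this hQ0 (hQV.trans hVU) hQp
    have hVcent : ¬ V ≤ Subgroup.centralizer (N : Set G) := fun h => hncent (hQV.trans h)
    -- `N` is abelian of exponent `q ≠ p`
    have hNR : N ≤ gen p G := by
      rcases hmin (N ⊓ gen p G) inferInstance inf_le_left with h | h
      · exfalso
        refine hncent ((mem_gen_of_isPGroup hQp).trans ?_)
        rw [← Subgroup.commutator_eq_bot_iff_le_centralizer, Subgroup.commutator_comm,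
          eq_bot_iff, ← h]
        exact Subgroup.commutator_le_inf N (gen p G)
      · exact h ▸ inf_le_right
    have hNs : Group.IsSolvable N :=
      haveI := hsolv
      Group.isSolvable_of_isSolvable_injective (Subgroup.inclusion_injective hNR)
    have hc := CfsgLib.Core.commutative_of_minimal_normal N hNs hN0 hmin
    have hab : ∀ a ∈ N, ∀ b ∈ N, a * b = b * a := fun a ha b hb =>
      congrArg Subtype.val (hc.is_comm.comm ⟨a, ha⟩ ⟨b, hb⟩)
    obtain ⟨q, hq, hexp⟩ := CfsgLib.Core.exists_prime_pow_eq_one_of_minimal_normal N hc hN0 hmin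
    have hqp : q ≠ p := by
      rintro rfl
      exact hA N hN hN0 hNU fun x => ⟨1, Subtype.ext (by simpa using hexp x.1 x.2)⟩
    haveI : Fact q.Prime := ⟨hq⟩
    have hNq : IsPGroup q N := fun x => ⟨1, Subtype.ext (by simpa using hexp x.1 x.2)⟩
    have hNQ : N ⊓ Q = ⊥ := (IsPGroup.disjoint_of_ne q p hqp N Q hNq hQp).eq_bot
    -- `N ≤ K` and `N ≤ ⁅V, V⁆`
    have hCV : N ⊓ Subgroup.centralizer (V : Set G) = ⊥ := by
      rcases hmin (N ⊓ Subgroup.centralizer (V : Set G)) inferInstance inf_le_left with h | h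
      · exact h
      · exact absurd (Subgroup.le_centralizer_iff.mp (h ▸ inf_le_right)) hVcent
    have hNcomm : N ≤ ⁅V, V⁆ := by
      rcases hmin ⁅N, V⁆ inferInstance (Subgroup.commutator_le_left N V) with h | h
      · exact absurd (Subgroup.commutator_eq_bot_iff_le_centralizer.mp
          (Subgroup.commutator_comm N V ▸ h)) hVcent
      · exact h ▸ Subgroup.commutator_mono hNV le_rfl
    have hNK : N ≤ gen 2 G := by
      obtain ⟨a, ha⟩ := hidx
      intro x hx
      have h1 : x ^ p ^ a ∈ gen 2 G := by
        have h2 := Subgroup.pow_index_mem ((gen 2 G).subgroupOf U) ⟨x, hNU hx⟩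
        rw [show ((gen 2 G).subgroupOf U).index = _ from ha] at h2
        exact h2
      have hcop : (p ^ a).Coprime (orderOf x) := by
        refine Nat.Coprime.coprime_dvd_right (orderOf_dvd_of_pow_eq_one (hexp x hx)) ?_
        exact ((Nat.coprime_primes Fact.out hq).mpr hqp.symm).pow_left a
      obtain ⟨j, hj⟩ := exists_pow_eq_self_of_coprime hcop
      rw [← hj]
      exact pow_mem h1 j
    -- a real element of `N` with real lifts
    have hfin : ∃ χ : IrrCharacter G, (∀ g : G, ((χ : G → ℂ) g).im = 0) ∧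
        ∃ x ∈ N, (χ : G → ℂ) x ≠ (χ : G → ℂ) 1 := by
      by_cases hq2 : q = 2
      · subst hq2
        obtain ⟨⟨x, hx⟩, hx1⟩ := N.ne_bot_iff_exists_ne_one.mp hN0
        refine RealKernel.exists_real_not_trivial N hx (fun h => hx1 (Subtype.ext h)) ?_
          fun y hy => RealKernel.real_lift_of_complement N
            (Subgroup.normalizer (Q : Set G)) ?_ ?_ y hy
        · rw [inv_eq_of_mul_eq_one_left (sq (x : G) ▸ hexp x hx : (x : G) * x = 1)]
        · rw [eq_top_iff, ← Sylow.normalizer_sup_eq_top Q₀]
          refine sup_le le_sup_right ?_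
          rw [hVsup]
          exact sup_le_sup_left Subgroup.le_normalizer N
        · rw [eq_bot_iff, ← hCV]
          refine le_inf inf_le_left fun y hy => ?_
          obtain ⟨hyN, hyQ⟩ := Subgroup.mem_inf.mp hy
          suffices V ≤ Subgroup.centralizer {y} from
            Subgroup.mem_centralizer_iff.mpr fun v hv =>
              (Subgroup.mem_centralizer_singleton_iff.mp (this hv))
          rw [hVsup]
          refine sup_le (fun v hv => Subgroup.mem_centralizer_singleton_iff.mpr (hab v hv y hyN))
            fun v hv => Subgroup.mem_centralizer_singleton_iff.mpr ?_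
          have h1 : y * v * y⁻¹ * v⁻¹ ∈ N ⊓ Q := by
            refine Subgroup.mem_inf.mpr ⟨?_, mul_mem ((Subgroup.mem_normalizer_iff.mp hyQ v).mp hv) (inv_mem hv)⟩
            have := mul_mem hyN (hN.conj_mem y⁻¹ (inv_mem hyN) v)
            simpa [mul_assoc] using this
          rw [hNQ, Subgroup.mem_bot, mul_inv_eq_one, mul_inv_eq_iff_eq_mul] at h1
          exact h1.symm
      · have hodd : Odd (Nat.card N) := by
          obtain ⟨a, ha⟩ := IsPGroup.iff_card.mp hNq
          rw [ha]
          exact (hq.odd_of_ne_two hq2).pow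
        have hg : ¬ gen 2 G ≤ Subgroup.centralizer (N : Set G) := fun hcen => by
          -- `p` does not divide the order of `V ⊓ K`
          set W := V ⊓ gen 2 G with hW
          have hWN : W ≤ N := by
            intro w hw
            have h1 : w ^ p ^ e ∈ N := by
              have h2 := Subgroup.pow_index_mem (N.subgroupOf V) ⟨w, hw.1⟩
              rw [show (N.subgroupOf V).index = _ from he] at h2
              exact h2
            have hWp : ¬ p ∣ Nat.card W := fun hd => by
              obtain ⟨S⟩ : Nonempty (Sylow p W) := inferInstance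
              have hSn : (S : Subgroup W).Normal := by
                have hsupW : N.subgroupOf W ⊔ (S : Subgroup W) = ⊤ := by
                  rw [← Subgroup.index_eq_one]
                  refine Nat.eq_one_of_dvd_coprimes ?_ (Subgroup.index_dvd_of_le le_sup_left)
                    (Subgroup.index_dvd_of_le le_sup_right)
                  refine Nat.Coprime.coprime_dvd_left ?_
                    (((Fact.out : p.Prime).coprime_iff_not_dvd.mpr S.not_dvd_index).pow_left e)
                  rw [← he]
                  have h3 : (N.subgroupOf W).index * W.relIndex V = N.relIndex V :=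
                    Subgroup.relIndex_mul_relIndex N W V (le_inf hNV hNK) inf_le_left
                  exact ⟨_, h3.symm⟩
                rw [← Subgroup.normalizer_eq_top_iff, eq_top_iff, ← hsupW]
                refine sup_le (fun x hx => ?_) Subgroup.le_normalizer
                rw [Subgroup.mem_normalizer_iff]
                intro y
                have h := Subgroup.mem_centralizer_iff.mp (hcen y.2.2) x hx
                have : x * y * x⁻¹ = y := mul_inv_eq_iff_eq_mul.mpr (Subtype.ext h)
                rw [this]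
              have hch := Sylow.characteristic_of_normal S hSn
              haveI : W.Normal := by rw [hW]; infer_instance
              have hn' : ((S : Subgroup W).map W.subtype).Normal :=
                ConjAct.normal_of_characteristic_of_normal
              refine hA _ hn' ?_ ((Subgroup.map_subtype_le _).trans (inf_le_left.trans hVU))
                (S.2.map _)
              rw [Ne, Subgroup.map_eq_bot_iff_of_injective _ W.subtype_injective]
              exact Sylow.ne_bot_of_dvd_card _ hd
            have hcop : (p ^ e).Coprime (orderOf w) := by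
              refine Nat.Coprime.coprime_dvd_right ?_
                (((Fact.out : p.Prime).coprime_iff_not_dvd.mpr hWp).pow_left e)
              rw [← Subgroup.orderOf_mk w hw]
              exact orderOf_dvd_natCard _
            obtain ⟨j, hj⟩ := exists_pow_eq_self_of_coprime hcop
            rw [← hj]
            exact pow_mem h1 j
          have h1 : ⁅⁅gen 2 G, V⁆, gen 2 G⁆ = ⊥ := by
            rw [Subgroup.commutator_eq_bot_iff_le_centralizer]
            refine ((le_inf (Subgroup.commutator_le_right _ _) (Subgroup.commutator_le_left _ _) :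
              ⁅gen 2 G, V⁆ ≤ W).trans hWN).trans ?_
            exact Subgroup.le_centralizer_iff.mp hcen
          have h2 : ⁅⁅V, gen 2 G⁆, gen 2 G⁆ = ⊥ := by rwa [Subgroup.commutator_comm V]
          have h3 := Subgroup.commutator_commutator_eq_bot_of_rotate h1 h2
          have hNd : N ≤ ⁅gen 2 G, gen 2 G⁆ := fun x hx => by
            obtain ⟨j, hj⟩ := isPGroup_two_abelianization (hNK hx)
            have hcop : (2 ^ j).Coprime (orderOf x) := by
              refine Nat.Coprime.coprime_dvd_right (orderOf_dvd_of_pow_eq_one (hexp x hx)) ?_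
              exact ((Nat.coprime_primes Nat.prime_two hq).mpr (Ne.symm hq2)).pow_left j
            obtain ⟨i, hi⟩ := exists_pow_eq_self_of_coprime hcop
            rw [← hi]
            exact pow_mem hj i
          exact hVcent (Subgroup.le_centralizer_iff.mp
            (hNd.trans (Subgroup.commutator_eq_bot_iff_le_centralizer.mp h3)))
        obtain ⟨g, ⟨k, hk⟩, hgN⟩ : ∃ g ∈ {g : G | ∃ k : ℕ, orderOf g = 2 ^ k},
            g ∉ Subgroup.centralizer (N : Set G) := by
          by_contra h
          push Not at h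
          exact hg ((Subgroup.closure_le _).mpr h)
        obtain ⟨x, hx, hx1, hxr⟩ := RealKernel.exists_inverted N hk hgN
        exact RealKernel.exists_real_not_trivial N hx hx1 hxr
          fun y hy => RealKernel.real_lift_of_odd N hodd y hy
    obtain ⟨χ, hχ, x, hx, hne⟩ := hfin
    exact hne (RealKernel.apply_eq_of_not_dvd N V hNV hab he hNcomm χ (hreal χ hχ) hx)

/-- Over `gen 2 G` with `p`-power index, the Sylow `p`-subgroup is normal. -/
theorem sylow_normal [Finite G] {p : ℕ} [Fact p.Prime] (hsolv : Group.IsSolvable (gen p G))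
    (hreal : ∀ χ : IrrCharacter G, (∀ g : G, ((χ : G → ℂ) g).im = 0) →
      ¬ p ∣ charDegree (χ : G → ℂ))
    (U : Subgroup G) (hU : U.Normal) (hKU : gen 2 G ≤ U)
    (hidx : ∃ a, (gen 2 G).relIndex U = p ^ a) (Q : Sylow p U) : (Q : Subgroup U).Normal := by
  obtain ⟨V, hV, hVU, hVp, hVi⟩ := exists_normal_sylow (Nat.card G) le_rfl hsolv hreal U hU hKU hidx
  haveI : (V.subgroupOf U).Normal := Subgroup.normal_subgroupOf
  have hp' : IsPGroup p (V.subgroupOf U) :=
    hVp.of_equiv (Subgroup.subgroupOfEquivOfLe hVU).symm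
  let S : Sylow p U := hp'.toSylow hVi
  haveI : (S : Subgroup U).Normal := (inferInstance : (V.subgroupOf U).Normal)
  have := Sylow.unique_of_normal S inferInstance
  rw [Subsingleton.elim Q S]
  infer_instance

end CfsgLib.CharDegree.RealPPrime
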