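import Cfsg.Agent.Lib.CharDegree.Basic
import Cfsg.Agent.Lib.CharDegree.Restriction
import Cfsg.Agent.Lib.CharDegree.Twist
import Cfsg.Agent.Lib.CharDegree.ItoMichler
import Cfsg.Agent.Lib.PGroups.MaxAbelian
import Mathlib.RingTheory.RootsOfUnity.PrimitiveRoots
import Mathlib.RingTheory.IntegralDomain

/-!
# `p`-groups whose characters of equal degree are Galois conjugate

The elements acting as scalars in a character are the preimage of the centre modulo its kernel. If
the derived subgroup is central modulo the kernel, the character vanishes elsewhere.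
-/

namespace CfsgLib.CharDegree.SameDegree

open scoped ComplexConjugate commutatorElement
open CfsgLib.Char CfsgLib.CharIntegral

variable {G : Type*} [Group G]

/-- The preimage of the centre modulo a normal subgroup. -/
def zMod (K : Subgroup G) [K.Normal] : Subgroup G :=
  (Subgroup.center (G ⧸ K)).comap (QuotientGroup.mk' K)

theorem mem_zMod {K : Subgroup G} [K.Normal] {g : G} : g ∈ zMod K ↔ ∀ x, ⁅g, x⁆ ∈ K := by
  simp only [zMod, Subgroup.mem_comap, Subgroup.mem_center_iff]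
  constructor
  · intro h x
    rw [← QuotientGroup.eq_one_iff, ← QuotientGroup.mk'_apply, map_commutatorElement,
      commutatorElement_eq_one_iff_mul_comm]
    exact (h _).symm
  · intro h q
    obtain ⟨x, rfl⟩ := QuotientGroup.mk'_surjective K q
    have h2 := h x
    rw [← QuotientGroup.eq_one_iff, ← QuotientGroup.mk'_apply, map_commutatorElement,
      commutatorElement_eq_one_iff_mul_comm] at h2
    exact h2.symm

theorem center_le_zMod (K : Subgroup G) [K.Normal] : Subgroup.center G ≤ zMod K := fun g hg =>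
  mem_zMod.2 fun x => by
    rw [commutatorElement_eq_one_iff_mul_comm.2 (Subgroup.mem_center_iff.1 hg x).symm]
    exact one_mem K

theorem zMod_bot {K : Subgroup G} [K.Normal] (hK : K = ⊥) : zMod K = Subgroup.center G := by
  ext g
  simp only [mem_zMod, hK, Subgroup.mem_bot, Subgroup.mem_center_iff,
    commutatorElement_eq_one_iff_mul_comm]
  exact forall_congr' fun x => eq_comm

variable [Fintype G] (χ : Cfsg.IrrCharacter G)

instance : (kerSubgroup χ).Normal := kerSubgroup_normal χ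

/-- Elements central modulo the kernel act by scalars. -/
theorem exists_scalar {z : G} (hz : z ∈ zMod (kerSubgroup χ)) :
    ∃ c : ℂ, (∀ h : G, (χ : G → ℂ) (z * h) = c * (χ : G → ℂ) h) ∧ ‖c‖ = 1 ∧
      (c = 1 ↔ z ∈ kerSubgroup χ) := by
  classical
  obtain ⟨n, ρ, hρ, hχ, hn⟩ := exists_rep χ
  have hker : ∀ k ∈ kerSubgroup χ, ρ k = LinearMap.id := fun k hk => by
    rw [mem_kerSubgroup, ← hχ, Representation.char_one, character_eq_finrank_iff ρ] at hk
    exact hk
  obtain ⟨c, hc⟩ := exists_eq_smul_of_commute ρ (ρ z) fun x => by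
    have h1 := hker _ (mem_zMod.1 hz x)
    rw [commutatorElement_def] at h1
    rw [← map_mul, ← map_mul,
      show z * x = z * x * z⁻¹ * x⁻¹ * (x * z) by group, map_mul ρ (z * x * z⁻¹ * x⁻¹), h1]
    rfl
  have hmul : ∀ h : G, (χ : G → ℂ) (z * h) = c * (χ : G → ℂ) h := fun h => by
    rw [← hχ]
    show LinearMap.trace ℂ _ (ρ (z * h)) = c * LinearMap.trace ℂ _ (ρ h)
    rw [map_mul, hc, ← smul_eq_mul c, ← map_smul]
    rfl
  have hne : (χ : G → ℂ) 1 ≠ 0 := IsIrr.apply_one_ne_zero χ.2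
  refine ⟨c, hmul, ?_, ?_⟩
  · have hpow : ∀ i : ℕ, (χ : G → ℂ) (z ^ i) = c ^ i * (χ : G → ℂ) 1 := fun i => by
      induction i with
      | zero => simp
      | succ i ih => rw [pow_succ', hmul, ih, pow_succ']; ring
    have h1 := hpow (orderOf z)
    rw [pow_orderOf_eq_one] at h1
    refine Complex.norm_eq_one_of_pow_eq_one ?_ (orderOf_pos z).ne'
    exact mul_right_cancel₀ hne (by rw [← h1, one_mul])
  · rw [mem_kerSubgroup]
    have h1 := hmul 1
    rw [mul_one] at h1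
    rw [h1]
    exact ⟨fun h => by rw [h, one_mul], fun h => mul_right_cancel₀ hne (by rw [h, one_mul])⟩

theorem norm_apply_of_mem {z : G} (hz : z ∈ zMod (kerSubgroup χ)) :
    ‖(χ : G → ℂ) z‖ = Cfsg.charDegree (χ : G → ℂ) := by
  obtain ⟨c, hc, hc1, -⟩ := exists_scalar χ hz
  have h := hc 1
  rw [mul_one] at h
  rw [h, norm_mul, hc1, one_mul, ← cast_irrDegree, Complex.norm_natCast]

/-- A character vanishes where a commutator acts as a nontrivial scalar. -/
theorem apply_eq_zero {g : G} (x : G) (hz : ⁅g, x⁆ ∈ zMod (kerSubgroup χ))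
    (hne : ⁅g, x⁆ ∉ kerSubgroup χ) : (χ : G → ℂ) g = 0 := by
  obtain ⟨c, hc, -, hc1⟩ := exists_scalar χ hz
  have h1 := hc (x * g * x⁻¹)
  rw [IsIrr.isClassFunction χ.2 g x,
    show ⁅g, x⁆ * (x * g * x⁻¹) = g by rw [commutatorElement_def]; group] at h1
  have h2 : (1 - c) * (χ : G → ℂ) g = 0 := by rw [sub_mul, one_mul, sub_eq_zero]; exact h1
  exact (mul_eq_zero.1 h2).resolve_left fun h => hne (hc1.1 (sub_eq_zero.1 h).symm)

theorem sq_mul_card_zMod_le :
    Cfsg.charDegree (χ : G → ℂ) ^ 2 * Nat.card (zMod (kerSubgroup χ)) ≤ Nat.card G := by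
  classical
  have h := sum_norm_sq χ
  have h2 : ∑ g ∈ Finset.univ.filter (· ∈ zMod (kerSubgroup χ)), ‖(χ : G → ℂ) g‖ ^ 2 ≤
      ∑ g : G, ‖(χ : G → ℂ) g‖ ^ 2 :=
    Finset.sum_le_sum_of_subset_of_nonneg (Finset.subset_univ _) fun _ _ _ => sq_nonneg _
  rw [h, Finset.sum_congr rfl fun g hg => by rw [norm_apply_of_mem χ (Finset.mem_filter.1 hg).2],
    Finset.sum_const, ← Fintype.card_subtype, ← Nat.card_eq_fintype_card, nsmul_eq_mul] at h2
  rw [mul_comm]
  exact_mod_cast h2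

theorem card_le_of_support {D : Subgroup G} (hD : ∀ g, (χ : G → ℂ) g ≠ 0 → g ∈ D) :
    Nat.card G ≤ Cfsg.charDegree (χ : G → ℂ) ^ 2 * Nat.card D := by
  classical
  obtain ⟨n, ρ, hρ, hχ, hn⟩ := exists_rep χ
  have h := sum_norm_sq χ
  rw [← Finset.sum_filter_of_ne (p := (· ∈ D)) fun g _ hg => hD g fun h0 => hg (by simp [h0])] at h
  have h2 : ∑ g ∈ Finset.univ.filter (· ∈ D), ‖(χ : G → ℂ) g‖ ^ 2 ≤
      ∑ g ∈ Finset.univ.filter (· ∈ D), (Cfsg.charDegree (χ : G → ℂ) : ℝ) ^ 2 :=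
    Finset.sum_le_sum fun g _ => pow_le_pow_left₀ (norm_nonneg _) (by
      have := CharIntegral.norm_character_le (ρ := ρ) (g := g)
      rwa [hχ, Module.finrank_fin_fun, hn] at this) 2
  rw [h, Finset.sum_const, ← Fintype.card_subtype, ← Nat.card_eq_fintype_card, nsmul_eq_mul] at h2
  rw [mul_comm]
  exact_mod_cast h2

theorem mem_zMod_of_apply_ne_zero (hcl : commutator G ≤ zMod (kerSubgroup χ)) {g : G}
    (hg : (χ : G → ℂ) g ≠ 0) : g ∈ zMod (kerSubgroup χ) :=
  mem_zMod.2 fun x => by_contra fun hx =>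
    hg (apply_eq_zero χ x (hcl (Subgroup.commutator_mem_commutator (Subgroup.mem_top _) (Subgroup.mem_top _))) hx)

theorem card_eq_sq_mul (hcl : commutator G ≤ zMod (kerSubgroup χ)) :
    Nat.card G = Cfsg.charDegree (χ : G → ℂ) ^ 2 * Nat.card (zMod (kerSubgroup χ)) :=
  le_antisymm (card_le_of_support χ fun _ => mem_zMod_of_apply_ne_zero χ hcl)
    (sq_mul_card_zMod_le χ)

/-- The scalar group is cyclic modulo the kernel. -/
theorem exists_generator :
    ∃ c ∈ zMod (kerSubgroup χ), ∀ g ∈ zMod (kerSubgroup χ), ∃ i : ℕ, (c ^ i)⁻¹ * g ∈ kerSubgroup χ := by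
  classical
  set Z := zMod (kerSubgroup χ)
  choose f hf hf1 hfk using fun z : Z => exists_scalar χ z.2
  have hne : (χ : G → ℂ) 1 ≠ 0 := IsIrr.apply_one_ne_zero χ.2
  have hval : ∀ z : Z, (χ : G → ℂ) z = f z * (χ : G → ℂ) 1 := fun z => by
    conv_lhs => rw [← mul_one (z : G), hf z]
  let lam : Z →* ℂ :=
    { toFun := f
      map_one' := mul_right_cancel₀ hne (by rw [← hval, one_mul]; rfl)
      map_mul' := fun a b => mul_right_cancel₀ hne (by
        rw [← hval, Subgroup.coe_mul, hf, hval b, mul_assoc]) }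
  have : IsCyclic lam.toHomUnits.range := isCyclic_subgroup_units _ 
  obtain ⟨⟨u, hu⟩, hgen⟩ := IsCyclic.exists_generator (α := lam.toHomUnits.range)
  obtain ⟨c, rfl⟩ := hu
  refine ⟨c, c.2, fun g hg => ?_⟩
  have hm := (mem_powers_iff_mem_zpowers).2 (hgen ⟨lam.toHomUnits ⟨g, hg⟩, ⟨⟨g, hg⟩, rfl⟩⟩)
  obtain ⟨i, hi⟩ := hm
  have hi2 : lam.toHomUnits c ^ i = lam.toHomUnits ⟨g, hg⟩ := congrArg Subtype.val hi
  have h3 : lam.toHomUnits ((c ^ i)⁻¹ * ⟨g, hg⟩) = 1 := by
    rw [map_mul, map_inv, map_pow, hi2, inv_mul_cancel]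
  have h4 : f ((c ^ i)⁻¹ * ⟨g, hg⟩) = 1 := congrArg Units.val h3
  exact ⟨i, (hfk _).1 h4⟩

/-- If the kernel is central of exponent `p`, the scalar group has index at most `p` over the
centre. -/
theorem card_zMod_le {p : ℕ} (hp : 0 < p) (hc : kerSubgroup χ ≤ Subgroup.center G)
    (hexp : ∀ k ∈ kerSubgroup χ, k ^ p = 1) :
    Nat.card (zMod (kerSubgroup χ)) ≤ p * Nat.card (Subgroup.center G) := by
  classical
  obtain ⟨c, hcZ, hgen⟩ := exists_generator χ
  have hcp : c ^ p ∈ Subgroup.center G := by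
    rw [Subgroup.mem_center_iff]
    intro x
    have hk := mem_zMod.1 hcZ x
    have h1 : x * c * x⁻¹ = ⁅c, x⁆⁻¹ * c := by rw [commutatorElement_def]; group
    have hcomm : Commute ⁅c, x⁆⁻¹ c := (Subgroup.mem_center_iff.1 (inv_mem (hc hk)) c).symm
    have h2 : x * c ^ p * x⁻¹ = c ^ p := by
      rw [← conj_pow, h1, hcomm.mul_pow, inv_pow, hexp _ hk, inv_one, one_mul]
    rwa [mul_inv_eq_iff_eq_mul] at h2
  refine le_trans (Nat.card_le_card_of_surjective
    (fun q : Fin p × Subgroup.center G => (⟨c ^ (q.1 : ℕ) * q.2,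
      mul_mem (pow_mem hcZ _) (center_le_zMod _ q.2.2)⟩ : zMod (kerSubgroup χ))) fun g => ?_)
    (by rw [Nat.card_prod, Nat.card_eq_fintype_card, Fintype.card_fin])
  obtain ⟨i, hi⟩ := hgen g g.2
  refine ⟨(⟨i % p, Nat.mod_lt _ hp⟩, ⟨(c ^ p) ^ (i / p) * ((c ^ i)⁻¹ * g),
    mul_mem (pow_mem hcp _) (hc hi)⟩), Subtype.ext ?_⟩
  show c ^ (i % p) * ((c ^ p) ^ (i / p) * ((c ^ i)⁻¹ * g)) = g
  rw [← mul_assoc, ← pow_mul, ← pow_add, Nat.mod_add_div]
  group

omit [Fintype G] in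
/-- Powers of `p` squared that agree up to a factor `p` agree. -/
theorem pow_eq_of_sq_le {p a b : ℕ} (hp : p.Prime) (h1 : (p ^ a) ^ 2 ≤ p * (p ^ b) ^ 2)
    (h2 : (p ^ b) ^ 2 ≤ p * (p ^ a) ^ 2) : p ^ a = p ^ b := by
  rw [← pow_mul, ← pow_mul, ← pow_succ'] at h1 h2
  have h1' := Nat.le_of_lt_succ (Nat.lt_succ_of_le ((Nat.pow_le_pow_iff_right hp.one_lt).1 h1))
  have h2' := (Nat.pow_le_pow_iff_right hp.one_lt).1 h2
  congr 1
  omega

end CfsgLib.CharDegree.SameDegree
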