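import Mathlib

/-! # Groups with a self-centralizing element of prime order -/

set_option autoImplicit false

namespace CfsgLib.SelfCentralPrime

variable {G : Type*} [Group G] [Finite G] {p : ℕ} {x : G}

theorem exists_sylow [Fact p.Prime] (hx : orderOf x = p)
    (hC : Subgroup.centralizer ({x} : Set G) = Subgroup.zpowers x) :
    ∃ P : Sylow p G, (P : Subgroup G) = Subgroup.zpowers x := by
  have hp := (Fact.out : p.Prime)
  have hcard : Nat.card (Subgroup.zpowers x) = p := by rw [Nat.card_zpowers, hx]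
  obtain ⟨P, hP⟩ := (IsPGroup.of_card (n := 1) (by rw [hcard, pow_one]) :
    IsPGroup p (Subgroup.zpowers x)).exists_le_sylow
  refine ⟨P, le_antisymm ?_ hP⟩
  have hxP : x ∈ (P : Subgroup G) := hP (Subgroup.mem_zpowers x)
  have hnt : Nontrivial P := ⟨⟨⟨x, hxP⟩, 1, fun h => hp.ne_one (by
    have h1 : x = 1 := congrArg Subtype.val h
    rw [← hx, h1, orderOf_one])⟩⟩
  have := P.isPGroup'.center_nontrivial
  obtain ⟨⟨z, hz⟩, hz1⟩ := exists_ne (1 : Subgroup.center P)
  have hzC : (z : G) ∈ Subgroup.zpowers x := by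
    rw [← hC, Subgroup.mem_centralizer_iff]
    rintro h rfl
    exact congrArg Subtype.val (Subgroup.mem_center_iff.1 hz ⟨h, hxP⟩)
  have hz0 : (z : G) ≠ 1 := fun h => hz1 (Subtype.ext (Subtype.ext h))
  have hgen : Subgroup.zpowers (z : G) = Subgroup.zpowers x := by
    refine le_antisymm (Subgroup.zpowers_le.2 hzC) ?_
    intro w hw
    have hcard' : Nat.card (Subgroup.zpowers x) = p := hcard
    have := mem_zpowers_of_prime_card (G := Subgroup.zpowers x) hcard' (g := ⟨z, hzC⟩)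
      (g' := ⟨w, hw⟩) (fun h => hz0 (congrArg Subtype.val h))
    obtain ⟨k, hk⟩ := this
    exact ⟨k, congrArg Subtype.val hk⟩
  intro y hy
  rw [← hC, Subgroup.mem_centralizer_iff]
  rintro h rfl
  obtain ⟨k, hk⟩ := (hgen.symm ▸ Subgroup.mem_zpowers h : h ∈ Subgroup.zpowers (z : G))
  have hc : Commute y (z : G) := congrArg Subtype.val (Subgroup.mem_center_iff.1 hz ⟨y, hy⟩)
  rw [← hk]
  exact (hc.zpow_right k).eq.symm

theorem commutator_le [Fact p.Prime] (hx : orderOf x = p)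
    (hC : Subgroup.centralizer ({x} : Set G) = Subgroup.zpowers x) (S : Subgroup G) [S.Normal]
    (hS : p ∣ Nat.card S) : x ∈ S ∧ commutator G ≤ S := by
  obtain ⟨P, hP⟩ := exists_sylow hx hC
  obtain ⟨s, hs⟩ := exists_prime_orderOf_dvd_card' p hS
  have hs' : orderOf (s : G) = p := by rw [orderOf_submonoid] at *; exact hs
  obtain ⟨Q, hQ⟩ := (IsPGroup.of_card (n := 1) (by rw [Nat.card_zpowers, hs', pow_one]) :
    IsPGroup p (Subgroup.zpowers (s : G))).exists_le_sylow
  obtain ⟨g, hg⟩ := MulAction.exists_smul_eq G Q P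
  have hmem : g * (s : G) * g⁻¹ ∈ (P : Subgroup G) := by
    rw [← hg, Sylow.coe_subgroup_smul, Subgroup.mem_pointwise_smul_iff_inv_smul_mem]
    simpa [mul_assoc] using hQ (Subgroup.mem_zpowers (s : G))
  have hsS : g * (s : G) * g⁻¹ ∈ S := Subgroup.Normal.conj_mem ‹_› _ s.2 g
  have hxS : x ∈ S := by
    rw [hP] at hmem
    have hne : g * (s : G) * g⁻¹ ≠ 1 := fun h => (Fact.out : p.Prime).ne_one (by
      rw [← hs', orderOf_eq_one_iff]; exact conj_eq_one_iff.1 h)
    have := mem_zpowers_of_prime_card (G := Subgroup.zpowers x) (p := p)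
      (by rw [Nat.card_zpowers, hx]) (g := ⟨_, hmem⟩) (g' := ⟨x, Subgroup.mem_zpowers x⟩)
      (fun h => hne (congrArg Subtype.val h))
    obtain ⟨k, hk⟩ := this
    have hk' : (g * (s : G) * g⁻¹) ^ k = x := congrArg Subtype.val hk
    exact hk' ▸ zpow_mem hsS k
  refine ⟨hxS, ?_⟩
  have hle : (P : Subgroup G) ≤ S := by rw [hP]; exact Subgroup.zpowers_le.2 hxS
  have hfr : Subgroup.normalizer ((P : Subgroup G) : Set G) ⊔ S = ⊤ :=
    Sylow.normalizer_sup_eq_top' (N := S) P hle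
  rw [hP] at hfr
  have hcomm : ∀ a ∈ Subgroup.normalizer (Subgroup.zpowers x : Set G),
      ∀ b ∈ Subgroup.normalizer (Subgroup.zpowers x : Set G), a⁻¹ * b⁻¹ * a * b ∈ S := by
    intro a ha b hb
    have hpow : ∀ c ∈ Subgroup.normalizer (Subgroup.zpowers x : Set G),
        ∃ i : ℤ, c * x * c⁻¹ = x ^ i := fun c hc => by
      obtain ⟨i, hi⟩ := (Subgroup.mem_normalizer_iff.1 hc x).1 (Subgroup.mem_zpowers x)
      exact ⟨i, hi.symm⟩
    obtain ⟨i, hi⟩ := hpow a ha
    obtain ⟨j, hj⟩ := hpow b hb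
    have hab : (a * b) * x * (a * b)⁻¹ = (b * a) * x * (b * a)⁻¹ := by
      calc (a * b) * x * (a * b)⁻¹ = MulAut.conj a (b * x * b⁻¹) := by
            simp [mul_assoc]
        _ = x ^ (i * j) := by rw [hj, map_zpow, MulAut.conj_apply, hi, ← zpow_mul]
        _ = MulAut.conj b (a * x * a⁻¹) := by
            rw [hi, map_zpow, MulAut.conj_apply, hj, ← zpow_mul, mul_comm]
        _ = (b * a) * x * (b * a)⁻¹ := by simp [mul_assoc]
    have hin : a⁻¹ * b⁻¹ * a * b ∈ Subgroup.centralizer ({x} : Set G) := by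
      rw [Subgroup.mem_centralizer_iff]
      rintro h rfl
      calc h * (a⁻¹ * b⁻¹ * a * b)
          = (b * a)⁻¹ * ((b * a) * h * (b * a)⁻¹) * (a * b) := by group
        _ = (b * a)⁻¹ * ((a * b) * h * (a * b)⁻¹) * (a * b) := by rw [hab]
        _ = a⁻¹ * b⁻¹ * a * b * h := by group
    rw [hC] at hin
    exact (Subgroup.zpowers_le.2 hxS) hin
  have hsurj : ∀ q : G ⧸ S, ∃ a ∈ Subgroup.normalizer (Subgroup.zpowers x : Set G),
      (a : G ⧸ S) = q := by
    intro q
    obtain ⟨g, rfl⟩ := QuotientGroup.mk_surjective q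
    obtain ⟨a, ha, t, ht, rfl⟩ := Subgroup.mem_sup_of_normal_right.1
      (hfr ▸ Subgroup.mem_top g : g ∈ Subgroup.normalizer (Subgroup.zpowers x : Set G) ⊔ S)
    exact ⟨a, ha, by rw [QuotientGroup.mk_mul, (QuotientGroup.eq_one_iff t).2 ht, mul_one]⟩
  rw [commutator_def, Subgroup.commutator_le]
  intro a _ b _
  rw [← QuotientGroup.eq_one_iff]
  obtain ⟨a', ha', hae⟩ := hsurj (a : G ⧸ S)
  obtain ⟨b', hb', hbe⟩ := hsurj (b : G ⧸ S)
  have h := (QuotientGroup.eq_one_iff _).2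
    (hcomm a'⁻¹ (inv_mem ha') b'⁻¹ (inv_mem hb'))
  simp only [commutatorElement_def, QuotientGroup.mk_mul, QuotientGroup.mk_inv, inv_inv] at h ⊢
  rw [← hae, ← hbe]; exact h

theorem eq_one_of_mem [Fact p.Prime] (hx : orderOf x = p)
    (hC : Subgroup.centralizer ({x} : Set G) = Subgroup.zpowers x) (S : Subgroup G)
    (hS : ¬ p ∣ Nat.card S) {s : G} (hs : s ∈ S) (hsx : s * x = x * s) : s = 1 := by
  have h1 : s ∈ Subgroup.zpowers x := by
    rw [← hC, Subgroup.mem_centralizer_iff]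
    rintro h rfl
    exact hsx.symm
  have hd1 : orderOf s ∣ p := hx ▸ orderOf_dvd_of_mem_zpowers h1
  rcases (Nat.dvd_prime Fact.out).1 hd1 with h | h
  · exact orderOf_eq_one_iff.1 h
  · exact absurd (by rw [← h]; exact Subgroup.orderOf_dvd_natCard S hs) hS

theorem centralizer_mk [Fact p.Prime] (hx : orderOf x = p)
    (hC : Subgroup.centralizer ({x} : Set G) = Subgroup.zpowers x) (S : Subgroup G) [S.Normal]
    (hS : ¬ p ∣ Nat.card S) :
    orderOf (x : G ⧸ S) = p ∧
      Subgroup.centralizer ({(x : G ⧸ S)} : Set (G ⧸ S)) = Subgroup.zpowers (x : G ⧸ S) := by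
  have hxS : x ∉ S := fun h => hS (by
    rw [← hx]; exact Subgroup.orderOf_dvd_natCard S h)
  constructor
  · exact orderOf_eq_prime (by rw [← QuotientGroup.mk_pow, ← hx, pow_orderOf_eq_one,
      QuotientGroup.mk_one]) (fun h => hxS ((QuotientGroup.eq_one_iff x).1 h))
  refine le_antisymm (fun q hq => ?_) (Subgroup.zpowers_le.2 (by
    rw [Subgroup.mem_centralizer_iff]; rintro h rfl; rfl))
  obtain ⟨y, rfl⟩ := QuotientGroup.mk_surjective q
  have hq' : (x : G ⧸ S) * y = y * x := Subgroup.mem_centralizer_iff.1 hq _ rfl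
  have hyx : y * x * y⁻¹ * x⁻¹ ∈ S := by
    rw [← QuotientGroup.eq_one_iff]
    simp only [QuotientGroup.mk_mul, QuotientGroup.mk_inv]
    rw [← hq']
    group
  have hinj : Function.Injective (fun s : S => (⟨(s : G) * (x * (s : G)⁻¹ * x⁻¹),
      mul_mem s.2 (Subgroup.Normal.conj_mem ‹_› _ (inv_mem s.2) x)⟩ : S)) := by
    intro s t h
    have h' : (s : G) * (x * (s : G)⁻¹ * x⁻¹) = t * (x * (t : G)⁻¹ * x⁻¹) :=
      congrArg Subtype.val h
    have := eq_one_of_mem hx hC S hS (mul_mem (inv_mem t.2) s.2) (by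
      calc (t : G)⁻¹ * s * x = (t : G)⁻¹ * ((s : G) * (x * (s : G)⁻¹ * x⁻¹)) * x * s := by group
        _ = x * ((t : G)⁻¹ * s) := by rw [h']; group)
    exact Subtype.ext (inv_mul_eq_one.1 this).symm
  obtain ⟨t, ht⟩ := (Finite.injective_iff_surjective.1 hinj) ⟨_, hyx⟩
  have ht' : (t : G) * (x * (t : G)⁻¹ * x⁻¹) = y * x * y⁻¹ * x⁻¹ := congrArg Subtype.val ht
  have hmem : (t : G)⁻¹ * y ∈ Subgroup.zpowers x := by
    rw [← hC, Subgroup.mem_centralizer_iff]
    rintro h rfl
    calc h * ((t : G)⁻¹ * y) = (t : G)⁻¹ * ((t : G) * (h * (t : G)⁻¹ * h⁻¹)) * h * y := by group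
      _ = (t : G)⁻¹ * y * h := by rw [ht']; group
  obtain ⟨k, hk⟩ := hmem
  refine ⟨k, ?_⟩
  show (x : G ⧸ S) ^ k = y
  have hk' : x ^ k = (t : G)⁻¹ * y := hk
  rw [← QuotientGroup.mk_zpow, hk', QuotientGroup.mk_mul,
    (QuotientGroup.eq_one_iff _).2 (inv_mem t.2), one_mul]

theorem card_modEq_one [Fact p.Prime] (hx : orderOf x = p)
    (hC : Subgroup.centralizer ({x} : Set G) = Subgroup.zpowers x) (S : Subgroup G) [S.Normal]
    (hS : ¬ p ∣ Nat.card S) : Nat.card S % p = 1 := by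
  let φ : Subgroup.zpowers x →* MulAut S := MulAut.conjNormal.comp (Subgroup.subtype _)
  let _ : MulAction (Subgroup.zpowers x) S := MulAction.compHom S φ
  have hP : IsPGroup p (Subgroup.zpowers x) :=
    IsPGroup.of_card (n := 1) (by rw [Nat.card_zpowers, hx, pow_one])
  have h := hP.card_modEq_card_fixedPoints S
  have hfix : Nat.card (MulAction.fixedPoints (Subgroup.zpowers x) S) = 1 := by
    rw [Nat.card_eq_one_iff_unique]
    refine ⟨⟨fun a b => ?_⟩, ⟨⟨1, fun g => map_one (φ g)⟩⟩⟩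
    suffices key : ∀ c : MulAction.fixedPoints (Subgroup.zpowers x) S, c.1 = 1 from
      Subtype.ext ((key a).trans (key b).symm)
    intro c
    have hc : (MulAut.conjNormal x c.1 : S) = c.1 := c.2 ⟨x, Subgroup.mem_zpowers x⟩
    have hc' : x * (c.1 : G) * x⁻¹ = c.1 := by
      have := congrArg Subtype.val hc
      rwa [MulAut.conjNormal_apply] at this
    exact Subtype.ext (eq_one_of_mem hx hC S hS c.1.2 (mul_inv_eq_iff_eq_mul.1 hc').symm)
  rw [hfix] at h
  rw [h, Nat.mod_eq_of_lt (Fact.out : p.Prime).one_lt]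

theorem card_subgroups_eq_index [Fact p.Prime] (hx : orderOf x = p)
    (hC : Subgroup.centralizer ({x} : Set G) = Subgroup.zpowers x) :
    Nat.card {H : Subgroup G // Nat.card H = p} =
      (Subgroup.normalizer (Subgroup.zpowers x : Set G)).index := by
  obtain ⟨P, hP⟩ := exists_sylow hx hC
  have hcard : ∀ Q : Sylow p G, Nat.card (Q : Subgroup G) = p := fun Q => by
    rw [Q.card_eq_multiplicity, ← P.card_eq_multiplicity]
    show Nat.card (P : Subgroup G) = p
    rw [hP, Nat.card_zpowers, hx]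
  have he : Sylow p G ≃ {H : Subgroup G // Nat.card H = p} :=
    Equiv.ofBijective (fun Q => ⟨Q, hcard Q⟩)
      ⟨fun Q R h => Sylow.ext (congrArg Subtype.val h), fun H => by
        obtain ⟨Q, hQ⟩ := (IsPGroup.of_card (n := 1) (by rw [H.2, pow_one]) :
          IsPGroup p H.1).exists_le_sylow
        exact ⟨Q, Subtype.ext (Subgroup.eq_of_le_of_card_ge hQ (by rw [H.2, hcard Q])).symm⟩⟩
  rw [← Nat.card_congr he, P.card_eq_index_normalizer, ← hP]; rfl

theorem card_dvd_index [Fact p.Prime] (hx : orderOf x = p)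
    (hC : Subgroup.centralizer ({x} : Set G) = Subgroup.zpowers x) (S : Subgroup G) [S.Normal]
    (hS : ¬ p ∣ Nat.card S) :
    Nat.card S ∣ (Subgroup.normalizer (Subgroup.zpowers x : Set G)).index := by
  set N := Subgroup.normalizer (Subgroup.zpowers x : Set G) with hN
  have hbot : S.subgroupOf N = ⊥ := by
    rw [Subgroup.subgroupOf_eq_bot, Subgroup.disjoint_def]
    intro s hs hsN
    refine eq_one_of_mem hx hC S hS hs ?_
    have h1 : s * x * s⁻¹ * x⁻¹ ∈ Subgroup.zpowers x :=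
      mul_mem ((Subgroup.mem_normalizer_iff.1 hsN x).1 (Subgroup.mem_zpowers x))
        (inv_mem (Subgroup.mem_zpowers x))
    have h2 : s * x * s⁻¹ * x⁻¹ ∈ S := by
      rw [mul_assoc, mul_assoc, ← mul_assoc x]
      exact mul_mem hs (Subgroup.Normal.conj_mem ‹_› _ (inv_mem hs) x)
    have hcx : s * x * s⁻¹ * x⁻¹ * x = x * (s * x * s⁻¹ * x⁻¹) := by
      obtain ⟨k, hk⟩ := h1
      rw [← hk]
      exact ((Commute.refl x).zpow_left k).eq
    have h3 := eq_one_of_mem hx hC S hS h2 hcx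
    have h4 : s * x * s⁻¹ = x := mul_inv_eq_one.1 h3
    exact mul_inv_eq_iff_eq_mul.1 h4
  have hcard : Nat.card (N ⊔ S : Subgroup G) = Nat.card S * Nat.card N := by
    have h := Subgroup.relIndex_mul_relIndex (⊥ : Subgroup G) S (N ⊔ S) bot_le le_sup_right
    simp only [Subgroup.relIndex_bot_left] at h
    have h5 : S.relIndex (N ⊔ S) = Nat.card N := by
      rw [Subgroup.relIndex_sup_right, Subgroup.relIndex, hbot, Subgroup.index_bot]
    rw [h5] at h
    exact h.symm
  have h6 : Nat.card S * Nat.card N ∣ N.index * Nat.card N := by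
    rw [← hcard, Subgroup.index_mul_card]
    exact Subgroup.card_subgroup_dvd_card _
  exact Nat.dvd_of_mul_dvd_mul_right Nat.card_pos h6

end CfsgLib.SelfCentralPrime
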