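import Cfsg.Agent.Lib.CharDegree.SelfCentralPrime

/-! # Classes of elements of prime order, with a self-centralizing one -/

set_option autoImplicit false

namespace CfsgLib.SelfCentralPrime

variable {G : Type*} [Group G] [Finite G] {p : ℕ} {x : G}

theorem mem_or_eq_one [Fact p.Prime] (hx : orderOf x = p) {g : G} (hg : g ∈ Subgroup.zpowers x)
    (hg1 : g ≠ 1) : orderOf g = p ∧ Subgroup.zpowers g = Subgroup.zpowers x := by
  have ho : orderOf g = p := ((Nat.dvd_prime Fact.out).1
    (hx ▸ orderOf_dvd_of_mem_zpowers hg)).resolve_left fun h => hg1 (orderOf_eq_one_iff.1 h)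
  exact ⟨ho, Subgroup.eq_of_le_of_card_ge (Subgroup.zpowers_le.2 hg)
    (by rw [Nat.card_zpowers, Nat.card_zpowers, ho, hx])⟩

theorem centralizer_singleton_of_mem [Fact p.Prime] (hx : orderOf x = p)
    (hC : Subgroup.centralizer ({x} : Set G) = Subgroup.zpowers x) {g : G}
    (hg : g ∈ Subgroup.zpowers x) (hg1 : g ≠ 1) :
    Subgroup.centralizer ({g} : Set G) = Subgroup.zpowers x := by
  refine le_antisymm (fun y hy => ?_) (fun y hy => ?_)
  · rw [← hC, Subgroup.mem_centralizer_iff]
    rintro h rfl
    obtain ⟨k, hk⟩ : h ∈ Subgroup.zpowers g :=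
      (mem_or_eq_one hx hg hg1).2 ▸ Subgroup.mem_zpowers h
    rw [← hk]
    have hc : Commute g y := Subgroup.mem_centralizer_iff.1 hy g rfl
    exact (hc.zpow_left k).eq
  · rw [Subgroup.mem_centralizer_iff]
    rintro h rfl
    obtain ⟨i, rfl⟩ := hg
    obtain ⟨j, rfl⟩ := hy
    exact ((Commute.refl x).zpow_zpow i j).eq

/-- `t · [N(⟨x⟩) : ⟨x⟩] = p - 1`. -/
theorem count_classes [Fact p.Prime] (hx : orderOf x = p)
    (hC : Subgroup.centralizer ({x} : Set G) = Subgroup.zpowers x) :
    Nat.card {C : ConjClasses G // ∃ g ∈ C.carrier, orderOf g = p} *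
      (Subgroup.zpowers x).relIndex (Subgroup.normalizer (Subgroup.zpowers x : Set G)) = p - 1 := by
  classical
  have hp := (Fact.out : p.Prime)
  set N := Subgroup.normalizer (Subgroup.zpowers x : Set G) with hN
  let T := {g : G // g ∈ Subgroup.zpowers x ∧ g ≠ 1}
  let U := {C : ConjClasses G // ∃ g ∈ C.carrier, orderOf g = p}
  let f : T → U := fun g => ⟨ConjClasses.mk g.1, g.1, ConjClasses.mem_carrier_mk,
    (mem_or_eq_one hx g.2.1 g.2.2).1⟩
  have hsurj : Function.Surjective f := by
    rintro ⟨C, g, hg, ho⟩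
    obtain ⟨P, hP⟩ := exists_sylow hx hC
    obtain ⟨Q, hQ⟩ := (IsPGroup.of_card (n := 1) (by rw [Nat.card_zpowers, ho, pow_one]) :
      IsPGroup p (Subgroup.zpowers g)).exists_le_sylow
    obtain ⟨a, ha⟩ := MulAction.exists_smul_eq G Q P
    have hmem : a * g * a⁻¹ ∈ Subgroup.zpowers x := by
      rw [← hP, ← ha, Sylow.coe_subgroup_smul, Subgroup.mem_pointwise_smul_iff_inv_smul_mem]
      simpa [mul_assoc] using hQ (Subgroup.mem_zpowers g)
    refine ⟨⟨_, hmem, fun h => hp.ne_one (by rw [← ho, orderOf_eq_one_iff]; exact conj_eq_one_iff.1 h)⟩,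
      Subtype.ext ?_⟩
    show ConjClasses.mk (a * g * a⁻¹) = C
    rw [← ConjClasses.mem_carrier_iff_mk_eq.1 hg]
    exact (ConjClasses.mk_eq_mk_iff_isConj.2 (isConj_iff.2 ⟨a, rfl⟩)).symm
  let _ : MulAction N G := MulAction.compHom G ((MulAut.conj : G →* MulAut G).comp N.subtype)
  have hfib : ∀ C : U, Nat.card {g : T // f g = C} = (Subgroup.zpowers x).relIndex N := by
    intro C
    obtain ⟨g, rfl⟩ := hsurj C
    have hstab : MulAction.stabilizer N g.1 = (Subgroup.zpowers x).subgroupOf N := by
      ext n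
      rw [Subgroup.mem_subgroupOf, MulAction.mem_stabilizer_iff]
      refine Iff.trans ?_ ((SetLike.ext_iff.1
        (centralizer_singleton_of_mem hx hC g.2.1 g.2.2)) (n : G))
      rw [Subgroup.mem_centralizer_iff]
      show (n : G) * g.1 * (n : G)⁻¹ = g.1 ↔ _
      rw [mul_inv_eq_iff_eq_mul]
      exact ⟨fun h y hy => by rw [Set.mem_singleton_iff.1 hy, h], fun h => (h g.1 rfl).symm⟩
    rw [Subgroup.relIndex, ← hstab, MulAction.index_stabilizer, ← Nat.card_coe_set_eq]
    have horb : ∀ b : G, b ∈ MulAction.orbit N g.1 ↔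
        ∃ hb : b ∈ Subgroup.zpowers x ∧ b ≠ 1, f ⟨b, hb⟩ = f g := by
      intro b
      constructor
      · rintro ⟨n, rfl⟩
        refine ⟨⟨(Subgroup.mem_normalizer_iff.1 n.2 g.1).1 g.2.1,
          fun h => g.2.2 (conj_eq_one_iff.1 h)⟩, Subtype.ext ?_⟩
        exact (ConjClasses.mk_eq_mk_iff_isConj.2 (isConj_iff.2 ⟨(n : G), rfl⟩)).symm
      · rintro ⟨hb, he⟩
        obtain ⟨a, ha⟩ := isConj_iff.1 (ConjClasses.mk_eq_mk_iff_isConj.1
          (congrArg Subtype.val he).symm)
        have hzg := (mem_or_eq_one hx g.2.1 g.2.2).2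
        have hzb := (mem_or_eq_one hx hb.1 hb.2).2
        have haN : a ∈ N := by
          have hmap : (Subgroup.zpowers x).map (MulAut.conj a).toMonoidHom = Subgroup.zpowers x := by
            calc _ = (Subgroup.zpowers g.1).map (MulAut.conj a).toMonoidHom :=
                  congrArg (Subgroup.map _) hzg.symm
              _ = Subgroup.zpowers (a * g.1 * a⁻¹) := MonoidHom.map_zpowers _ _
              _ = Subgroup.zpowers x := (congrArg Subgroup.zpowers ha).trans hzb
          rw [hN, Subgroup.mem_normalizer_iff]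
          intro h
          constructor
          · exact fun hh => hmap ▸ ⟨h, hh, rfl⟩
          · intro hh
            rw [← hmap] at hh
            obtain ⟨k, hk, he'⟩ := hh
            have : k = h := by simpa using he'
            exact this ▸ hk
        exact ⟨⟨a, haN⟩, ha⟩
    exact (Nat.card_congr
      { toFun := fun b => ⟨⟨b.1, ((horb b.1).1 b.2).1⟩, ((horb b.1).1 b.2).2⟩
        invFun := fun b => ⟨b.1.1, (horb _).2 ⟨b.1.2, b.2⟩⟩
        left_inv := fun _ => rfl
        right_inv := fun _ => rfl }).symm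
  have hT : Nat.card T = p - 1 := by
    have e : T ≃ {g : Subgroup.zpowers x // g ≠ 1} :=
      { toFun := fun g => ⟨⟨g.1, g.2.1⟩, fun h => g.2.2 (congrArg Subtype.val h)⟩
        invFun := fun g => ⟨g.1.1, g.1.2, fun h => g.2 (Subtype.ext h)⟩
        left_inv := fun _ => rfl
        right_inv := fun _ => rfl }
    have := Fintype.ofFinite (Subgroup.zpowers x)
    rw [Nat.card_congr e, Nat.card_eq_fintype_card, Fintype.card_subtype_compl,
      Fintype.card_subtype_eq, ← Nat.card_eq_fintype_card, Nat.card_zpowers, hx]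
  have := Fintype.ofFinite U
  rw [← hT, ← Nat.card_congr (Equiv.sigmaFiberEquiv f), Nat.card_sigma,
    Finset.sum_congr rfl fun C _ => hfib C, Finset.sum_const, Finset.card_univ, smul_eq_mul,
    Nat.card_eq_fintype_card]

/-- Either `x` is not in the commutator subgroup, and `N(⟨x⟩) = ⟨x⟩` and the index is `p`, or the
index of the commutator subgroup divides `[N(⟨x⟩) : ⟨x⟩]`. -/
theorem commutator_cases [Fact p.Prime] (hx : orderOf x = p)
    (hC : Subgroup.centralizer ({x} : Set G) = Subgroup.zpowers x) :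
    (¬ p ∣ Nat.card (commutator G) ∧ (commutator G).index = p ∧
      Subgroup.normalizer (Subgroup.zpowers x : Set G) = Subgroup.zpowers x) ∨
    (x ∈ commutator G ∧ (commutator G).index ∣
      (Subgroup.zpowers x).relIndex (Subgroup.normalizer (Subgroup.zpowers x : Set G)) ∧
      Subgroup.normalizer (Subgroup.zpowers x : Set G) ≠ Subgroup.zpowers x) := by
  classical
  have hp := (Fact.out : p.Prime)
  by_cases hd : p ∣ Nat.card (commutator G)
  · right
    have hxG := (commutator_le hx hC (commutator G) hd).1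
    obtain ⟨P, hP⟩ := exists_sylow hx hC
    have hle : (P : Subgroup G) ≤ commutator G := by rw [hP]; exact Subgroup.zpowers_le.2 hxG
    have hfr : Subgroup.normalizer ((P : Subgroup G) : Set G) ⊔ commutator G = ⊤ :=
      Sylow.normalizer_sup_eq_top' (N := commutator G) P hle
    rw [hP] at hfr hle
    refine ⟨hxG, ?_, fun h => ?_⟩
    · rw [← Subgroup.relIndex_top_right, ← hfr, Subgroup.relIndex_sup_right]
      exact Subgroup.relIndex_dvd_of_le_left _ hle
    · have htop : commutator G = ⊤ := by
        rw [h, sup_eq_right.2 hle] at hfr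
        exact hfr
      have hcen : Subgroup.normalizer ((P : Subgroup G) : Set G) ≤
          Subgroup.centralizer ((P : Subgroup G) : Set G) := by
        rw [hP, h]
        intro y hy
        rw [Subgroup.mem_centralizer_iff]
        rintro z hz
        obtain ⟨i, rfl⟩ := hy
        obtain ⟨j, rfl⟩ := hz
        exact ((Commute.refl x).zpow_zpow j i).eq
      have hK := MonoidHom.ker_transferSylow_isComplement' P hcen
      set K := (MonoidHom.transferSylow P hcen).ker with hKdef
      have hidx : K.index = p := by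
        rw [hK.symm.index_eq_card, hP, Nat.card_zpowers, hx]
      have hcy : IsCyclic (G ⧸ K) := isCyclic_of_prime_card (p := p)
        (by rw [← Subgroup.index_eq_card, hidx])
      have hKc : commutator G ≤ K := by
        rw [commutator_def, Subgroup.commutator_le]
        intro a _ b _
        rw [← QuotientGroup.eq_one_iff]
        obtain ⟨g, hg⟩ := hcy.exists_generator
        obtain ⟨i, hi⟩ := hg (a : G ⧸ K)
        obtain ⟨j, hj⟩ := hg (b : G ⧸ K)
        simp only [commutatorElement_def, QuotientGroup.mk_mul, QuotientGroup.mk_inv]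
        rw [← hi, ← hj, ← zpow_neg, ← zpow_neg, ← zpow_add, ← zpow_add, ← zpow_add]
        simp
      rw [htop, top_le_iff] at hKc
      rw [hKc, Subgroup.index_top] at hidx
      exact hp.one_lt.ne hidx
  · left
    obtain ⟨hord, hcent⟩ := centralizer_mk hx hC (commutator G) hd
    have htop : Subgroup.centralizer ({(x : G ⧸ commutator G)} : Set (G ⧸ commutator G)) = ⊤ := by
      rw [eq_top_iff]
      intro q _
      rw [Subgroup.mem_centralizer_iff]
      rintro h rfl
      obtain ⟨y, rfl⟩ := QuotientGroup.mk_surjective q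
      rw [← QuotientGroup.mk_mul, ← QuotientGroup.mk_mul, QuotientGroup.eq]
      rw [commutator_def]
      have := Subgroup.commutator_mem_commutator (Subgroup.mem_top y⁻¹) (Subgroup.mem_top x⁻¹)
        (H₁ := (⊤ : Subgroup G)) (H₂ := (⊤ : Subgroup G))
      simpa [commutatorElement_def, mul_assoc] using this
    have hidx : (commutator G).index = p := by
      rw [Subgroup.index_eq_card, ← Subgroup.card_top, ← htop, hcent, Nat.card_zpowers, hord]
    refine ⟨hd, hidx, le_antisymm (fun n hn => ?_) Subgroup.le_normalizer⟩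
    rw [← hC, Subgroup.mem_centralizer_iff]
    rintro h rfl
    have h1 : n * h * n⁻¹ * h⁻¹ ∈ Subgroup.zpowers h :=
      mul_mem ((Subgroup.mem_normalizer_iff.1 hn h).1 (Subgroup.mem_zpowers h))
        (inv_mem (Subgroup.mem_zpowers h))
    have h2 : n * h * n⁻¹ * h⁻¹ ∈ commutator G := by
      rw [commutator_def]
      exact Subgroup.commutator_mem_commutator (Subgroup.mem_top n) (Subgroup.mem_top h)
    have hcx : n * h * n⁻¹ * h⁻¹ * h = h * (n * h * n⁻¹ * h⁻¹) := by
      obtain ⟨k, hk⟩ := h1
      rw [← hk]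
      exact ((Commute.refl h).zpow_left k).eq
    exact (mul_inv_eq_iff_eq_mul.1 (mul_inv_eq_one.1 (eq_one_of_mem hx hC _ hd h2 hcx))).symm

end CfsgLib.SelfCentralPrime
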