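import Cfsg.Agent.Lib.CharDegree.SelfCentralPrimeClasses
import Cfsg.Agent.Lib.CharDegree.Basic
import Cfsg.Agent.Lib.Char.PowerTwist
import Cfsg.Agent.Lib.Char.Complete

/-!
# Characters of degree `p - 1` of groups with a self-centralizing element of order `p`

Such a character has no trivial constituent on the Sylow subgroup `⟨x⟩` when `N(⟨x⟩) ≠ ⟨x⟩`: its
Galois orbit would otherwise exceed the column norm at the powers of `x`. So it vanishes on the
elements of the normalizer outside `⟨x⟩`, which gives its determinant on a cyclic 2-subgroup.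
-/

set_option autoImplicit false

namespace CfsgLib.SelfCentralPrime

open scoped ComplexConjugate
open Module CfsgLib.Char

section Arith

variable {n : ℕ} [NeZero n] {ι : Type*} [Fintype ι] (a : ι → ZMod n) (ψ : AddChar (ZMod n) ℂ)

/-- The character values belonging to the exponents `a`. -/
noncomputable def valueAt (b : ZMod n) : ℂ := ∑ i, ψ (b * a i)

theorem sum_valueAt_mul (hψ : ψ.IsPrimitive) (z : ZMod n) :
    ∑ b, valueAt a ψ b * ψ (-(b * z)) = n * (Finset.univ.filter fun i => a i = z).card := by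
  classical
  simp only [valueAt, Finset.sum_mul, ← AddChar.map_add_eq_mul, ← sub_eq_add_neg, ← mul_sub]
  rw [Finset.sum_comm]
  simp only [AddChar.sum_mulShift _ hψ, sub_eq_zero, ZMod.card, Nat.cast_ite, Nat.cast_zero,
    ← Finset.sum_filter, Finset.sum_const, nsmul_eq_mul, mul_comm]

theorem conj_addChar (x : ZMod n) : conj (ψ x) = ψ (-x) := by
  have h : ψ x ^ n = 1 := by
    rw [← AddChar.map_nsmul_eq_pow, nsmul_eq_mul, ZMod.natCast_self, zero_mul,
      AddChar.map_zero_eq_one]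
  rw [AddChar.map_neg_eq_inv, Complex.inv_eq_conj (Complex.norm_eq_one_of_pow_eq_one h (NeZero.ne n))]

theorem sum_norm_sq_valueAt (hψ : ψ.IsPrimitive) :
    ∑ b, ‖valueAt a ψ b‖ ^ 2 =
      ((n * ∑ j, (Finset.univ.filter fun i => a i = a j).card : ℕ) : ℝ) := by
  classical
  have h : ∑ b, valueAt a ψ b * conj (valueAt a ψ b) =
      ((n * ∑ j, (Finset.univ.filter fun i => a i = a j).card : ℕ) : ℂ) := by
    have h1 : ∀ b, conj (valueAt a ψ b) = ∑ j, ψ (-(b * a j)) := fun b => by
      simp only [valueAt, map_sum, conj_addChar]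
    simp only [h1, Finset.mul_sum]
    rw [Finset.sum_comm]
    simp only [sum_valueAt_mul a ψ hψ]
    push_cast [Finset.mul_sum]
    rfl
  simp only [Complex.mul_conj, Complex.normSq_eq_norm_sq] at h
  exact_mod_cast h

end Arith

theorem energy_gt {p : ℕ} [Fact p.Prime] {ι : Type*} [Fintype ι] (a : ι → ZMod p)
    (ψ : AddChar (ZMod p) ℂ) (hψ : ψ.IsPrimitive) (hd : Fintype.card ι + 1 = p)
    (H : Subgroup (ZMod p)ˣ) (h2 : 2 ≤ Nat.card H)
    (hinv : ∀ u ∈ H, ∀ b, valueAt a ψ (b * u) = valueAt a ψ b) (h0 : ∃ i, a i = 0) :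
    (((p - 1) * Nat.card H : ℕ) : ℝ) < ∑ b ∈ Finset.univ.erase 0, ‖valueAt a ψ b‖ ^ 2 := by
  classical
  set c : ZMod p → ℕ := fun z => (Finset.univ.filter fun i => a i = z).card with hc
  have hp0 : (p : ℂ) ≠ 0 := Nat.cast_ne_zero.2 (NeZero.ne p)
  have hcu : ∀ u ∈ H, ∀ z, c (z * (u : ZMod p)) = c z := by
    intro u hu z
    refine Nat.cast_injective (R := ℂ) (mul_left_cancel₀ hp0 ?_)
    rw [← sum_valueAt_mul a ψ hψ, ← sum_valueAt_mul a ψ hψ]
    refine Fintype.sum_equiv (Units.mulRight u) _ _ fun b => ?_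
    rw [Units.mulRight_apply, hinv u hu]
    congr 2
    ring
  set l := c 0 with hl
  set T := Finset.univ.filter fun i => a i ≠ 0 with hT
  have hlT : l + T.card = Fintype.card ι := Finset.card_filter_add_card_filter_not _
  have hdvd : Nat.card H ∣ T.card := by
    have h1 : T.card = ∑ v : (ZMod p)ˣ, c v := by
      rw [Finset.card_eq_sum_card_fiberwise (f := a) (t := Finset.univ.erase 0)
        (fun i hi => by simpa [hT] using hi)]
      refine Finset.sum_bij' (fun z hz => Units.mk0 z (Finset.mem_erase.1 hz).1)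
        (fun v _ => (v : ZMod p)) (fun _ _ => Finset.mem_univ _)
        (fun v _ => Finset.mem_erase.2 ⟨v.ne_zero, Finset.mem_univ _⟩) (fun _ _ => rfl)
        (fun v _ => Units.ext rfl) (fun z hz => ?_)
      refine congrArg Finset.card ?_
      ext i
      simp only [hT, Finset.mem_filter, Finset.mem_univ, true_and]
      constructor
      · exact fun h => by simpa using h.2
      · intro h
        have h' : a i = z := by simpa using h
        exact ⟨h' ▸ (Finset.mem_erase.1 hz).1, h'⟩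
    rw [h1, ← Finset.sum_fiberwise Finset.univ (fun v : (ZMod p)ˣ => (v : (ZMod p)ˣ ⧸ H))
      (fun v => c (v : ZMod p))]
    refine Finset.dvd_sum fun q _ => ?_
    induction q using QuotientGroup.induction_on with
    | H w =>
    rw [Finset.sum_congr rfl (g := fun _ => c w) fun v hv => ?_, Finset.sum_const, smul_eq_mul]
    · refine Dvd.dvd.mul_right (dvd_of_eq ?_) _
      rw [Nat.card_eq_fintype_card, ← Finset.card_univ]
      exact Finset.card_bij' (fun u _ => w * (u : (ZMod p)ˣ))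
        (fun v hv => ⟨w⁻¹ * v, QuotientGroup.eq.1 (Finset.mem_filter.1 hv).2.symm⟩)
        (fun u _ => Finset.mem_filter.2 ⟨Finset.mem_univ _,
          QuotientGroup.eq.2 (by simp [mul_assoc, u.2])⟩)
        (fun _ _ => Finset.mem_univ _) (fun u _ => Subtype.ext (inv_mul_cancel_left _ _))
        (fun v _ => mul_inv_cancel_left _ _)
    · rw [show (v : ZMod p) = (w : ZMod p) * ((w⁻¹ * v : (ZMod p)ˣ) : ZMod p) by
        rw [← Units.val_mul, mul_inv_cancel_left]]
      exact hcu _ (QuotientGroup.eq.1 (Finset.mem_filter.1 hv).2.symm) _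
  have hdl : Nat.card H ∣ l := by
    refine (Nat.dvd_add_left hdvd).1 ?_
    rw [hlT, show Fintype.card ι = p - 1 by omega, ← ZMod.card_units p,
      ← Nat.card_eq_fintype_card]
    exact Subgroup.card_subgroup_dvd_card H
  have hl0 : 0 < l := Finset.card_pos.2 ⟨h0.choose, by simp [h0.choose_spec]⟩
  have hK : l * l + T.card ≤ ∑ j, c (a j) := by
    rw [← Finset.sum_filter_add_sum_filter_not Finset.univ (fun j => a j = 0)]
    refine add_le_add (le_of_eq ?_) ?_
    · rw [Finset.sum_congr rfl (g := fun _ => l) fun j hj => by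
        rw [(Finset.mem_filter.1 hj).2], Finset.sum_const, smul_eq_mul]
    · rw [Finset.card_eq_sum_ones]
      exact Finset.sum_le_sum fun j _ => Finset.card_pos.2 ⟨j, by simp⟩
  have hsplit := Finset.add_sum_erase (Finset.univ : Finset (ZMod p))
    (fun b => ‖valueAt a ψ b‖ ^ 2) (Finset.mem_univ 0)
  rw [sum_norm_sq_valueAt a ψ hψ] at hsplit
  have h00 : ‖valueAt a ψ 0‖ = (Fintype.card ι : ℝ) := by
    simp [valueAt, AddChar.map_zero_eq_one]
  simp only [h00] at hsplit
  have hle := Nat.le_of_dvd hl0 hdl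
  have key : (p - 1) * Nat.card H + Fintype.card ι ^ 2 < p * ∑ j, c (a j) := by
    obtain ⟨d, hd'⟩ : ∃ d, Fintype.card ι = d := ⟨_, rfl⟩
    have h4 : l + Nat.card H ≤ l * l := by nlinarith
    have h5 : d + Nat.card H ≤ ∑ j, c (a j) := by omega
    have h6 : (p - 1) = d := by omega
    have h7 : p = d + 1 := by omega
    rw [hd', h6]
    nlinarith
  have key' : (((p - 1) * Nat.card H + Fintype.card ι ^ 2 : ℕ) : ℝ) <
      ((p * ∑ j, c (a j) : ℕ) : ℝ) := Nat.cast_lt.2 key
  simp only [hc] at key'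
  push_cast at key' hsplit ⊢
  linarith

variable {G : Type*} [Group G] [Finite G] {p : ℕ} [Fact p.Prime] {x : G}

omit [Finite G] in
theorem pow_val_natCast (hx : orderOf x = p) (j : ℕ) : x ^ (j : ZMod p).val = x ^ j := by
  rw [ZMod.val_natCast, ← hx, pow_mod_orderOf]

/-- If `N(⟨x⟩) ≠ ⟨x⟩`, a character of degree `p - 1` has no trivial constituent on `⟨x⟩`. -/
theorem sum_apply_pow_eq_zero (hx : orderOf x = p)
    (hC : Subgroup.centralizer ({x} : Set G) = Subgroup.zpowers x) (hodd : p ≠ 2)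
    {g : G} (hgN : g ∈ Subgroup.normalizer (Subgroup.zpowers x : Set G))
    (hgP : g ∉ Subgroup.zpowers x) (χ : Cfsg.IrrCharacter G)
    (hχ : Cfsg.charDegree (χ : G → ℂ) + 1 = p) :
    ∑ b : ZMod p, (χ : G → ℂ) (x ^ b.val) = 0 := by
  classical
  have hp := (Fact.out : p.Prime)
  have := Fintype.ofFinite G
  have := Fintype.ofFinite (Cfsg.IrrCharacter G)
  obtain ⟨n, ρ, -, hρ, hn⟩ := CharDegree.exists_rep χ
  obtain ⟨ε, hε, -, hval, -⟩ := exists_eigenvalues ρ x
  let ω : ℂ := Complex.exp (2 * Real.pi * Complex.I / p)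
  have hω : IsPrimitiveRoot ω p := Complex.isPrimitiveRoot_exp p hp.ne_zero
  set ψ := AddChar.zmodChar p hω.pow_eq_one with hψdef
  have hψ : ψ.IsPrimitive := AddChar.zmodChar_primitive_of_primitive_root p hω
  have hroot : ∀ i, ∃ t < p, ω ^ t = ε i := fun i => hω.eq_pow_of_pow_eq_one (hx ▸ hε i)
  choose t _ ht using hroot
  have hF : ∀ b : ZMod p, valueAt (fun i => (t i : ZMod p)) ψ b = (χ : G → ℂ) (x ^ b.val) := by
    intro b
    rw [← hρ, hval]
    refine Finset.sum_congr rfl fun i _ => ?_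
    rw [← ht i, hψdef, AddChar.zmodChar_apply, ← pow_mul, ZMod.val_mul, ZMod.val_natCast,
      ← pow_eq_pow_mod _ hω.pow_eq_one, mul_comm, pow_mul, ← pow_eq_pow_mod _ hω.pow_eq_one,
      ← pow_mul]
  set a := fun i => (t i : ZMod p) with ha
  have hsum : ∑ b : ZMod p, (χ : G → ℂ) (x ^ b.val) =
      (p : ℂ) * (Finset.univ.filter fun i => a i = 0).card := by
    rw [← sum_valueAt_mul a ψ hψ]
    exact Finset.sum_congr rfl fun b _ => by simp [hF]
  rw [hsum]
  by_contra hne
  have h0 : ∃ i, a i = 0 := by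
    by_contra h
    refine hne ?_
    rw [Finset.filter_eq_empty_iff.2 fun i _ => fun hi => h ⟨i, hi⟩]
    simp
  have hdim : Fintype.card (Fin (finrank ℂ (Fin n → ℂ))) + 1 = p := by
    rw [Fintype.card_fin, finrank_fin_fun, hn, hχ]
  -- the stabilizer of the values on `⟨x⟩`
  let H : Subgroup (ZMod p)ˣ :=
    { carrier := {u | ∀ b : ZMod p, valueAt a ψ (b * u) = valueAt a ψ b}
      one_mem' := fun b => by simp
      mul_mem' := fun {u v} hu hv b => by rw [Units.val_mul, ← mul_assoc, hv, hu]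
      inv_mem' := fun {u} hu b => by
        conv_rhs => rw [← Units.inv_mul_cancel_right b u, hu] }
  obtain ⟨m, hm⟩ : ∃ m : ℕ, x ^ m = g * x * g⁻¹ := by
    have h := (Subgroup.mem_normalizer_iff.1 hgN x).1 (Subgroup.mem_zpowers x)
    exact (isOfFinOrder_of_finite x).mem_powers_iff_mem_zpowers.2 h
  have hm0 : (m : ZMod p) ≠ 0 := fun h => hp.ne_one (by
    rw [← hx, orderOf_eq_one_iff]
    refine (conj_eq_one_iff (a := g)).1 ?_
    rw [← hm, ← pow_val_natCast hx, h, ZMod.val_zero, pow_zero])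
  have hm1 : (m : ZMod p) ≠ 1 := fun h => hgP (by
    rw [← hC, Subgroup.mem_centralizer_singleton_iff]
    refine mul_inv_eq_iff_eq_mul.1 ?_
    rw [← hm, ← pow_val_natCast hx, h, ZMod.val_one, pow_one])
  have hmH : Units.mk0 _ hm0 ∈ H := by
    intro b
    rw [hF, hF, Units.val_mk0, show b * (m : ZMod p) = ((b.val * m : ℕ) : ZMod p) by simp,
      pow_val_natCast hx, mul_comm, pow_mul, hm, conj_pow]
    exact IsIrr.isClassFunction χ.2 _ _
  have h2 : 2 ≤ Nat.card H := by
    have : Nontrivial H := ⟨⟨_, hmH⟩, 1, fun h => hm1 (congrArg Units.val (congrArg Subtype.val h))⟩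
    exact Finite.one_lt_card
  have hen := energy_gt a ψ hψ hdim H h2 (fun u hu => hu) h0
  -- twists
  set M := (Subgroup.zpowers x).index with hM
  have hGM : Nat.card G = p * M := by
    rw [← Subgroup.card_mul_index (Subgroup.zpowers x), Nat.card_zpowers, hx]
  have hpM : p.Coprime M := by
    obtain ⟨P, hP⟩ := exists_sylow hx hC
    rw [hp.coprime_iff_not_dvd, hM, ← hP]
    exact P.not_dvd_index
  let k : (ZMod p)ˣ → ℕ := fun u => Nat.chineseRemainder hpM (u : ZMod p).val 1
  have hk : ∀ u, (k u).Coprime (Nat.card G) ∧ (k u : ZMod p) = u := fun u => by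
    obtain ⟨h1, h2⟩ := (Nat.chineseRemainder hpM (u : ZMod p).val 1).2
    have hu : (k u : ZMod p) = u := by
      rw [(ZMod.natCast_eq_natCast_iff _ _ _).2 h1, ZMod.natCast_zmod_val]
    refine ⟨?_, hu⟩
    rw [hGM]
    refine Nat.Coprime.mul_right ?_ ?_
    · rw [Nat.coprime_comm, hp.coprime_iff_not_dvd]
      intro hd
      exact u.ne_zero (hu ▸ (ZMod.natCast_eq_zero_iff ..).2 hd)
    · exact h2.gcd_eq.trans (Nat.gcd_one_left _)
  let tw : (ZMod p)ˣ → Cfsg.IrrCharacter G := fun u => ⟨_, isIrrCharacter_pow χ.2 (hk u).1⟩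
  have htw : ∀ u (b : ZMod p), (tw u : G → ℂ) (x ^ b.val) = valueAt a ψ (b * u) := fun u b => by
    show (χ : G → ℂ) ((x ^ b.val) ^ k u) = _
    rw [hF, ← pow_mul, ← pow_val_natCast hx, Nat.cast_mul, ZMod.natCast_zmod_val, (hk u).2]
  have hO : Fintype.card (ZMod p)ˣ ≤ Nat.card H * (Finset.univ.image tw).card := by
    rw [← Finset.card_univ]
    refine Finset.card_le_mul_card_image _ _ fun θ hθ => ?_
    obtain ⟨v, -, rfl⟩ := Finset.mem_image.1 hθ
    rw [Nat.card_eq_fintype_card, ← Finset.card_univ]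
    refine Finset.card_le_card_of_injOn (fun u => if h : u * v⁻¹ ∈ H then ⟨_, h⟩ else 1)
      (fun _ _ => Finset.mem_univ _) fun u hu u' hu' he => ?_
    have key : ∀ w ∈ Finset.univ.filter fun w => tw w = tw v, w * v⁻¹ ∈ H := fun w hw b => by
      have h := congrArg (fun θ : Cfsg.IrrCharacter G =>
        (θ : G → ℂ) (x ^ (b * ((v⁻¹ : (ZMod p)ˣ) : ZMod p)).val)) (Finset.mem_filter.1 hw).2
      simp only [htw, mul_assoc, Units.inv_mul, mul_one] at h
      rw [Units.val_mul, mul_comm (w : ZMod p), h]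
    simp only [dif_pos (key u hu), dif_pos (key u' hu'), Subtype.mk.injEq, mul_left_inj] at he
    exact he
  have hA : ∀ θ ∈ Finset.univ.image tw, ∑ b ∈ Finset.univ.erase (0 : ZMod p),
      ‖(θ : G → ℂ) (x ^ b.val)‖ ^ 2 = ∑ b ∈ Finset.univ.erase 0, ‖valueAt a ψ b‖ ^ 2 := by
    intro θ hθ
    obtain ⟨v, -, rfl⟩ := Finset.mem_image.1 hθ
    simp only [htw]
    refine Finset.sum_equiv (Units.mulRight v) (fun b => ?_) fun b _ => rfl
    simp [Units.mulRight_apply]
  have htriv : Finset.univ.image tw ⊆ Finset.univ.erase (trivChar G) := by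
    intro θ hθ
    obtain ⟨v, -, rfl⟩ := Finset.mem_image.1 hθ
    refine Finset.mem_erase.2 ⟨fun he => hodd ?_, Finset.mem_univ _⟩
    have h1 : (χ : G → ℂ) (1 ^ k v) = 1 := congrArg (fun θ : Cfsg.IrrCharacter G => (θ : G → ℂ) 1) he
    rw [one_pow] at h1
    rw [(CharDegree.charDegree_eq_one_iff χ).2 h1] at hχ
    exact hχ.symm
  have hcol : ∀ b ∈ Finset.univ.erase (0 : ZMod p),
      ∑ θ ∈ Finset.univ.image tw, ‖(θ : G → ℂ) (x ^ b.val)‖ ^ 2 ≤ (p : ℝ) - 1 := by
    intro b hb
    have hx1 : x ^ b.val ≠ 1 := by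
      refine fun h => (Finset.mem_erase.1 hb).1 ((ZMod.val_eq_zero b).1 ?_)
      exact Nat.eq_zero_of_dvd_of_lt (orderOf_dvd_of_pow_eq_one h) (by rw [hx]; exact ZMod.val_lt b)
    have h := column_orthogonality (G := G) (x ^ b.val) (x ^ b.val)
    rw [if_pos (IsConj.refl _), centralizer_singleton_of_mem hx hC
      (Subgroup.pow_mem _ (Subgroup.mem_zpowers x) _) hx1, Nat.card_zpowers, hx] at h
    simp only [Complex.mul_conj, Complex.normSq_eq_norm_sq] at h
    have h' : ∑ θ : Cfsg.IrrCharacter G, ‖(θ : G → ℂ) (x ^ b.val)‖ ^ 2 = (p : ℝ) := by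
      exact_mod_cast h
    rw [← Finset.add_sum_erase _ _ (Finset.mem_univ (trivChar G))] at h'
    have h3 := Finset.sum_le_sum_of_subset_of_nonneg htriv
      (f := fun θ : Cfsg.IrrCharacter G => ‖(θ : G → ℂ) (x ^ b.val)‖ ^ 2) fun _ _ _ => sq_nonneg _
    simp only [trivChar_apply, norm_one, one_pow] at h'
    linarith
  have htot := Finset.sum_le_sum hcol
  rw [Finset.sum_comm, Finset.sum_congr rfl hA, Finset.sum_const, nsmul_eq_mul, Finset.sum_const,
    nsmul_eq_mul, Finset.card_erase_of_mem (Finset.mem_univ _), Finset.card_univ, ZMod.card] at htot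
  rw [ZMod.card_units] at hO
  have hO' : ((p - 1 : ℕ) : ℝ) ≤ (Nat.card H : ℝ) * (Finset.univ.image tw).card := by
    exact_mod_cast hO
  rw [Nat.cast_sub hp.one_lt.le] at htot hO'
  rw [Nat.cast_mul, Nat.cast_sub hp.one_lt.le] at hen
  push_cast at htot hO' hen
  have hpos : (0 : ℝ) < (Finset.univ.image tw).card :=
    Nat.cast_pos.2 (Finset.card_pos.2 ⟨tw 1, Finset.mem_image_of_mem _ (Finset.mem_univ _)⟩)
  have hp1 : (0 : ℝ) ≤ (p : ℝ) - 1 := by
    have : (2 : ℝ) ≤ p := by exact_mod_cast hp.two_le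
    linarith
  nlinarith [mul_lt_mul_of_pos_left hen hpos, mul_le_mul_of_nonneg_left hO' hp1]

theorem apply_eq_zero (hx : orderOf x = p)
    (hC : Subgroup.centralizer ({x} : Set G) = Subgroup.zpowers x) (hodd : p ≠ 2)
    {g : G} (hgN : g ∈ Subgroup.normalizer (Subgroup.zpowers x : Set G))
    (hgP : g ∉ Subgroup.zpowers x) (χ : Cfsg.IrrCharacter G)
    (hχ : Cfsg.charDegree (χ : G → ℂ) + 1 = p) : (χ : G → ℂ) g = 0 := by
  classical
  have hp := (Fact.out : p.Prime)
  have h0 := sum_apply_pow_eq_zero hx hC hodd hgN hgP χ hχ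
  obtain ⟨n, ρ, -, hρ, -⟩ := CharDegree.exists_rep χ
  set E : Module.End ℂ (Fin n → ℂ) := ∑ b : ZMod p, ρ (x ^ b.val) with hE
  have htr : LinearMap.trace ℂ (Fin n → ℂ) E = 0 := by
    rw [hE, map_sum, ← h0, ← hρ]
    rfl
  have habs : ∀ c : ZMod p, ρ (x ^ c.val) * E = E := fun c => by
    rw [hE, Finset.mul_sum]
    refine Fintype.sum_equiv (Equiv.addLeft c) _ _ fun b => ?_
    rw [← map_mul, ← pow_add, Equiv.coe_addLeft, ← pow_val_natCast hx, Nat.cast_add,
      ZMod.natCast_zmod_val, ZMod.natCast_zmod_val]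
  have hEE : E * E = (p : ℂ) • E := by
    conv_lhs => arg 1; rw [hE]
    rw [Finset.sum_mul, Finset.sum_congr rfl fun c _ => habs c, Finset.sum_const, Finset.card_univ,
      ZMod.card, Nat.cast_smul_eq_nsmul]
  have hp0 : (p : ℂ) ≠ 0 := Nat.cast_ne_zero.2 hp.ne_zero
  set F : Module.End ℂ (Fin n → ℂ) := (p : ℂ)⁻¹ • E with hFdef
  have hFF : F * F = F := by
    rw [hFdef, smul_mul_smul_comm, hEE, smul_smul, mul_assoc, inv_mul_cancel₀ hp0, mul_one]
  have hproj : LinearMap.IsProj (LinearMap.range F) F :=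
    ⟨fun v => LinearMap.mem_range_self F v, by
      rintro _ ⟨v, rfl⟩
      exact congrArg (fun f : Module.End ℂ (Fin n → ℂ) => f v) hFF⟩
  have hF0 : F = 0 := by
    have h := hproj.trace
    rw [hFdef, map_smul, htr, smul_zero, ← hFdef] at h
    have h' : finrank ℂ (LinearMap.range F) = 0 := by exact_mod_cast h.symm
    exact LinearMap.range_eq_bot.1 (Submodule.finrank_eq_zero.1 h')
  have hE0 : E = 0 := by
    rcases smul_eq_zero.1 hF0 with h | h
    · exact absurd h (inv_ne_zero hp0)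
    · exact h
  have hsum : ∑ b : ZMod p, (χ : G → ℂ) (x ^ b.val * g) = 0 := by
    have h : LinearMap.trace ℂ (Fin n → ℂ) (E * ρ g) = 0 := by rw [hE0, zero_mul, map_zero]
    rw [hE, Finset.sum_mul, map_sum] at h
    rw [← h, ← hρ]
    simp [Representation.character, map_mul]
  have hconst : ∀ z ∈ Subgroup.zpowers x, (χ : G → ℂ) (z * g) = (χ : G → ℂ) g := by
    let f : Subgroup.zpowers x → Subgroup.zpowers x := fun z =>
      ⟨(z : G) * (g * (z : G)⁻¹ * g⁻¹), mul_mem z.2
        ((Subgroup.mem_normalizer_iff.1 hgN _).1 (inv_mem z.2))⟩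
    have hinj : Function.Injective f := fun y z hyz => by
      have h' : (y : G) * (g * (y : G)⁻¹ * g⁻¹) = z * (g * (z : G)⁻¹ * g⁻¹) :=
        congrArg Subtype.val hyz
      have hcomm : ((z : G)⁻¹ * y) * g = g * ((z : G)⁻¹ * y) := by
        calc ((z : G)⁻¹ * y) * g = (z : G)⁻¹ * ((y : G) * (g * (y : G)⁻¹ * g⁻¹)) * g * y := by group
          _ = g * ((z : G)⁻¹ * y) := by rw [h']; group
      by_contra hne
      have hne' : (z : G)⁻¹ * y ≠ 1 := fun h => hne (Subtype.ext (inv_mul_eq_one.1 h).symm)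
      refine hgP ?_
      rw [← centralizer_singleton_of_mem hx hC (mul_mem (inv_mem z.2) y.2) hne',
        Subgroup.mem_centralizer_singleton_iff]
      exact hcomm.symm
    intro z hz
    obtain ⟨y, hy⟩ := Finite.injective_iff_surjective.1 hinj ⟨z, hz⟩
    have hy' : (y : G) * (g * (y : G)⁻¹ * g⁻¹) = z := congrArg Subtype.val hy
    rw [← hy', show (y : G) * (g * (y : G)⁻¹ * g⁻¹) * g = (y : G) * g * (y : G)⁻¹ by group]
    exact IsIrr.isClassFunction χ.2 _ _
  rw [Finset.sum_congr rfl fun b _ => hconst _ (Subgroup.pow_mem _ (Subgroup.mem_zpowers x) b.val),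
    Finset.sum_const, Finset.card_univ, ZMod.card, nsmul_eq_mul] at hsum
  exact (mul_eq_zero.1 hsum).resolve_left hp0

omit [Fact p.Prime] in
theorem det_eq_neg_one {g : G} {w m : ℕ} (ho : orderOf g = 2 * w) (hw : 0 < w) (hm : Odd m)
    (χ : Cfsg.IrrCharacter G) (hdeg : Cfsg.charDegree (χ : G → ℂ) = 2 * w * m)
    (hzero : ∀ j, 0 < j → j < 2 * w → (χ : G → ℂ) (g ^ j) = 0) :
    ∃ l : G →* ℂˣ, (l g : ℂ) = -1 := by
  classical
  obtain ⟨n, ρ, -, hρ, hn⟩ := CharDegree.exists_rep χ
  obtain ⟨b, ε, hb, hε⟩ := exists_eigenbasis ρ g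
  have hdet : LinearMap.det (ρ g) = ∏ i, ε i := by
    rw [← LinearMap.det_toMatrix b, show LinearMap.toMatrix b b (ρ g) = Matrix.diagonal ε by
      ext i j
      rw [LinearMap.toMatrix_apply, hb, map_smul, Finsupp.smul_apply, Basis.repr_self,
        Finsupp.single_apply, Matrix.diagonal_apply]
      split_ifs with h1 h2 h2 <;> simp_all]
    exact Matrix.det_diagonal
  have hval : ∀ k : ℕ, ρ.character (g ^ k) = ∑ i, ε i ^ k := fun k => by
    rw [Representation.character, LinearMap.trace_eq_matrix_trace ℂ b, Matrix.trace]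
    refine Finset.sum_congr rfl fun i _ => ?_
    have : ρ (g ^ k) (b i) = ε i ^ k • b i := by
      induction k with
      | zero => simp
      | succ k ih => rw [pow_succ', map_mul, Module.End.mul_apply, ih, map_smul, hb, smul_smul,
          pow_succ]
    rw [Matrix.diag_apply, LinearMap.toMatrix_apply, this]
    simp
  have : NeZero (2 * w) := ⟨by omega⟩
  let ω : ℂ := Complex.exp (2 * Real.pi * Complex.I / (2 * w : ℕ))
  have hω : IsPrimitiveRoot ω (2 * w) := Complex.isPrimitiveRoot_exp _ (NeZero.ne _)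
  set ψ := AddChar.zmodChar (2 * w) hω.pow_eq_one with hψdef
  have hψ : ψ.IsPrimitive := AddChar.zmodChar_primitive_of_primitive_root _ hω
  have hroot : ∀ i, ∃ t < 2 * w, ω ^ t = ε i := fun i => hω.eq_pow_of_pow_eq_one (ho ▸ hε i)
  choose t ht' ht using hroot
  have hcnt : ∀ z : ZMod (2 * w),
      (Finset.univ.filter fun i => (t i : ZMod (2 * w)) = z).card = m := fun z => by
    have h := sum_valueAt_mul (fun i => (t i : ZMod (2 * w))) ψ hψ z
    rw [Finset.sum_eq_single 0 (fun c _ hc => ?_) (by simp)] at h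
    · simp only [valueAt, zero_mul, neg_zero, AddChar.map_zero_eq_one, mul_one,
        Finset.sum_const, Finset.card_univ, Fintype.card_fin, nsmul_eq_mul] at h
      have h' : finrank ℂ (Fin n → ℂ) = 2 * w * (Finset.univ.filter fun i =>
        (t i : ZMod (2 * w)) = z).card := by exact_mod_cast h
      exact (Nat.eq_of_mul_eq_mul_left (by omega)
        (((finrank_fin_fun ℂ).trans (hn.trans hdeg)).symm.trans h')).symm
    · have hc' : valueAt (fun i => (t i : ZMod (2 * w))) ψ c = (χ : G → ℂ) (g ^ c.val) := by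
        rw [← hρ, hval]
        refine Finset.sum_congr rfl fun i _ => ?_
        rw [← ht i, hψdef, AddChar.zmodChar_apply, ← pow_mul, ZMod.val_mul, ZMod.val_natCast,
          Nat.mod_eq_of_lt (ht' i), ← pow_eq_pow_mod _ hω.pow_eq_one, mul_comm]
      rw [hc', hzero _ (Nat.pos_of_ne_zero fun h => hc ((ZMod.val_eq_zero c).1 h)) (ZMod.val_lt c),
        zero_mul]
  refine ⟨(LinearMap.det.comp ρ).toHomUnits, ?_⟩
  show LinearMap.det (ρ g) = -1
  rw [hdet, ← Finset.prod_fiberwise Finset.univ (fun i => (t i : ZMod (2 * w))),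
    Finset.prod_congr rfl (g := fun z : ZMod (2 * w) => (ω ^ z.val) ^ m) fun z _ => ?_,
    Finset.prod_pow, Finset.prod_pow_eq_pow_sum]
  · have hsum : ∑ z : ZMod (2 * w), z.val = ∑ k ∈ Finset.range (2 * w), k :=
      Finset.sum_bij' (fun z _ => z.val) (fun k _ => (k : ZMod (2 * w)))
        (fun z _ => Finset.mem_range.2 (ZMod.val_lt z)) (fun _ _ => Finset.mem_univ _)
        (fun z _ => ZMod.natCast_zmod_val z)
        (fun k hk => ZMod.val_cast_of_lt (Finset.mem_range.1 hk)) (fun _ _ => rfl)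
    have h2 : ω ^ w = -1 := by
      have h3 : IsPrimitiveRoot (ω ^ w) 2 := hω.pow (by omega) (mul_comm 2 w)
      exact h3.eq_neg_one_of_two_right
    rw [hsum, Finset.sum_range_id, mul_assoc, Nat.mul_div_cancel_left _ (by norm_num),
      pow_mul, h2, ← pow_mul]
    exact (Odd.mul (Nat.Even.sub_odd (by omega) (even_two_mul w) odd_one) hm).neg_one_pow
  · rw [← hcnt z]
    refine Finset.prod_eq_pow_card fun i hi => ?_
    rw [← ht i, ← (Finset.mem_filter.1 hi).2, ZMod.val_natCast, Nat.mod_eq_of_lt (ht' i)]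

/-- A character of degree `p - 1` forces `t` even or the derived subgroup of even index. -/
theorem even_or_even_index (hx : orderOf x = p)
    (hC : Subgroup.centralizer ({x} : Set G) = Subgroup.zpowers x)
    (χ : Cfsg.IrrCharacter G) (hχ : Cfsg.charDegree (χ : G → ℂ) + 1 = p) :
    Even (Nat.card {C : ConjClasses G // ∃ g ∈ C.carrier, orderOf g = p}) ∨
      Even (commutator G).index := by
  classical
  have hp := (Fact.out : p.Prime)
  set T := Nat.card {C : ConjClasses G // ∃ g ∈ C.carrier, orderOf g = p} with hT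
  set N := Subgroup.normalizer (Subgroup.zpowers x : Set G) with hN
  have hte : T * (Subgroup.zpowers x).relIndex N = p - 1 := count_classes hx hC
  by_cases h2 : p = 2
  · subst h2
    rcases commutator_cases hx hC with ⟨-, h, -⟩ | ⟨-, -, h⟩
    · exact Or.inr (h ▸ even_two)
    · have h1 : (Subgroup.zpowers x).relIndex N = 1 := Nat.eq_one_of_mul_eq_one_left (m := T) hte
      exact absurd (le_antisymm (Subgroup.relIndex_eq_one.1 h1) Subgroup.le_normalizer) h
  refine (Nat.even_or_odd T).imp id fun hodd => ?_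
  have : Fact (Nat.Prime 2) := ⟨Nat.prime_two⟩
  obtain ⟨Q⟩ : Nonempty (Sylow 2 N) := inferInstance
  have hpodd : Odd p := hp.odd_of_ne_two h2
  have hcardN : Nat.card N = p * (Subgroup.zpowers x).relIndex N := by
    have h := Subgroup.relIndex_mul_relIndex (⊥ : Subgroup G) (Subgroup.zpowers x) N bot_le
      Subgroup.le_normalizer
    rw [Subgroup.relIndex_bot_left, Subgroup.relIndex_bot_left, Nat.card_zpowers, hx] at h
    exact h.symm
  obtain ⟨v, hv⟩ := IsPGroup.iff_card.1 Q.isPGroup'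
  have hqe : 2 ^ v ∣ (Subgroup.zpowers x).relIndex N := by
    refine (Nat.Coprime.pow_left v (Nat.coprime_two_left.2 hpodd)).dvd_of_dvd_mul_left ?_
    rw [← hv, ← hcardN]
    exact Subgroup.card_subgroup_dvd_card _
  obtain ⟨m, hm⟩ := hqe
  have hmodd : Odd m := by
    rw [Nat.odd_iff, ← Nat.two_dvd_ne_zero]
    intro hd
    refine Q.not_dvd_index ?_
    have h1 := Subgroup.card_mul_index (Q : Subgroup N)
    rw [hcardN, hm, hv, mul_left_comm] at h1
    rw [Nat.eq_of_mul_eq_mul_left (by positivity) h1]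
    exact hd.mul_left p
  obtain ⟨w, hw⟩ : ∃ w, 2 ^ v = 2 * w := by
    rcases Nat.eq_zero_or_pos v with rfl | hv0
    · exfalso
      rw [pow_zero, one_mul] at hm
      have h : Odd (p - 1) := hte ▸ hodd.mul (hm ▸ hmodd)
      exact (Nat.not_even_iff_odd.2 h) (Nat.Odd.sub_odd hpodd odd_one)
    · exact ⟨2 ^ (v - 1), by rw [← pow_succ', Nat.sub_add_cancel hv0]⟩
  -- the Sylow 2-subgroup of the normalizer is cyclic
  let act : (Q : Subgroup N) →* MulAut (Subgroup.zpowers x) :=
    (Subgroup.normalizerMonoidHom (Subgroup.zpowers x)).comp (Q : Subgroup N).subtype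
  have hact : Function.Injective act := by
    rw [injective_iff_map_eq_one]
    intro a ha
    have h1 := congrArg (fun f : MulAut (Subgroup.zpowers x) =>
      ((f ⟨x, Subgroup.mem_zpowers x⟩ : Subgroup.zpowers x) : G)) ha
    have h2 : ((a : N) : G) * x * ((a : N) : G)⁻¹ = x := by simpa [act] using h1
    have h3 : ((a : N) : G) ∈ Subgroup.zpowers x := by
      rw [← hC, Subgroup.mem_centralizer_singleton_iff]
      exact mul_inv_eq_iff_eq_mul.1 h2
    have h4 : orderOf a ∣ p := by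
      rw [← Subgroup.orderOf_coe, ← Subgroup.orderOf_coe, ← hx]
      exact orderOf_dvd_of_mem_zpowers h3
    have h5 : orderOf a ∣ 2 ^ v := hv ▸ orderOf_dvd_natCard a
    exact orderOf_eq_one_iff.1 (Nat.eq_one_of_dvd_coprimes
      (Nat.Coprime.pow_left v (Nat.coprime_two_left.2 hpodd)) h5 h4)
  have : IsCyclic (Subgroup.zpowers x) := inferInstance
  have : IsCyclic (ZMod (Nat.card (Subgroup.zpowers x)))ˣ := by
    rw [Nat.card_zpowers, hx]
    exact ZMod.isCyclic_units_prime hp
  have : IsCyclic (Q : Subgroup N) := isCyclic_of_injective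
    ((IsCyclic.mulAutMulEquiv (Subgroup.zpowers x)).toMonoidHom.comp act)
    ((IsCyclic.mulAutMulEquiv (Subgroup.zpowers x)).injective.comp hact)
  obtain ⟨a, ha⟩ := IsCyclic.exists_generator (α := (Q : Subgroup N))
  have hoa : orderOf ((a : N) : G) = 2 * w := by
    rw [Subgroup.orderOf_coe, Subgroup.orderOf_coe, orderOf_eq_card_of_forall_mem_zpowers ha,
      ← hw, ← hv]
  have hzero : ∀ j, 0 < j → j < 2 * w → (χ : G → ℂ) (((a : N) : G) ^ j) = 0 := by
    intro j hj0 hj
    refine apply_eq_zero hx hC h2 (pow_mem (a : N).2 j) (fun hmem => ?_) χ hχ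
    have h1 : ((a : N) : G) ^ j ≠ 1 := fun h =>
      absurd (Nat.le_of_dvd hj0 (orderOf_dvd_of_pow_eq_one h)) (by omega)
    have h3 : orderOf (((a : N) : G) ^ j) ∣ p := hx ▸ orderOf_dvd_of_mem_zpowers hmem
    have h4 : orderOf (((a : N) : G) ^ j) ∣ 2 ^ v :=
      (orderOf_pow_dvd j).trans (by rw [hoa, hw])
    exact h1 (orderOf_eq_one_iff.1 (Nat.eq_one_of_dvd_coprimes
      (Nat.Coprime.pow_left v (Nat.coprime_two_left.2 hpodd)) h4 h3))
  have hw0 : 0 < w := by
    have := Nat.two_pow_pos v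
    omega
  obtain ⟨l, hl⟩ := det_eq_neg_one hoa hw0 (hodd.mul hmodd) χ (by
    rw [← hw]
    have : Cfsg.charDegree (χ : G → ℂ) = p - 1 := by omega
    rw [this, ← hte, hm]
    ring) hzero
  have hnot : ((a : N) : G) ∉ commutator G := fun h => by
    rw [MonoidHom.mem_ker.1 (Abelianization.commutator_subset_ker l h), Units.val_one] at hl
    norm_num at hl
  rw [even_iff_two_dvd, Subgroup.index_eq_card]
  have hdvd : orderOf (((a : N) : G) : G ⧸ commutator G) ∣ 2 ^ v := by
    rw [hw, ← hoa]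
    exact orderOf_map_dvd (QuotientGroup.mk' (commutator G)) _
  obtain ⟨j, -, hj⟩ := (Nat.dvd_prime_pow Nat.prime_two).1 hdvd
  have hj0 : j ≠ 0 := fun h => hnot ((QuotientGroup.eq_one_iff _).1
    (orderOf_eq_one_iff.1 (by rw [hj, h, pow_zero])))
  exact (hj ▸ dvd_pow_self 2 hj0 : 2 ∣ orderOf (((a : N) : G) : G ⧸ commutator G)).trans
    (orderOf_dvd_natCard _)

end CfsgLib.SelfCentralPrime
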