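import Cfsg.Agent.Lib.CharDegree.SelfCentralPrimeClasses

/-! # When the number of Sylow subgroups is the order of a normal subgroup -/

set_option autoImplicit false

namespace CfsgLib.SelfCentralPrime

variable {G : Type*} [Group G] [Finite G] {p : ℕ} [Fact p.Prime] {x : G}

theorem commutator_le_sylow_count (hx : orderOf x = p)
    (hC : Subgroup.centralizer ({x} : Set G) = Subgroup.zpowers x) {n : ℕ}
    (hN : (Subgroup.normalizer (Subgroup.zpowers x : Set G)).index = 1 + n * p)
    (S : Subgroup G) [S.Normal] (hS : Nat.card S = 1 + n * p) :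
    derivedSeries G 2 ≤ S := by
  have hp := (Fact.out : p.Prime)
  have hpS : ¬ p ∣ Nat.card S := fun h => hp.not_dvd_one (by
    rw [hS] at h; exact (Nat.dvd_add_left (dvd_mul_left p n)).1 h)
  set N := Subgroup.normalizer (Subgroup.zpowers x : Set G) with hNdef
  have hdis : Disjoint S N := by
    rw [Subgroup.disjoint_def]
    intro s hs hsN
    refine eq_one_of_mem hx hC S hpS hs ?_
    have h1 : s * x * s⁻¹ * x⁻¹ ∈ Subgroup.zpowers x :=
      mul_mem ((Subgroup.mem_normalizer_iff.1 hsN x).1 (Subgroup.mem_zpowers x))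
        (inv_mem (Subgroup.mem_zpowers x))
    have h2 : s * x * s⁻¹ * x⁻¹ ∈ S := by
      rw [mul_assoc, mul_assoc, ← mul_assoc x]
      exact mul_mem hs (Subgroup.Normal.conj_mem ‹_› _ (inv_mem hs) x)
    obtain ⟨k, hk⟩ := h1
    have hcx : s * x * s⁻¹ * x⁻¹ * x = x * (s * x * s⁻¹ * x⁻¹) := by
      rw [← hk]
      exact ((Commute.refl x).zpow_left k).eq
    exact mul_inv_eq_iff_eq_mul.1 (mul_inv_eq_one.1 (eq_one_of_mem hx hC S hpS h2 hcx))
  have hsup : S ⊔ N = ⊤ := (Subgroup.isComplement'_of_card_mul_and_disjoint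
    (by rw [hS, ← hN, mul_comm, Subgroup.card_mul_index]) hdis).sup_eq_top
  set T := S ⊔ Subgroup.zpowers x with hT
  have hTn : T.Normal := by
    rw [← Subgroup.normalizer_eq_top_iff, eq_top_iff, ← hsup, sup_le_iff]
    refine ⟨le_sup_left.trans Subgroup.le_normalizer, fun g hg => ?_⟩
    rw [Subgroup.mem_normalizer_iff_map_conj_eq, hT, Subgroup.map_sup,
      Subgroup.mem_normalizer_iff_map_conj_eq.1 hg]
    refine congrArg (· ⊔ Subgroup.zpowers x) ?_
    exact Subgroup.mem_normalizer_iff_map_conj_eq.1 (by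
      rw [Subgroup.normalizer_eq_top S]; exact Subgroup.mem_top g)
  have hle := (commutator_le hx hC T (by
    rw [← hx]
    exact Subgroup.orderOf_dvd_natCard _
      (Subgroup.mem_sup_right (Subgroup.mem_zpowers x) : x ∈ T))).2
  rw [derivedSeries_succ, derivedSeries_one, Subgroup.commutator_le]
  intro a ha b hb
  obtain ⟨s, hs, u, hu, rfl⟩ := Subgroup.mem_sup_of_normal_left.1 (hle ha)
  obtain ⟨t, ht, v, hv, rfl⟩ := Subgroup.mem_sup_of_normal_left.1 (hle hb)
  obtain ⟨i, rfl⟩ := hu
  obtain ⟨j, rfl⟩ := hv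
  rw [← QuotientGroup.eq_one_iff]
  simp only [commutatorElement_def, QuotientGroup.mk_mul, QuotientGroup.mk_inv,
    (QuotientGroup.eq_one_iff s).2 hs, (QuotientGroup.eq_one_iff t).2 ht, one_mul,
    QuotientGroup.mk_zpow, ← zpow_neg, ← zpow_add]
  simp

theorem derived_two (hx : orderOf x = p)
    (hC : Subgroup.centralizer ({x} : Set G) = Subgroup.zpowers x) {n : ℕ}
    (hn : Nat.card {H : Subgroup G // Nat.card H = p} = 1 + n * p)
    (hxG : x ∈ commutator G) (h2 : derivedSeries G 2 ≠ derivedSeries G 1) :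
    Nat.card (derivedSeries G 2) = 1 + n * p ∧ Nat.card (commutator G) = p * (1 + n * p) := by
  classical
  have hp := (Fact.out : p.Prime)
  set D := commutator G with hD
  let y : D := ⟨x, hxG⟩
  have hy : orderOf y = p := by rw [← hx]; exact Subgroup.orderOf_mk x hxG
  have hCy : Subgroup.centralizer ({y} : Set D) = Subgroup.zpowers y := by
    ext d
    constructor
    · intro hd
      have h : (d : G) ∈ Subgroup.zpowers x := by
        rw [← hC, Subgroup.mem_centralizer_singleton_iff]
        exact congrArg Subtype.val (Subgroup.mem_centralizer_singleton_iff.1 hd)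
      obtain ⟨k, hk⟩ := h
      exact ⟨k, Subtype.ext hk⟩
    · rintro ⟨k, rfl⟩
      rw [Subgroup.mem_centralizer_singleton_iff]
      exact (Commute.refl y).zpow_left k
  have hmap : (commutator D).map D.subtype = derivedSeries G 2 := by
    rw [Subgroup.map_subtype_commutator, derivedSeries_succ, derivedSeries_one]
  have hcard : Nat.card (derivedSeries G 2) = Nat.card (commutator D) := by
    rw [← hmap, Subgroup.card_subtype]
  have hsub : Nat.card {H : Subgroup D // Nat.card H = p} = 1 + n * p := by
    rw [← hn]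
    have hall : ∀ H : Subgroup G, Nat.card H = p → H ≤ D := fun H hH h hh => by
      obtain ⟨P, hP⟩ := exists_sylow hx hC
      obtain ⟨Q, hQ⟩ := (IsPGroup.of_card (n := 1) (by rw [hH, pow_one]) :
        IsPGroup p H).exists_le_sylow
      obtain ⟨g, hg⟩ := MulAction.exists_smul_eq G P Q
      have hhQ : h ∈ (Q : Subgroup G) := hQ hh
      rw [← hg, Sylow.coe_subgroup_smul, Subgroup.mem_pointwise_smul_iff_inv_smul_mem, hP] at hhQ
      have hh' : (MulAut.conj g)⁻¹ • h ∈ D := Subgroup.zpowers_le.2 hxG hhQ
      simp only [MulAut.smul_def, MulAut.conj_inv_apply] at hh'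
      simpa [mul_assoc] using (inferInstance : D.Normal).conj_mem _ hh' g
    exact Nat.card_congr
      { toFun := fun H => ⟨H.1.map D.subtype, by rw [Subgroup.card_subtype]; exact H.2⟩
        invFun := fun H => ⟨H.1.subgroupOf D, by
          rw [Nat.card_congr (Subgroup.subgroupOfEquivOfLe (hall H.1 H.2)).toEquiv]; exact H.2⟩
        left_inv := fun H => Subtype.ext (Subgroup.comap_map_eq_self_of_injective
          D.subtype_injective H.1)
        right_inv := fun H => Subtype.ext (by
          show (H.1.subgroupOf D).map D.subtype = H.1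
          rw [Subgroup.subgroupOf, Subgroup.map_comap_eq, Subgroup.range_subtype,
            inf_eq_right.2 (hall H.1 H.2)]) }
  rcases commutator_cases hy hCy with ⟨-, hidx, hNy⟩ | ⟨hmem, -, -⟩
  · have hN := card_subgroups_eq_index hy hCy
    rw [hsub, hNy] at hN
    have h1 := Subgroup.card_mul_index (Subgroup.zpowers y)
    rw [← hN, Nat.card_zpowers, hy] at h1
    have h3 := Subgroup.card_mul_index (commutator D)
    rw [hidx, ← h1, mul_comm p] at h3
    exact ⟨hcard.trans (Nat.eq_of_mul_eq_mul_right hp.pos h3), h1.symm⟩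
  · refine absurd (le_antisymm (derivedSeries_antitone G one_le_two) ?_) h2
    have : (derivedSeries G 2).Normal := derivedSeries_normal G 2
    rw [derivedSeries_one]
    refine (commutator_le hx hC _ ?_).2
    rw [hcard, ← hy]
    exact Subgroup.orderOf_dvd_natCard _ hmem

theorem normal_sylow_count (hx : orderOf x = p)
    (hC : Subgroup.centralizer ({x} : Set G) = Subgroup.zpowers x) {t n : ℕ}
    (ht : Nat.card {C : ConjClasses G // ∃ g ∈ C.carrier, orderOf g = p} = t)
    (hn : Nat.card {H : Subgroup G // Nat.card H = p} = 1 + n * p) :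
    ((∃ S : Subgroup G, S.Normal ∧ Nat.card S = 1 + n * p) ↔
      (t = p - 1 ∨ (t < p - 1 ∧ derivedSeries G 2 ≠ derivedSeries G 1))) ∧
    (t = p - 1 → Nat.card (commutator G) = 1 + n * p ∧ IsCyclic (G ⧸ commutator G) ∧
      (commutator G).index = p) ∧
    (t < p - 1 → derivedSeries G 2 ≠ derivedSeries G 1 →
      Nat.card (derivedSeries G 2) = 1 + n * p ∧ Nat.card (commutator G) = p * (1 + n * p)) := by
  have hp := (Fact.out : p.Prime)
  have hp2 := hp.two_le
  set N := Subgroup.normalizer (Subgroup.zpowers x : Set G) with hNdef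
  have hte : t * (Subgroup.zpowers x).relIndex N = p - 1 := ht ▸ count_classes hx hC
  have hN : N.index = 1 + n * p := (card_subgroups_eq_index hx hC).symm.trans hn
  have hiff : t = p - 1 ↔ N = Subgroup.zpowers x := by
    constructor
    · intro h
      refine le_antisymm (Subgroup.relIndex_eq_one.1 ?_) Subgroup.le_normalizer
      rw [h] at hte
      exact Nat.eq_of_mul_eq_mul_left (show 0 < p - 1 by omega) (hte.trans (mul_one _).symm)
    · intro h
      rw [h, Subgroup.relIndex_self, mul_one] at hte
      exact hte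
  have htlt : t ≠ p - 1 → t < p - 1 := fun h => lt_of_le_of_ne
    (Nat.le_of_dvd (by omega) ⟨_, hte.symm⟩) h
  have hone : t = p - 1 → Nat.card (commutator G) = 1 + n * p ∧ IsCyclic (G ⧸ commutator G) ∧
      (commutator G).index = p := fun h => by
    rcases commutator_cases hx hC with ⟨-, hidx, -⟩ | ⟨-, -, hne⟩
    · refine ⟨?_, isCyclic_of_prime_card (p := p) (by rw [← Subgroup.index_eq_card, hidx]), hidx⟩
      have h1 := Subgroup.card_mul_index (commutator G)
      have h2 := Subgroup.card_mul_index (Subgroup.zpowers x)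
      rw [hidx] at h1
      rw [Nat.card_zpowers, hx, ← hiff.1 h, hN] at h2
      exact Nat.eq_of_mul_eq_mul_right hp.pos (h1.trans (h2.symm.trans (mul_comm _ _)))
    · exact absurd (hiff.1 h) hne
  have htwo : t < p - 1 → derivedSeries G 2 ≠ derivedSeries G 1 →
      Nat.card (derivedSeries G 2) = 1 + n * p ∧ Nat.card (commutator G) = p * (1 + n * p) := by
    intro h h2
    rcases commutator_cases hx hC with ⟨-, -, he⟩ | ⟨hxG, -, -⟩
    · exact absurd (hiff.2 he) h.ne
    · exact derived_two hx hC hn hxG h2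
  refine ⟨⟨?_, ?_⟩, hone, htwo⟩
  · rintro ⟨S, hSn, hS⟩
    by_cases h : t = p - 1
    · exact Or.inl h
    refine Or.inr ⟨htlt h, fun he => ?_⟩
    rcases commutator_cases hx hC with ⟨-, -, he'⟩ | ⟨hxG, -, -⟩
    · exact h (hiff.2 he')
    · have hxS : x ∈ S := commutator_le_sylow_count hx hC hN S hS (by
        rw [he, derivedSeries_one]; exact hxG)
      have h1 := Subgroup.orderOf_dvd_natCard S hxS
      rw [hx, hS] at h1
      exact hp.not_dvd_one ((Nat.dvd_add_left (dvd_mul_left p n)).1 h1)
  · rintro (h | ⟨h, h2⟩)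
    · exact ⟨commutator G, inferInstance, (hone h).1⟩
    · exact ⟨derivedSeries G 2, derivedSeries_normal G 2, (htwo h h2).1⟩

end CfsgLib.SelfCentralPrime
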