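import Cfsg.Agent.Lib.CharDegree.ClassTwoDegree
import Cfsg.Agent.Lib.Char.CliffordCorr
import Cfsg.Agent.Lib.PLocal.PSolvable
import Cfsg.Agent.Lib.Core.Coprime
import Cfsg.Agent.Lib.Core.SolvableStruct
import Cfsg.Agent.Lib.Core.MinNormal

/-!
# Linear groups with a nonnormal Sylow `p`-subgroup

`irreducible_solvable`: for solvable `G` some prime power dividing the degree is `0` or `±1` mod `p`.
`pSolvable_small`: for `p`-solvable `G` of degree `n ≤ p - 1`, `n = p - 1` is a power of 2.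
-/

set_option autoImplicit false

namespace CfsgLib.SmallLinear

open scoped ComplexConjugate commutatorElement
open CfsgLib.Char

universe u

variable {G : Type u} [Group G] [Finite G] {p q : ℕ}

/-- Inside a `q`-group that is not centralised, a subgroup of class at most 2 that is not
centralised. -/
theorem exists_class_two [Fact p.Prime] [Fact q.Prime] (hpq : p ≠ q) (E : Subgroup G)
    (hE : IsPGroup q E) (K : Subgroup G) (hKE : ∀ g ∈ K, ∀ e ∈ E, g * e * g⁻¹ ∈ E) (X : Set G)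
    (hXK : X ⊆ (K : Set G)) (hX : ∀ x ∈ X, ∃ k, x ^ (p ^ k) = 1)
    (hXc : ∀ g ∈ K, ∀ x ∈ X, g * x * g⁻¹ ∈ X) (hne : ∃ x ∈ X, ∃ e ∈ E, x * e ≠ e * x) :
    ∃ R : Subgroup G, R ≤ E ∧ (∀ g ∈ K, ∀ r ∈ R, g * r * g⁻¹ ∈ R) ∧
      (∃ x ∈ X, ∃ r ∈ R, x * r ≠ r * x) ∧
      ∀ a ∈ R, ∀ b ∈ R, ∀ c ∈ R, a * b * a⁻¹ * b⁻¹ * c = c * (a * b * a⁻¹ * b⁻¹) := by
  classical
  obtain ⟨R, ⟨hRE, hRK, hRne⟩, hmin⟩ := WellFounded.has_min
    (wellFounded_lt (α := Subgroup G))
    {R : Subgroup G | R ≤ E ∧ (∀ g ∈ K, ∀ r ∈ R, g * r * g⁻¹ ∈ R) ∧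
      ∃ x ∈ X, ∃ r ∈ R, x * r ≠ r * x}
    ⟨E, le_rfl, hKE, hne⟩
  refine ⟨R, hRE, hRK, hRne, ?_⟩
  have hfixlt : ∀ S : Subgroup G, S < R → (∀ g ∈ K, ∀ r ∈ S, g * r * g⁻¹ ∈ S) →
      ∀ x ∈ X, ∀ r ∈ S, x * r = r * x := by
    intro S hS hSK x hx r hr
    by_contra h
    exact hmin S ⟨hS.le.trans hRE, hSK, x, hx, r, hr, h⟩ hS
  set D := Subgroup.closure {c | ∃ x ∈ X, ∃ r ∈ R, c = r⁻¹ * (x * r * x⁻¹)} with hD
  have hDR : D ≤ R := (Subgroup.closure_le R).2 (by
    rintro _ ⟨x, hx, r, hr, rfl⟩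
    exact mul_mem (inv_mem hr) (hRK x (hXK hx) r hr))
  have hDK : ∀ g ∈ K, ∀ r ∈ D, g * r * g⁻¹ ∈ D := by
    intro g hg
    have hle : D ≤ D.comap (MulAut.conj g).toMonoidHom := (Subgroup.closure_le _).2 (by
      rintro _ ⟨x, hx, r, hr, rfl⟩
      refine Subgroup.subset_closure ⟨g * x * g⁻¹, hXc g hg x hx, g * r * g⁻¹, hRK g hg r hr, ?_⟩
      simp [mul_assoc])
    exact fun r hr => hle hr
  have hDeq : D = R := by
    by_contra hne'
    have hfix := hfixlt D (lt_of_le_of_ne hDR hne') hDK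
    obtain ⟨x, hx, r, hr, hne⟩ := hRne
    obtain ⟨k, hk⟩ := hX x hx
    have hcD : r⁻¹ * (x * r * x⁻¹) ∈ D := Subgroup.subset_closure ⟨x, hx, r, hr, rfl⟩
    obtain ⟨j, hj⟩ := hE ⟨_, hRE (hDR hcD)⟩
    have hc : r⁻¹ * (x * r * x⁻¹) = 1 := by
      refine eq_one_of_step (MulAut.conj x) (b := r) (by simp) ?_ (m := p ^ k) ?_
        (congrArg Subtype.val hj)
        (Nat.Coprime.pow _ _ ((Nat.coprime_primes Fact.out Fact.out).2 hpq))
      · rw [MulAut.conj_apply, hfix x hx _ (Subgroup.subset_closure ⟨x, hx, r, hr, rfl⟩),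
          mul_inv_cancel_right]
      · rw [← map_pow, hk, map_one]
    exact hne (mul_inv_eq_iff_eq_mul.1 (inv_mul_eq_one.1 hc).symm)
  have hRbot : R ≠ ⊥ := by
    rintro rfl
    obtain ⟨x, -, r, hr, hne⟩ := hRne
    rw [Subgroup.mem_bot.1 hr, mul_one, one_mul] at hne
    exact hne rfl
  have hlt : ⁅R, R⁆ < R := by
    have hn : Group.IsNilpotent R := (hE.to_le hRE).isNilpotent
    exact Core.commutator_self_lt inferInstance hRbot
  have hC : ∀ g ∈ K, ∀ r ∈ ⁅R, R⁆, g * r * g⁻¹ ∈ ⁅R, R⁆ := by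
    intro g hg
    have hle : ⁅R, R⁆ ≤ ⁅R, R⁆.comap (MulAut.conj g).toMonoidHom :=
      Subgroup.commutator_le.2 fun a ha b hb => by
        show MulAut.conj g ⁅a, b⁆ ∈ ⁅R, R⁆
        rw [map_commutatorElement]
        exact Subgroup.commutator_mem_commutator (hRK g hg a ha) (hRK g hg b hb)
    exact fun r hr => hle hr
  have hfix := hfixlt _ hlt hC
  intro a ha b hb c hc
  have hab : a * b * a⁻¹ * b⁻¹ ∈ ⁅R, R⁆ := Subgroup.commutator_mem_commutator ha hb
  generalize a * b * a⁻¹ * b⁻¹ = d at hab ⊢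
  have hdR : d ∈ R := hlt.le hab
  have hle : D ≤ Subgroup.centralizer ({d} : Set G) := (Subgroup.closure_le _).2 (by
    rintro _ ⟨x, hx, r, hr, rfl⟩
    refine Subgroup.mem_centralizer_singleton_iff.2 ?_
    have hxd : x * d * x⁻¹ = d := mul_inv_eq_iff_eq_mul.2 (hfix x hx d hab)
    have h1 : r * d * r⁻¹ * d⁻¹ ∈ ⁅R, R⁆ := Subgroup.commutator_mem_commutator hr hdR
    have h2 : x * (r * d * r⁻¹ * d⁻¹) * x⁻¹ = r * d * r⁻¹ * d⁻¹ :=
      mul_inv_eq_iff_eq_mul.2 (hfix x hx _ h1)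
    have h3 : (x * r * x⁻¹) * d * (x * r * x⁻¹)⁻¹ = r * d * r⁻¹ := by
      calc (x * r * x⁻¹) * d * (x * r * x⁻¹)⁻¹
          = x * (r * (x⁻¹ * d * x) * r⁻¹) * x⁻¹ := by group
        _ = x * (r * (x⁻¹ * (x * d * x⁻¹) * x) * r⁻¹) * x⁻¹ := by rw [hxd]
        _ = x * (r * d * r⁻¹ * d⁻¹) * x⁻¹ * (x * d * x⁻¹) := by group
        _ = r * d * r⁻¹ := by rw [h2, hxd, inv_mul_cancel_right]
    calc r⁻¹ * (x * r * x⁻¹) * d
        = r⁻¹ * ((x * r * x⁻¹) * d * (x * r * x⁻¹)⁻¹) * (x * r * x⁻¹) := by group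
      _ = d * (r⁻¹ * (x * r * x⁻¹)) := by rw [h3]; group)
  exact (Subgroup.mem_centralizer_singleton_iff.1 (hle (hDeq.symm ▸ hc : c ∈ D))).symm

theorem degree_constituent_le {R : Subgroup G} [Fintype R] {χ : G → ℂ}
    (hχ : Cfsg.IsCharacter G χ) {θ : Cfsg.IrrCharacter R}
    (h : Cfsg.classInner (fun r : R => χ r) (θ : R → ℂ) ≠ 0) :
    Cfsg.charDegree (θ : R → ℂ) ≤ Cfsg.charDegree χ := by
  classical
  have := Fintype.ofFinite (Cfsg.IrrCharacter R)
  obtain ⟨m, hm⟩ := IsChar.exists_sum (IsChar.restrict R hχ)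
  rw [hm, classInner_sum_irr] at h
  have h1 := congrFun hm 1
  simp only [OneMemClass.coe_one, Finset.sum_apply, Pi.smul_apply, smul_eq_mul,
    ← CharDegree.cast_irrDegree, ← CharDegree.cast_charDegree hχ] at h1
  have h2 : Cfsg.charDegree χ =
      ∑ ψ : Cfsg.IrrCharacter R, m ψ * Cfsg.charDegree (ψ : R → ℂ) := by exact_mod_cast h1
  rw [h2]
  refine le_trans ?_ (Finset.single_le_sum (fun _ _ => Nat.zero_le _) (Finset.mem_univ θ))
  exact Nat.le_mul_of_pos_left _ (Nat.pos_of_ne_zero fun h0 => h (by simp [h0]))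

/-- A noncentralised class 2 subgroup gives a moved constituent or a congruence for a prime power
dividing the degree of a constituent. -/
theorem constituent_cases [Fact p.Prime] [Fact q.Prime] (hpq : p ≠ q) {χ : G → ℂ}
    (hχ : Cfsg.IsCharacter G χ) (hfaith : ∀ g, χ g = χ 1 → g = 1) (R : Subgroup G) [Fintype R]
    (hR : IsPGroup q R)
    (hcl : ∀ a ∈ R, ∀ b ∈ R, ∀ c ∈ R, a * b * a⁻¹ * b⁻¹ * c = c * (a * b * a⁻¹ * b⁻¹))
    {x : G} {k : ℕ} (hx : x ^ (p ^ k) = 1) (hxR : ∀ r ∈ R, x * r * x⁻¹ ∈ R)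
    (hne : ∃ r ∈ R, x * r ≠ r * x) :
    ∃ θ : Cfsg.IrrCharacter R, Cfsg.classInner (fun r : R => χ r) (θ : R → ℂ) ≠ 0 ∧
      ((∃ r : R, (θ : R → ℂ) ⟨x * r * x⁻¹, hxR r r.2⟩ ≠ (θ : R → ℂ) r) ∨
        ∃ b, 0 < b ∧ q ^ b ∣ Cfsg.charDegree (θ : R → ℂ) ∧
          (q ^ b % p = 1 ∨ q ^ (2 * b) % p = 1)) := by
  classical
  have := Fintype.ofFinite (Cfsg.IrrCharacter R)
  obtain ⟨r₀, hr₀, hr₀ne⟩ := hne
  set c : R := (⟨r₀, hr₀⟩ : R)⁻¹ * ⟨x * r₀ * x⁻¹, hxR r₀ hr₀⟩ with hc
  obtain ⟨θ, hθ, hθc⟩ : ∃ θ : Cfsg.IrrCharacter R,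
      Cfsg.classInner (fun r : R => χ r) (θ : R → ℂ) ≠ 0 ∧ (θ : R → ℂ) c ≠ (θ : R → ℂ) 1 := by
    by_contra hno
    push Not at hno
    have hc1 : (c : G) = 1 := by
      refine hfaith _ ?_
      obtain ⟨m, hm⟩ := IsChar.exists_sum (IsChar.restrict R hχ)
      show (fun r : R => χ r) c = (fun r : R => χ r) 1
      refine (congrFun hm _).trans (Eq.trans ?_ (congrFun hm 1).symm)
      simp only [Finset.sum_apply, Pi.smul_apply, smul_eq_mul]
      refine Finset.sum_congr rfl fun θ _ => ?_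
      by_cases h0 : m θ = 0
      · simp [h0]
      · rw [hno θ]
        rw [hm, classInner_sum_irr]
        exact Nat.cast_ne_zero.2 h0
    rw [hc, Subgroup.coe_mul, Subgroup.coe_inv] at hc1
    exact hr₀ne (mul_inv_eq_iff_eq_mul.1 (inv_mul_eq_one.1 hc1).symm)
  refine ⟨θ, hθ, or_iff_not_imp_left.2 fun hfix => ?_⟩
  push Not at hfix
  let φ : MulAut R := restrictAut (MulAut.conj x : MulAut G) R hxR
  have hφθ : ∀ r : R, (θ : R → ℂ) (φ r) = (θ : R → ℂ) r := hfix
  have hpow : ∀ (j : ℕ) (r : R), (((φ ^ j) r : R) : G) = x ^ j * r * (x ^ j)⁻¹ := by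
    intro j
    induction j with
    | zero => intro r; simp
    | succ j ih =>
      intro r
      rw [pow_succ', MulAut.mul_apply]
      show MulAut.conj x (((φ ^ j) r : R) : G) = _
      rw [ih, MulAut.conj_apply, pow_succ' x]
      group
  set K := CharDegree.kerSubgroup θ with hK
  have hKn : K.Normal := CharDegree.kerSubgroup_normal θ
  have hKmem : ∀ r, r ∈ K ↔ (θ : R → ℂ) r = (θ : R → ℂ) 1 := fun r => CharDegree.mem_kerSubgroup
  have hmap : K.map φ.toMonoidHom = K := by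
    ext r
    constructor
    · rintro ⟨s, hs, rfl⟩
      exact (hKmem _).2 ((hφθ s).trans ((hKmem s).1 hs))
    · intro hr
      refine ⟨φ.symm r, (hKmem _).2 ?_, φ.apply_symm_apply r⟩
      rw [← hφθ, φ.apply_symm_apply]
      exact (hKmem r).1 hr
  let φQ : MulAut (R ⧸ K) := QuotientGroup.congr _ _ φ hmap
  have hQpow : ∀ (j : ℕ) (r : R), (φQ ^ j) (r : R ⧸ K) = ((φ ^ j) r : R) := by
    intro j
    induction j with
    | zero => exact fun _ => rfl
    | succ j ih =>
      intro r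
      rw [pow_succ', pow_succ', MulAut.mul_apply, MulAut.mul_apply, ih]
      rfl
  have hφQ : φQ ^ (p ^ k) = 1 := by
    refine MulEquiv.ext fun v => ?_
    induction v using QuotientGroup.induction_on with
    | H r => rw [hQpow, MulAut.one_apply, show (φ ^ (p ^ k)) r = r from
        Subtype.ext (by rw [hpow, hx]; group)]
  obtain ⟨θ', hθ'⟩ := CharDegree.exists_infl K θ fun r hr => (hKmem r).1 hr
  have hval : ∀ r : R, (θ' : R ⧸ K → ℂ) r = (θ : R → ℂ) r := fun r => by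
    rw [← hθ']; rfl
  have hfaith' : ∀ v, (θ' : R ⧸ K → ℂ) v = (θ' : R ⧸ K → ℂ) 1 → v = 1 := fun v hv => by
    induction v using QuotientGroup.induction_on with
    | H r =>
      rw [← QuotientGroup.mk_one, hval, hval] at hv
      exact (QuotientGroup.eq_one_iff r).2 ((hKmem r).2 hv)
  have hcl' : ∀ u v : R ⧸ K, u * v * u⁻¹ * v⁻¹ ∈ Subgroup.center (R ⧸ K) := by
    intro u v
    induction u using QuotientGroup.induction_on with
    | H a =>
    induction v using QuotientGroup.induction_on with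
    | H b =>
    rw [Subgroup.mem_center_iff]
    intro w
    induction w using QuotientGroup.induction_on with
    | H d =>
    simp only [← QuotientGroup.mk_mul, ← QuotientGroup.mk_inv]
    exact congrArg _ (Subtype.ext (hcl a a.2 b b.2 d d.2).symm)
  have hfix' : ∀ v, (θ' : R ⧸ K → ℂ) (φQ v) = (θ' : R ⧸ K → ℂ) v := fun v => by
    induction v using QuotientGroup.induction_on with
    | H r =>
      show (θ' : R ⧸ K → ℂ) ((φ r : R) : R ⧸ K) = _
      rw [hval, hval]
      exact hφθ r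
  have hne' : ∃ v, φQ v ≠ v := by
    refine ⟨((⟨r₀, hr₀⟩ : R) : R ⧸ K), fun h => hθc ((hKmem c).1 ?_)⟩
    exact QuotientGroup.eq.1 h.symm
  obtain ⟨b, hb, hdvd, hmod⟩ :=
    exists_pow_dvd_degree (hR.to_quotient K) hpq φQ hφQ θ' hfaith' hcl' hfix' hne'
  refine ⟨b, hb, ?_, hmod⟩
  rwa [← CharDegree.charDegree_infl, hθ'] at hdvd

omit [Finite G] in
theorem relIndex_sup_eq [Finite G] (H C : Subgroup G) [C.Normal] :
    H.relIndex (H ⊔ C) = H.relIndex C := by
  have h1 := Subgroup.relIndex_mul_relIndex (H ⊓ C) H (H ⊔ C) inf_le_left le_sup_left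
  have h2 := Subgroup.relIndex_mul_relIndex (H ⊓ C) C (H ⊔ C) inf_le_right le_sup_right
  rw [Subgroup.inf_relIndex_left] at h1
  rw [Subgroup.inf_relIndex_right, Subgroup.relIndex_sup_right, ← h1, mul_comm] at h2
  exact (Nat.eq_of_mul_eq_mul_left (Nat.pos_of_ne_zero (Subgroup.index_ne_zero_of_finite
    (H := C.subgroupOf H))) h2).symm

/-- A `p`-element that is not in the core of a subgroup of a solvable group. -/
theorem exists_primePow_dvd_index [hp : Fact p.Prime] : ∀ (n : ℕ) {G : Type u} [Group G] [Finite G]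
    [Group.IsSolvable G], Nat.card G = n → ∀ (H : Subgroup G) {x : G} {k : ℕ}, x ^ (p ^ k) = 1 →
    x ∉ H.normalCore → ∃ q, IsPrimePow q ∧ q ∣ H.index ∧ (q % p = 0 ∨ q % p = 1) := by
  intro n
  induction n using Nat.strong_induction_on with
  | _ n ih =>
  intro G _ _ _ hn H x k hx hxH
  classical
  have hH : H ≠ ⊤ := by
    rintro rfl
    exact hxH (Subgroup.normal_le_normalCore.2 le_rfl (Subgroup.mem_top x))
  obtain ⟨M, hM, hHM⟩ := (eq_top_or_exists_le_coatom H).resolve_left hH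
  set C := M.normalCore with hC
  by_cases hxC : x ∈ C
  · -- induction in the core
    obtain ⟨g, hg⟩ : ∃ g : G, g * x * g⁻¹ ∉ H := by
      by_contra hno
      push Not at hno
      exact hxH hno
    have hy : g * x * g⁻¹ ∈ C := (M.normalCore_normal).conj_mem x hxC g
    have hCtop : C ≠ ⊤ := fun h => hM.1 (top_le_iff.1 (h ▸ M.normalCore_le))
    obtain ⟨q, hq1, hq2, hq3⟩ := ih _ (hn ▸ lt_of_le_of_ne (Subgroup.card_le_card_group C)
      fun h => hCtop (Subgroup.card_eq_iff_eq_top C |>.1 h)) (G := C) rfl (H.subgroupOf C)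
      (x := ⟨_, hy⟩) (k := k) (Subtype.ext (by
        rw [Subgroup.coe_pow, conj_pow, hx, mul_one, mul_inv_cancel, Subgroup.coe_one]))
      fun h => hg ((H.subgroupOf C).normalCore_le h)
    refine ⟨q, hq1, hq2.trans ?_, hq3⟩
    show H.relIndex C ∣ H.index
    rw [← relIndex_sup_eq H C]
    exact ⟨_, (Subgroup.relIndex_mul_index (le_sup_left : H ≤ H ⊔ C)).symm⟩
  · -- a primitive group
    have hdvdH : M.index ∣ H.index := Subgroup.index_dvd_of_le hHM
    let π := QuotientGroup.mk' C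
    set M' := M.map π with hM'
    have hCM : π.ker ≤ M := (QuotientGroup.ker_mk' C).trans_le M.normalCore_le
    have hidx : M'.index = M.index :=
      Subgroup.index_map_eq M (QuotientGroup.mk'_surjective C) hCM
    have hcoat : IsCoatom M' := by
      refine ⟨fun h => hM.1 ?_, fun S hS => ?_⟩
      · rw [← Subgroup.index_eq_one, ← hidx, h, Subgroup.index_top]
      · have h1 : M < S.comap π := by
          have h2 : M'.comap π = M := Subgroup.comap_map_eq_self hCM
          exact lt_of_eq_of_lt h2.symm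
            (Subgroup.comap_lt_comap_of_surjective (QuotientGroup.mk'_surjective C) |>.2 hS)
        have h3 := hM.2 _ h1
        rw [← Subgroup.map_comap_eq_self_of_surjective (QuotientGroup.mk'_surjective C) S, h3,
          Subgroup.map_top_of_surjective _ (QuotientGroup.mk'_surjective C)]
    have hcore : ∀ S : Subgroup (G ⧸ C), S.Normal → S ≤ M' → S = ⊥ := by
      intro S hS hSM
      have h1 : S.comap π ≤ C := Subgroup.normal_le_normalCore.2
        ((Subgroup.comap_mono hSM).trans (Subgroup.comap_map_eq_self hCM).le)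
      rw [← Subgroup.map_comap_eq_self_of_surjective (QuotientGroup.mk'_surjective C) S,
        Subgroup.map_eq_bot_iff, QuotientGroup.ker_mk']
      exact h1
    have hnt : Nontrivial (G ⧸ C) :=
      ⟨⟨π x, 1, fun h => hxC ((QuotientGroup.eq_one_iff x).1 h)⟩⟩
    obtain ⟨V, hVn, hVb, -, hVmin⟩ :=
      Core.exists_minimal_normal_le' (⊤ : Subgroup (G ⧸ C)) top_ne_bot
    obtain ⟨r, hr, hVr, hVc, -⟩ :=
      Core.isPGroup_of_minimal_normal V inferInstance hVb hVmin
    have : Fact r.Prime := ⟨hr⟩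
    have hVM : ¬ V ≤ M' := fun h => hVb (hcore V hVn h)
    have hsup : M' ⊔ V = ⊤ := hcoat.2 _ (lt_of_le_of_ne le_sup_left fun h => hVM (h ▸ le_sup_right))
    have hnormal : ∀ S : Subgroup (G ⧸ C), (∀ m ∈ M', ∀ s ∈ S, m * s * m⁻¹ ∈ S) →
        (∀ v ∈ V, ∀ s ∈ S, v * s = s * v) → S.Normal := by
      intro S h1 h2
      refine Subgroup.normalizer_eq_top_iff.1 (top_le_iff.1 (hsup ▸ sup_le (fun m hm => ?_) ?_))
      · refine Subgroup.mem_normalizer_iff.2 fun s => ⟨h1 m hm s, fun h => ?_⟩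
        have h3 := h1 m⁻¹ (inv_mem hm) _ h
        simpa [mul_assoc] using h3
      · exact le_trans (fun v hv => Subgroup.mem_centralizer_iff.2 fun s hs => (h2 v hv s hs).symm)
          (Subgroup.centralizer_le_normalizer _)
    have hVV : ∀ v ∈ V, ∀ w ∈ V, v * w = w * v := fun v hv w hw =>
      congrArg Subtype.val (hVc.is_comm.comm ⟨v, hv⟩ ⟨w, hw⟩)
    have hdis : M' ⊓ V = ⊥ := hcore _ (hnormal _ (fun m hm s hs =>
      Subgroup.mem_inf.2 ⟨mul_mem (mul_mem hm (Subgroup.mem_inf.1 hs).1) (inv_mem hm),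
        hVn.conj_mem s (Subgroup.mem_inf.1 hs).2 m⟩)
      fun v hv s hs => hVV v hv s hs.2) inf_le_left
    have hcardV : Nat.card V = M'.index := by
      rw [← Subgroup.relIndex_top_right, ← hsup, relIndex_sup_eq,
        ← Subgroup.inf_relIndex_right, hdis, Subgroup.relIndex_bot_left]
    have hcent : Subgroup.centralizer (V : Set (G ⧸ C)) ≤ V := by
      have hle : Subgroup.centralizer (V : Set (G ⧸ C)) ⊓ M' = ⊥ := hcore _ (hnormal _
        (fun m hm s hs => Subgroup.mem_inf.2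
          ⟨(Subgroup.Normal.conj_mem inferInstance s (Subgroup.mem_inf.1 hs).1 m),
            mul_mem (mul_mem hm (Subgroup.mem_inf.1 hs).2) (inv_mem hm)⟩)
        fun v hv s hs => Subgroup.mem_centralizer_iff.1 hs.1 v hv) inf_le_right
      intro c hc
      obtain ⟨v, hv, m, hm, rfl⟩ := Subgroup.mem_sup_of_normal_left.1
        ((sup_comm M' V ▸ hsup).symm ▸ Subgroup.mem_top c : c ∈ V ⊔ M')
      have hmC : m ∈ Subgroup.centralizer (V : Set (G ⧸ C)) ⊓ M' := by
        refine ⟨?_, hm⟩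
        have := mul_mem (inv_mem (Subgroup.mem_centralizer_iff.2 fun w hw => hVV w hw v hv)) hc
        rwa [inv_mul_cancel_left] at this
      rw [hle, Subgroup.mem_bot] at hmC
      rw [hmC, mul_one]
      exact hv
    by_cases hrp : r = p
    · obtain ⟨s, hs⟩ := IsPGroup.iff_card.1 hVr
      have hs0 : s ≠ 0 := fun h => hVb (Subgroup.card_eq_one.1 (by rw [hs, h, pow_zero]))
      refine ⟨p, hp.out.isPrimePow, dvd_trans ?_ hdvdH, Or.inl (Nat.mod_self p)⟩
      rw [← hidx, ← hcardV, hs, hrp]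
      exact dvd_pow_self p hs0
    · have hφ : (MulAut.conjNormal (π x) : MulAut V) ^ (p ^ k) = 1 := by
        rw [← map_pow, ← map_pow, hx, map_one, map_one]
      have hmove : ∃ v : V, (MulAut.conjNormal (π x) : MulAut V) v ≠ v := by
        by_contra hno
        push Not at hno
        have hxV : π x ∈ V := hcent (Subgroup.mem_centralizer_iff.2 fun v hv => by
          have := congrArg Subtype.val (hno ⟨v, hv⟩)
          rw [MulAut.conjNormal_apply, mul_inv_eq_iff_eq_mul] at this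
          exact this.symm)
        obtain ⟨j, hj⟩ := hVr ⟨π x, hxV⟩
        have h1 : π x ^ Nat.gcd (p ^ k) (r ^ j) = 1 :=
          pow_gcd_eq_one.2 ⟨by rw [← map_pow, hx, map_one], congrArg Subtype.val hj⟩
        rw [Nat.Coprime.pow _ _ ((Nat.coprime_primes hp.out hr).2 (Ne.symm hrp)), pow_one] at h1
        exact hxC ((QuotientGroup.eq_one_iff x).1 h1)
      obtain ⟨s, f, hs, hfs, hmod, -⟩ := exists_pow_modEq hVr _ hφ hmove
      refine ⟨r ^ (s - f), hr.isPrimePow.pow (Nat.sub_pos_of_lt hfs).ne', dvd_trans ?_ hdvdH,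
        Or.inr (pow_sub_mod (Ne.symm hrp) hfs.le hmod)⟩
      rw [← hidx, ← hcardV, hs]
      exact pow_dvd_pow r (Nat.sub_le s f)

omit [Finite G] in
theorem exists_pow_eq_one [Fact p.Prime] {P : Subgroup G} (hP : IsPGroup p P) {x : G}
    (hx : x ∈ P) : ∃ k, x ^ (p ^ k) = 1 :=
  (hP ⟨x, hx⟩).imp fun _ h => congrArg Subtype.val h

theorem mem_pCore_of_mem_fitting [Fact p.Prime] {x : G} {k : ℕ} (hx : x ^ (p ^ k) = 1)
    (hxF : x ∈ Cfsg.fittingSubgroup G) : x ∈ Cfsg.pCore p G := by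
  set F := Cfsg.fittingSubgroup G with hF
  have hFn : F.Normal := Components.fitting_normal
  have hnil := Core.isNilpotent_fittingSubgroup G
  obtain ⟨i, -, hi⟩ := (Nat.dvd_prime_pow Fact.out).1 (orderOf_dvd_of_pow_eq_one hx)
  have hord : orderOf (⟨x, hxF⟩ : F) = p ^ i := by rw [← hi]; exact Subgroup.orderOf_mk x hxF
  obtain ⟨S, hS⟩ := (IsPGroup.of_card (n := i) (by rw [Nat.card_zpowers, hord]) :
    IsPGroup p (Subgroup.zpowers (⟨x, hxF⟩ : F))).exists_le_sylow
  have hSn : (S : Subgroup F).Normal := Sylow.normal_of_normalizerCondition (Group.normalizerCondition_of_isNilpotent (h := hnil)) S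
  have hSc : (S : Subgroup F).Characteristic := S.characteristic_of_normal hSn
  have : ((S : Subgroup F).map F.subtype).Normal := inferInstance
  exact Core.le_pCore (S.isPGroup'.map F.subtype)
    ⟨⟨x, hxF⟩, hS (Subgroup.mem_zpowers _), rfl⟩

/-- For `p ∤ n` in a solvable irreducible group of degree `n` with a nonnormal Sylow subgroup. -/
theorem irreducible_solvable [Fact p.Prime] [Group.IsSolvable G] (χ : Cfsg.IrrCharacter G)
    (hfaith : ∀ g, (χ : G → ℂ) g = (χ : G → ℂ) 1 → g = 1) (P : Sylow p G)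
    (hP : ¬ (P : Subgroup G).Normal) :
    ∃ q, IsPrimePow q ∧ q ∣ Cfsg.charDegree (χ : G → ℂ) ∧
      (q % p = 0 ∨ q % p = 1 ∨ (q + 1) % p = 0) := by
  classical
  have hp := (Fact.out : p.Prime)
  have := Fintype.ofFinite G
  set n := Cfsg.charDegree (χ : G → ℂ) with hn
  by_cases hpn : p ∣ n
  · exact ⟨p, hp.isPrimePow, hpn, Or.inl (Nat.mod_self p)⟩
  by_contra hcon
  -- constituents of normal subgroups: degree and inertia
  have hclif : ∀ (A : Subgroup G) (hA : A.Normal) (_ : Fintype A) (θ : Cfsg.IrrCharacter A),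
      Cfsg.classInner (fun a : A => (χ : G → ℂ) a) (θ : A → ℂ) ≠ 0 →
      Cfsg.charDegree (θ : A → ℂ) ∣ n ∧
        ∀ (x : G) (k : ℕ), x ^ (p ^ k) = 1 → ∀ a : A,
          (θ : A → ℂ) ⟨x * a * x⁻¹, hA.conj_mem a a.2 x⟩ = (θ : A → ℂ) a := by
    intro A hA _ θ hθ
    have h := Clifford.degree_eq hA θ.2 χ.2 hθ
    obtain ⟨m, hm⟩ := IsChar.classInner_eq_natCast (IsChar.restrict A (IsIrr.isCharacter χ.2))
      (IsIrr.isCharacter θ.2)
    rw [hm, ← CharDegree.cast_irrDegree, ← CharDegree.cast_irrDegree, ← Nat.cast_mul,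
      ← Nat.cast_mul, Nat.cast_inj] at h
    refine ⟨hn ▸ h ▸ dvd_mul_left _ _, fun x k hx a => ?_⟩
    have hxI : x ∈ Clifford.inertia hA (θ : A → ℂ) := by
      by_contra hxI
      obtain ⟨q, h1, h2, h3⟩ := exists_primePow_dvd_index _ rfl _ hx
        fun h' => hxI ((Clifford.inertia hA (θ : A → ℂ)).normalCore_le h')
      refine hcon ⟨q, h1, h2.trans ?_, h3.imp id Or.inl⟩
      rw [hn, h]
      exact (dvd_mul_left _ _).trans (dvd_mul_right _ _)
    exact congrFun (Clifford.mem_inertia.1 hxI) a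
  -- the p-core is abelian and centralised by p-elements
  set O := Cfsg.pCore p G with hO
  have hOn : O.Normal := hO ▸ (Cfsg.pCore_normal p G)
  have hOc : ∀ (x : G) (k : ℕ), x ^ (p ^ k) = 1 → ∀ a ∈ O, x * a = a * x := by
    intro x k hx a ha
    have := Fintype.ofFinite O
    have := Fintype.ofFinite (Cfsg.IrrCharacter O)
    have hlin : ∀ θ : Cfsg.IrrCharacter O,
        Cfsg.classInner (fun a : O => (χ : G → ℂ) a) (θ : O → ℂ) ≠ 0 →
        ∀ u v : O, (θ : O → ℂ) (u * v) = (θ : O → ℂ) u * (θ : O → ℂ) v := by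
      intro θ hθ u v
      obtain ⟨s, hs⟩ := IsPGroup.iff_card.1 (Core.isPGroup_pCore p G)
      obtain ⟨e, -, he⟩ := (Nat.dvd_prime_pow hp).1 (hs ▸ CharDegree.charDegree_dvd_card θ)
      have he0 : e = 0 := by
        by_contra h0
        exact hpn ((dvd_pow_self p h0).trans (he ▸ (hclif O hOn _ θ hθ).1))
      obtain ⟨l, hl⟩ := CharDegree.exists_hom_of_degree_one θ (by rw [he, he0, pow_zero])
      simp [hl]
    have hc : ((⟨a, ha⟩ : O)⁻¹ * ⟨x * a * x⁻¹, hOn.conj_mem a ha x⟩ : O).1 = 1 := by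
      refine hfaith _ ?_
      obtain ⟨m, hm⟩ := IsChar.exists_sum (IsChar.restrict O (IsIrr.isCharacter χ.2))
      show (fun a : O => (χ : G → ℂ) a) _ = (fun a : O => (χ : G → ℂ) a) 1
      refine (congrFun hm _).trans (Eq.trans ?_ (congrFun hm 1).symm)
      simp only [Finset.sum_apply, Pi.smul_apply, smul_eq_mul]
      refine Finset.sum_congr rfl fun θ _ => ?_
      by_cases h0 : m θ = 0
      · simp [h0]
      have hθ : Cfsg.classInner (fun a : O => (χ : G → ℂ) a) (θ : O → ℂ) ≠ 0 := by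
        rw [hm, classInner_sum_irr]; exact Nat.cast_ne_zero.2 h0
      rw [hlin θ hθ, (hclif O hOn _ θ hθ).2 x k hx ⟨a, ha⟩, ← hlin θ hθ, inv_mul_cancel]
    exact mul_inv_eq_iff_eq_mul.1 (inv_mul_eq_one.1 hc).symm
  -- some q-core is not centralised
  obtain ⟨q, hq, hqp, x, k, hx, e, he, hne⟩ : ∃ q : ℕ, q.Prime ∧ q ≠ p ∧
      ∃ (x : G) (k : ℕ), x ^ (p ^ k) = 1 ∧ ∃ e ∈ Cfsg.pCore q G, x * e ≠ e * x := by
    by_contra hno
    push Not at hno
    refine hP ?_
    have hle : (P : Subgroup G) ≤ O := by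
      intro x hx
      obtain ⟨k, hk⟩ := exists_pow_eq_one P.isPGroup' hx
      refine mem_pCore_of_mem_fitting hk (Components.centralizer_fitting_le_of_isSolvable ?_)
      have hF : Cfsg.fittingSubgroup G ≤ Subgroup.centralizer ({x} : Set G) := by
        rw [Core.fittingSubgroup_eq_iSup_pCore]
        refine iSup_le fun q a ha => Subgroup.mem_centralizer_singleton_iff.2 ?_
        by_cases hq : (q : ℕ) = p
        · exact (hOc x k hk a (by rwa [hq] at ha)).symm
        · exact (hno q q.2 hq x k hk a ha).symm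
      rw [Subgroup.mem_centralizer_iff]
      exact fun a ha => Subgroup.mem_centralizer_singleton_iff.1 (hF ha)
    exact (le_antisymm hle (Core.pCore_le_sylow P)).symm ▸ hOn
  have : Fact q.Prime := ⟨hq⟩
  obtain ⟨R, hRE, hRK, ⟨y, ⟨j, hy⟩, r, hr, hyr⟩, hcl⟩ := exists_class_two (Ne.symm hqp)
    (Cfsg.pCore q G) (Core.isPGroup_pCore q G) ⊤
    (fun g _ e he => (Cfsg.pCore_normal q G).conj_mem e he g)
    {x : G | ∃ k, x ^ (p ^ k) = 1} (fun _ _ => Subgroup.mem_top _) (fun _ h => h)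
    (fun g _ x ⟨k, hk⟩ => ⟨k, by rw [conj_pow, hk, mul_one, mul_inv_cancel]⟩)
    ⟨x, ⟨k, hx⟩, e, he, hne⟩
  have hRn : R.Normal := ⟨fun r hr g => hRK g (Subgroup.mem_top g) r hr⟩
  have := Fintype.ofFinite R
  have hRq : IsPGroup q R := (Core.isPGroup_pCore q G).to_le hRE
  obtain ⟨θ, hθ, hcase⟩ := constituent_cases (Ne.symm hqp) (IsIrr.isCharacter χ.2) hfaith R hRq hcl
    hy (fun s hs => hRn.conj_mem s hs y) ⟨r, hr, hyr⟩
  obtain ⟨hdvd, hfix⟩ := hclif R hRn _ θ hθ
  rcases hcase with ⟨s, hs⟩ | ⟨b, hb, hbd, hbm⟩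
  · exact hs (hfix y j hy s)
  · refine hcon ⟨q ^ b, hq.isPrimePow.pow hb.ne', hbd.trans hdvd, ?_⟩
    rcases hbm with h | h
    · exact Or.inr (Or.inl h)
    · have h2 : p ∣ (q ^ b) ^ 2 - 1 ^ 2 := by
        rw [one_pow, ← pow_mul, mul_comm b 2]
        exact (Nat.modEq_iff_dvd' (Nat.one_le_pow _ _ hq.pos)).1
          (by rw [Nat.ModEq, h, Nat.mod_eq_of_lt hp.one_lt])
      rw [Nat.sq_sub_sq] at h2
      rcases hp.dvd_mul.1 h2 with h3 | h3
      · exact Or.inr (Or.inr (Nat.mod_eq_zero_of_dvd h3))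
      · refine Or.inr (Or.inl ?_)
        have := ((Nat.modEq_iff_dvd' (Nat.one_le_pow _ _ hq.pos)).2 h3).symm
        rwa [Nat.ModEq, Nat.mod_eq_of_lt hp.one_lt] at this

/-- A constituent moved by a `p`-element forces `p ≤` degree. -/
theorem le_degree_of_moved [Fact p.Prime] {χ : G → ℂ} (hχ : Cfsg.IsCharacter G χ) (R : Subgroup G)
    [Fintype R] {x : G} {k : ℕ} (hx : x ^ (p ^ k) = 1) (hxR : ∀ r ∈ R, x * r * x⁻¹ ∈ R)
    (θ : Cfsg.IrrCharacter R) (hθ : Cfsg.classInner (fun r : R => χ r) (θ : R → ℂ) ≠ 0) (r : R)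
    (hr : (θ : R → ℂ) ⟨x * r * x⁻¹, hxR r r.2⟩ ≠ (θ : R → ℂ) r) :
    p ≤ Cfsg.charDegree χ := by
  classical
  have := Fintype.ofFinite (Cfsg.IrrCharacter R)
  let φ : MulAut R := restrictAut (MulAut.conj x : MulAut G) R hxR
  let Φ : Cfsg.IrrCharacter R → Cfsg.IrrCharacter R := fun ψ =>
    ⟨(ψ : R → ℂ) ∘ φ.toMonoidHom, IsIrr.comp_surjective φ.toMonoidHom φ.surjective ψ.2⟩
  have hiter : ∀ (j : ℕ) (ψ : Cfsg.IrrCharacter R) (s : R),
      ((Φ^[j]) ψ : R → ℂ) s = (ψ : R → ℂ) ((φ ^ j) s) := by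
    intro j
    induction j with
    | zero => exact fun _ _ => rfl
    | succ j ih =>
      intro ψ s
      rw [Function.iterate_succ_apply, ih, pow_succ', MulAut.mul_apply]
      rfl
  have hφk : φ ^ (p ^ k) = 1 := by
    have hpow : ∀ (j : ℕ) (r : R), (((φ ^ j) r : R) : G) = x ^ j * r * (x ^ j)⁻¹ := by
      intro j
      induction j with
      | zero => intro r; simp
      | succ j ih =>
        intro r
        rw [pow_succ', MulAut.mul_apply]
        show MulAut.conj x (((φ ^ j) r : R) : G) = _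
        rw [ih, MulAut.conj_apply, pow_succ' x]
        group
    exact MulEquiv.ext fun s => Subtype.ext (by rw [hpow, hx, MulAut.one_apply]; group)
  have hper : Function.IsPeriodicPt Φ (p ^ k) θ :=
    irr_ext fun s => by rw [hiter, hφk, MulAut.one_apply]
  obtain ⟨i, -, hi⟩ := (Nat.dvd_prime_pow (Fact.out : p.Prime)).1 hper.minimalPeriod_dvd
  have hi0 : i ≠ 0 := fun h => hr (by
    have h1 : Φ θ = θ := Function.minimalPeriod_eq_one_iff_isFixedPt.1 (by rw [hi, h, pow_zero])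
    exact congrArg (fun ψ : Cfsg.IrrCharacter R => (ψ : R → ℂ) r) h1)
  obtain ⟨m, hm⟩ := IsChar.exists_sum (IsChar.restrict R hχ)
  have hmθ : ∀ ψ, m (Φ ψ) ≠ 0 ↔ m ψ ≠ 0 := fun ψ => by
    have h1 : Cfsg.classInner (fun r : R => χ r) (Φ ψ : R → ℂ) =
        Cfsg.classInner (fun r : R => χ r) (ψ : R → ℂ) := by
      refine Eq.trans ?_ (Clifford.classInner_comp_equiv φ (fun r : R => χ r) (ψ : R → ℂ))
      congr 1
      funext s
      exact (IsChar.isClassFunction hχ (s : G) x).symm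
    rw [hm, classInner_sum_irr, classInner_sum_irr, Nat.cast_inj] at h1
    rw [h1]
  have hmj : ∀ j, m ((Φ^[j]) θ) ≠ 0 := by
    intro j
    induction j with
    | zero => rw [hm, classInner_sum_irr] at hθ; exact fun h0 => hθ (by rw [Function.iterate_zero, id] at h0; simp [h0])
    | succ j ih => rw [Function.iterate_succ_apply']; exact (hmθ _).2 ih
  have h1 := congrFun hm 1
  simp only [OneMemClass.coe_one, Finset.sum_apply, Pi.smul_apply, smul_eq_mul,
    ← CharDegree.cast_irrDegree, ← CharDegree.cast_charDegree hχ] at h1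
  have h2 : Cfsg.charDegree χ =
      ∑ ψ : Cfsg.IrrCharacter R, m ψ * Cfsg.charDegree (ψ : R → ℂ) := by exact_mod_cast h1
  rw [h2]
  refine le_trans ?_ (Finset.sum_le_sum_of_subset
    (Finset.subset_univ ((Finset.range (p ^ i)).image fun j => (Φ^[j]) θ)))
  rw [Finset.sum_image fun a ha b hb hab => Function.iterate_injOn_Iio_minimalPeriod
    (Set.mem_Iio.2 (hi ▸ Finset.mem_range.1 ha)) (Set.mem_Iio.2 (hi ▸ Finset.mem_range.1 hb)) hab]
  refine le_trans ?_ (Finset.card_nsmul_le_sum _ _ 1 fun j _ =>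
    Nat.mul_pos (Nat.pos_of_ne_zero (hmj j)) (CharDegree.charDegree_pos _))
  rw [smul_eq_mul, mul_one, Finset.card_range]
  exact Nat.le_self_pow hi0 p

/-- The `p`-solvable case of degree at most `p - 1`. -/
theorem pSolvable_small [Fact p.Prime] {χ : G → ℂ} (hχ : Cfsg.IsCharacter G χ)
    (hfaith : ∀ g, χ g = χ 1 → g = 1) (hsolv : Cfsg.IsPSolvable p G)
    (hnp : Cfsg.charDegree χ + 1 ≤ p) (P : Sylow p G) (hP : ¬ (P : Subgroup G).Normal) :
    Cfsg.charDegree χ + 1 = p ∧ (∃ k : ℕ, Cfsg.charDegree χ = 2 ^ k) ∧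
      Cfsg.IsIrrCharacter G χ := by
  classical
  have hp := (Fact.out : p.Prime)
  -- `P` is abelian
  have hPab : ∀ a ∈ (P : Subgroup G), ∀ b ∈ (P : Subgroup G), a * b = b * a := by
    intro a ha b hb
    have := Fintype.ofFinite (P : Subgroup G)
    have := Fintype.ofFinite (Cfsg.IrrCharacter (P : Subgroup G))
    have hc : ((⟨a, ha⟩ * ⟨b, hb⟩ * (⟨a, ha⟩)⁻¹ * (⟨b, hb⟩)⁻¹ : (P : Subgroup G)) : G) = 1 := by
      refine hfaith _ ?_
      obtain ⟨m, hm⟩ := IsChar.exists_sum (IsChar.restrict (P : Subgroup G) hχ)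
      show (fun a : (P : Subgroup G) => χ a) _ = (fun a : (P : Subgroup G) => χ a) 1
      refine (congrFun hm _).trans (Eq.trans ?_ (congrFun hm 1).symm)
      simp only [Finset.sum_apply, Pi.smul_apply, smul_eq_mul]
      refine Finset.sum_congr rfl fun θ _ => ?_
      by_cases h0 : m θ = 0
      · simp [h0]
      obtain ⟨s, hs⟩ := IsPGroup.iff_card.1 P.isPGroup'
      obtain ⟨e, -, he⟩ := (Nat.dvd_prime_pow hp).1 (hs ▸ CharDegree.charDegree_dvd_card θ)
      have hle := degree_constituent_le (R := (P : Subgroup G)) hχ (θ := θ)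
        (by rw [hm, classInner_sum_irr]; exact Nat.cast_ne_zero.2 h0)
      have he0 : e = 0 := by
        by_contra he0
        have := Nat.le_self_pow he0 p
        omega
      obtain ⟨l, hl⟩ := CharDegree.exists_hom_of_degree_one θ (by rw [he, he0, pow_zero])
      simp only [hl, map_mul, map_inv, map_one]
      rw [mul_comm (l ⟨a, ha⟩) (l ⟨b, hb⟩), mul_inv_cancel_right, mul_inv_cancel]
    exact mul_inv_eq_iff_eq_mul.1 (mul_inv_eq_one.1 hc)
  -- `N P` is normal
  set N := Cfsg.pPrimeCore p G with hN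
  have hNn : N.Normal := hN ▸ Cfsg.pPrimeCore_normal p G
  have hcopN : (Nat.card N).Coprime p := Core.coprime_card_pPrimeCore p G
  let π := QuotientGroup.mk' N
  let Pb := P.mapSurjective (QuotientGroup.mk'_surjective N)
  have hO : Cfsg.pPrimeCore p (G ⧸ N) = ⊥ := Core.pPrimeCore_quotient_pPrimeCore p G
  have hPbeq : (Pb : Subgroup (G ⧸ N)) = Cfsg.pCore p (G ⧸ N) := by
    refine le_antisymm ?_ (Core.pCore_le_sylow Pb)
    refine le_trans ?_ (PLocal.centralizer_pCore_le (PLocal.isPSolvable_quotient hsolv N) hO)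
    intro u hu
    rw [Subgroup.mem_centralizer_iff]
    intro v hv
    obtain ⟨a, ha, rfl⟩ := hu
    obtain ⟨b, hb, rfl⟩ := (Core.pCore_le_sylow Pb hv : v ∈ (Pb : Subgroup (G ⧸ N)))
    rw [← map_mul, ← map_mul, hPab b hb a ha]
  have hNP : ((P : Subgroup G).map π).Normal := by
    have h : (Pb : Subgroup (G ⧸ N)) = (P : Subgroup G).map π := rfl
    rw [← h, hPbeq]
    exact Cfsg.pCore_normal p _
  -- some element of `P` moves a subgroup of `N`
  obtain ⟨x, hx, e, he, hne⟩ : ∃ x ∈ (P : Subgroup G), ∃ e ∈ N, x * e ≠ e * x := by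
    by_contra hno
    push Not at hno
    refine hP ⟨fun a ha g => ?_⟩
    have hb : π (g * a * g⁻¹) ∈ (P : Subgroup G).map π := by
      rw [map_mul, map_mul, map_inv]
      exact hNP.conj_mem _ (Subgroup.mem_map_of_mem π ha) _
    obtain ⟨b, hb, hbe⟩ := hb
    have hd : b⁻¹ * (g * a * g⁻¹) ∈ N := QuotientGroup.eq.1 hbe
    set d := b⁻¹ * (g * a * g⁻¹) with hd'
    have hcomm : Commute b d := hno b hb d hd
    obtain ⟨i, hi⟩ := exists_pow_eq_one P.isPGroup' ha
    obtain ⟨j, hj⟩ := exists_pow_eq_one P.isPGroup' hb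
    have hprod : b * d = g * a * g⁻¹ := mul_inv_cancel_left b _
    have h1 : d ^ (p ^ (i + j)) = 1 := by
      have h2 : (b * d) ^ (p ^ (i + j)) = 1 := by
        rw [hprod, conj_pow, pow_add, pow_mul, hi, one_pow, mul_one, mul_inv_cancel]
      rwa [hcomm.mul_pow, show b ^ (p ^ (i + j)) = 1 by
        rw [pow_add, mul_comm, pow_mul, hj, one_pow], one_mul] at h2
    have h3 : d ^ Nat.gcd (p ^ (i + j)) (Nat.card N) = 1 :=
      pow_gcd_eq_one.2 ⟨h1, congrArg Subtype.val (pow_card_eq_one' (x := (⟨d, hd⟩ : N)))⟩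
    rw [Nat.Coprime.pow_left _ hcopN.symm, pow_one] at h3
    rw [← hprod, h3, mul_one]
    exact hb
  obtain ⟨k, hk⟩ := exists_pow_eq_one P.isPGroup' hx
  -- an invariant Sylow subgroup of `N` which is not centralised
  set A := Subgroup.zpowers x with hA
  have hAN : A ≤ Subgroup.normalizer (N : Set G) := by
    rw [Subgroup.normalizer_eq_top N]; exact le_top
  have hAcop : (Nat.card A).Coprime (Nat.card N) := by
    obtain ⟨i, -, hi⟩ := (Nat.dvd_prime_pow hp).1 (orderOf_dvd_of_pow_eq_one hk)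
    rw [hA, Nat.card_zpowers, hi]
    exact Nat.Coprime.pow_left i hcopN.symm
  obtain ⟨q, hq, Q, hQA, e', he', hne'⟩ : ∃ (q : ℕ) (_ : Fact q.Prime) (Q : Sylow q N),
      A ≤ Subgroup.normalizer ((Q : Subgroup N).map N.subtype : Set G) ∧
      ∃ e' ∈ (Q : Subgroup N).map N.subtype, x * e' ≠ e' * x := by
    by_contra hno
    push Not at hno
    refine hne ?_
    set S := (Subgroup.centralizer ({x} : Set G)).subgroupOf N with hS
    have hStop : S = ⊤ := by
      refine Subgroup.eq_top_of_card_eq S (Nat.eq_of_factorization_eq Nat.card_pos.ne'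
        Nat.card_pos.ne' fun q => ?_)
      by_cases hq : q.Prime
      · have : Fact q.Prime := ⟨hq⟩
        obtain ⟨Q, hQ⟩ := Core.exists_invariant_sylow hAN hAcop (Or.inl inferInstance) q
        refine le_antisymm ((Nat.factorization_le_iff_dvd Nat.card_pos.ne' Nat.card_pos.ne').2
          (Subgroup.card_subgroup_dvd_card S) q) ?_
        have hQS : (Q : Subgroup N) ≤ S := fun u hu => Subgroup.mem_subgroupOf.2
          (Subgroup.mem_centralizer_singleton_iff.2
            (hno q this Q hQ u ⟨u, hu, rfl⟩).symm)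
        have h1 := (Nat.factorization_le_iff_dvd Nat.card_pos.ne' Nat.card_pos.ne').2
          (Subgroup.card_dvd_of_le hQS) q
        rwa [Q.card_eq_multiplicity, hq.factorization_pow, Finsupp.single_eq_same] at h1
      · simp [Nat.factorization_eq_zero_of_not_prime _ hq]
    have := Subgroup.mem_subgroupOf.1 (hStop.symm ▸ Subgroup.mem_top (⟨e, he⟩ : N) :
      (⟨e, he⟩ : N) ∈ S)
    exact (Subgroup.mem_centralizer_singleton_iff.1 this).symm
  have hqp : p ≠ q := by
    rintro rfl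
    have hbot : (Q : Subgroup N) = ⊥ := by
      refine Subgroup.card_eq_one.1 ?_
      rw [Q.card_eq_multiplicity,
        Nat.factorization_eq_zero_of_not_dvd ((hp.coprime_iff_not_dvd).1 hcopN.symm), pow_zero]
    rw [hbot, Subgroup.map_bot, Subgroup.mem_bot] at he'
    rw [he', mul_one, one_mul] at hne'
    exact hne' rfl
  obtain ⟨R, hRE, hRK, ⟨y, hy, r, hr, hyr⟩, hcl⟩ := exists_class_two hqp
    ((Q : Subgroup N).map N.subtype) (Q.isPGroup'.map N.subtype) A
    (fun g hg u hu => (Subgroup.mem_normalizer_iff.1 (hQA hg) u).1 hu) {x}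
    (Set.singleton_subset_iff.2 (Subgroup.mem_zpowers x))
    (fun _ h => ⟨k, Set.mem_singleton_iff.1 h ▸ hk⟩)
    (fun g hg u hu => by
      rw [Set.mem_singleton_iff] at hu ⊢
      rw [hu]
      obtain ⟨i, rfl⟩ := hg
      rw [((Commute.refl x).zpow_left i).eq, mul_inv_cancel_right])
    ⟨x, rfl, e', he', hne'⟩
  obtain rfl := Set.mem_singleton_iff.1 hy
  have := Fintype.ofFinite R
  obtain ⟨θ, hθ, hcase⟩ := constituent_cases hqp hχ hfaith R
    ((Q.isPGroup'.map N.subtype).to_le hRE) hcl hk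
    (fun s hs => hRK y (Subgroup.mem_zpowers y) s hs) ⟨r, hr, hyr⟩
  have hθle := degree_constituent_le hχ hθ
  set n := Cfsg.charDegree χ with hn
  rcases hcase with ⟨s, hs⟩ | ⟨b, hb, hbd, hbm⟩
  · have := le_degree_of_moved hχ R hk _ θ hθ s hs
    omega
  have hqb : q ^ b ≤ Cfsg.charDegree (θ : R → ℂ) :=
    Nat.le_of_dvd (CharDegree.charDegree_pos θ) hbd
  have hqb2 : 2 ≤ q ^ b := le_trans hq.out.two_le (Nat.le_self_pow hb.ne' q)
  have hsum : q ^ b + 1 = p := by
    rcases hbm with h | h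
    · rw [Nat.mod_eq_of_lt (by omega)] at h
      omega
    · have h2 : p ∣ (q ^ b) ^ 2 - 1 ^ 2 := by
        rw [one_pow, ← pow_mul, mul_comm b 2]
        exact (Nat.modEq_iff_dvd' (Nat.one_le_pow _ _ hq.out.pos)).1
          (by rw [Nat.ModEq, h, Nat.mod_eq_of_lt hp.one_lt])
      rw [Nat.sq_sub_sq] at h2
      rcases hp.dvd_mul.1 h2 with h3 | h3
      · have := Nat.le_of_dvd (Nat.succ_pos _) h3
        omega
      · have := Nat.le_of_dvd (Nat.sub_pos_of_lt hqb2) h3
        omega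
  have hq2 : q = 2 := by
    by_contra h2
    have h3 : Even (q ^ b + 1) := ((hq.out.odd_of_ne_two h2).pow).add_one
    rw [hsum, hp.even_iff] at h3
    omega
  have hθn : Cfsg.charDegree (θ : R → ℂ) = n := by omega
  refine ⟨by omega, ⟨b, by rw [← hq2]; omega⟩, ?_⟩
  -- irreducibility
  have := Fintype.ofFinite (Cfsg.IrrCharacter G)
  have := Fintype.ofFinite G
  obtain ⟨m, hm⟩ := IsChar.exists_sum hχ
  have hres : (fun s : R => χ s) =
      ∑ ψ : Cfsg.IrrCharacter G, (m ψ : ℂ) • fun s : R => (ψ : G → ℂ) s := by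
    funext s
    conv_lhs => rw [hm]
    simp only [Finset.sum_apply, Pi.smul_apply]
  rw [hres, classInner_sum_left] at hθ
  obtain ⟨ψ, -, hψ⟩ := Finset.exists_ne_zero_of_sum_ne_zero hθ
  rw [classInner_smul_left] at hψ
  have hψle := degree_constituent_le (R := R) (IsIrr.isCharacter ψ.2) (θ := θ)
    (right_ne_zero_of_mul hψ)
  have heq : χ = (ψ : G → ℂ) := Clifford.eq_irr_of_degree_le hχ ψ (by
      rw [hm, classInner_sum_irr]
      exact left_ne_zero_of_mul hψ) (CharDegree.cast_charDegree hχ).symm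
    (CharDegree.cast_irrDegree ψ).symm (by omega)
  exact heq ▸ ψ.2

end CfsgLib.SmallLinear
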