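import Cfsg.Agent.Lib.CharDegree.Taketa
import Cfsg.Agent.Lib.CharDegree.ThreeDegrees.Basic
import Cfsg.Agent.Lib.Core.Coprime
import Cfsg.Agent.Lib.PGroups.Basic
import Cfsg.Agent.Lib.Components.FStar
import Cfsg.Agent.Lib.Components.Radicals
import Cfsg.Agent.Lib.HallGen.Basic
import Cfsg.Agent.Lib.HallGen.Counting
import Cfsg.Agent.Lib.OddLocal.FittingHall
import Cfsg.Agent.Lib.Blocks.Sections
import Mathlib.GroupTheory.SpecificGroups.ZGroup

/-!
# Solvable groups with squarefree degrees

Over the Fitting subgroup `F` an `r`-group of order `r ^ 2` has a regular orbit on the linear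
characters of the `r'`-part of `F`, so `G / F` has squarefree, hence cyclic, Fitting subgroup.
-/

set_option autoImplicit false

namespace CfsgLib.CharDegree

open CfsgLib.Char
open scoped Classical

/-- An abelian group of order `r ^ 2` acting faithfully coprimely has a regular orbit. -/
theorem exists_regular_of_sq {A V : Type*} [Group A] [Finite A] [CommGroup V] [Finite V]
    {r : ℕ} (hr : r.Prime) (hA : Nat.card A = r ^ 2) (hV : ¬ r ∣ Nat.card V) (ρ : A →* MulAut V)
    (hfaith : ∀ a : A, a ≠ 1 → ∃ v, ρ a v ≠ v) :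
    ∃ v : V, ∀ a : A, ρ a v = v → a = 1 := by
  haveI := Fact.mk hr
  have hcomm : ∀ a b : A, a * b = b * a := fun a b => by
    haveI : IsMulCommutative A := IsPGroup.isMulCommutative_of_card_eq_prime_sq hA
    exact mul_comm' a b
  let Fix : A → Subgroup V := fun a => (ρ a).toMonoidHom.eqLocus (MonoidHom.id V)
  have hmem : ∀ a v, v ∈ Fix a ↔ ρ a v = v := fun _ _ => Iff.rfl
  have hinv : ∀ a b v, v ∈ Fix a → ρ b v ∈ Fix a := fun a b v hv => by
    rw [hmem] at hv ⊢
    rw [← MulAut.mul_apply, ← map_mul, hcomm, map_mul, MulAut.mul_apply, hv]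
  have hle : ∀ a b, b ∈ Subgroup.zpowers a → Fix a ≤ Fix b := fun a b hb v hv => by
    let S : Subgroup A :=
      { carrier := {x | ρ x v = v}
        one_mem' := by simp
        mul_mem' := fun {x y} (hx : ρ x v = v) (hy : ρ y v = v) => by
          show ρ (x * y) v = v
          rw [map_mul, MulAut.mul_apply, hy, hx]
        inv_mem' := fun {x} (hx : ρ x v = v) => by
          show ρ x⁻¹ v = v
          conv_lhs => rw [← hx, ← MulAut.mul_apply, ← map_mul, inv_mul_cancel, map_one]
          rfl }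
    exact (Subgroup.zpowers_le (H := S)).2 ((hmem a v).1 hv) hb
  by_cases hcyc : ∃ a : A, orderOf a = r ^ 2
  · obtain ⟨a, ha⟩ := hcyc
    have htop : Subgroup.zpowers a = ⊤ :=
      Subgroup.eq_top_of_card_eq _ (by rw [Nat.card_zpowers, ha, hA])
    have hne : a ^ r ≠ 1 := pow_ne_one_of_lt_orderOf hr.ne_zero
      (ha ▸ by rw [sq]; exact lt_mul_self hr.one_lt)
    obtain ⟨v, hv⟩ := hfaith _ hne
    refine ⟨v, fun b hb => ?_⟩
    by_contra hb1
    refine hv ?_
    obtain ⟨i, rfl⟩ := (Submonoid.mem_powers_iff _ _).1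
      (mem_powers_iff_mem_zpowers.2 (htop ▸ Subgroup.mem_top b : b ∈ Subgroup.zpowers a))
    refine (hmem _ _).1 (hle _ (a ^ r) ?_ hb)
    have hnd : ¬ r ^ 2 ∣ i := fun h => hb1 (orderOf_dvd_iff_pow_eq_one.1 (ha ▸ h))
    rw [mem_zpowers_iff_mem_range_orderOf]
    obtain ⟨j, hj⟩ : ∃ j : ℕ, i * j ≡ r [MOD r ^ 2] := by
      by_cases hri : r ∣ i
      · obtain ⟨i', rfl⟩ := hri
        obtain ⟨j, -, hj⟩ := Nat.exists_mul_mod_eq_one_of_coprime
          (hr.coprime_iff_not_dvd.2 fun h => hnd (by rw [sq]; exact Nat.mul_dvd_mul_left r h)).symm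
          hr.one_lt
        refine ⟨j, ?_⟩
        rw [sq, mul_assoc]
        calc r * (i' * j) ≡ r * 1 [MOD r * r] :=
              Nat.ModEq.mul_left' r (by rw [Nat.ModEq, hj, Nat.one_mod_eq_one.2 hr.ne_one])
          _ = r := mul_one r
      · obtain ⟨j, -, hj⟩ := Nat.exists_mul_mod_eq_one_of_coprime
          ((Nat.coprime_pow_right_iff two_pos i r).2 (hr.coprime_iff_not_dvd.2 hri).symm)
          (Nat.one_lt_pow two_ne_zero hr.one_lt)
        refine ⟨j * r, ?_⟩
        calc i * (j * r) = i * j * r := (mul_assoc _ _ _).symm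
          _ ≡ 1 * r [MOD r ^ 2] := by
            refine Nat.ModEq.mul_right r ?_
            rw [Nat.ModEq, hj, Nat.one_mod_eq_one.2 (Nat.one_lt_pow two_ne_zero hr.one_lt).ne']
          _ = r := one_mul r
    rw [← mem_zpowers_iff_mem_range_orderOf]
    refine ⟨(j : ℤ), ?_⟩
    show (a ^ i) ^ (j : ℤ) = a ^ r
    rw [zpow_natCast, ← pow_mul, pow_eq_pow_iff_modEq, ha]
    exact hj
  have hord : ∀ a : A, a ≠ 1 → orderOf a = r := fun a ha => by
    obtain ⟨i, hi, h⟩ := (Nat.dvd_prime_pow hr).1 (hA ▸ orderOf_dvd_natCard a)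
    interval_cases i
    · exact absurd (orderOf_eq_one_iff.1 (by rw [h, pow_zero])) ha
    · rw [h, pow_one]
    · exact absurd ⟨a, h⟩ hcyc
  have hcycle : ∀ a b : A, a ≠ 1 → b ≠ 1 → b ∈ Subgroup.zpowers a → a ∈ Subgroup.zpowers b := by
    intro a b ha hb hba
    rw [Subgroup.eq_of_le_of_card_ge (Subgroup.zpowers_le.2 hba)
      (by rw [Nat.card_zpowers, Nat.card_zpowers, hord a ha, hord b hb])]
    exact Subgroup.mem_zpowers a
  have hgen : ∀ a b : A, a ≠ 1 → b ∉ Subgroup.zpowers a → ∀ x v, v ∈ Fix a → v ∈ Fix b → v ∈ Fix x := by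
    intro a b ha hb x v hva hvb
    let S : Subgroup A :=
      { carrier := {x | ρ x v = v}
        one_mem' := by simp
        mul_mem' := fun {x y} (hx : ρ x v = v) (hy : ρ y v = v) => by
          show ρ (x * y) v = v
          rw [map_mul, MulAut.mul_apply, hy, hx]
        inv_mem' := fun {x} (hx : ρ x v = v) => by
          show ρ x⁻¹ v = v
          conv_lhs => rw [← hx, ← MulAut.mul_apply, ← map_mul, inv_mul_cancel, map_one]
          rfl }
    have hS : S = ⊤ := by
      have hlt : Subgroup.zpowers a < S := lt_of_le_of_ne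
        (Subgroup.zpowers_le.2 ((hmem a v).1 hva)) fun h => hb (h ▸ ((hmem b v).1 hvb : b ∈ S))
      refine Subgroup.eq_top_of_card_eq _ ?_
      obtain ⟨i, hi, h⟩ := (Nat.dvd_prime_pow hr).1 (hA ▸ S.card_subgroup_dvd_card)
      have h2 : r < Nat.card S := by
        rw [← hord a ha, ← Nat.card_zpowers]
        exact (Subgroup.card_le_of_le hlt.le).lt_of_ne fun h => hlt.ne
          (Subgroup.eq_of_le_of_card_ge hlt.le h.ge)
      interval_cases i
      · rw [h, pow_zero] at h2; exact absurd h2 (by have := hr.two_le; omega)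
      · rw [h, pow_one] at h2; exact absurd h2 (lt_irrefl r)
      · rw [h, hA]
    exact (hmem x v).2 (show x ∈ S by rw [hS]; exact Subgroup.mem_top x)
  by_contra hcon
  push Not at hcon
  obtain ⟨a₀, ha₀⟩ : ∃ a : A, a ≠ 1 := by
    haveI : Nontrivial A := Finite.one_lt_card_iff_nontrivial.1
      (hA ▸ Nat.one_lt_pow two_ne_zero hr.one_lt)
    exact exists_ne 1
  obtain ⟨v, hv⟩ := hfaith a₀ ha₀
  obtain ⟨b, hvb, hb⟩ := hcon v
  obtain ⟨w, hw⟩ := hfaith b hb
  obtain ⟨b', hwb, hb'⟩ := hcon w
  obtain ⟨b'', hvw, hb''⟩ := hcon (v * w)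
  have hb'b : b' ∉ Subgroup.zpowers b := fun h => hw ((hmem b w).1 (hle b' b (hcycle b b' hb hb' h) hwb))
  have hb''b : b'' ∉ Subgroup.zpowers b := fun h => hw (by
    have h1 : v * w ∈ Fix b := hle b'' b (hcycle b b'' hb hb'' h) hvw
    have h2 := (Fix b).mul_mem ((Fix b).inv_mem ((hmem b v).2 hvb)) h1
    rw [inv_mul_cancel_left] at h2
    exact h2)
  set c := ρ b'' v / v with hc
  have hc1 : c ∈ Fix b := (Fix b).div_mem (hinv b b'' v hvb) hvb
  have hc2 : c = w / ρ b'' w := by
    rw [hc, div_eq_div_iff_mul_eq_mul, ← map_mul, hvw, mul_comm]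
  have hc3 : c ∈ Fix b' := hc2 ▸ (Fix b').div_mem hwb (hinv b' b'' w hwb)
  have hcall := hgen b b' hb hb'b b'' c hc1 hc3
  have hpow : ∀ k : ℕ, ρ (b'' ^ k) v = v * c ^ k := by
    intro k
    induction k with
    | zero => simp
    | succ k ih =>
      have hcv : ρ b'' v = v * c := by rw [hc, mul_div_cancel]
      rw [pow_succ', map_mul, MulAut.mul_apply, ih, map_mul, map_pow, (hmem _ _).1 hcall, hcv,
        pow_succ', mul_assoc]
  have hcr : c ^ r = 1 := by
    have h := hpow r
    rw [show b'' ^ r = 1 by rw [← hord b'' hb'']; exact pow_orderOf_eq_one _, map_one] at h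
    exact mul_left_cancel (h.symm.trans (mul_one v).symm)
  have hc0 : c = 1 := orderOf_eq_one_iff.1 (Nat.eq_one_of_dvd_coprimes
    (hr.coprime_iff_not_dvd.2 hV) (orderOf_dvd_of_pow_eq_one hcr) (orderOf_dvd_natCard c))
  have hvb'' : v ∈ Fix b'' := (hmem _ _).2 (div_eq_one.1 hc0)
  exact hv ((hmem a₀ v).1 (hgen b b'' hb hb''b a₀ v hvb hvb''))

section Dual

variable {G : Type*} [Group G] (K : Subgroup G) [K.Normal]

/-- Conjugation on the linear characters of a normal subgroup. -/
def dualAct : G →* MulAut (K →* ℂˣ) where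
  toFun g :=
    { toFun := fun μ => μ.comp (MulAut.conjNormal g⁻¹).toMonoidHom
      invFun := fun μ => μ.comp (MulAut.conjNormal g).toMonoidHom
      left_inv := fun μ => MonoidHom.ext fun x => congrArg μ (Subtype.ext (by simp [mul_assoc]))
      right_inv := fun μ => MonoidHom.ext fun x => congrArg μ (Subtype.ext (by simp [mul_assoc]))
      map_mul' := fun _ _ => rfl }
  map_one' := MulEquiv.ext fun μ => MonoidHom.ext fun x => congrArg μ (Subtype.ext (by simp))
  map_mul' g h := MulEquiv.ext fun μ => MonoidHom.ext fun x =>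
    congrArg μ (Subtype.ext (by simp [mul_assoc]))

theorem dualAct_apply (g : G) (μ : K →* ℂˣ) (x : K) :
    dualAct K g μ x = μ ((MulAut.conjNormal g⁻¹ : MulAut K) x) := rfl

theorem mem_commutator_of_forall_hom {H : Type*} [Group H] [Finite H] {x : H}
    (h : ∀ μ : H →* ℂˣ, μ x = 1) : x ∈ commutator H := by
  by_contra hx
  have hne : Abelianization.of x ≠ 1 := fun h1 => hx ((QuotientGroup.eq_one_iff x).1 h1)
  obtain ⟨φ, hφ⟩ := CommGroup.exists_apply_ne_one_of_hasEnoughRootsOfUnity (Abelianization H) ℂ hne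
  exact hφ (h (φ.comp Abelianization.of))

end Dual

variable {G : Type*} [Group G] [Fintype G]

/-- A normal section of order at least `r ^ 2` forces a degree divisible by `r ^ 2`. -/
theorem exists_sq_dvd_degree {r : ℕ} (hr : r.Prime) (F R K : Subgroup G) [F.Normal] [R.Normal]
    [K.Normal] (hKr : ¬ r ∣ Nat.card K) (hKnil : Group.IsNilpotent K) (hFR : F ≤ R)
    (hKF : ∀ f ∈ F, ∀ μ : K →* ℂˣ, dualAct K f μ = μ)
    (hcent : R ⊓ Subgroup.centralizer (K : Set G) ≤ F)
    (hRF : IsPGroup r (R.map (QuotientGroup.mk' F)))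
    (hcard : r ^ 2 ∣ Nat.card (R.map (QuotientGroup.mk' F))) :
    ∃ χ : Cfsg.IrrCharacter G, r ^ 2 ∣ Cfsg.charDegree (χ : G → ℂ) := by
  haveI := Fact.mk hr
  haveI := Fintype.ofFinite K
  set π := QuotientGroup.mk' F with hπ
  set Rb := R.map π with hRb
  haveI : Rb.Normal := Subgroup.Normal.map inferInstance _ (QuotientGroup.mk'_surjective F)
  have hFker : F ≤ (dualAct K).ker := fun f hf => MulEquiv.ext fun μ => hKF f hf μ
  let ρ : G ⧸ F →* MulAut (K →* ℂˣ) := QuotientGroup.lift F (dualAct K) hFker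
  obtain ⟨A₀, hA₀⟩ := Sylow.exists_subgroup_card_pow_prime r hcard
  set A := A₀.map Rb.subtype with hAdef
  have hA : Nat.card A = r ^ 2 := by
    rw [hAdef, Subgroup.card_map_of_injective Rb.subtype_injective, hA₀]
  have hAR : A ≤ Rb := Subgroup.map_subtype_le _
  haveI : Finite (K →* ℂˣ) := inferInstance
  have hVr : ¬ r ∣ Nat.card (K →* ℂˣ) := by
    intro h
    rw [Nat.card_congr (Abelianization.lift (G := K) (A := ℂˣ)),
      CommGroup.card_monoidHom_of_hasEnoughRootsOfUnity] at h
    exact hKr (h.trans (Subgroup.card_quotient_dvd_card (commutator K)))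
  obtain ⟨μ, hμ⟩ := exists_regular_of_sq hr hA hVr (ρ.comp A.subtype) (by
    intro a ha
    by_contra hall
    push Not at hall
    obtain ⟨g, hg, hga⟩ := hAR a.2
    obtain ⟨j, hj⟩ := hRF ⟨π g, hga ▸ hAR a.2⟩
    have hgF : g ^ r ^ j ∈ F := (QuotientGroup.eq_one_iff _).1 (congrArg Subtype.val hj)
    refine ha (Subtype.ext ?_)
    rw [← hga]
    refine (QuotientGroup.eq_one_iff g).2 ?_
    set m := orderOf g / r ^ (orderOf g).factorization r with hm
    have hmr : ¬ r ∣ m := Nat.not_dvd_ordCompl hr (orderOf_pos g).ne'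
    have hw : g ^ m ∈ Subgroup.centralizer (K : Set G) := by
      have hAN : Subgroup.zpowers (g ^ m) ≤ Subgroup.normalizer (K : Set G) :=
        le_top.trans (Subgroup.normalizer_eq_top (H := K)).ge
      haveI := hKnil
      refine CfsgLib.Core.centralizes_of_centralizes_frattini_quotient hAN ?_ ?_
        (Subgroup.mem_zpowers _)
      · rw [Nat.card_zpowers]
        refine Nat.Coprime.coprime_dvd_right (Subgroup.card_subgroup_dvd_card _) ?_
        have hd : orderOf (g ^ m) ∣ r ^ (orderOf g).factorization r := orderOf_dvd_of_pow_eq_one (by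
          rw [← pow_mul, mul_comm, Nat.ordProj_mul_ordCompl_eq_self, pow_orderOf_eq_one])
        exact Nat.Coprime.coprime_dvd_left hd ((hr.coprime_iff_not_dvd.2 hKr).pow_left _)
      · intro x hx k hk
        have hxfix : ∀ ν : K →* ℂˣ, dualAct K x ν = ν := by
          intro ν
          let S : Subgroup G :=
            { carrier := {y | dualAct K y ν = ν}
              one_mem' := by simp
              mul_mem' := fun {y z} (hy : dualAct K y ν = ν) (hz : dualAct K z ν = ν) => by
                show dualAct K (y * z) ν = ν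
                rw [map_mul, MulAut.mul_apply, hz, hy]
              inv_mem' := fun {y} (hy : dualAct K y ν = ν) => by
                show dualAct K y⁻¹ ν = ν
                conv_lhs => rw [← hy, ← MulAut.mul_apply, ← map_mul, inv_mul_cancel, map_one]
                rfl }
          have h1 : g ∈ S := by
            have := hall ν
            simp only [MonoidHom.comp_apply, Subgroup.coe_subtype] at this
            rw [← hga] at this
            exact this
          exact (Subgroup.zpowers_le (H := S)).2 (pow_mem h1 m) hx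
        have hxinv : ∀ ν : K →* ℂˣ, dualAct K x⁻¹ ν = ν := fun ν => by
          conv_lhs => rw [← hxfix ν, ← MulAut.mul_apply, ← map_mul, inv_mul_cancel, map_one]
          rfl
        refine ⟨(MulAut.conjNormal x : MulAut K) ⟨k, hk⟩ * (⟨k, hk⟩ : K)⁻¹,
          CfsgLib.PGroups.commutator_le_frattini
            (mem_commutator_of_forall_hom fun ν => ?_), by simp [MulAut.conjNormal_apply]⟩
        rw [map_mul, map_inv, mul_inv_eq_one]
        have h := DFunLike.congr_fun (hxinv ν) ⟨k, hk⟩
        rwa [dualAct_apply, inv_inv] at h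
    have hgm : g ^ m ∈ F := hcent ⟨pow_mem hg m, hw⟩
    have hcop : m.Coprime (r ^ j) := ((hr.coprime_iff_not_dvd.2 hmr).symm).pow_right j
    have h1 : ((g : G) : G ⧸ F) ^ m = 1 := by
      rw [← QuotientGroup.mk_pow]; exact (QuotientGroup.eq_one_iff _).2 hgm
    have h2 : ((g : G) : G ⧸ F) ^ r ^ j = 1 := by
      rw [← QuotientGroup.mk_pow]; exact (QuotientGroup.eq_one_iff _).2 hgF
    have h3 := pow_gcd_eq_one.2 ⟨h1, h2⟩
    rw [hcop.gcd_eq_one, pow_one] at h3
    exact (QuotientGroup.eq_one_iff g).1 h3)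
  obtain ⟨θ, hθ⟩ : ∃ θ : Cfsg.IrrCharacter K, (θ : K → ℂ) = fun x => (μ x : ℂ) :=
    ⟨⟨_, isIrrCharacter_linear μ⟩, rfl⟩
  have hK : K.Normal := inferInstance
  obtain ⟨χ, hχ⟩ := CfsgLib.ThreeDegrees.exists_over K θ
  set T := Clifford.inertia hK (θ : K → ℂ) with hT
  have hFT : F ≤ T := fun f hf => by
    rw [hT, Clifford.mem_inertia]
    funext x
    have h := DFunLike.congr_fun (hKF f⁻¹ (inv_mem hf) μ) x
    rw [dualAct_apply, inv_inv] at h
    rw [Clifford.conjFn_apply, hθ]
    exact congrArg Units.val ((congrArg μ (Subtype.ext rfl)).trans h)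
  have hAT : A ⊓ T.map π = ⊥ := by
    rw [eq_bot_iff]
    rintro x ⟨hxA, t, ht, rfl⟩
    have hfix : dualAct K t⁻¹ μ = μ := MonoidHom.ext fun x => Units.ext (by
      have h := congrFun (Clifford.mem_inertia.1 ht) x
      rw [Clifford.conjFn_apply, hθ] at h
      rw [dualAct_apply, inv_inv]
      exact h)
    have h := hμ ⟨π t, hxA⟩ (by
      show dualAct K t μ = μ
      conv_lhs => rw [← hfix, ← MulAut.mul_apply, ← map_mul, mul_inv_cancel, map_one]
      rfl)
    exact congrArg Subtype.val h
  have hTR : r ^ 2 ∣ T.index := by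
    have h1 : (T.map π).relIndex Rb ∣ (T.map π).index :=
      CfsgLib.HallGen.relIndex_dvd_index_right _ _
    have h2 : (T.map π).index = T.index := by
      exact Subgroup.index_map_eq T (QuotientGroup.mk'_surjective F)
        (by rw [QuotientGroup.ker_mk']; exact hFT)
    obtain ⟨i, hi⟩ := hRF.index ((T.map π).subgroupOf Rb)
    have h3 : r ^ 2 ≤ (T.map π).relIndex Rb := by
      calc r ^ 2 = (T.map π).relIndex A := by
            rw [← Subgroup.inf_relIndex_right, inf_comm, hAT, Subgroup.relIndex_bot_left, hA]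
        _ ≤ _ := Subgroup.relIndex_le_of_le_right hAR (Subgroup.index_ne_zero_of_finite)
    rw [show (T.map π).relIndex Rb = r ^ i from hi] at h1 h3
    exact (pow_dvd_pow r ((Nat.pow_le_pow_iff_right hr.one_lt).1 h3)).trans (h2 ▸ h1)
  refine ⟨χ, hTR.trans ?_⟩
  have hd := Clifford.degree_eq hK θ.2 χ.2 hχ
  obtain ⟨c, hc⟩ := IsChar.classInner_eq_natCast (IsChar.restrict K (IsIrr.isCharacter χ.2))
    (IsIrr.isCharacter θ.2)
  rw [hc, ← cast_irrDegree χ, congrFun hθ 1] at hd
  simp only [map_one, Units.val_one, mul_one] at hd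
  exact ⟨c, by rw [mul_comm]; exact_mod_cast hd⟩

/-- The elements of order prime to `r` in a nilpotent normal subgroup form a normal subgroup. -/
theorem exists_rPrime_part (F : Subgroup G) [F.Normal] (hF : Group.IsNilpotent F) {r : ℕ}
    (hr : r.Prime) :
    ∃ K : Subgroup G, K.Normal ∧ K ≤ F ∧ ¬ r ∣ Nat.card K ∧ (∃ i, K.relIndex F = r ^ i) ∧
      ∀ x, x ∈ K ↔ x ∈ F ∧ ¬ r ∣ orderOf x := by
  haveI := Fact.mk hr
  haveI := hF
  obtain ⟨P⟩ : Nonempty (Sylow r F) := inferInstance
  have hPn : (P : Subgroup F).Normal := inferInstance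
  obtain ⟨Q, hQ⟩ := Subgroup.exists_right_complement'_of_coprime (N := (P : Subgroup F))
    P.card_coprime_index
  have hQc : Nat.card Q = (P : Subgroup F).index := by
    have h1 := hQ.card_mul
    rw [← (P : Subgroup F).card_mul_index] at h1
    exact Nat.eq_of_mul_eq_mul_left Nat.card_pos h1
  have hQr : ¬ r ∣ Nat.card Q := hQc ▸ P.not_dvd_index
  have hord : ∀ x : F, x ∈ Q ↔ ¬ r ∣ orderOf x := by
    intro x
    refine ⟨fun hx hd => hQr (hd.trans ?_), fun hx => ?_⟩
    · rw [← Subgroup.orderOf_mk x hx]; exact orderOf_dvd_natCard _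
    · obtain ⟨⟨u, s⟩, hus⟩ := hQ.2 x
      have hus' : (u : F) * s = x := hus
      have hcu : (orderOf (u : F)).Coprime (orderOf (s : F)) := by
        obtain ⟨k, hk⟩ := IsPGroup.iff_orderOf.1 P.2 u
        rw [← Subgroup.orderOf_coe] at hk
        rw [hk]
        refine ((hr.coprime_iff_not_dvd.2 fun h => hQr (h.trans ?_)).pow_left k)
        rw [Subgroup.orderOf_coe]; exact orderOf_dvd_natCard _
      have hc : Commute (u : F) (s : F) :=
        CfsgLib.OddLocal.commute_of_coprime_orderOf hF hcu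
      have hu1 : (u : F) = 1 := by
        have h := hc.orderOf_mul_eq_mul_orderOf_of_coprime hcu
        rw [hus'] at h
        obtain ⟨k, hk⟩ := IsPGroup.iff_orderOf.1 P.2 u
        rw [← Subgroup.orderOf_coe] at hk
        cases k with
        | zero => exact orderOf_eq_one_iff.1 (hk.trans (pow_zero r))
        | succ k => exact absurd (h ▸ (hk ▸ dvd_pow_self r k.succ_ne_zero).mul_right _) hx
      rw [← hus', hu1, one_mul]
      exact s.2
  refine ⟨Q.map F.subtype, ⟨?_⟩, Subgroup.map_subtype_le _, ?_, ?_, ?_⟩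
  · rintro _ ⟨x, hx, rfl⟩ g
    refine ⟨⟨g * x * g⁻¹, Subgroup.Normal.conj_mem inferInstance _ x.2 g⟩, ?_, rfl⟩
    refine (hord _).2 fun h => (hord x).1 hx ?_
    rw [← Subgroup.orderOf_coe] at h ⊢
    rwa [← MulEquiv.orderOf_eq (MulAut.conj g) (x : G)]
  · rwa [Subgroup.card_map_of_injective F.subtype_injective]
  · obtain ⟨i, hi⟩ := P.2.exists_card_eq
    refine ⟨i, ?_⟩
    show ((Q.map F.subtype).subgroupOf F).index = r ^ i
    rw [Subgroup.subgroupOf, Subgroup.comap_map_eq_self_of_injective F.subtype_injective,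
      hQ.index_eq_card, hi]
  · intro x
    constructor
    · rintro ⟨y, hy, rfl⟩
      exact ⟨y.2, fun h => (hord y).1 hy (by rwa [← Subgroup.orderOf_coe])⟩
    · rintro ⟨hx, hxr⟩
      exact ⟨⟨x, hx⟩, (hord _).2 (by rwa [Subgroup.orderOf_mk]), rfl⟩

/-- The `r`-core modulo the Fitting subgroup of a group with squarefree degrees. -/
theorem card_pCore_quotient_fitting [(Cfsg.fittingSubgroup G).Normal]
    (h : ∀ χ : Cfsg.IrrCharacter G, Squarefree (Cfsg.charDegree (χ : G → ℂ))) {r : ℕ} (hr : r.Prime) :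
    ¬ r ^ 2 ∣ Nat.card (Cfsg.pCore r (G ⧸ Cfsg.fittingSubgroup G)) := by
  intro hdvd
  haveI := Fact.mk hr
  set F := Cfsg.fittingSubgroup G with hFdef
  have hF : Group.IsNilpotent F := CfsgLib.HallGen.isNilpotent_fittingSubgroup
  obtain ⟨K, hKn, hKF, hKr, ⟨i, hKi⟩, hKmem⟩ := exists_rPrime_part F hF hr
  haveI := hKn
  set Rb := Cfsg.pCore r (G ⧸ F) with hRb
  haveI : Rb.Normal := CfsgLib.HallGen.pCore_normal' r
  set R := Rb.comap (QuotientGroup.mk' F) with hR
  have hRmap : R.map (QuotientGroup.mk' F) = Rb :=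
    Subgroup.map_comap_eq_self_of_surjective (QuotientGroup.mk'_surjective F) _
  have hFR : F ≤ R := (QuotientGroup.ker_mk' F).symm.le.trans (MonoidHom.ker_le_comap _ Rb)
  have hRp : IsPGroup r Rb := CfsgLib.Core.isPGroup_pCore r _
  have hKnil : Group.IsNilpotent K :=
    haveI := hF
    Group.nilpotent_of_mulEquiv (Subgroup.subgroupOfEquivOfLe hKF)
  suffices hmain : (∀ f ∈ F, ∀ μ : K →* ℂˣ, dualAct K f μ = μ) ∧
      R ⊓ Subgroup.centralizer (K : Set G) ≤ F by
    obtain ⟨χ, hχ⟩ := exists_sq_dvd_degree hr F R K hKr hKnil hFR hmain.1 hmain.2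
      (hRmap.symm ▸ hRp) (hRmap.symm ▸ hdvd)
    rw [sq] at hχ
    exact hr.not_isUnit ((h χ) r hχ)
  refine ⟨?_, ?_⟩
  · intro f hf μ
    obtain ⟨u, s, hfus, hc, ⟨k, hk⟩, hs⟩ := CfsgLib.Blocks.exists_pPart hr f
    refine MonoidHom.ext fun x => ?_
    rw [dualAct_apply]
    have hu : u ∈ F := by
      have h1 : QuotientGroup.mk' F u * QuotientGroup.mk' F s = 1 := by
        rw [← map_mul, hfus]; exact (QuotientGroup.eq_one_iff f).2 hf
      have h2 : orderOf (QuotientGroup.mk' F u) ∣ r ^ k := hk ▸ orderOf_map_dvd _ u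
      have h3 : orderOf (QuotientGroup.mk' F u) ∣ orderOf s := by
        rw [eq_inv_of_mul_eq_one_left h1, orderOf_inv]; exact orderOf_map_dvd _ s
      exact (QuotientGroup.eq_one_iff u).1 (orderOf_eq_one_iff.1 (Nat.eq_one_of_dvd_coprimes
        ((hr.coprime_iff_not_dvd.2 hs).pow_left k) h2 h3))
    have hsF : s ∈ F := by
      rw [show s = u⁻¹ * f by rw [← hfus, inv_mul_cancel_left]]
      exact mul_mem (inv_mem hu) hf
    have hsK : s ∈ K := (hKmem s).2 ⟨hsF, hs⟩
    have hux : Commute u (x : G) := CfsgLib.OddLocal.commute_of_mem_nilpotent hF hu (hKF x.2) (by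
      rw [hk]
      exact (hr.coprime_iff_not_dvd.2 ((hKmem _).1 x.2).2).pow_left k)
    have he : (MulAut.conjNormal f⁻¹ : MulAut K) x = (⟨s, hsK⟩ : K)⁻¹ * x * ⟨s, hsK⟩ := by
      refine Subtype.ext ?_
      rw [MulAut.conjNormal_apply]
      simp only [Subgroup.coe_mul, Subgroup.coe_inv, inv_inv, ← hfus, mul_inv_rev]
      calc s⁻¹ * u⁻¹ * (x : G) * (u * s) = s⁻¹ * (u⁻¹ * ((x : G) * u)) * s := by group
        _ = s⁻¹ * (x : G) * s := by rw [← hux.eq, inv_mul_cancel_left]
    rw [he, map_mul, map_mul, map_inv, mul_comm, mul_inv_cancel_left]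
  · set C := R ⊓ Subgroup.centralizer (K : Set G) with hCdef
    haveI : R.Normal := Subgroup.Normal.comap inferInstance _
    haveI : (Subgroup.centralizer (K : Set G)).Normal := inferInstance
    haveI : C.Normal := inferInstance
    refine CfsgLib.Components.le_fitting inferInstance ?_
    set Z := (K ⊓ C).subgroupOf C with hZ
    haveI : Z.Normal := Subgroup.Normal.subgroupOf inferInstance _
    have hZc : Z ≤ Subgroup.center C := fun z hz => by
      rw [Subgroup.mem_center_iff]
      intro c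
      exact Subtype.ext ((Subgroup.mem_centralizer_iff.1 c.2.2 (z : G) hz.1).symm)
    have hrel : ∃ j, Z.index = r ^ j := by
      have h1 : Z.index ∣ K.relIndex R := by
        have h2 := Subgroup.relIndex_mul_relIndex (K ⊓ R) R R inf_le_right le_rfl
        show (K ⊓ C).relIndex C ∣ _
        rw [Subgroup.inf_relIndex_right, ← Subgroup.inf_relIndex_right K R]
        rw [← Subgroup.relIndex_subgroupOf (inf_le_left : C ≤ R)]
        rw [Subgroup.inf_relIndex_right]
        exact Subgroup.relIndex_dvd_index_of_normal _ _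
      obtain ⟨a, ha⟩ := hRp.exists_card_eq
      have h3 : F.relIndex R = r ^ a := by
        rw [← ha, ← hRmap, ← Subgroup.relIndex_bot_left, ← Subgroup.relIndex_comap,
          MonoidHom.comap_bot, QuotientGroup.ker_mk']
      rw [← Subgroup.relIndex_mul_relIndex K F R hKF hFR, hKi, h3, ← pow_add] at h1
      obtain ⟨j, -, hj⟩ := (Nat.dvd_prime_pow hr).1 h1
      exact ⟨j, hj⟩
    obtain ⟨j, hj⟩ := hrel
    haveI : Group.IsNilpotent (C ⧸ Z) := (IsPGroup.of_card (n := j) hj).isNilpotent
    exact isNilpotent_of_ker_le_center (QuotientGroup.mk' Z)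
      (by rw [QuotientGroup.ker_mk']; exact hZc)

/-- The quotient by the Fitting subgroup is metabelian. -/
theorem derived_two_quotient_fitting [Group.IsSolvable G] [(Cfsg.fittingSubgroup G).Normal]
    (h : ∀ χ : Cfsg.IrrCharacter G, Squarefree (Cfsg.charDegree (χ : G → ℂ))) :
    derivedSeries (G ⧸ Cfsg.fittingSubgroup G) 2 = ⊥ := by
  set H := G ⧸ Cfsg.fittingSubgroup G
  set E := Cfsg.fittingSubgroup H
  have hE : Group.IsNilpotent E := CfsgLib.HallGen.isNilpotent_fittingSubgroup
  haveI := hE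
  haveI : E.Normal := CfsgLib.Components.fitting_normal
  have hsq : Squarefree (Nat.card E) := by
    rw [Nat.squarefree_iff_prime_squarefree]
    intro r hr hd
    haveI := Fact.mk hr
    obtain ⟨P⟩ : Nonempty (Sylow r E) := inferInstance
    haveI : (P : Subgroup E).Characteristic := P.characteristic_of_normal inferInstance
    have hle : (P : Subgroup E).map E.subtype ≤ Cfsg.pCore r H :=
      CfsgLib.Core.le_pCore (P.2.map E.subtype)
    refine card_pCore_quotient_fitting h hr ((sq r).symm ▸ ?_)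
    have h2 : r * r ∣ Nat.card (P : Subgroup E) := by
      rw [← sq] at hd ⊢
      exact P.pow_dvd_card_of_pow_dvd_card hd
    rw [← Subgroup.card_map_of_injective E.subtype_injective] at h2
    exact h2.trans (Subgroup.card_dvd_of_le hle)
  haveI : IsZGroup E := IsZGroup.of_squarefree hsq
  haveI : Group.IsSolvable H := Group.isSolvable_of_surjective (QuotientGroup.mk'_surjective _)
  have hC : Subgroup.centralizer (E : Set H) ≤ E :=
    CfsgLib.Components.centralizer_fitting_le_of_isSolvable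
  have hEc : ∀ a b : E, a * b = b * a := fun a b => mul_comm' a b
  have hAut : ∀ a b : MulAut E, a * b = b * a := by
    intro a b
    obtain ⟨g, hg⟩ := IsCyclic.exists_generator (α := E)
    obtain ⟨i, hi⟩ := Subgroup.mem_zpowers_iff.1 (hg (a g))
    obtain ⟨k, hk⟩ := Subgroup.mem_zpowers_iff.1 (hg (b g))
    refine MulEquiv.ext fun x => ?_
    obtain ⟨n, rfl⟩ := Subgroup.mem_zpowers_iff.1 (hg x)
    simp only [map_zpow, MulAut.mul_apply]
    rw [← hk, map_zpow, ← hi, map_zpow, ← hk, ← zpow_mul g i k, ← zpow_mul g k i, mul_comm]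
  have h1 : derivedSeries H 1 ≤ E := by
    rw [derivedSeries_one]
    refine le_trans ?_ hC
    have hcom : commutator H ≤ (MulAut.conjNormal (H := E)).ker := by
      rw [commutator_def, Subgroup.commutator_le]
      intro a _ b _
      rw [MonoidHom.mem_ker, map_commutatorElement, commutatorElement_eq_one_iff_mul_comm]
      exact hAut _ _
    intro x hx
    refine Subgroup.mem_centralizer_iff.2 fun e he => ?_
    have := congrArg Subtype.val (DFunLike.congr_fun (MonoidHom.mem_ker.1 (hcom hx)) ⟨e, he⟩)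
    rw [MulAut.conjNormal_apply, MulAut.one_apply] at this
    exact (mul_inv_eq_iff_eq_mul.1 this).symm
  rw [derivedSeries_succ, eq_bot_iff, Subgroup.commutator_le]
  intro a ha b hb
  rw [Subgroup.mem_bot, commutatorElement_eq_one_iff_mul_comm]
  exact congrArg Subtype.val (hEc ⟨a, h1 ha⟩ ⟨b, h1 hb⟩)

/-- A nilpotent normal subgroup is metabelian. -/
theorem derived_two_of_normal_nilpotent
    (h : ∀ χ : Cfsg.IrrCharacter G, Squarefree (Cfsg.charDegree (χ : G → ℂ)))
    (F : Subgroup G) [F.Normal] (hF : Group.IsNilpotent F) : derivedSeries F 2 = ⊥ := by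
  haveI := hF
  have hP : ∀ (p : (Nat.card F).primeFactors) (P : Sylow (p : ℕ) F),
      derivedSeries (P : Subgroup F) 2 = ⊥ := by
    intro p P
    haveI : Fact (p : ℕ).Prime := ⟨Nat.prime_of_mem_primeFactors p.2⟩
    haveI : (P : Subgroup F).Characteristic := P.characteristic_of_normal inferInstance
    set P' := (P : Subgroup F).map F.subtype with hP'
    haveI := Fintype.ofFinite P'
    haveI : Group.IsNilpotent P' := (P.2.map F.subtype).isNilpotent
    have hdeg : ∀ ψ : Cfsg.IrrCharacter P', Cfsg.charDegree (ψ : P' → ℂ) = 1 ∨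
        Cfsg.charDegree (ψ : P' → ℂ) = (p : ℕ) := by
      intro ψ
      obtain ⟨χ, hχ⟩ := CfsgLib.ThreeDegrees.exists_over P' ψ
      have hsq := (h χ).squarefree_of_dvd (CfsgLib.ThreeDegrees.degree_dvd_of_over P' χ ψ hχ).1
      obtain ⟨k, hk⟩ := (P.2.map F.subtype).exists_card_eq
      have hd := charDegree_dvd_card ψ
      rw [hk] at hd
      obtain ⟨j, -, hj⟩ := (Nat.dvd_prime_pow Fact.out).1 hd
      rw [hj] at hsq ⊢
      rcases j with _ | _ | j
      · exact Or.inl (pow_zero _)
      · exact Or.inr (pow_one _)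
      · exact absurd (hsq (p : ℕ) ⟨(p : ℕ) ^ j, by ring⟩) (Fact.out : (p : ℕ).Prime).not_isUnit
    have hc := commutator_comm_of_nilpotent hdeg
    have h2 : derivedSeries P' 2 = ⊥ := by
      rw [derivedSeries_succ, derivedSeries_one, eq_bot_iff, Subgroup.commutator_le]
      intro a ha b hb
      rw [Subgroup.mem_bot, commutatorElement_eq_one_iff_mul_comm]
      exact hc a ha b hb
    let e : P' ≃* (P : Subgroup F) := ((P : Subgroup F).equivMapOfInjective _ F.subtype_injective).symm
    have h3 := map_derivedSeries_eq (f := e.toMonoidHom) e.surjective 2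
    rw [h2, Subgroup.map_bot] at h3
    exact h3.symm
  obtain ⟨e⟩ : Nonempty ((∀ p : (Nat.card F).primeFactors, ∀ P : Sylow (p : ℕ) F, (P : Subgroup F)) ≃* F) :=
    ((Group.isNilpotent_of_finite_tfae (G := F)).out 0 4).1 hF
  rw [eq_bot_iff]
  intro x hx
  rw [Subgroup.mem_bot]
  refine e.symm.injective ?_
  rw [map_one]
  funext p P
  let π : F →* (P : Subgroup F) :=
    ((Pi.evalMonoidHom (fun P : Sylow (p : ℕ) F => (P : Subgroup F)) P).comp
      (Pi.evalMonoidHom _ p)).comp e.symm.toMonoidHom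
  have h3 := map_derivedSeries_le_derivedSeries π 2 ⟨x, hx, rfl⟩
  rw [hP p P, Subgroup.mem_bot] at h3
  exact h3

/-- Squarefree degrees: derived length at most four. -/
theorem derived_four_of_squarefree [Group.IsSolvable G]
    (h : ∀ χ : Cfsg.IrrCharacter G, Squarefree (Cfsg.charDegree (χ : G → ℂ))) :
    derivedSeries G 4 = ⊥ := by
  set F := Cfsg.fittingSubgroup G with hFdef
  haveI : F.Normal := CfsgLib.Components.fitting_normal
  have h1 : derivedSeries G 2 ≤ F := by
    have h1 := map_derivedSeries_le_derivedSeries (QuotientGroup.mk' F) 2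
    rw [derived_two_quotient_fitting h, le_bot_iff, Subgroup.map_eq_bot_iff,
      QuotientGroup.ker_mk'] at h1
    exact h1
  have h2 : ∀ k, derivedSeries G (2 + k) ≤ (derivedSeries F k).map F.subtype := by
    intro k
    induction k with
    | zero => rw [add_zero, derivedSeries_zero, ← MonoidHom.range_eq_map, F.range_subtype]; exact h1
    | succ k ih =>
      rw [← add_assoc, derivedSeries_succ, derivedSeries_succ, Subgroup.map_commutator]
      exact Subgroup.commutator_mono ih ih
  refine le_bot_iff.1 ((h2 2).trans ?_)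
  rw [derived_two_of_normal_nilpotent h F CfsgLib.HallGen.isNilpotent_fittingSubgroup, Subgroup.map_bot]

end CfsgLib.CharDegree
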