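import Cfsg.Agent.Lib.Char.PPrimeKernel
import Cfsg.Agent.Lib.CharDegree.SectionAction

/-!
# Extending all characters of degree prime to `p` from a Sylow normalizer

If all of them extend, the Sylow normalizer has a normal complement.
-/

set_option autoImplicit false

namespace CfsgLib.SylowNormalizerExtend

open Cfsg CfsgLib.Char CfsgLib.CharDegree
open scoped commutatorElement Classical Pointwise

variable {G : Type*} [Group G] [Finite G] {p : ℕ}

/-- An element in every kernel is trivial. -/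
theorem eq_one_of_forall {g : G}
    (h : ∀ ψ : IrrCharacter G, (ψ : G → ℂ) g = (ψ : G → ℂ) 1) : g = 1 := by
  haveI := Fintype.ofFinite G
  haveI := Fintype.ofFinite (IrrCharacter G)
  by_contra hg
  have hcl : IsClassFunction G fun x => if x = 1 then (1 : ℂ) else 0 := fun a b => by
    simp [mul_inv_eq_one, mul_eq_left]
  have h1 := classFunction_apply_eq_sum hcl g
  have h2 := classFunction_apply_eq_sum hcl 1
  simp only [h] at h1
  simp only [if_neg hg] at h1
  simp only [↓reduceIte] at h2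
  exact zero_ne_one (h1.trans h2.symm)

/-- A normal subgroup is cut out by the characters trivial on it. -/
theorem exists_apply_ne (D : Subgroup G) [D.Normal] {g : G} (hg : g ∉ D) :
    ∃ θ : IrrCharacter G, (∀ d ∈ D, (θ : G → ℂ) d = (θ : G → ℂ) 1) ∧
      (θ : G → ℂ) g ≠ (θ : G → ℂ) 1 := by
  by_contra h
  push Not at h
  refine hg ((QuotientGroup.eq_one_iff g).1 (eq_one_of_forall fun ψ => ?_))
  simpa [infl] using h (infl D ψ) fun d hd => infl_ker D ψ hd

/-- A normal `p'`-subgroup of `p`-power index of a normal subgroup is normal in the whole group. -/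
theorem normal_map_subtype [hp : Fact p.Prime] {L : Subgroup G} [L.Normal] (K : Subgroup L) [K.Normal]
    (hK : ¬ p ∣ Nat.card K) {k : ℕ} (hk : K.index = p ^ k) : (K.map L.subtype).Normal := by
  refine ⟨fun x hx y => ?_⟩
  obtain ⟨l, hl, rfl⟩ := hx
  have hyL : y * (l : G) * y⁻¹ ∈ L := Subgroup.Normal.conj_mem inferInstance _ l.2 y
  refine ⟨⟨_, hyL⟩, ?_, rfl⟩
  refine (QuotientGroup.eq_one_iff (N := K) (⟨_, hyL⟩ : L)).1 (orderOf_eq_one_iff.1 ?_)
  have h1 : orderOf ((⟨_, hyL⟩ : L) : L ⧸ K) ∣ Nat.card K := by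
    refine (orderOf_map_dvd (QuotientGroup.mk' K) _).trans ?_
    rw [← Subgroup.orderOf_coe]
    show orderOf (y * (l : G) * y⁻¹) ∣ _
    rw [← MulAut.conj_apply, MulEquiv.orderOf_eq, Subgroup.orderOf_coe]
    exact Subgroup.orderOf_dvd_natCard _ hl
  have h2 : orderOf ((⟨_, hyL⟩ : L) : L ⧸ K) ∣ p ^ k := by
    rw [← hk, Subgroup.index_eq_card]
    exact orderOf_dvd_natCard _
  exact Nat.eq_one_of_dvd_coprimes
    (Nat.Coprime.pow_right k ((hp.out).coprime_iff_not_dvd.2 hK).symm) h1 h2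

variable [Fact p.Prime] (P : Sylow p G)


theorem normal_commutator_subgroupOf : ((⁅(P : Subgroup G), (P : Subgroup G)⁆).subgroupOf (Subgroup.normalizer ((P : Subgroup G) : Set G))).Normal := by
  refine ⟨fun x hx g => Subgroup.mem_subgroupOf.2 ?_⟩
  have hmap : (P : Subgroup G).map (MulAut.conj (g : G)).toMonoidHom = (P : Subgroup G) := by
    ext y
    simp only [Subgroup.mem_map, MulEquiv.coe_toMonoidHom, MulAut.conj_apply]
    constructor
    · rintro ⟨z, hz, rfl⟩
      exact (Subgroup.mem_normalizer_iff.1 g.2 z).1 hz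
    · intro hy
      refine ⟨(g : G)⁻¹ * y * g, (Subgroup.mem_normalizer_iff.1 g.2 _).2 ?_, by group⟩
      rwa [show (g : G) * ((g : G)⁻¹ * y * g) * (g : G)⁻¹ = y by group]
  have h := Subgroup.mem_map_of_mem (MulAut.conj (g : G)).toMonoidHom (Subgroup.mem_subgroupOf.1 hx)
  rw [Subgroup.map_commutator, hmap] at h
  simpa using h

/-- A character of the normalizer trivial on the derived subgroup of the Sylow subgroup has degree
prime to `p`. -/
theorem not_dvd_charDegree (θ : IrrCharacter (Subgroup.normalizer ((P : Subgroup G) : Set G)))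
    (hθ : ∀ x : (Subgroup.normalizer ((P : Subgroup G) : Set G)), (x : G) ∈ ⁅(P : Subgroup G), (P : Subgroup G)⁆ → (θ : (Subgroup.normalizer ((P : Subgroup G) : Set G)) → ℂ) x = (θ : (Subgroup.normalizer ((P : Subgroup G) : Set G)) → ℂ) 1) :
    ¬ p ∣ charDegree (θ : (Subgroup.normalizer ((P : Subgroup G) : Set G)) → ℂ) := by
  haveI := normal_commutator_subgroupOf P
  haveI : ((P : Subgroup G).subgroupOf (Subgroup.normalizer ((P : Subgroup G) : Set G))).Normal := Subgroup.normal_in_normalizer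
  obtain ⟨ψ, rfl⟩ := exists_infl ((⁅(P : Subgroup G), (P : Subgroup G)⁆).subgroupOf (Subgroup.normalizer ((P : Subgroup G) : Set G))) θ fun x hx => hθ x (Subgroup.mem_subgroupOf.1 hx)
  rw [charDegree_infl]
  set π := QuotientGroup.mk' ((⁅(P : Subgroup G), (P : Subgroup G)⁆).subgroupOf (Subgroup.normalizer ((P : Subgroup G) : Set G)))
  haveI : (((P : Subgroup G).subgroupOf (Subgroup.normalizer ((P : Subgroup G) : Set G))).map π).Normal :=
    Subgroup.Normal.map inferInstance π (QuotientGroup.mk'_surjective _)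
  have hA : ∀ a ∈ ((P : Subgroup G).subgroupOf (Subgroup.normalizer ((P : Subgroup G) : Set G))).map π,
      ∀ b ∈ ((P : Subgroup G).subgroupOf (Subgroup.normalizer ((P : Subgroup G) : Set G))).map π, a * b = b * a := by
    rintro _ ⟨a, ha, rfl⟩ _ ⟨b, hb, rfl⟩
    rw [← commutatorElement_eq_one_iff_mul_comm, ← map_commutatorElement]
    exact (QuotientGroup.eq_one_iff _).2 (Subgroup.mem_subgroupOf.2 (Subgroup.commutator_mem_commutator ha hb))
  intro hd
  have h1 : p ∣ ((P : Subgroup G).subgroupOf (Subgroup.normalizer ((P : Subgroup G) : Set G))).index :=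
    (hd.trans (CfsgLib.TwoDegrees.degree_dvd_index ψ _ hA)).trans
      (Subgroup.index_map_dvd _ (QuotientGroup.mk'_surjective _))
  refine P.not_dvd_index (h1.trans ?_)
  exact ⟨_, (Subgroup.relIndex_mul_index Subgroup.le_normalizer).symm⟩

/-- The intersection of the kernels of the extensions of the characters trivial on `D`. -/
noncomputable def extKernel (D : Subgroup G) : Subgroup G :=
  ⨅ χ : {χ : IrrCharacter G // ∃ θ : IrrCharacter (Subgroup.normalizer ((P : Subgroup G) : Set G)), (∀ x : (Subgroup.normalizer ((P : Subgroup G) : Set G)), (χ : G → ℂ) x = (θ : (Subgroup.normalizer ((P : Subgroup G) : Set G)) → ℂ) x) ∧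
    ∀ x : (Subgroup.normalizer ((P : Subgroup G) : Set G)), (x : G) ∈ D → (θ : (Subgroup.normalizer ((P : Subgroup G) : Set G)) → ℂ) x = (θ : (Subgroup.normalizer ((P : Subgroup G) : Set G)) → ℂ) 1}, kerSubgroup χ.1

variable {P}

theorem extKernel_normal (D : Subgroup G) : (extKernel P D).Normal :=
  Subgroup.normal_iInf_normal fun χ => kerSubgroup_normal χ.1

theorem le_extKernel {D : Subgroup G} (hD : D ≤ (Subgroup.normalizer ((P : Subgroup G) : Set G))) : D ≤ extKernel P D := by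
  intro x hx
  simp only [extKernel, Subgroup.mem_iInf, mem_kerSubgroup]
  rintro ⟨χ, θ, hres, hθ⟩
  exact (hres ⟨x, hD hx⟩).trans ((hθ ⟨x, hD hx⟩ hx).trans (hres 1).symm)

theorem extKernel_mono {D E : Subgroup G} (h : D ≤ E) : extKernel P D ≤ extKernel P E := by
  intro x hx
  simp only [extKernel, Subgroup.mem_iInf] at hx ⊢
  rintro ⟨χ, θ, hres, hθ⟩
  exact hx ⟨χ, θ, hres, fun y hy => hθ y (h hy)⟩

variable (hext : ∀ θ : IrrCharacter (Subgroup.normalizer ((P : Subgroup G) : Set G)), ¬ p ∣ charDegree (θ : (Subgroup.normalizer ((P : Subgroup G) : Set G)) → ℂ) →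
  ∃ χ : IrrCharacter G, ∀ x : (Subgroup.normalizer ((P : Subgroup G) : Set G)), (χ : G → ℂ) x = (θ : (Subgroup.normalizer ((P : Subgroup G) : Set G)) → ℂ) x)

include hext in
theorem mem_of_mem_extKernel {D : Subgroup G} (hDn : (D.subgroupOf (Subgroup.normalizer ((P : Subgroup G) : Set G))).Normal) (hD : ⁅(P : Subgroup G), (P : Subgroup G)⁆ ≤ D) {x : G}
    (hx : x ∈ extKernel P D) (hxN : x ∈ (Subgroup.normalizer ((P : Subgroup G) : Set G))) : x ∈ D := by
  by_contra h
  obtain ⟨θ, hθ, hne⟩ := exists_apply_ne (D.subgroupOf (Subgroup.normalizer ((P : Subgroup G) : Set G))) (g := ⟨x, hxN⟩)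
    (fun h' => h (Subgroup.mem_subgroupOf.1 h'))
  obtain ⟨χ, hχ⟩ := hext θ (not_dvd_charDegree P θ fun y hy => hθ y (Subgroup.mem_subgroupOf.2 (hD hy)))
  simp only [extKernel, Subgroup.mem_iInf, mem_kerSubgroup] at hx
  have := hx ⟨χ, θ, hχ, fun y hy => hθ y (Subgroup.mem_subgroupOf.2 hy)⟩
  exact hne (((hχ ⟨x, hxN⟩).symm.trans this).trans (hχ 1))

include hext in
/-- The normal complement of the Sylow normalizer. -/
theorem exists_normal_complement : ∃ K : Subgroup G, K.Normal ∧ K ⊔ (Subgroup.normalizer ((P : Subgroup G) : Set G)) = ⊤ ∧ K ⊓ (Subgroup.normalizer ((P : Subgroup G) : Set G)) = ⊥ := by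
  have hp : p.Prime := Fact.out
  have hPN : (P : Subgroup G) ≤ (Subgroup.normalizer ((P : Subgroup G) : Set G)) := Subgroup.le_normalizer
  have hDP : ⁅(P : Subgroup G), (P : Subgroup G)⁆ ≤ (P : Subgroup G) := Subgroup.commutator_le.2 fun a ha b hb =>
    mul_mem (mul_mem (mul_mem ha hb) (inv_mem ha)) (inv_mem hb)
  set L := extKernel P ⁅(P : Subgroup G), (P : Subgroup G)⁆ with hLdef
  set L0 := extKernel P (P : Subgroup G) with hL0def
  haveI : L.Normal := extKernel_normal _
  haveI : L0.Normal := extKernel_normal _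
  have hLN : ∀ x ∈ L, x ∈ (Subgroup.normalizer ((P : Subgroup G) : Set G)) → x ∈ ⁅(P : Subgroup G), (P : Subgroup G)⁆ := fun x hx hxN =>
    mem_of_mem_extKernel hext (normal_commutator_subgroupOf P) le_rfl hx hxN
  have hL0N : ∀ x ∈ L0, x ∈ (Subgroup.normalizer ((P : Subgroup G) : Set G)) → x ∈ (P : Subgroup G) := fun x hx hxN =>
    mem_of_mem_extKernel hext Subgroup.normal_in_normalizer hDP hx hxN
  have hDL : ⁅(P : Subgroup G), (P : Subgroup G)⁆ ≤ L := le_extKernel (hDP.trans hPN)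
  have hPL0 : (P : Subgroup G) ≤ L0 := le_extKernel hPN
  have hLL0 : L ≤ L0 := extKernel_mono hDP
  -- the quotient
  set π := QuotientGroup.mk' L with hπdef
  have hπs : Function.Surjective π := QuotientGroup.mk'_surjective L
  let Pb : Sylow p (G ⧸ L) := P.mapSurjective hπs
  have hPb : (Pb : Subgroup (G ⧸ L)) = (P : Subgroup G).map π := Sylow.coe_mapSurjective hπs P
  have hab : ∀ a ∈ (Pb : Subgroup (G ⧸ L)), ∀ b ∈ (Pb : Subgroup (G ⧸ L)), a * b = b * a := by
    rw [hPb]
    rintro _ ⟨a, ha, rfl⟩ _ ⟨b, hb, rfl⟩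
    rw [← commutatorElement_eq_one_iff_mul_comm, ← map_commutatorElement]
    exact (QuotientGroup.eq_one_iff _).2 (hDL (Subgroup.commutator_mem_commutator ha hb))
  have hnorm : ∀ q ∈ Subgroup.normalizer ((Pb : Subgroup (G ⧸ L)) : Set (G ⧸ L)),
      ∃ n ∈ (Subgroup.normalizer ((P : Subgroup G) : Set G)), π n = q := by
    intro q hq
    obtain ⟨g, rfl⟩ := hπs q
    set S := (Pb : Subgroup (G ⧸ L)).comap π
    have hPS : (P : Subgroup G) ≤ S := fun x hx => by
      rw [Subgroup.mem_comap, hPb]; exact Subgroup.mem_map_of_mem π hx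
    have hgPS : ((g • P : Sylow p G) : Subgroup G) ≤ S := fun x hx => by
      rw [Sylow.coe_subgroup_smul] at hx
      obtain ⟨y, hy, rfl⟩ := hx
      show π (g * y * g⁻¹) ∈ (Pb : Subgroup (G ⧸ L))
      rw [map_mul, map_mul, map_inv]
      exact (Subgroup.mem_normalizer_iff.1 hq (π y)).1 (hPS hy)
    obtain ⟨s, hs⟩ := MulAction.exists_smul_eq S ((g • P).subtype hgPS) (P.subtype hPS)
    rw [Sylow.smul_subtype] at hs
    have h1 : ((s : G) * g) • P = P := by
      rw [mul_smul]; exact Sylow.subtype_injective hs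
    obtain ⟨y, hy, hys⟩ : π (s : G) ∈ (P : Subgroup G).map π := by rw [← hPb]; exact s.2
    refine ⟨y⁻¹ * ((s : G) * g), mul_mem (inv_mem (hPN hy)) (Sylow.smul_eq_iff_mem_normalizer.1 h1), ?_⟩
    rw [map_mul, map_inv, hys, map_mul, inv_mul_cancel_left]
  -- the normal subgroup between
  set M := L0.map π with hMdef
  haveI hMn : M.Normal := Subgroup.Normal.map inferInstance π hπs
  have hPM : (Pb : Subgroup (G ⧸ L)) ≤ M := by rw [hPb]; exact Subgroup.map_mono hPL0
  have hMN : ∀ m ∈ M, m ∈ Subgroup.normalizer ((Pb : Subgroup (G ⧸ L)) : Set (G ⧸ L)) →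
      m ∈ (Pb : Subgroup (G ⧸ L)) := by
    intro m hm hmn
    obtain ⟨n, hn, rfl⟩ := hnorm m hmn
    obtain ⟨l, hl, hln⟩ := hm
    have h1 : l⁻¹ * n ∈ L := QuotientGroup.eq.1 hln
    have h2 : n ∈ L0 := by simpa using mul_mem hl (hLL0 h1)
    rw [hPb]
    exact Subgroup.mem_map_of_mem π (hL0N n h2 hn)
  let PM : Sylow p M := Pb.subtype hPM
  have hburn : Subgroup.normalizer ((PM : Subgroup M) : Set M) ≤
      Subgroup.centralizer ((PM : Subgroup M) : Set M) := by
    intro m hm
    have h1 : (m : G ⧸ L) ∈ Subgroup.normalizer ((Pb : Subgroup (G ⧸ L)) : Set (G ⧸ L)) := by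
      refine Subgroup.mem_normalizer_iff.2 fun y => ⟨fun hy => ?_, fun hy => ?_⟩
      · exact (Subgroup.mem_normalizer_iff.1 hm ⟨y, hPM hy⟩).1 hy
      · have hyM : y ∈ M := by
          have := hMn.conj_mem _ (hPM hy) (m : G ⧸ L)⁻¹
          simpa [mul_assoc] using this
        exact (Subgroup.mem_normalizer_iff.1 hm ⟨y, hyM⟩).2 hy
    refine Subgroup.mem_centralizer_iff.2 fun y hy => Subtype.ext ?_
    exact hab _ hy _ (hMN m m.2 h1)
  set Q1 := (MonoidHom.transferSylow PM hburn).ker with hQ1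
  haveI : Q1.Normal := MonoidHom.normal_ker _
  have hcompl := MonoidHom.ker_transferSylow_isComplement' PM hburn
  have hQ1p : ¬ p ∣ Nat.card Q1 := MonoidHom.not_dvd_card_ker_transferSylow PM hburn
  obtain ⟨kM, hkM⟩ := PM.2.exists_card_eq
  haveI hQn : (Q1.map M.subtype).Normal :=
    normal_map_subtype Q1 hQ1p (k := kM) (hcompl.symm.index_eq_card.trans hkM)
  haveI := Fintype.ofFinite (G ⧸ L)
  haveI := Fintype.ofFinite (Q1.map M.subtype)
  have hfpf : Q1.map M.subtype ⊓ Subgroup.centralizer ((Pb : Subgroup (G ⧸ L)) : Set (G ⧸ L)) = ⊥ := by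
    refine (Subgroup.eq_bot_iff_forall _).2 ?_
    rintro _ ⟨⟨y, hy, rfl⟩, hyc⟩
    have h1 : (y : G ⧸ L) ∈ Subgroup.normalizer ((Pb : Subgroup (G ⧸ L)) : Set (G ⧸ L)) :=
      Subgroup.centralizer_le_normalizer _ hyc
    have h2 : y ∈ (PM : Subgroup M) := hMN _ y.2 h1
    have h3 := Subgroup.disjoint_def.1 hcompl.disjoint hy h2
    rw [h3]; rfl
  have hQbot : Q1 = ⊥ := by
    refine (Subgroup.eq_bot_iff_forall _).2 fun y hy => Subtype.ext ?_
    obtain ⟨g, hg⟩ := hπs (y : G ⧸ L)
    show (y : G ⧸ L) = 1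
    rw [← hg]
    refine (QuotientGroup.eq_one_iff g).2 ?_
    simp only [hLdef, extKernel, Subgroup.mem_iInf, mem_kerSubgroup]
    rintro ⟨χ, θ, hres, hθ⟩
    have hker : ∀ x ∈ L, (χ : G → ℂ) x = (χ : G → ℂ) 1 := fun x hx => by
      simp only [hLdef, extKernel, Subgroup.mem_iInf, mem_kerSubgroup] at hx
      exact hx ⟨χ, θ, hres, hθ⟩
    obtain ⟨ψ, rfl⟩ := exists_infl L χ hker
    have hd : charDegree (ψ : G ⧸ L → ℂ) = charDegree (θ : (Subgroup.normalizer ((P : Subgroup G) : Set G)) → ℂ) := by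
      rw [← charDegree_infl L ψ]
      exact congrArg (fun z : ℂ => ⌊z.re⌋₊) (hres 1)
    have := PPrimeKernel.mem_kernel_of_mem Pb hfpf ψ (by rw [hd]; exact not_dvd_charDegree P θ hθ)
      ⟨π g, by rw [hg]; exact Subgroup.mem_map_of_mem _ hy⟩
    exact this
  have hMP : M ≤ (Pb : Subgroup (G ⧸ L)) := fun m hm => by
    have htop : (PM : Subgroup M) = ⊤ :=
      Subgroup.isComplement'_bot_left.1 (hQbot ▸ hcompl)
    have : (⟨m, hm⟩ : M) ∈ (PM : Subgroup M) := htop ▸ Subgroup.mem_top _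
    exact this
  have hPbn : (Pb : Subgroup (G ⧸ L)).Normal := le_antisymm hPM hMP ▸ hMn
  have hsupL : ∀ g : G, ∃ n ∈ (Subgroup.normalizer ((P : Subgroup G) : Set G)), n⁻¹ * g ∈ L := fun g => by
    obtain ⟨n, hn, hng⟩ := hnorm (π g) (by rw [Subgroup.normalizer_eq_top]; exact Subgroup.mem_top _)
    exact ⟨n, hn, QuotientGroup.eq.1 hng⟩
  -- the normal `p`-complement of `L`
  obtain ⟨Q, K0, hK0n, hK0c⟩ := Transfer.hasNormalPComplement_of_inf_le_frattini P L (by
    rintro x ⟨hxL, hxP⟩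
    have hxD := hLN x hxL (hPN hxP)
    rw [← Subgroup.map_subtype_commutator] at hxD
    exact Subgroup.map_mono (PGroups.commutator_le_frattini' P.2) hxD)
  obtain ⟨k, hk⟩ := Q.2.exists_card_eq
  have hK0i : K0.index = p ^ k := hK0c.symm.index_eq_card.trans hk
  have hK0p : ¬ p ∣ Nat.card K0 := by
    rw [← hK0c.index_eq_card]; exact Q.not_dvd_index
  haveI := hK0n
  haveI hKn : (K0.map L.subtype).Normal := normal_map_subtype K0 hK0p hK0i
  refine ⟨K0.map L.subtype, hKn, ?_, ?_⟩
  · set X := K0.map L.subtype ⊔ (Subgroup.normalizer ((P : Subgroup G) : Set G)) with hX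
    have htop : X ⊔ L = ⊤ := by
      refine eq_top_iff.2 fun g _ => ?_
      obtain ⟨n, hn, hng⟩ := hsupL g
      rw [← mul_inv_cancel_left n g]
      exact Subgroup.mul_mem_sup (le_sup_right (a := K0.map L.subtype) hn) hng
    have h1 : X.relIndex L * L.index = L.relIndex X * X.index := by
      rw [← Subgroup.inf_relIndex_right X L, Subgroup.relIndex_mul_index inf_le_right,
        ← Subgroup.inf_relIndex_right L X, inf_comm L, Subgroup.relIndex_mul_index inf_le_left]
    have h2 : L.relIndex X = L.index := by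
      rw [← Subgroup.relIndex_sup_right (H := X) (K := L), htop, Subgroup.relIndex_top_right]
    rw [h2, mul_comm] at h1
    have h3 : X.relIndex L = X.index :=
      Nat.eq_of_mul_eq_mul_left (Nat.pos_of_ne_zero Subgroup.index_ne_zero_of_finite) h1
    refine Subgroup.index_eq_one.1 (Nat.eq_one_of_dvd_coprimes
      (?_ : Nat.Coprime (p ^ k) X.index) ?_ dvd_rfl)
    · exact ((hp.coprime_iff_not_dvd).2 fun hd => P.not_dvd_index
        (hd.trans (Subgroup.index_dvd_of_le (hPN.trans le_sup_right)))).pow_left k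
    · rw [← h3, ← hK0i]
      exact Subgroup.index_dvd_of_le fun x hx =>
        Subgroup.mem_subgroupOf.2 (le_sup_left (b := (Subgroup.normalizer ((P : Subgroup G) : Set G))) (Subgroup.mem_map_of_mem L.subtype hx))
  · refine (Subgroup.eq_bot_iff_forall _).2 ?_
    rintro _ ⟨⟨y, hy, rfl⟩, hyN⟩
    have h1 : (y : G) ∈ (P : Subgroup G) := hDP (hLN _ y.2 hyN)
    obtain ⟨j, hj⟩ := P.2.exists_card_eq
    refine orderOf_eq_one_iff.1 (Nat.eq_one_of_dvd_coprimes
      ((hp.coprime_iff_not_dvd.2 hK0p).pow_left j) ?_ ?_)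
    · rw [← hj]; exact Subgroup.orderOf_dvd_natCard _ h1
    · show orderOf (y : G) ∣ _
      rw [Subgroup.orderOf_coe]; exact Subgroup.orderOf_dvd_natCard _ hy

end CfsgLib.SylowNormalizerExtend
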