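import Cfsg.Agent.Lib.CharDegree.SylowNormalizerExtend

/-!
# The squares of the degrees prime to `p` and the Sylow normalizer

The sum of the squares of the degrees prime to `p` is at least the index of the derived subgroup
of a Sylow `p`-subgroup in its normalizer, with equality exactly when the normalizer has a normal
complement.
-/

set_option autoImplicit false

namespace CfsgLib.SylowNormalizerSquares

open Cfsg CfsgLib.Char CfsgLib.CharDegree CfsgLib.SylowNormalizerExtend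
open scoped commutatorElement Classical

variable {G : Type*} [Group G] [Fintype G] {p : ℕ} [Fact p.Prime]

/-- When the Sylow subgroup is normal, characters of degree prime to `p` are trivial on its
derived subgroup. -/
theorem apply_eq_of_mem_commutator (P : Sylow p G) (hP : (P : Subgroup G).Normal)
    (χ : IrrCharacter G) (hχ : ¬ p ∣ charDegree (χ : G → ℂ)) {x : G}
    (hx : x ∈ ⁅(P : Subgroup G), (P : Subgroup G)⁆) : (χ : G → ℂ) x = (χ : G → ℂ) 1 := by
  have := hP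
  have hker := PPrimeKernel.kernelSubgroup_eq (G := G) P ⊥ (bot_inf_eq _) fun L hL hLc => by
    have := hL
    have hcop := PPrimeKernel.coprime_of_inf_centralizer_eq_bot P hLc
    have hinf : L ⊓ (P : Subgroup G) = ⊥ := disjoint_iff.1 (Subgroup.disjoint_of_coprime_natCard hcop)
    have hle : L ≤ Subgroup.centralizer ((P : Subgroup G) : Set G) := fun l hl =>
      Subgroup.mem_centralizer_iff.2 fun y hy =>
        ((Subgroup.commute_of_normal_of_disjoint L (P : Subgroup G) hL hP (disjoint_iff.2 hinf)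
          l y hl hy).eq).symm
    exact le_of_eq ((inf_eq_left.2 hle).symm.trans hLc)
  have hmem : x ∈ PPrimeKernel.kernelSubgroup (G := G) p := by
    rw [hker]
    exact (Subgroup.normal_le_normalCore.2 le_rfl) ((le_sup_right : _ ≤ (⊥ : Subgroup G) ⊔ _) hx)
  exact PPrimeKernel.mem_kernelSubgroup.1 hmem χ hχ

variable (P : Sylow p G)

local notation "𝒩" => Subgroup.normalizer ((P : Subgroup G) : Set G)

/-- The derived subgroup of the Sylow subgroup inside its normalizer. -/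
noncomputable def derived : Subgroup ↥𝒩 :=
  (⁅(P : Subgroup G), (P : Subgroup G)⁆).subgroupOf 𝒩

theorem trivial_on_derived (θ : IrrCharacter ↥𝒩)
    (hθ : ¬ p ∣ charDegree (θ : ↥𝒩 → ℂ)) :
    ∀ x ∈ derived P, (θ : ↥𝒩 → ℂ) x = (θ : ↥𝒩 → ℂ) 1 := by
  intro x hx
  have : Fintype ↥𝒩 := Fintype.ofFinite _
  let Q : Sylow p ↥𝒩 := P.subtype Subgroup.le_normalizer
  have hQ : (Q : Subgroup ↥𝒩) = (P : Subgroup G).subgroupOf 𝒩 := rfl
  have hQn : (Q : Subgroup ↥𝒩).Normal := by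
    rw [hQ]; exact Subgroup.normal_in_normalizer
  have hmap : (⁅(Q : Subgroup ↥𝒩), (Q : Subgroup ↥𝒩)⁆).map (𝒩).subtype =
      ⁅(P : Subgroup G), (P : Subgroup G)⁆ := by
    rw [Subgroup.map_commutator, hQ, Subgroup.subgroupOf_map_subtype,
      inf_eq_left.2 Subgroup.le_normalizer]
  obtain ⟨y, hy, hyx⟩ := hmap ▸ (Subgroup.mem_subgroupOf.1 hx)
  obtain rfl : y = x := Subtype.ext hyx
  exact apply_eq_of_mem_commutator Q hQn θ hθ hy

/-- The `p'`-degree characters of the normalizer are those trivial on the derived subgroup of the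
Sylow subgroup. -/
theorem not_dvd_iff (θ : IrrCharacter ↥𝒩) :
    (¬ p ∣ charDegree (θ : ↥𝒩 → ℂ)) ↔
      ∀ x ∈ derived P, (θ : ↥𝒩 → ℂ) x = (θ : ↥𝒩 → ℂ) 1 :=
  ⟨trivial_on_derived P θ, fun h =>
    not_dvd_charDegree P θ fun x hx => h x (Subgroup.mem_subgroupOf.2 hx)⟩

theorem card_mul_sum [Fintype (IrrCharacter ↥𝒩)] :
    Nat.card ↥𝒩 = Nat.card (commutator ↥(P : Subgroup G)) *
      ∑ θ ∈ Finset.univ.filter (fun θ : IrrCharacter ↥𝒩 => ¬ p ∣ charDegree (θ : ↥𝒩 → ℂ)),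
        charDegree (θ : ↥𝒩 → ℂ) ^ 2 := by
  have : (derived P).Normal := normal_commutator_subgroupOf P
  have hle : ⁅(P : Subgroup G), (P : Subgroup G)⁆ ≤ 𝒩 :=
    (Subgroup.commutator_le.2 fun a ha b hb =>
      mul_mem (mul_mem (mul_mem ha hb) (inv_mem ha)) (inv_mem hb)).trans Subgroup.le_normalizer
  have hcard : Nat.card (derived P) = Nat.card (commutator ↥(P : Subgroup G)) := by
    rw [derived, Nat.card_congr (Subgroup.subgroupOfEquivOfLe hle).toEquiv,
      ← Subgroup.map_subtype_commutator (P : Subgroup G),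
      Subgroup.card_map_of_injective (P : Subgroup G).subtype_injective]
  rw [← hcard, ← (derived P).card_mul_index]
  congr 1
  rw [← Nat.cast_inj (R := ℂ), ← sum_sq_degree_of_le_ker (derived P), Nat.cast_sum,
    Finset.sum_filter]
  refine Finset.sum_congr rfl fun θ _ => ?_
  by_cases h : ¬ p ∣ charDegree (θ : ↥𝒩 → ℂ)
  · rw [if_pos h, if_pos ((not_dvd_iff P θ).1 h), Nat.cast_pow, cast_irrDegree]
  · rw [if_neg h, if_neg fun h' => h ((not_dvd_iff P θ).2 h')]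

/-- Constituents of one restriction: the squares of their degrees. -/
theorem sum_sq_le {H : Subgroup G} [Fintype H] (χ : IrrCharacter G)
    (S : Finset (IrrCharacter H))
    (hS : ∀ θ ∈ S, classInner (fun h : H => (χ : G → ℂ) h) (θ : H → ℂ) ≠ 0) :
    ∑ θ ∈ S, charDegree (θ : H → ℂ) ^ 2 ≤ charDegree (χ : G → ℂ) ^ 2 ∧
      (∑ θ ∈ S, charDegree (θ : H → ℂ) ^ 2 = charDegree (χ : G → ℂ) ^ 2 →
        ∀ θ ∈ S, ∀ h : H, (χ : G → ℂ) h = (θ : H → ℂ) h) := by
  have := Fintype.ofFinite (IrrCharacter H)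
  obtain ⟨m, hm⟩ := IsChar.exists_sum (IsChar.restrict H (IsIrr.isCharacter χ.2))
  have hdeg : charDegree (χ : G → ℂ) = ∑ θ, m θ * charDegree (θ : H → ℂ) := by
    refine Nat.cast_injective (R := ℂ) ?_
    rw [cast_irrDegree, show (χ : G → ℂ) 1 = (fun h : H => (χ : G → ℂ) h) 1 from rfl, hm]
    simp [cast_irrDegree]
  have hm1 : ∀ θ ∈ S, 1 ≤ m θ := fun θ hθ => Nat.one_le_iff_ne_zero.2 fun h0 => hS θ hθ (by
    rw [hm, classInner_sum_irr, h0, Nat.cast_zero])
  have hbound : ∑ θ ∈ S, charDegree (θ : H → ℂ) ≤ charDegree (χ : G → ℂ) := by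
    rw [hdeg]
    refine le_trans (Finset.sum_le_sum fun θ hθ => Nat.le_mul_of_pos_left _ (hm1 θ hθ)) ?_
    exact Finset.sum_le_sum_of_subset_of_nonneg (Finset.subset_univ S) fun _ _ _ => Nat.zero_le _
  have hle : ∑ θ ∈ S, charDegree (θ : H → ℂ) ^ 2 ≤
      (∑ θ ∈ S, charDegree (θ : H → ℂ)) * charDegree (χ : G → ℂ) := by
    rw [Finset.sum_mul]
    refine Finset.sum_le_sum fun θ hθ => ?_
    rw [pow_two]
    exact Nat.mul_le_mul_left _
      ((Finset.single_le_sum (f := fun θ : IrrCharacter H => charDegree (θ : H → ℂ))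
        (fun _ _ => Nat.zero_le _) hθ).trans hbound)
  refine ⟨hle.trans (by rw [pow_two]; exact Nat.mul_le_mul_right _ hbound), fun heq θ hθ h => ?_⟩
  have htop : charDegree (θ : H → ℂ) = charDegree (χ : G → ℂ) := by
    by_contra hne
    have hlt : charDegree (θ : H → ℂ) < charDegree (χ : G → ℂ) :=
      lt_of_le_of_ne ((Finset.single_le_sum (f := fun θ : IrrCharacter H => charDegree (θ : H → ℂ))
        (fun _ _ => Nat.zero_le _) hθ).trans hbound) hne
    have hstrict : ∑ θ ∈ S, charDegree (θ : H → ℂ) ^ 2 <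
        ∑ θ ∈ S, charDegree (θ : H → ℂ) * charDegree (χ : G → ℂ) := by
      refine Finset.sum_lt_sum (fun η hη => ?_) ⟨θ, hθ, ?_⟩
      · rw [pow_two]
        exact Nat.mul_le_mul_left _
          ((Finset.single_le_sum (f := fun θ : IrrCharacter H => charDegree (θ : H → ℂ))
            (fun _ _ => Nat.zero_le _) hη).trans hbound)
      · rw [pow_two]
        exact Nat.mul_lt_mul_of_pos_left hlt (charDegree_pos θ)
    rw [heq, ← Finset.sum_mul, pow_two] at hstrict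
    exact absurd (Nat.mul_le_mul_right _ hbound) (not_le.2 hstrict)
  have hrest : ∀ η : IrrCharacter H, η ≠ θ → m η = 0 := by
    intro η hη
    by_contra h0
    have h2 : m θ * charDegree (θ : H → ℂ) + m η * charDegree (η : H → ℂ) ≤
        charDegree (χ : G → ℂ) := by
      rw [hdeg, ← Finset.sum_pair (f := fun ζ => m ζ * charDegree (ζ : H → ℂ)) (Ne.symm hη)]
      exact Finset.sum_le_sum_of_subset_of_nonneg (Finset.subset_univ _) fun _ _ _ => Nat.zero_le _
    have h3 := Nat.le_mul_of_pos_left (charDegree (θ : H → ℂ)) (hm1 θ hθ)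
    have h4 : 0 < m η * charDegree (η : H → ℂ) :=
      Nat.mul_pos (Nat.pos_of_ne_zero h0) (charDegree_pos η)
    omega
  have hmθ : m θ = 1 := by
    have h5 : charDegree (χ : G → ℂ) = m θ * charDegree (θ : H → ℂ) :=
      hdeg.trans (Finset.sum_eq_single θ (fun η _ hη => by rw [hrest η hη, zero_mul])
        fun h' => absurd (Finset.mem_univ θ) h')
    rw [htop] at h5
    exact Nat.eq_of_mul_eq_mul_right (charDegree_pos χ) (by rw [one_mul]; exact h5.symm)
  have hval := congrFun hm h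
  simp only [Finset.sum_apply, Pi.smul_apply, smul_eq_mul] at hval
  rw [hval, Finset.sum_eq_single θ (fun η _ hη => by rw [hrest η hη, Nat.cast_zero, zero_mul])
    (fun h' => absurd (Finset.mem_univ θ) h'), hmθ, Nat.cast_one, one_mul]

/-- The inequality, with every character extending in the case of equality. -/
theorem main_le [Fintype (IrrCharacter ↥𝒩)] [Fintype (IrrCharacter G)] :
    ∑ θ ∈ Finset.univ.filter (fun θ : IrrCharacter ↥𝒩 => ¬ p ∣ charDegree (θ : ↥𝒩 → ℂ)),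
        charDegree (θ : ↥𝒩 → ℂ) ^ 2 ≤
      ∑ χ ∈ Finset.univ.filter (fun χ : IrrCharacter G => ¬ p ∣ charDegree (χ : G → ℂ)),
        charDegree (χ : G → ℂ) ^ 2 ∧
    (∑ θ ∈ Finset.univ.filter (fun θ : IrrCharacter ↥𝒩 => ¬ p ∣ charDegree (θ : ↥𝒩 → ℂ)),
        charDegree (θ : ↥𝒩 → ℂ) ^ 2 =
      ∑ χ ∈ Finset.univ.filter (fun χ : IrrCharacter G => ¬ p ∣ charDegree (χ : G → ℂ)),
        charDegree (χ : G → ℂ) ^ 2 →
      ∀ θ : IrrCharacter ↥𝒩, ¬ p ∣ charDegree (θ : ↥𝒩 → ℂ) →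
        ∃ χ : IrrCharacter G, ∀ x : ↥𝒩, (χ : G → ℂ) x = (θ : ↥𝒩 → ℂ) x) := by
  have : Fintype ↥𝒩 := Fintype.ofFinite _
  have hidx : ¬ p ∣ (𝒩).index := fun h =>
    P.not_dvd_index (h.trans (Subgroup.index_dvd_of_le Subgroup.le_normalizer))
  choose f hf1 hf2 using fun θ : {θ : IrrCharacter ↥𝒩 // ¬ p ∣ charDegree (θ : ↥𝒩 → ℂ)} =>
    PPrimeKernel.exists_above (p := p) hidx θ.1 θ.2
  let g : IrrCharacter ↥𝒩 → IrrCharacter G := fun θ =>
    if h : ¬ p ∣ charDegree (θ : ↥𝒩 → ℂ) then f ⟨θ, h⟩ else trivChar G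
  set A := Finset.univ.filter (fun θ : IrrCharacter ↥𝒩 => ¬ p ∣ charDegree (θ : ↥𝒩 → ℂ)) with hA
  set B := Finset.univ.filter (fun χ : IrrCharacter G => ¬ p ∣ charDegree (χ : G → ℂ)) with hB
  have hgB : ∀ θ ∈ A, g θ ∈ B := fun θ hθ => by
    have h := (Finset.mem_filter.1 hθ).2
    simp only [g, dif_pos h]
    exact Finset.mem_filter.2 ⟨Finset.mem_univ _, hf1 _⟩
  have hfib : ∀ χ : IrrCharacter G, ∀ θ ∈ A.filter (fun θ => g θ = χ),
      classInner (fun h : ↥𝒩 => (χ : G → ℂ) h) (θ : ↥𝒩 → ℂ) ≠ 0 := by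
    intro χ θ hθ
    obtain ⟨hθA, rfl⟩ := Finset.mem_filter.1 hθ
    have h := (Finset.mem_filter.1 hθA).2
    simp only [g, dif_pos h]
    exact hf2 ⟨θ, h⟩
  rw [← Finset.sum_fiberwise_of_maps_to hgB]
  have hterm : ∀ χ ∈ B, ∑ θ ∈ A.filter (fun θ => g θ = χ), charDegree (θ : ↥𝒩 → ℂ) ^ 2 ≤
      charDegree (χ : G → ℂ) ^ 2 := fun χ _ => (sum_sq_le χ _ (hfib χ)).1
  refine ⟨Finset.sum_le_sum hterm, fun heq θ hθ => ?_⟩
  have hθA : θ ∈ A := Finset.mem_filter.2 ⟨Finset.mem_univ _, hθ⟩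
  have h := (Finset.sum_eq_sum_iff_of_le hterm).1 heq (g θ) (hgB θ hθA)
  exact ⟨g θ, (sum_sq_le (g θ) _ (hfib (g θ))).2 h θ (Finset.mem_filter.2 ⟨hθA, rfl⟩)⟩

/-- A normal complement gives the reverse inequality. -/
theorem le_of_complement [Fintype (IrrCharacter ↥𝒩)] [Fintype (IrrCharacter G)] {K : Subgroup G}
    (hK : K.Normal) (hinf : K ⊓ 𝒩 = ⊥) (hsup : K ⊔ 𝒩 = ⊤) :
    ∑ χ ∈ Finset.univ.filter (fun χ : IrrCharacter G => ¬ p ∣ charDegree (χ : G → ℂ)),
        charDegree (χ : G → ℂ) ^ 2 ≤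
      ∑ θ ∈ Finset.univ.filter (fun θ : IrrCharacter ↥𝒩 => ¬ p ∣ charDegree (θ : ↥𝒩 → ℂ)),
        charDegree (θ : ↥𝒩 → ℂ) ^ 2 := by
  have := hK
  have : Fintype ↥K := Fintype.ofFinite _
  have hC : K ⊓ Subgroup.centralizer ((P : Subgroup G) : Set G) = ⊥ :=
    eq_bot_iff.2 (le_trans (inf_le_inf_left K (Subgroup.centralizer_le_normalizer _)) hinf.le)
  have hker : ∀ χ : IrrCharacter G, ¬ p ∣ charDegree (χ : G → ℂ) →
      ∀ k ∈ K, (χ : G → ℂ) k = (χ : G → ℂ) 1 := fun χ hχ k hk =>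
    PPrimeKernel.mem_kernel_of_mem P hC χ hχ ⟨k, hk⟩
  let j : ↥𝒩 →* G ⧸ K := (QuotientGroup.mk' K).comp (𝒩).subtype
  have hsur : Function.Surjective j := by
    intro q
    obtain ⟨x, rfl⟩ := QuotientGroup.mk'_surjective K q
    have hx : x ∈ ((K ⊔ 𝒩 : Subgroup G) : Set G) := by rw [hsup]; trivial
    rw [Subgroup.normal_mul] at hx
    obtain ⟨k, hk, n, hn, rfl⟩ := Set.mem_mul.1 hx
    refine ⟨⟨n, hn⟩, ?_⟩
    rw [map_mul, show QuotientGroup.mk' K k = 1 from (QuotientGroup.eq_one_iff k).2 hk, one_mul]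
    rfl
  let r : IrrCharacter G → IrrCharacter ↥𝒩 := fun χ =>
    if h : ¬ p ∣ charDegree (χ : G → ℂ) then
      ⟨_, IsIrr.comp_surjective j hsur (exists_infl K χ (hker χ h)).choose.2⟩
    else trivChar _
  have hr : ∀ χ : IrrCharacter G, ¬ p ∣ charDegree (χ : G → ℂ) →
      ∀ n : ↥𝒩, (r χ : ↥𝒩 → ℂ) n = (χ : G → ℂ) n := by
    intro χ h n
    simp only [r, dif_pos h]
    exact congrFun (congrArg Subtype.val (exists_infl K χ (hker χ h)).choose_spec) (n : G)
  have hrdeg : ∀ χ : IrrCharacter G, ¬ p ∣ charDegree (χ : G → ℂ) →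
      charDegree (r χ : ↥𝒩 → ℂ) = charDegree (χ : G → ℂ) := by
    intro χ h
    refine Nat.cast_injective (R := ℂ) ?_
    rw [cast_irrDegree, cast_irrDegree]
    exact hr χ h 1
  rw [Finset.sum_congr rfl fun (χ : IrrCharacter G) hχ =>
    show charDegree (χ : G → ℂ) ^ 2 = charDegree (r χ : ↥𝒩 → ℂ) ^ 2 by
      rw [hrdeg χ (Finset.mem_filter.1 hχ).2]]
  rw [← Finset.sum_image (f := fun θ : IrrCharacter ↥𝒩 => charDegree (θ : ↥𝒩 → ℂ) ^ 2) (g := r)]
  · refine Finset.sum_le_sum_of_subset_of_nonneg (fun θ hθ => ?_) fun _ _ _ => Nat.zero_le _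
    obtain ⟨χ, hχ, rfl⟩ := Finset.mem_image.1 hθ
    refine Finset.mem_filter.2 ⟨Finset.mem_univ _, ?_⟩
    rw [hrdeg χ (Finset.mem_filter.1 hχ).2]
    exact (Finset.mem_filter.1 hχ).2
  · intro χ hχ ψ hψ h
    have h1 := (Finset.mem_filter.1 hχ).2
    have h2 := (Finset.mem_filter.1 hψ).2
    obtain ⟨χ', rfl⟩ := exists_infl K χ (hker χ h1)
    obtain ⟨ψ', rfl⟩ := exists_infl K ψ (hker ψ h2)
    refine congrArg (infl K) (irr_ext fun q => ?_)
    obtain ⟨n, rfl⟩ := hsur q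
    exact ((hr _ h1 n).symm.trans (congrFun (congrArg Subtype.val h) n)).trans (hr _ h2 n)

/-- The sum of the squares of the degrees prime to `p`. -/
theorem squares [Fintype (IrrCharacter G)] :
    Nat.card ↥𝒩 ≤ Nat.card (commutator ↥(P : Subgroup G)) *
      ∑ χ ∈ Finset.univ.filter (fun χ : IrrCharacter G => ¬ p ∣ charDegree (χ : G → ℂ)),
        charDegree (χ : G → ℂ) ^ 2 ∧
    (Nat.card ↥𝒩 = Nat.card (commutator ↥(P : Subgroup G)) *
      ∑ χ ∈ Finset.univ.filter (fun χ : IrrCharacter G => ¬ p ∣ charDegree (χ : G → ℂ)),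
        charDegree (χ : G → ℂ) ^ 2 ↔
      ∃ K : Subgroup G, K.Normal ∧ K ⊓ 𝒩 = ⊥ ∧ K ⊔ 𝒩 = ⊤) := by
  have : Fintype (IrrCharacter ↥𝒩) := Fintype.ofFinite _
  have hpos : 0 < Nat.card (commutator ↥(P : Subgroup G)) := Nat.card_pos
  rw [card_mul_sum P]
  refine ⟨Nat.mul_le_mul_left _ (main_le P).1, fun h => ?_, ?_⟩
  · obtain ⟨K, hK, hsup, hinf⟩ := SylowNormalizerExtend.exists_normal_complement
      ((main_le P).2 (Nat.eq_of_mul_eq_mul_left hpos h))
    exact ⟨K, hK, hinf, hsup⟩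
  · rintro ⟨K, hK, hinf, hsup⟩
    rw [le_antisymm (main_le P).1 (le_of_complement P hK hinf hsup)]

end CfsgLib.SylowNormalizerSquares
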