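import Cfsg.Prelude.Def_Transfer
import Cfsg.Agent.Lib.Core.Basic
import Cfsg.Agent.Lib.Core.Cores
import Cfsg.Agent.Lib.ClassSizes.Kulakoff
import Cfsg.Agent.Lib.Core.FPF
import Cfsg.Agent.Lib.Core.UniqueOrderP
import Cfsg.Agent.Lib.Components.FStar
import Cfsg.Agent.Lib.LocalEven.Zsigmondy
import Mathlib.GroupTheory.SchurZassenhaus
import Mathlib.GroupTheory.SemidirectProduct

/-!
# Solvable groups transitive on an elementary abelian group with `p`-groups as point stabilisers

Such a group has a normal `p`-complement and abelian Sylow `p`-subgroups. The proof finds a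
normal subgroup whose centraliser is semiregular with abelian quotient: either the Fitting
subgroup (when it is abelian, hence cyclic), or a subgroup generated by an element whose order is
a primitive prime divisor of `|N| - 1`.
-/

namespace CfsgLib.CharDegree.TransSolv

open Cfsg
open scoped Pointwise

variable {X N : Type*} [Group X] [Finite X] [CommGroup N] [Finite N]

/-- The hypotheses. -/
structure Data (p : ℕ) (ψ : X →* MulAut N) : Prop where
  inj : Function.Injective ψ
  trans : ∀ v w : N, v ≠ 1 → w ≠ 1 → ∃ x, ψ x v = w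
  stab : ∀ v : N, v ≠ 1 → ∀ x, ψ x v = v → ∃ k, orderOf x = p ^ k
  exp : ∀ v : N, v ^ p = 1
  nt : Nontrivial N

/-- The conclusion. -/
def Concl (p : ℕ) (X : Type*) [Group X] : Prop :=
  Cfsg.HasNormalPComplement p X ∧ ∀ Q : Sylow p X, IsMulCommutative (Q : Subgroup X)

/-- A normal subgroup of order prime to `p` with abelian quotient. -/
theorem concl_of_quotient {p : ℕ} [hp : Fact p.Prime] (K : Subgroup X) [K.Normal]
    (hK : ¬ p ∣ Nat.card K) (hcomm : ∀ a b : X, a⁻¹ * b⁻¹ * a * b ∈ K) : Concl p X := by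
  have hab : ∀ a b : X ⧸ K, a * b = b * a := fun a b => by
    obtain ⟨a, rfl⟩ := QuotientGroup.mk_surjective a
    obtain ⟨b, rfl⟩ := QuotientGroup.mk_surjective b
    rw [← QuotientGroup.mk_mul, ← QuotientGroup.mk_mul, QuotientGroup.eq]
    have h := hcomm b a
    have e : (a * b)⁻¹ * (b * a) = b⁻¹ * a⁻¹ * b * a := by group
    rwa [e]
  refine ⟨?_, fun Q => ⟨⟨fun x y => Subtype.ext ?_⟩⟩⟩
  · obtain ⟨P⟩ := (inferInstance : Nonempty (Sylow p (X ⧸ K)))
    have hPn : (P : Subgroup (X ⧸ K)).Normal :=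
      ⟨fun a ha g => by rwa [hab g a, mul_inv_cancel_right]⟩
    obtain ⟨R, hR⟩ := Subgroup.exists_right_complement'_of_coprime P.card_coprime_index
    have hRn : R.Normal := ⟨fun a ha g => by rwa [hab g a, mul_inv_cancel_right]⟩
    have hRp : ¬ p ∣ Nat.card R := by
      rw [← hR.symm.index_eq_card]
      exact Sylow.not_dvd_index P
    let π := QuotientGroup.mk' K
    set L := R.comap π
    have hLi : L.index = R.index :=
      Subgroup.index_comap_of_surjective _ (QuotientGroup.mk'_surjective K)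
    obtain ⟨i, hi⟩ := IsPGroup.iff_card.mp P.isPGroup'
    have hLidx : L.index = p ^ i := by rw [hLi, hR.index_eq_card, hi]
    have hLp : ¬ p ∣ Nat.card L := by
      intro hd
      have h1 := L.card_mul_index
      have h2 := K.card_mul_index
      have h3 := R.card_mul_index
      rw [Subgroup.index_eq_card K, ← h3, ← hLi] at h2
      have h4 : Nat.card L = Nat.card K * Nat.card R :=
        Nat.eq_of_mul_eq_mul_right (Nat.pos_of_ne_zero L.index_ne_zero_of_finite)
          (by rw [h1, ← h2, mul_assoc])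
      rw [h4] at hd
      exact (hp.out.dvd_mul.mp hd).elim hK hRp
    obtain ⟨Q⟩ := (inferInstance : Nonempty (Sylow p X))
    refine ⟨Q, L, inferInstance, Subgroup.isComplement'_of_coprime ?_ ?_⟩
    · obtain ⟨j, hj⟩ := IsPGroup.iff_card.mp Q.isPGroup'
      have hij : j = i := by
        rw [Sylow.card_eq_multiplicity, ← L.card_mul_index, hLidx,
          Nat.factorization_mul Nat.card_pos.ne' (pow_ne_zero _ hp.out.ne_zero)] at hj
        simp [Nat.factorization_eq_zero_of_not_dvd hLp, hp.out.factorization_pow] at hj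
        exact (Nat.pow_right_injective hp.out.two_le hj).symm
      rw [hj, hij, ← hLidx, L.card_mul_index]
    · obtain ⟨j, hj⟩ := IsPGroup.iff_card.mp Q.isPGroup'
      rw [hj]
      exact (((hp.out.coprime_iff_not_dvd).mpr hLp).pow_left j).symm
  · have h : (x : X)⁻¹ * (y : X)⁻¹ * x * y ∈ K ⊓ (Q : Subgroup X) :=
      ⟨hcomm x y, by
        exact (Q : Subgroup X).mul_mem ((Q : Subgroup X).mul_mem ((Q : Subgroup X).mul_mem
          ((Q : Subgroup X).inv_mem x.2) ((Q : Subgroup X).inv_mem y.2)) x.2) y.2⟩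
    obtain ⟨j, hj⟩ := IsPGroup.iff_card.mp Q.isPGroup'
    rw [Subgroup.inf_eq_bot_of_coprime (hj ▸ (((hp.out.coprime_iff_not_dvd).mpr hK).pow_left j).symm),
      Subgroup.mem_bot] at h
    show (x : X) * y = y * x
    calc (x : X) * y = y * x * ((x : X)⁻¹ * (y : X)⁻¹ * x * y) := by group
      _ = _ := by rw [h, mul_one]

/-- Conjugations on a cyclic normal subgroup commute. -/
theorem comm_mem_centralizer {K : Subgroup X} [K.Normal] (hK : IsCyclic K) (a b : X) :
    a⁻¹ * b⁻¹ * a * b ∈ Subgroup.centralizer (K : Set X) := by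
  obtain ⟨⟨g, hg⟩, hgen⟩ := hK.exists_generator
  have hex : ∀ c : X, ∃ i : ℤ, c * g * c⁻¹ = g ^ i := fun c => by
    obtain ⟨i, hi⟩ := Subgroup.mem_zpowers_iff.mp (hgen ⟨_, ‹K.Normal›.conj_mem g hg c⟩)
    exact ⟨i, (congrArg Subtype.val hi).symm⟩
  obtain ⟨i, hi⟩ := hex a
  obtain ⟨j, hj⟩ := hex b
  have hswap : a * b * g * (a * b)⁻¹ = b * a * g * (b * a)⁻¹ := by
    calc a * b * g * (a * b)⁻¹ = a * (b * g * b⁻¹) * a⁻¹ := by group
      _ = a * g ^ j * a⁻¹ := by rw [hj]
      _ = (g ^ i) ^ j := by rw [← conj_zpow, hi]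
      _ = (g ^ j) ^ i := by rw [← zpow_mul, ← zpow_mul, mul_comm]
      _ = b * g ^ i * b⁻¹ := by rw [← conj_zpow, hj]
      _ = b * (a * g * a⁻¹) * b⁻¹ := by rw [hi]
      _ = _ := by group
  have hc : Commute (a⁻¹ * b⁻¹ * a * b) g := by
    have e : a⁻¹ * b⁻¹ * a * b * g * (a⁻¹ * b⁻¹ * a * b)⁻¹ =
        (b * a)⁻¹ * (a * b * g * (a * b)⁻¹) * (b * a) := by group
    have e2 : a⁻¹ * b⁻¹ * a * b * g * (a⁻¹ * b⁻¹ * a * b)⁻¹ = g := by rw [e, hswap]; group
    exact mul_inv_eq_iff_eq_mul.mp e2
  refine Subgroup.mem_centralizer_iff.mpr fun k hk => ?_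
  obtain ⟨l, hl⟩ := Subgroup.mem_zpowers_iff.mp (hgen ⟨k, hk⟩)
  have hlk : g ^ l = k := congrArg Subtype.val hl
  rw [← hlk]
  exact (hc.zpow_right l).eq.symm

theorem eq_one_of_coprime_pow {G : Type*} [Group G] {g : G} {a b : ℕ} (hab : a.Coprime b)
    (ha : g ^ a = 1) (hb : g ^ b = 1) : g = 1 :=
  orderOf_eq_one_iff.mp (Nat.eq_one_of_dvd_coprimes hab (orderOf_dvd_of_pow_eq_one ha)
    (orderOf_dvd_of_pow_eq_one hb))

/-- An element of prime order fixing the socle of a cyclic `s`-group centralises it. -/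
theorem centralizes_cyclic {T : Subgroup X} (hT : IsCyclic T) {s ℓ : ℕ} (hs : s.Prime)
    (hℓ : ℓ.Prime) (hne : ℓ ≠ s) (hTs : IsPGroup s T) {y : X} (hy : y ^ ℓ = 1)
    (hnorm : ∀ t ∈ T, y * t * y⁻¹ ∈ T) (hsoc : ∀ z ∈ T, orderOf z = s → y * z = z * y) :
    ∀ t ∈ T, y * t = t * y := by
  obtain ⟨⟨g, hg⟩, hgen⟩ := hT.exists_generator
  have := Fact.mk hs
  obtain ⟨k, hk⟩ := IsPGroup.iff_orderOf.mp hTs ⟨g, hg⟩
  rw [Subgroup.orderOf_mk] at hk
  obtain ⟨i, hi'⟩ := Subgroup.mem_zpowers_iff.mp (hgen ⟨_, hnorm g hg⟩)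
  have hi : y * g * y⁻¹ = g ^ i := (congrArg Subtype.val hi').symm
  suffices h : Commute y g by
    intro t ht
    obtain ⟨l, hl⟩ := Subgroup.mem_zpowers_iff.mp (hgen ⟨t, ht⟩)
    have hlt : g ^ l = t := congrArg Subtype.val hl
    rw [← hlt]
    exact (h.zpow_right l).eq
  rcases Nat.eq_zero_or_pos k with rfl | hk0
  · rw [pow_zero, orderOf_eq_one_iff] at hk
    rw [hk]; exact Commute.one_right y
  have hpow : ∀ m : ℕ, y ^ m * g * (y ^ m)⁻¹ = g ^ (i ^ m) := by
    intro m
    induction m with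
    | zero => simp
    | succ m ih =>
      calc y ^ (m + 1) * g * (y ^ (m + 1))⁻¹ = y * (y ^ m * g * (y ^ m)⁻¹) * y⁻¹ := by
            rw [pow_succ']; group
        _ = (g ^ i) ^ (i ^ m) := by rw [ih, ← conj_zpow, hi]
        _ = _ := by rw [← zpow_mul, pow_succ']
  -- the exponent is `1` modulo `s`
  set z := g ^ s ^ (k - 1)
  have hz : orderOf z = s := by
    rw [orderOf_pow, hk, Nat.gcd_eq_right (pow_dvd_pow s (Nat.sub_le k 1)),
      Nat.pow_div (Nat.sub_le k 1) hs.pos, show k - (k - 1) = 1 by omega, pow_one]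
  have hz1 : z ^ i = z := by
    have h1 := hsoc z (T.pow_mem hg _) hz
    have h2 : y * z * y⁻¹ = z := by rw [h1, mul_inv_cancel_right]
    conv_rhs => rw [← h2]
    show (g ^ s ^ (k - 1)) ^ i = y * g ^ s ^ (k - 1) * y⁻¹
    rw [← conj_pow, hi, ← zpow_natCast g (s ^ (k - 1)), ← zpow_natCast (g ^ i) (s ^ (k - 1)),
      ← zpow_mul, ← zpow_mul, mul_comm]
  have hdvd : (s : ℤ) ∣ i - 1 := by
    rw [← hz, orderOf_dvd_iff_zpow_eq_one, zpow_sub, zpow_one, hz1, mul_inv_cancel]
  have hbig : (s : ℤ) ^ (k + 1) ∣ i ^ s ^ k - 1 := by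
    have h := dvd_sub_pow_of_dvd_sub (R := ℤ) hdvd k
    simpa using h
  have hc : Commute (y ^ s ^ k) g := by
    refine (commute_iff_eq _ _).mpr (mul_inv_eq_iff_eq_mul.mp ?_)
    rw [hpow]
    conv_rhs => rw [← zpow_one g]
    rw [← orderOf_dvd_sub_iff_zpow_eq_zpow, hk]
    push_cast
    exact (pow_dvd_pow _ (Nat.le_succ k)).trans hbig
  obtain ⟨t, ht⟩ := exists_pow_eq_self_of_coprime (x := y) (n := s ^ k) (by
    refine Nat.Coprime.coprime_dvd_right (orderOf_dvd_of_pow_eq_one hy) ?_
    exact ((Nat.coprime_primes hs hℓ).mpr hne.symm).pow_left k)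
  rw [← ht]
  exact hc.pow_left t

variable {p : ℕ} [hp : Fact p.Prime] {ψ : X →* MulAut N} (D : Data p ψ)
include D

omit [Finite X] [Finite N] in
theorem semiregular {x : X} (hx : ¬ p ∣ orderOf x) {v : N} (hv : v ≠ 1) (h : ψ x v = v) :
    x = 1 := by
  obtain ⟨k, hk⟩ := D.stab v hv x h
  rcases Nat.eq_zero_or_pos k with rfl | hk0
  · exact orderOf_eq_one_iff.mp (by rw [hk, pow_zero])
  · exact absurd (hk ▸ dvd_pow_self p hk0.ne') hx

theorem isPGroup_N : IsPGroup p N := fun v => ⟨1, by rw [pow_one]; exact D.exp v⟩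

/-- The frame for fixed point free arguments. -/
theorem fpf {B : Subgroup X} (hB : ∀ b ∈ B, ¬ p ∣ orderOf b) :
    let K : Subgroup (SemidirectProduct N X ψ) := (SemidirectProduct.inl : N →* _).range
    let A : Subgroup (SemidirectProduct N X ψ) := B.map SemidirectProduct.inr
    A ≤ Subgroup.normalizer (K : Set (SemidirectProduct N X ψ)) ∧
      (∀ a ∈ A, a ≠ 1 → K ⊓ Subgroup.centralizer {a} = ⊥) ∧ K ≠ ⊥ := by
  intro K A
  have hKn : K.Normal := by
    rw [show K = SemidirectProduct.rightHom.ker from SemidirectProduct.range_inl_eq_ker_rightHom]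
    infer_instance
  refine ⟨by rw [Subgroup.normalizer_eq_top (H := K)]; exact le_top, ?_, ?_⟩
  · rintro _ ⟨b, hb, rfl⟩ hb1
    rw [eq_bot_iff]
    rintro _ ⟨⟨v, rfl⟩, hv⟩
    rw [Subgroup.mem_bot]
    by_contra hv1
    have hv' : v ≠ 1 := fun e => hv1 (by rw [e, map_one])
    refine hb1 ?_
    rw [semiregular D (hB b hb) hv' ?_, map_one]
    have h1 := Subgroup.mem_centralizer_singleton_iff.mp hv
    apply SemidirectProduct.inl_injective (φ := ψ)
    rw [SemidirectProduct.inl_aut, ← h1, map_inv, mul_inv_cancel_right]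
  · intro h
    obtain ⟨v, hv⟩ := @exists_ne N D.nt 1
    have : SemidirectProduct.inl (φ := ψ) v ∈ K := ⟨v, rfl⟩
    rw [h, Subgroup.mem_bot] at this
    exact hv (SemidirectProduct.inl_injective (by rw [this, map_one]))

instance : Finite (SemidirectProduct N X ψ) := Finite.of_equiv _ SemidirectProduct.equivProd.symm

theorem cyclic_of_comm {B : Subgroup X} (hB : ∀ b ∈ B, ¬ p ∣ orderOf b) [IsMulCommutative B] :
    IsCyclic B := by
  have : Finite (SemidirectProduct N X ψ) := Finite.of_equiv _ SemidirectProduct.equivProd.symm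
  obtain ⟨h1, h2, h3⟩ := fpf D hB
  have : IsMulCommutative (B.map (SemidirectProduct.inr (φ := ψ))) := inferInstance
  have hc := CfsgLib.Core.FPF.isCyclic_of_isMulCommutative h1 h2 h3 (B := B.map (SemidirectProduct.inr (φ := ψ))) le_rfl
  exact (B.equivMapOfInjective _ SemidirectProduct.inr_injective).isCyclic.mpr hc

theorem order_prime_unique {s : ℕ} [hs : Fact s.Prime] (hsp : s ≠ p) {B : Subgroup X}
    (hBs : IsPGroup s B) {z w : X} (hz : z ∈ B) (hw : w ∈ B) (hzo : orderOf z = s)
    (hwo : orderOf w = s) : Subgroup.zpowers z = Subgroup.zpowers w := by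
  have hB : ∀ b ∈ B, ¬ p ∣ orderOf b := fun b hb h => by
    obtain ⟨k, hk⟩ := IsPGroup.iff_orderOf.mp hBs ⟨b, hb⟩
    rw [Subgroup.orderOf_mk] at hk
    exact hsp ((Nat.prime_dvd_prime_iff_eq hp.out hs.out).mp (hp.out.dvd_of_dvd_pow (hk ▸ h))).symm
  have : Finite (SemidirectProduct N X ψ) := Finite.of_equiv _ SemidirectProduct.equivProd.symm
  obtain ⟨h1, h2, h3⟩ := fpf D hB
  apply Subgroup.map_injective (SemidirectProduct.inr_injective (φ := ψ))
  refine CfsgLib.Core.FPF.subgroup_order_prime_unique h1 h2 h3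
    (P := B.map (SemidirectProduct.inr (φ := ψ))) le_rfl hs.out (hBs.map _)
    (Subgroup.map_mono (Subgroup.zpowers_le.mpr hz)) (Subgroup.map_mono (Subgroup.zpowers_le.mpr hw)) ?_ ?_
  · rw [← Nat.card_congr (Subgroup.equivMapOfInjective _ _ SemidirectProduct.inr_injective).toEquiv,
      Nat.card_zpowers, hzo]
  · rw [← Nat.card_congr (Subgroup.equivMapOfInjective _ _ SemidirectProduct.inr_injective).toEquiv,
      Nat.card_zpowers, hwo]

/-- A semiregular `s`-subgroup is cyclic or generalised quaternion. -/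
theorem cyclic_or_quaternion {s : ℕ} [hs : Fact s.Prime] (hsp : s ≠ p) {B : Subgroup X}
    (hBs : IsPGroup s B) :
    IsCyclic B ∨ (s = 2 ∧ ∃ n : ℕ, Nonempty (B ≃* QuaternionGroup (2 ^ n))) := by
  refine CfsgLib.Core.UniqueOrderP.isCyclic_or_quaternion_of_unique hBs fun H K hH hK => ?_
  obtain ⟨z, hz⟩ := exists_prime_orderOf_dvd_card' (G := H) s (hH ▸ dvd_rfl)
  obtain ⟨w, hw⟩ := exists_prime_orderOf_dvd_card' (G := K) s (hK ▸ dvd_rfl)
  have hzH : Subgroup.zpowers (z : B) = H := Subgroup.eq_of_le_of_card_ge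
    (Subgroup.zpowers_le.mpr z.2) (by rw [hH, Nat.card_zpowers, Subgroup.orderOf_coe, hz])
  have hwK : Subgroup.zpowers (w : B) = K := Subgroup.eq_of_le_of_card_ge
    (Subgroup.zpowers_le.mpr w.2) (by rw [hK, Nat.card_zpowers, Subgroup.orderOf_coe, hw])
  rw [← hzH, ← hwK]
  apply Subgroup.map_injective B.subtype_injective
  rw [MonoidHom.map_zpowers, MonoidHom.map_zpowers]
  exact order_prime_unique D hsp hBs (z : B).2 (w : B).2
    (by rw [Subgroup.coe_subtype, Subgroup.orderOf_coe, Subgroup.orderOf_coe, hz])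
    (by rw [Subgroup.coe_subtype, Subgroup.orderOf_coe, Subgroup.orderOf_coe, hw])

theorem commute_of_prime_orders {x z : X} (hx : (orderOf x).Prime) (hz : (orderOf z).Prime)
    (hxp : orderOf x ≠ p) (hzp : orderOf z ≠ p)
    (hn : ∀ a ∈ Subgroup.zpowers z, x * a * x⁻¹ ∈ Subgroup.zpowers z) : x * z = z * x := by
  set B := Subgroup.zpowers z ⊔ Subgroup.zpowers x
  have hnz : Subgroup.zpowers x ≤ Subgroup.normalizer (Subgroup.zpowers z : Set X) := by
    have hxn : x ∈ Subgroup.normalizer (Subgroup.zpowers z : Set X) :=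
      Subgroup.mem_normalizer_fintype fun a ha => hn a ha
    exact Subgroup.zpowers_le.mpr hxn
  have hB : ∀ b ∈ B, ¬ p ∣ orderOf b := fun b hb h => by
    have h1 : p ∣ Nat.card B :=
      h.trans (by rw [← Subgroup.orderOf_mk b hb]; exact orderOf_dvd_natCard _)
    have h2 : Nat.card B ∣ orderOf z * orderOf x := by
      rw [← Nat.card_zpowers z, ← Nat.card_zpowers x]
      have h4 := CfsgLib.Core.card_sup_mul_card_inf (Subgroup.zpowers x) (Subgroup.zpowers z) hnz
      rw [sup_comm] at h4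
      exact Dvd.intro _ (h4.trans (mul_comm _ _))
    rcases hp.out.dvd_mul.mp (h1.trans h2) with h3 | h3
    · exact hzp ((Nat.prime_dvd_prime_iff_eq hp.out hz).mp h3).symm
    · exact hxp ((Nat.prime_dvd_prime_iff_eq hp.out hx).mp h3).symm
  have : Finite (SemidirectProduct N X ψ) := Finite.of_equiv _ SemidirectProduct.equivProd.symm
  obtain ⟨h1, h2, h3⟩ := fpf D hB
  have h := CfsgLib.Core.FPF.commute_of_prime_orders h1 h2 h3
    (d := SemidirectProduct.inr (φ := ψ) x) (x := SemidirectProduct.inr (φ := ψ) z)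
    ⟨x, Subgroup.mem_sup_right (Subgroup.mem_zpowers x), rfl⟩
    ⟨z, Subgroup.mem_sup_left (Subgroup.mem_zpowers z), rfl⟩
    (by rwa [orderOf_injective _ SemidirectProduct.inr_injective])
    (by rwa [orderOf_injective _ SemidirectProduct.inr_injective]) ?_
  · exact SemidirectProduct.inr_injective (by rw [map_mul, map_mul]; exact h.eq)
  · rw [← MonoidHom.map_zpowers]
    exact Subgroup.le_normalizer_map _ ⟨x, hnz (Subgroup.mem_zpowers x), rfl⟩

/-- An element of prime order at least five fixing the involution of a semiregular `2`-group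
centralises it. -/
theorem centralizes_two {ℓ : ℕ} (hℓ : ℓ.Prime) (h5 : 5 ≤ ℓ) (hp2 : p ≠ 2) {y : X}
    (hy : y ^ ℓ = 1) : ∀ T : Subgroup X, IsPGroup 2 T → (∀ t ∈ T, y * t * y⁻¹ ∈ T) →
    ∀ t ∈ T, y * t = t * y := by
  classical
  intro T
  induction hn : Nat.card T using Nat.strong_induction_on generalizing T with
  | _ n ih =>
  intro hT hnorm
  subst hn
  have hf2 := Fact.mk Nat.prime_two
  have hfl := Fact.mk hℓ
  by_cases hcyc : IsCyclic T
  · refine centralizes_cyclic hcyc Nat.prime_two hℓ (by omega) hT hy hnorm fun z hz hzo => ?_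
    have h1 := order_prime_unique D (Ne.symm hp2) hT (hnorm z hz) hz
      (by rw [← MulAut.conj_apply, MulEquiv.orderOf_eq, hzo]) hzo
    have h2 : y * z * y⁻¹ ∈ Subgroup.zpowers z := h1 ▸ Subgroup.mem_zpowers _
    obtain ⟨i, hi⟩ := (isOfFinOrder_of_finite z).mem_powers_iff_mem_zpowers.mpr h2
    simp only at hi
    rw [← pow_mod_orderOf, hzo] at hi
    rcases Nat.mod_two_eq_zero_or_one i with e | e <;> rw [e] at hi
    · rw [pow_zero, eq_comm, conj_eq_one_iff] at hi
      rw [hi, orderOf_one] at hzo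
      omega
    · rw [pow_one] at hi
      exact mul_inv_eq_iff_eq_mul.mp hi.symm
  obtain ⟨-, m, ⟨e⟩⟩ := (cyclic_or_quaternion D (Ne.symm hp2) hT).resolve_left hcyc
  have : NeZero (2 ^ m) := ⟨(Nat.two_pow_pos m).ne'⟩
  -- generation by two elements
  set a := e.symm (QuaternionGroup.a 1)
  set b := e.symm (QuaternionGroup.xa 0)
  have hgenT : Subgroup.closure ({a, b} : Set T) = ⊤ := by
    rw [eq_top_iff]
    rintro t -
    rw [← e.symm_apply_apply t]
    rcases e t with i | i
    · rw [← ZMod.natCast_zmod_val i, ← QuaternionGroup.a_one_pow, map_pow]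
      exact pow_mem (Subgroup.subset_closure (Set.mem_insert _ _)) _
    · rw [show QuaternionGroup.xa i = QuaternionGroup.xa 0 * QuaternionGroup.a i by simp, map_mul]
      refine mul_mem (Subgroup.subset_closure (Set.mem_insert_of_mem _ rfl)) ?_
      rw [← ZMod.natCast_zmod_val i, ← QuaternionGroup.a_one_pow, map_pow]
      exact pow_mem (Subgroup.subset_closure (Set.mem_insert _ _)) _
  -- subgroups of index two
  let S := {U : Subgroup T // U.index = 2}
  have hS : Nat.card S ≤ 3 := by
    let f : S → {w : Bool × Bool // w ≠ (true, true)} := fun U =>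
      ⟨(decide (a ∈ U.1), decide (b ∈ U.1)), fun h => by
        simp only [Prod.mk.injEq, decide_eq_true_eq] at h
        have htop : U.1 = ⊤ := eq_top_iff.mpr (hgenT ▸ (Subgroup.closure_le _).mpr (by
          rintro w (rfl | rfl)
          exacts [h.1, h.2]))
        have := U.2
        rw [htop, Subgroup.index_top] at this
        omega⟩
    have hf : Function.Injective f := fun U U' h => by
      simp only [f, Subtype.mk.injEq, Prod.mk.injEq, decide_eq_decide] at h
      have key : ∀ t : T, t ∈ U.1 ↔ t ∈ U'.1 := fun t => by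
        have ht : t ∈ Subgroup.closure ({a, b} : Set T) := hgenT ▸ Subgroup.mem_top t
        induction ht using Subgroup.closure_induction with
        | mem w hw => rcases hw with rfl | rfl; exacts [h.1, h.2]
        | one => simp [one_mem]
        | mul u w _ _ hu hw =>
          simp only [Subgroup.mul_mem_iff_of_index_two U.2, Subgroup.mul_mem_iff_of_index_two U'.2]
          rw [iff_iff_eq] at hu hw
          rw [hu, hw]
        | inv u _ hu => simpa using hu
      exact Subtype.ext (SetLike.ext key)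
    refine (Nat.card_le_card_of_injective f hf).trans ?_
    rw [Nat.card_eq_fintype_card]
    decide
  -- `y` fixes each of them
  let φ : T ≃* T :=
    { toFun := fun t => ⟨y * t * y⁻¹, hnorm t t.2⟩
      invFun := fun t => ⟨y ^ (ℓ - 1) * t * (y ^ (ℓ - 1))⁻¹, by
        have : ∀ (j : ℕ) (u : X), u ∈ T → y ^ j * u * (y ^ j)⁻¹ ∈ T := by
          intro j
          induction j with
          | zero => intro u hu; simpa using hu
          | succ j ihj =>
            intro u hu
            have := hnorm _ (ihj u hu)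
            convert this using 1
            rw [pow_succ']; group
        exact this _ _ t.2⟩
      left_inv := fun t => Subtype.ext (by
        show y ^ (ℓ - 1) * (y * t * y⁻¹) * (y ^ (ℓ - 1))⁻¹ = t
        calc _ = y ^ (ℓ - 1 + 1) * (t : X) * (y ^ (ℓ - 1 + 1))⁻¹ := by rw [pow_succ]; group
          _ = _ := by rw [Nat.sub_add_cancel hℓ.one_le, hy]; group)
      right_inv := fun t => Subtype.ext (by
        show y * (y ^ (ℓ - 1) * t * (y ^ (ℓ - 1))⁻¹) * y⁻¹ = t
        calc _ = y ^ (ℓ - 1 + 1) * (t : X) * (y ^ (ℓ - 1 + 1))⁻¹ := by rw [pow_succ']; group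
          _ = _ := by rw [Nat.sub_add_cancel hℓ.one_le, hy]; group)
      map_mul' := fun t u => Subtype.ext (by
        show y * ((t : X) * u) * y⁻¹ = y * t * y⁻¹ * (y * u * y⁻¹)
        group) }
  let π : Equiv.Perm S :=
    (MulEquiv.mapSubgroup φ).toEquiv.subtypeEquiv fun U => by
      show U.index = 2 ↔ (U.map φ.toMonoidHom).index = 2
      rw [Subgroup.index_map_of_bijective φ.bijective]
  have hπ : π ^ ℓ = 1 := by
    have hval : ∀ (j : ℕ) (U : S), ((π ^ j) U).1 = U.1.map (φ ^ j : MulAut T).toMonoidHom := by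
      intro j
      induction j with
      | zero => intro U; simp; exact (Subgroup.map_id _).symm
      | succ j ihj =>
        intro U
        rw [pow_succ', Equiv.Perm.mul_apply]
        show ((π ^ j) U).1.map φ.toMonoidHom = _
        rw [ihj, Subgroup.map_map, pow_succ']
        rfl
    have hφ : (φ : MulAut T) ^ ℓ = 1 := by
      have : ∀ (j : ℕ) (t : T), (((φ : MulAut T) ^ j) t : X) = y ^ j * t * (y ^ j)⁻¹ := by
        intro j
        induction j with
        | zero => intro t; simp
        | succ j ihj =>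
          intro t
          rw [pow_succ', MulAut.mul_apply]
          show y * (((φ : MulAut T) ^ j) t : X) * y⁻¹ = _
          rw [ihj, pow_succ']; group
      refine MulEquiv.ext fun t => Subtype.ext ?_
      rw [this, hy]
      simp
    refine Equiv.ext fun U => Subtype.ext ?_
    rw [hval, hφ]
    exact Subgroup.map_id _
  have hπ1 : π = 1 := by
    by_contra h
    have ho : orderOf π = ℓ := orderOf_eq_prime hπ h
    have h2 : ℓ ∣ (Nat.card S).factorial := by
      rw [← ho, ← Nat.card_perm]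
      exact orderOf_dvd_natCard π
    have := (hℓ.dvd_factorial).mp h2
    omega
  have hfix : ∀ U : S, ∀ u ∈ U.1, y * ((u : T) : X) = (u : X) * y := by
    intro U u hu
    have hUT : Nat.card (U.1.map T.subtype) < Nat.card T := by
      rw [← Nat.card_congr (U.1.equivMapOfInjective _ T.subtype_injective).toEquiv,
        ← U.1.card_mul_index, U.2]
      have := Nat.card_pos (α := U.1)
      omega
    refine ih _ hUT _ rfl (hT.to_le (Subgroup.map_subtype_le _)) ?_ _ ⟨u, hu, rfl⟩
    rintro _ ⟨w, hw, rfl⟩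
    have hU : U.1.map φ.toMonoidHom = U.1 :=
      congrArg Subtype.val (DFunLike.congr_fun hπ1 U)
    exact ⟨φ w, hU ▸ ⟨w, hw, rfl⟩, rfl⟩
  -- two subgroups of index two generate
  have hmax : ∀ U : Subgroup T, IsCoatom U → U.index = 2 := fun U hU => by
    have := (hT.to_subgroup (⊤ : Subgroup T))
    have hTn : Group.IsNilpotent T := hT.isNilpotent
    have hUn : U.Normal :=
      Subgroup.NormalizerCondition.normal_of_coatom U Group.normalizerCondition_of_isNilpotent hU
    obtain ⟨k, hk⟩ := hT.index U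
    have h1 : k ≠ 0 := fun e => hU.1 (Subgroup.index_eq_one.mp (by rw [hk, e, pow_zero]))
    by_contra h2
    have hk2 : 2 ≤ k := by
      rcases k with _ | _ | k
      · exact absurd rfl h1
      · exact absurd (by rw [hk]; norm_num) h2
      · omega
    obtain ⟨q, hq⟩ := exists_prime_orderOf_dvd_card' (G := T ⧸ U) 2 (by
      rw [← Subgroup.index_eq_card, hk]; exact dvd_pow_self 2 h1)
    have hlt : U < (Subgroup.zpowers q).comap (QuotientGroup.mk' U) := by
      refine lt_of_le_of_ne (fun u hu => ?_) fun e => ?_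
      · rw [Subgroup.mem_comap, QuotientGroup.mk'_apply, (QuotientGroup.eq_one_iff u).mpr hu]
        exact one_mem _
      · obtain ⟨u, rfl⟩ := QuotientGroup.mk_surjective q
        have hu : u ∈ U := e ▸ Subgroup.mem_zpowers _
        rw [(QuotientGroup.eq_one_iff u).mpr hu, orderOf_one] at hq
        omega
    have htop := hU.2 _ hlt
    have h3 : Subgroup.zpowers q = ⊤ := by
      rw [← Subgroup.map_comap_eq_self_of_surjective (QuotientGroup.mk'_surjective U) (Subgroup.zpowers q),
        htop, ← MonoidHom.range_eq_map, MonoidHom.range_eq_top.mpr (QuotientGroup.mk'_surjective U)]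
    have h4 := Nat.card_zpowers q
    rw [h3, Subgroup.card_top, ← Subgroup.index_eq_card, hk, hq] at h4
    have : 2 ^ 2 ≤ 2 ^ k := Nat.pow_le_pow_right (by norm_num) hk2
    omega
  intro t ht
  have : Nontrivial T := by
    by_contra h
    rw [not_nontrivial_iff_subsingleton] at h
    exact hcyc isCyclic_of_subsingleton
  obtain ⟨U, hU⟩ := IsCoatomic.exists_coatom (α := Subgroup T)
  have hUtop : ¬ (⊤ : Subgroup T) ≤ U := fun h => hU.1 (top_le_iff.mp h)
  obtain ⟨g, -, hg⟩ := SetLike.not_le_iff_exists.mp hUtop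
  have hgtop : Subgroup.zpowers g ≠ ⊤ := fun h =>
    hcyc ⟨g, fun u => Subgroup.mem_zpowers_iff.mp (h ▸ Subgroup.mem_top u)⟩
  obtain ⟨U', hU', hgU'⟩ := (eq_top_or_exists_le_coatom (Subgroup.zpowers g)).resolve_left hgtop
  have hgU : g ∈ U' := hgU' (Subgroup.mem_zpowers g)
  have hsup : U ⊔ U' = ⊤ := by
    refine hU.2 _ (lt_of_le_of_ne le_sup_left fun h => hg ?_)
    rw [h]; exact Subgroup.mem_sup_right hgU
  have : U.Normal := Subgroup.normal_of_index_eq_two (hmax U hU)
  obtain ⟨u, hu, u', hu', huu⟩ := Subgroup.mem_sup_of_normal_left.mp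
    (hsup.symm ▸ Subgroup.mem_top (⟨t, ht⟩ : T) : (⟨t, ht⟩ : T) ∈ U ⊔ U')
  have htv : t = (u : X) * u' := (congrArg Subtype.val huu).symm
  rw [htv]
  exact ((commute_iff_eq _ _).mpr (hfix ⟨U, hmax U hU⟩ u hu) |>.mul_right
    ((commute_iff_eq _ _).mpr (hfix ⟨U', hmax U' hU'⟩ u' hu'))).eq

/-- The main theorem. -/
theorem main [Group.IsSolvable X] (hcore : Cfsg.pCore p X = ⊥) : Concl p X := by
  classical
  have := D.nt
  have hNp := isPGroup_N D
  obtain ⟨n, hn⟩ := IsPGroup.iff_card.mp hNp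
  have hn0 : n ≠ 0 := fun e => by
    have h := Finite.one_lt_card (α := N)
    rw [hn, e, pow_zero] at h
    omega
  -- the centraliser of the Fitting subgroup
  set Z := Subgroup.centralizer (Cfsg.fittingSubgroup X : Set X)
  have hZF : Z ≤ Cfsg.fittingSubgroup X := CfsgLib.Components.centralizer_fitting_le_of_isSolvable
  have hFp : ∀ b ∈ Cfsg.fittingSubgroup X, ¬ p ∣ orderOf b := by
    intro b hb hd
    have hF : IsPGroup p ↥(Subgroup.zpowers (b ^ (orderOf b / p))) := IsPGroup.of_card (n := 1) (by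
      rw [Nat.card_zpowers, pow_one, orderOf_pow_orderOf_div (orderOf_pos b).ne' hd])
    obtain ⟨P⟩ := (inferInstance : Nonempty (Sylow p (Cfsg.fittingSubgroup X)))
    have := CfsgLib.Core.isNilpotent_fittingSubgroup X
    have hPn : (P : Subgroup (Cfsg.fittingSubgroup X)).Normal := inferInstance
    have hPc : (P : Subgroup (Cfsg.fittingSubgroup X)).Characteristic :=
      P.characteristic_of_normal hPn
    have hle := CfsgLib.Core.le_pCore (N := (P : Subgroup _).map (Cfsg.fittingSubgroup X).subtype)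
      (P.isPGroup'.map _)
    rw [hcore, le_bot_iff, Subgroup.map_eq_bot_iff_of_injective _ (Subgroup.subtype_injective _)] at hle
    have h1 : p ∣ Nat.card (Cfsg.fittingSubgroup X) := hd.trans (by
      rw [← Subgroup.orderOf_mk b hb]; exact orderOf_dvd_natCard _)
    exact P.ne_bot_of_dvd_card h1 hle
  -- the pieces
  have hFS : Cfsg.fittingSubgroup X = ⨆ s : Nat.Primes, Cfsg.pCore (s : ℕ) X :=
    CfsgLib.Core.fittingSubgroup_eq_iSup_pCore
  have hSF : ∀ s : Nat.Primes, Cfsg.pCore (s : ℕ) X ≤ Cfsg.fittingSubgroup X := fun s =>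
    hFS ▸ le_iSup (fun s : Nat.Primes => Cfsg.pCore (s : ℕ) X) s
  have hcentF : ∀ x : X, (∀ s : Nat.Primes, ∀ t ∈ Cfsg.pCore (s : ℕ) X, x * t = t * x) → x ∈ Z := by
    intro x hx
    refine Subgroup.mem_centralizer_iff.mpr fun t ht => ?_
    have hle : Cfsg.fittingSubgroup X ≤ Subgroup.centralizer ({x} : Set X) := by
      rw [hFS]
      exact iSup_le fun s t ht => Subgroup.mem_centralizer_singleton_iff.mpr (hx s t ht).symm
    exact Subgroup.mem_centralizer_singleton_iff.mp (hle ht)
  by_cases hFc : ∀ a ∈ Cfsg.fittingSubgroup X, ∀ b ∈ Cfsg.fittingSubgroup X, a * b = b * a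
  · -- abelian Fitting subgroup
    have : IsMulCommutative (Cfsg.fittingSubgroup X) :=
      ⟨⟨fun a b => Subtype.ext (hFc a a.2 b b.2)⟩⟩
    have hcyc := cyclic_of_comm D hFp
    have hZ : Z = Cfsg.fittingSubgroup X := le_antisymm hZF fun a ha =>
      Subgroup.mem_centralizer_iff.mpr fun b hb => hFc b hb a ha
    refine concl_of_quotient (Cfsg.fittingSubgroup X) (fun hd => ?_) fun a b =>
      hZ ▸ comm_mem_centralizer hcyc a b
    obtain ⟨b, hb⟩ := exists_prime_orderOf_dvd_card' (G := Cfsg.fittingSubgroup X) p hd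
    exact hFp b b.2 (by rw [Subgroup.orderOf_coe, hb])
  -- a nonabelian Sylow subgroup of the Fitting subgroup
  have hcomm_all : ∀ s : Nat.Primes, (s : ℕ) ≠ 2 → ∀ a ∈ Cfsg.pCore (s : ℕ) X,
      ∀ b ∈ Cfsg.pCore (s : ℕ) X, a * b = b * a := by
    intro s hs2 a ha b hb
    have hfs := Fact.mk s.2
    by_cases hsp : (s : ℕ) = p
    · rw [hsp, hcore, Subgroup.mem_bot] at ha
      simp [ha]
    rcases cyclic_or_quaternion D hsp (CfsgLib.Core.isPGroup_pCore (G := X) (s : ℕ)) with h | ⟨h, -⟩
    · letI := IsCyclic.commGroup (α := Cfsg.pCore (s : ℕ) X)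
      exact congrArg Subtype.val (mul_comm (⟨a, ha⟩ : Cfsg.pCore (s : ℕ) X) ⟨b, hb⟩)
    · exact absurd h hs2
  have hdisj : ∀ s t : Nat.Primes, s ≠ t → ∀ a ∈ Cfsg.pCore (s : ℕ) X, ∀ b ∈ Cfsg.pCore (t : ℕ) X,
      a * b = b * a := by
    intro s t hst a ha b hb
    have := Fact.mk s.2
    have := Fact.mk t.2
    exact Subgroup.commute_of_normal_of_disjoint _ _ inferInstance inferInstance
      (IsPGroup.disjoint_of_ne _ _ (fun e => hst (Subtype.ext e)) _ _ (CfsgLib.Core.isPGroup_pCore (G := X) (s : ℕ))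
        (CfsgLib.Core.isPGroup_pCore (G := X) (t : ℕ))) a b ha hb
  set S := Cfsg.pCore 2 X
  obtain ⟨a, ha, b, hb, hab⟩ : ∃ a ∈ S, ∃ b ∈ S, a * b ≠ b * a := by
    by_contra! hno
    refine hFc fun a ha b hb => ?_
    have hle : Cfsg.fittingSubgroup X ≤ Z := fun a ha => hcentF a fun t u hu => by
      have hle' : Cfsg.fittingSubgroup X ≤ Subgroup.centralizer ({u} : Set X) := by
        rw [hFS]
        refine iSup_le fun s w hw => Subgroup.mem_centralizer_singleton_iff.mpr ?_
        by_cases hst : s = t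
        · subst hst
          by_cases hs2 : (s : ℕ) = 2
          · rw [hs2] at hw hu; exact hno w hw u hu
          · exact hcomm_all s hs2 w hw u hu
        · exact hdisj s t hst w hw u hu
      exact Subgroup.mem_centralizer_singleton_iff.mp (hle' ha)
    exact (Subgroup.mem_centralizer_iff.mp (hle hb) a ha)
  have hf2 := Fact.mk Nat.prime_two
  have hS2 : IsPGroup 2 S := CfsgLib.Core.isPGroup_pCore (G := X) 2
  have hp2 : p ≠ 2 := fun e => by
    have hSb : S = ⊥ := by show Cfsg.pCore 2 X = ⊥; rw [← e]; exact hcore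
    rw [hSb, Subgroup.mem_bot] at ha
    exact hab (by simp [ha])
  have hp3 : 3 ≤ p := by have := hp.out.two_le; omega
  -- the order
  have horbit : ∀ v : N, v ≠ 1 → ∃ k : ℕ, Nat.card X = (p ^ n - 1) * p ^ k := by
    intro v hv
    letI : MulAction X N := MulAction.compHom N ψ
    have hO : MulAction.orbit X v = {w : N | w ≠ 1} := by
      ext w
      refine ⟨?_, fun hw => ?_⟩
      · rintro ⟨x, rfl⟩ h
        exact hv ((map_eq_one_iff _ (ψ x).injective).mp h)
      · obtain ⟨x, hx⟩ := D.trans v w hv hw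
        exact ⟨x, hx⟩
    have hS : IsPGroup p (MulAction.stabilizer X v) := fun x => by
      obtain ⟨k, hk⟩ := D.stab v hv x x.2
      exact ⟨k, Subtype.ext (by rw [Subgroup.coe_pow, ← hk, pow_orderOf_eq_one]; rfl)⟩
    obtain ⟨k, hk⟩ := IsPGroup.iff_card.mp hS
    refine ⟨k, ?_⟩
    have hc : Nat.card {w : N | w ≠ 1} = p ^ n - 1 := by
      have : Fintype N := Fintype.ofFinite N
      rw [← hn, show Nat.card {w : N | w ≠ 1} = ({w : N | w ≠ 1}).ncard from Nat.card_coe_set_eq _,
        show {w : N | w ≠ 1} = ({1} : Set N)ᶜ from rfl, Set.ncard_compl, Set.ncard_singleton]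
    rw [← Nat.card_congr (MulAction.orbitProdStabilizerEquivGroup X v), Nat.card_prod, hO, hc, hk]
  obtain ⟨v₀, hv₀⟩ := exists_ne (1 : N)
  obtain ⟨kX, hkX⟩ := horbit v₀ hv₀
  -- `n = 1` is impossible
  have hn1 : n ≠ 1 := by
    rintro rfl
    have hcyc : IsCyclic N := isCyclic_of_prime_card (p := p) (by rw [hn, pow_one])
    obtain ⟨g, hg⟩ := hcyc.exists_generator
    refine hab (D.inj (MulEquiv.ext fun w => ?_))
    obtain ⟨i, hi⟩ := Subgroup.mem_zpowers_iff.mp (hg (ψ a g))
    obtain ⟨j, hj⟩ := Subgroup.mem_zpowers_iff.mp (hg (ψ b g))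
    obtain ⟨l, rfl⟩ := Subgroup.mem_zpowers_iff.mp (hg w)
    simp only [map_mul, MulAut.mul_apply, map_zpow]
    rw [← hj, map_zpow, ← hi]
    conv_rhs => rw [map_zpow, ← hj]
    rw [← zpow_mul g i j, ← zpow_mul g j i, mul_comm]
  by_cases hn3 : 3 ≤ n
  · -- a primitive prime divisor
    obtain ⟨r, hr, hrd, hrk⟩ := CfsgLib.Zsigmondy.exists_primitive_prime_divisor (a := p) (n := n)
      hp.out.one_lt (by omega) (fun h => hp2 h.1) (fun h => by omega)
    have hfr := Fact.mk hr
    have hrp : r ≠ p := by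
      rintro rfl
      have h1 : 1 ≤ r ^ n := Nat.one_le_pow _ _ hr.pos
      exact hr.not_dvd_one ((Nat.dvd_sub_iff_right h1 (dvd_pow_self r hn0)).mp hrd)
    have hpr : (p : ZMod r) ≠ 0 := fun h =>
      hrp ((Nat.prime_dvd_prime_iff_eq hr hp.out).mp ((ZMod.natCast_eq_zero_iff _ _).mp h))
    have hpow : ∀ k, r ∣ p ^ k - 1 ↔ (p : ZMod r) ^ k = 1 := fun k => by
      rw [← ZMod.natCast_eq_zero_iff, Nat.cast_sub (Nat.one_le_pow _ _ hp.out.pos), sub_eq_zero]
      simp
    have hr5 : 5 ≤ r := by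
      have ho : orderOf (p : ZMod r) = n := by
        refine (orderOf_eq_iff (Nat.pos_of_ne_zero hn0)).mpr ⟨(hpow n).mp hrd, fun k hk hk0 h => ?_⟩
        exact hrk k hk0 hk ((hpow k).mpr h)
      have h1 : n ∣ r - 1 := ho ▸ ZMod.orderOf_dvd_card_sub_one hpr
      have h2 := Nat.le_of_dvd (by have := hr.two_le; omega) h1
      rcases Nat.lt_or_ge r 5 with h | h
      · interval_cases r <;> first | omega | (exact absurd hr (by norm_num))
      · exact h
    obtain ⟨x, hx⟩ := exists_prime_orderOf_dvd_card' (G := X) r (hkX ▸ hrd.mul_right _)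
    have hxr : x ^ r = 1 := by rw [← hx, pow_orderOf_eq_one]
    -- `x` centralises the Fitting subgroup
    have hxF : x ∈ Z := hcentF x fun s => by
      have hfs := Fact.mk s.2
      have hSs := CfsgLib.Core.isPGroup_pCore (G := X) (s : ℕ)
      have hnorm : ∀ t ∈ Cfsg.pCore (s : ℕ) X, x * t * x⁻¹ ∈ Cfsg.pCore (s : ℕ) X := fun t ht =>
        Subgroup.Normal.conj_mem inferInstance t ht x
      by_cases hsp : (s : ℕ) = p
      · intro t ht
        rw [hsp, hcore, Subgroup.mem_bot] at ht
        simp [ht]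
      by_cases hs2 : (s : ℕ) = 2
      · exact centralizes_two D hr hr5 hp2 hxr _ (hs2 ▸ hSs) hnorm
      rcases eq_or_ne r (s : ℕ) with hrs | hrs
      · intro t ht
        have hB : IsPGroup (s : ℕ) ↥(Cfsg.pCore (s : ℕ) X ⊔ Subgroup.zpowers x) :=
          hSs.to_sup_of_normal_left (IsPGroup.of_card (n := 1) (by
            rw [Nat.card_zpowers, hx, pow_one, hrs]))
        rcases cyclic_or_quaternion D hsp hB with h | ⟨h, -⟩
        · letI := IsCyclic.commGroup (α := ↥(Cfsg.pCore (s : ℕ) X ⊔ Subgroup.zpowers x))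
          exact congrArg Subtype.val (mul_comm
            (⟨x, Subgroup.mem_sup_right (Subgroup.mem_zpowers x)⟩ :
              ↥(Cfsg.pCore (s : ℕ) X ⊔ Subgroup.zpowers x)) ⟨t, Subgroup.mem_sup_left ht⟩)
        · exact absurd h hs2
      rcases cyclic_or_quaternion D hsp hSs with h | ⟨h, -⟩
      · refine centralizes_cyclic h s.2 hr hrs hSs hxr hnorm fun z hz hzo => ?_
        refine commute_of_prime_orders D (hx ▸ hr) (hzo ▸ s.2) (hx ▸ hrp) (hzo ▸ hsp) fun w hw => ?_
        obtain ⟨i, rfl⟩ := Subgroup.mem_zpowers_iff.mp hw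
        rw [← conj_zpow]
        refine Subgroup.zpow_mem _ ?_ i
        rw [← order_prime_unique D hsp hSs (hnorm z hz) hz
          (by rw [← MulAut.conj_apply, MulEquiv.orderOf_eq, hzo]) hzo]
        exact Subgroup.mem_zpowers _
      · exact absurd h hs2
    -- its subgroup is normal
    have hZc : IsMulCommutative Z := ⟨⟨fun u w => Subtype.ext
      (Subgroup.mem_centralizer_iff.mp w.2 u (hZF u.2))⟩⟩
    have hZp : ∀ u ∈ Z, ¬ p ∣ orderOf u := fun u hu => hFp u (hZF hu)
    have hxn : (Subgroup.zpowers x).Normal := by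
      have hZn : Z.Normal := inferInstance
      have hZcyc := cyclic_of_comm D hZp
      refine ⟨fun w hw g => ?_⟩
      obtain ⟨i, rfl⟩ := Subgroup.mem_zpowers_iff.mp hw
      rw [← conj_zpow]
      refine Subgroup.zpow_mem _ ?_ i
      have hc : g * x * g⁻¹ ∈ Z := hZn.conj_mem x hxF g
      have e : Subgroup.zpowers (⟨g * x * g⁻¹, hc⟩ : Z) = Subgroup.zpowers ⟨x, hxF⟩ :=
        CfsgLib.ClassSizes.Kulakoff.eq_of_card_eq_of_isCyclic (by
          rw [Nat.card_zpowers, Nat.card_zpowers, Subgroup.orderOf_mk, Subgroup.orderOf_mk,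
            ← MulAut.conj_apply, MulEquiv.orderOf_eq])
      have h1 : (⟨g * x * g⁻¹, hc⟩ : Z) ∈ Subgroup.zpowers (⟨x, hxF⟩ : Z) :=
        e ▸ Subgroup.mem_zpowers _
      obtain ⟨j, hj⟩ := Subgroup.mem_zpowers_iff.mp h1
      exact Subgroup.mem_zpowers_iff.mpr ⟨j, congrArg Subtype.val hj⟩
    set K := Subgroup.centralizer (Subgroup.zpowers x : Set X)
    refine concl_of_quotient K (fun hd => ?_) fun a b =>
      comm_mem_centralizer (K := Subgroup.zpowers x) inferInstance a b
    obtain ⟨⟨y, hyK⟩, hy⟩ := exists_prime_orderOf_dvd_card' (G := K) p hd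
    rw [Subgroup.orderOf_mk] at hy
    have hxy : x * y = y * x := Subgroup.mem_centralizer_iff.mp hyK x (Subgroup.mem_zpowers x)
    -- the fixed points of `y` form an invariant subgroup
    let M : Subgroup N :=
      { carrier := {w | ψ y w = w}
        mul_mem' := fun {u w} hu hw => by
          show ψ y (u * w) = u * w
          rw [map_mul, hu, hw]
        one_mem' := map_one _
        inv_mem' := fun {u} hu => by
          show ψ y u⁻¹ = u⁻¹
          rw [map_inv, hu] }
    letI : MulAction (Subgroup.zpowers y) N := MulAction.compHom N (ψ.comp (Subgroup.zpowers y).subtype)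
    obtain ⟨w₀, hw₀, hw₀1⟩ := (IsPGroup.of_card (p := p) (n := 1) (by
      rw [Nat.card_zpowers, hy, pow_one]) : IsPGroup p (Subgroup.zpowers y)).exists_fixed_point_of_prime_dvd_card_of_fixed_point
        N (by rw [hn]; exact dvd_pow_self p hn0) (a := (1 : N)) fun k => map_one (ψ (k : X))
    have hw₀M : w₀ ∈ M := hw₀ ⟨y, Subgroup.mem_zpowers y⟩
    obtain ⟨k, hk⟩ := IsPGroup.iff_card.mp (hNp.to_subgroup M)
    have hMinv : ∀ (c : Subgroup.zpowers x) (w : N), w ∈ M → ψ (c : X) w ∈ M := by
      intro c w hw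
      show ψ y (ψ (c : X) w) = ψ (c : X) w
      have hcy : y * c = c * y := (Subgroup.mem_centralizer_iff.mp hyK c c.2).symm
      rw [← MulAut.mul_apply, ← map_mul, hcy, map_mul, MulAut.mul_apply, hw]
    letI : MulAction (Subgroup.zpowers x) M :=
      { smul := fun c w => ⟨ψ (c : X) w, hMinv c w w.2⟩
        one_smul := fun w => Subtype.ext (by show ψ (1 : X) (w : N) = w; simp)
        mul_smul := fun c d w => Subtype.ext (by
          show ψ ((c : X) * d) (w : N) = ψ c (ψ d w); simp) }
    have hmod := (IsPGroup.of_card (p := r) (n := 1) (by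
      rw [Nat.card_zpowers, hx, pow_one]) : IsPGroup r (Subgroup.zpowers x)).card_modEq_card_fixedPoints M
    have hfix1 : Nat.card (MulAction.fixedPoints (Subgroup.zpowers x) M) = 1 := by
      rw [Nat.card_eq_one_iff_unique]
      refine ⟨⟨fun u w => ?_⟩, ⟨⟨1, fun c => Subtype.ext (map_one (ψ (c : X)))⟩⟩⟩
      have key : ∀ u : MulAction.fixedPoints (Subgroup.zpowers x) M, ((u : M) : N) = 1 := fun u => by
        by_contra h
        have hu := congrArg Subtype.val (u.2 ⟨x, Subgroup.mem_zpowers x⟩)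
        have := semiregular D (x := x) (fun hd => hrp ((Nat.prime_dvd_prime_iff_eq hp.out hr).mp (hx ▸ hd)).symm) h hu
        rw [this, orderOf_one] at hx
        omega
      exact Subtype.ext (Subtype.ext ((key u).trans (key w).symm))
    rw [hfix1, hk] at hmod
    have hk0 : k ≠ 0 := fun e => hw₀1 (by
      have h1 : M = ⊥ := Subgroup.card_eq_one.mp (by rw [hk, e, pow_zero])
      rw [h1, Subgroup.mem_bot] at hw₀M
      exact hw₀M.symm)
    have hrk' : r ∣ p ^ k - 1 := (Nat.modEq_iff_dvd' (Nat.one_le_pow _ _ hp.out.pos)).mp hmod.symm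
    have hkn : k ≤ n := by
      have h := M.card_subgroup_dvd_card
      rw [hk, hn] at h
      exact (Nat.pow_dvd_pow_iff_le_right hp.out.one_lt).mp h
    have hMtop : M = ⊤ := by
      refine Subgroup.eq_top_of_card_eq _ ?_
      rw [hk, hn]
      rcases hkn.lt_or_eq with h | h
      · exact absurd hrk' (hrk k (Nat.pos_of_ne_zero hk0) h)
      · rw [h]
    have hy1 : y = 1 := D.inj (MulEquiv.ext fun w => by
      rw [map_one, MulAut.one_apply]
      exact (hMtop ▸ Subgroup.mem_top w : w ∈ M))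
    rw [hy1, orderOf_one] at hy
    exact absurd hy hp.out.one_lt.ne
  -- `n = 2`
  obtain rfl : n = 2 := by omega
  have hsq : p ^ 2 - 1 = (p + 1) * (p - 1) := by rw [← Nat.sq_sub_sq, one_pow]
  have hQle : ∀ Q : Sylow p X, Nat.card (Q : Subgroup X) ∣ p := by
    intro Q
    letI : MulAction (Q : Subgroup X) N := MulAction.compHom N (ψ.comp (Q : Subgroup X).subtype)
    obtain ⟨v, hv, hv1⟩ := Q.isPGroup'.exists_fixed_point_of_prime_dvd_card_of_fixed_point N
      (by rw [hn]; exact dvd_pow_self p two_ne_zero) (a := (1 : N)) fun k => map_one (ψ (k : X))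
    have hvo : orderOf v = p := orderOf_eq_prime (D.exp v) hv1.symm
    obtain ⟨w, hw⟩ : ∃ w : N, w ∉ Subgroup.zpowers v := by
      by_contra! h
      have := Nat.card_zpowers v
      rw [(Subgroup.eq_top_iff' _).mpr h, Subgroup.card_top, hn, hvo] at this
      nlinarith
    have hgenN : Subgroup.zpowers v ⊔ Subgroup.zpowers w = ⊤ := by
      refine Subgroup.eq_top_of_card_eq _ ?_
      obtain ⟨k, hk⟩ := IsPGroup.iff_card.mp (hNp.to_subgroup (Subgroup.zpowers v ⊔ Subgroup.zpowers w))
      have h1 := Subgroup.card_subgroup_dvd_card (Subgroup.zpowers v ⊔ Subgroup.zpowers w)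
      rw [hk, hn] at h1 ⊢
      have h2 := (Nat.pow_dvd_pow_iff_le_right hp.out.one_lt).mp h1
      rcases h2.lt_or_eq with h3 | h3
      · exfalso
        refine hw ?_
        have he : Subgroup.zpowers v = Subgroup.zpowers v ⊔ Subgroup.zpowers w :=
          Subgroup.eq_of_le_of_card_ge le_sup_left (by
            rw [hk, Nat.card_zpowers, hvo]
            calc p ^ k ≤ p ^ 1 := Nat.pow_le_pow_right hp.out.pos (by omega)
              _ = p := pow_one p)
        rw [he]
        exact Subgroup.mem_sup_right (Subgroup.mem_zpowers w)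
      · rw [h3]
    have hstab : MulAction.stabilizer (Q : Subgroup X) w = ⊥ := by
      rw [eq_bot_iff]
      intro y hy
      rw [Subgroup.mem_bot]
      refine Subtype.ext (D.inj (MulEquiv.ext fun u => ?_))
      rw [Subgroup.coe_one, map_one, MulAut.one_apply]
      have hu : u ∈ Subgroup.zpowers v ⊔ Subgroup.zpowers w := hgenN ▸ Subgroup.mem_top u
      have hle : Subgroup.zpowers v ⊔ Subgroup.zpowers w ≤ (ψ (y : X)).toMonoidHom.eqLocus (MonoidHom.id N) :=
        sup_le (Subgroup.zpowers_le.mpr (hv y)) (Subgroup.zpowers_le.mpr hy)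
      exact hle hu
    have hcard := Nat.card_congr (MulAction.orbitEquivQuotientStabilizer (Q : Subgroup X) w)
    rw [← Subgroup.index_eq_card, hstab, Subgroup.index_bot] at hcard
    have hle : Nat.card (MulAction.orbit (Q : Subgroup X) w) < p ^ 2 := by
      rw [← hn]
      refine lt_of_le_of_ne (Nat.card_le_card_of_injective Subtype.val Subtype.val_injective) fun e => ?_
      have hsur := ((Nat.bijective_iff_injective_and_card (Subtype.val :
        MulAction.orbit (Q : Subgroup X) w → N)).mpr ⟨Subtype.val_injective, e⟩).2 1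
      obtain ⟨⟨_, c, rfl⟩, hc⟩ := hsur
      exact hw (by rw [(map_eq_one_iff _ (ψ (c : X)).injective).mp hc]; exact one_mem _)
    obtain ⟨k, hk⟩ := IsPGroup.iff_card.mp Q.isPGroup'
    rw [hcard, hk] at hle
    have := (Nat.pow_lt_pow_iff_right hp.out.one_lt).mp hle
    rw [hk]
    calc p ^ k ∣ p ^ 1 := pow_dvd_pow p (by omega)
      _ = p := pow_one p
  have hSyl : ∀ Q : Sylow p X, IsMulCommutative (Q : Subgroup X) := by
    intro Q
    rcases (Nat.dvd_prime hp.out).mp (hQle Q) with h | h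
    · have := (Nat.card_eq_one_iff_unique.mp h).1
      exact ⟨⟨fun _ _ => Subsingleton.elim _ _⟩⟩
    · have := isCyclic_of_prime_card (p := p) h
      letI := IsCyclic.commGroup (α := (Q : Subgroup X))
      infer_instance
  refine ⟨?_, hSyl⟩
  obtain ⟨Q⟩ := (inferInstance : Nonempty (Sylow p X))
  rcases (Nat.dvd_prime hp.out).mp (hQle Q) with hQ | hQ
  · refine ⟨Q, ⊤, inferInstance, ?_⟩
    rw [Subgroup.card_eq_one.mp hQ]
    exact Subgroup.isComplement'_top_bot
  rcases Nat.lt_or_ge p 5 with hp5 | hp5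
  · -- `p = 3`
    obtain rfl : p = 3 := by
      interval_cases p <;> first | rfl | (exact absurd hp.out (by norm_num))
    have hX : Nat.card X = 8 * 3 ^ kX := by rw [hkX]; norm_num
    obtain ⟨i, hi⟩ := IsPGroup.iff_card.mp hS2
    have h8 : Nat.card S ∣ 8 := by
      refine Nat.Coprime.dvd_of_dvd_mul_right ?_ (hX ▸ S.card_subgroup_dvd_card)
      rw [hi]
      exact Nat.Coprime.pow _ _ (by norm_num)
    have hS8 : Nat.card S = 8 := by
      rw [hi] at h8 ⊢
      have h3 : i ≤ 3 := (Nat.pow_dvd_pow_iff_le_right (by norm_num : 1 < 2)).mp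
        (by simpa using h8)
      rcases h3.lt_or_eq with h | h
      · exfalso
        refine hab ?_
        have hcm : IsMulCommutative S := by
          interval_cases i
          · have := (Nat.card_eq_one_iff_unique.mp (hi.trans (pow_zero 2))).1
            exact ⟨⟨fun _ _ => Subsingleton.elim _ _⟩⟩
          · have := isCyclic_of_prime_card (p := 2) (by simpa using hi)
            letI := IsCyclic.commGroup (α := S)
            infer_instance
          · letI := IsPGroup.commGroupOfCardEqPrimeSq (p := 2) hi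
            exact ⟨⟨fun u w => mul_comm u w⟩⟩
        exact congrArg Subtype.val (hcm.is_comm.comm ⟨a, ha⟩ ⟨b, hb⟩)
      · rw [h]; norm_num
    refine ⟨Q, S, inferInstance, Subgroup.isComplement'_of_coprime ?_ ?_⟩
    · have hQc := Q.card_eq_multiplicity
      rw [hQ, hX, Nat.factorization_mul (by norm_num) (by positivity),
        Nat.Prime.factorization_pow Nat.prime_three, Finsupp.add_apply, Finsupp.single_eq_same,
        Nat.factorization_eq_zero_of_not_dvd (show ¬ 3 ∣ 8 by norm_num), zero_add] at hQc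
      rw [hS8, hQ, hX]
      congr 1
    · rw [hS8, hQ]; norm_num
  -- `p ≥ 5`: no element of order `p`
  exfalso
  obtain ⟨⟨y, hyQ⟩, hy⟩ := exists_prime_orderOf_dvd_card' (G := (Q : Subgroup X)) p (dvd_of_eq hQ.symm)
  rw [Subgroup.orderOf_mk] at hy
  have hyp : y ^ p = 1 := by rw [← hy, pow_orderOf_eq_one]
  have hyZ : y ∈ Z := hcentF y fun s => by
    have hfs := Fact.mk s.2
    have hSs := CfsgLib.Core.isPGroup_pCore (G := X) (s : ℕ)
    have hnorm : ∀ t ∈ Cfsg.pCore (s : ℕ) X, y * t * y⁻¹ ∈ Cfsg.pCore (s : ℕ) X := fun t ht =>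
      Subgroup.Normal.conj_mem inferInstance t ht y
    by_cases hsp : (s : ℕ) = p
    · intro t ht
      rw [hsp, hcore, Subgroup.mem_bot] at ht
      simp [ht]
    by_cases hs2 : (s : ℕ) = 2
    · exact centralizes_two D hp.out hp5 hp2 hyp _ (hs2 ▸ hSs) hnorm
    rcases cyclic_or_quaternion D hsp hSs with h | ⟨h, -⟩
    · refine centralizes_cyclic h s.2 hp.out (Ne.symm hsp) hSs hyp hnorm fun z hz hzo => ?_
      have h1 := order_prime_unique D hsp hSs (hnorm z hz) hz
        (by rw [← MulAut.conj_apply, MulEquiv.orderOf_eq, hzo]) hzo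
      have h2 : y * z * y⁻¹ ∈ Subgroup.zpowers z := h1 ▸ Subgroup.mem_zpowers _
      obtain ⟨i, hi⟩ := (isOfFinOrder_of_finite z).mem_powers_iff_mem_zpowers.mpr h2
      simp only at hi
      have hpw : ∀ m : ℕ, y ^ m * z * (y ^ m)⁻¹ = z ^ (i ^ m) := by
        intro m
        induction m with
        | zero => simp
        | succ m ih =>
          calc y ^ (m + 1) * z * (y ^ (m + 1))⁻¹ = y * (y ^ m * z * (y ^ m)⁻¹) * y⁻¹ := by
                rw [pow_succ']; group
            _ = (z ^ i) ^ (i ^ m) := by rw [ih, ← conj_pow, hi]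
            _ = _ := by rw [← pow_mul, pow_succ']
      have hzi : ((i : ℕ) : ZMod (s : ℕ)) ^ p = 1 := by
        have h3 := hpw p
        rw [hyp, one_mul, inv_one, mul_one] at h3
        have h4 : z ^ 1 = z ^ (i ^ p) := by rw [pow_one]; exact h3
        rw [pow_eq_pow_iff_modEq, hzo, ← ZMod.natCast_eq_natCast_iff] at h4
        simpa using h4.symm
      by_cases hi1 : ((i : ℕ) : ZMod (s : ℕ)) = 1
      · have h5 : z ^ i = z ^ 1 := by
          rw [pow_eq_pow_iff_modEq, hzo, ← ZMod.natCast_eq_natCast_iff]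
          simpa using hi1
        rw [pow_one] at h5
        exact mul_inv_eq_iff_eq_mul.mp (hi.symm.trans h5)
      exfalso
      have ho : orderOf ((i : ℕ) : ZMod (s : ℕ)) = p := orderOf_eq_prime hzi hi1
      have hne0 : ((i : ℕ) : ZMod (s : ℕ)) ≠ 0 := fun h => by
        rw [h, zero_pow hp.out.ne_zero] at hzi
        exact zero_ne_one hzi
      have h6 : p ∣ (s : ℕ) - 1 := ho ▸ ZMod.orderOf_dvd_card_sub_one hne0
      have hs3 : 2 < (s : ℕ) := lt_of_le_of_ne s.2.two_le (Ne.symm hs2)
      have h7 := Nat.le_of_dvd (by omega) h6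
      have h8 : (s : ℕ) ∣ Nat.card X := hzo ▸ orderOf_dvd_natCard z
      rw [hkX, hsq, s.2.dvd_mul, s.2.dvd_mul] at h8
      rcases h8 with (h8 | h8) | h8
      · have h9 := Nat.le_of_dvd (by omega) h8
        have h10 : (s : ℕ) = p + 1 := by omega
        have h11 : Odd p := hp.out.odd_of_ne_two hp2
        have h12 : Odd (s : ℕ) := s.2.odd_of_ne_two hs2
        rw [h10, Nat.odd_add_one] at h12
        exact h12 h11
      · have := Nat.le_of_dvd (by omega) h8; omega
      · exact hsp ((Nat.prime_dvd_prime_iff_eq s.2 hp.out).mp (s.2.dvd_of_dvd_pow h8))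
    · exact absurd h hs2
  exact hFp y (hZF hyZ) (hy ▸ dvd_rfl)

end CfsgLib.CharDegree.TransSolv
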