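import Cfsg.Agent.Lib.CharDegree.Counting
import Cfsg.Prelude.Def_Transfer
import Mathlib.GroupTheory.Sylow

/-!
# A character that is nonzero on exactly two conjugacy classes
-/

namespace CfsgLib.CharDegree

open scoped ComplexConjugate
open CfsgLib.Char

variable {G : Type*} [Group G]

/-- If a character vanishes on a subgroup away from `1`, the order divides the degree. -/
theorem card_dvd_charDegree [Finite G] (H : Subgroup G) {χ : G → ℂ}
    (hχ : Cfsg.IsCharacter G χ) (h : ∀ g ∈ H, g ≠ 1 → χ g = 0) :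
    Nat.card H ∣ Cfsg.charDegree χ := by
  classical
  have := Fintype.ofFinite H
  obtain ⟨n, hn⟩ := IsChar.classInner_eq_natCast (G := H) (IsChar.restrict H hχ) isCharacter_one
  refine ⟨n, ?_⟩
  rw [← Nat.cast_inj (R := ℂ), Nat.cast_mul, cast_charDegree hχ]
  rw [Cfsg.classInner, Finset.sum_eq_single (1 : H) (fun x _ hx => by
    rw [h x x.2 fun h1 => hx (Subtype.ext h1), zero_mul]) (by simp),
    inv_mul_eq_iff_eq_mul₀ (Nat.cast_ne_zero.mpr Nat.card_pos.ne')] at hn
  simpa using hn

namespace TwoClass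

variable [Finite G] (hG : 2 < Nat.card G) (χ : Cfsg.IrrCharacter G)
  (hχ : Nat.card {C : ConjClasses G // ∃ g ∈ C.carrier, (χ : G → ℂ) g ≠ 0} = 2)

include hχ

theorem exists_rep_class : ∃ k : G, k ≠ 1 ∧ (χ : G → ℂ) k ≠ 0 ∧
    ∀ g : G, (χ : G → ℂ) g ≠ 0 → g = 1 ∨ IsConj k g := by
  let c₁ : {C : ConjClasses G // ∃ g ∈ C.carrier, (χ : G → ℂ) g ≠ 0} :=
    ⟨ConjClasses.mk 1, 1, ConjClasses.mem_carrier_mk, IsIrr.apply_one_ne_zero χ.2⟩
  obtain ⟨⟨C, k, hk, hχk⟩, hC, huniq⟩ := (Nat.card_eq_two_iff' c₁).mp hχ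
  have hCk : C = ConjClasses.mk k := (ConjClasses.mem_carrier_iff_mk_eq.mp hk).symm
  refine ⟨k, fun h1 => hC (Subtype.ext (hCk.trans (congrArg ConjClasses.mk h1))), hχk, fun g hg => ?_⟩
  by_cases h1 : (⟨ConjClasses.mk g, g, ConjClasses.mem_carrier_mk, hg⟩ :
      {C : ConjClasses G // ∃ g ∈ C.carrier, (χ : G → ℂ) g ≠ 0}) = c₁
  · left
    exact isConj_one_left.mp (ConjClasses.mk_eq_mk_iff_isConj.mp (congrArg Subtype.val h1))
  · right
    have := congrArg Subtype.val (huniq _ h1)
    exact (ConjClasses.mk_eq_mk_iff_isConj.mp (this.trans hCk)).symm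

/-- The nontrivial element of the support. -/
noncomputable def rep : G := (exists_rep_class χ hχ).choose

theorem rep_ne_one : rep χ hχ ≠ 1 := (exists_rep_class χ hχ).choose_spec.1

theorem apply_rep_ne_zero : (χ : G → ℂ) (rep χ hχ) ≠ 0 :=
  (exists_rep_class χ hχ).choose_spec.2.1

theorem ne_zero_iff {g : G} : (χ : G → ℂ) g ≠ 0 ↔ g = 1 ∨ IsConj (rep χ hχ) g := by
  refine ⟨(exists_rep_class χ hχ).choose_spec.2.2 g, ?_⟩
  rintro (rfl | h)
  · exact IsIrr.apply_one_ne_zero χ.2
  · rw [← isClassFunction_iff_isConj.mp (IsIrr.isClassFunction χ.2) _ _ h]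
    exact apply_rep_ne_zero χ hχ

/-- Sums over the group against `χ` only see two classes. -/
theorem sum_mul_eq [Fintype G] {f : G → ℂ} (hf : Cfsg.IsClassFunction G f) :
    ∑ g, (χ : G → ℂ) g * f g = (χ : G → ℂ) 1 * f 1 +
      ((Subgroup.centralizer ({rep χ hχ} : Set G)).index : ℂ) *
        ((χ : G → ℂ) (rep χ hχ) * f (rep χ hχ)) := by
  classical
  rw [← Finset.add_sum_erase _ _ (Finset.mem_univ (1 : G))]
  congr 1
  rw [← Finset.sum_subset (s₁ := CharIntegral.classFinset (rep χ hχ))]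
  · rw [Finset.sum_congr rfl (g := fun _ => (χ : G → ℂ) (rep χ hχ) * f (rep χ hχ)),
      Finset.sum_const, nsmul_eq_mul, CharIntegral.card_classFinset]
    intro x hx
    rw [CharIntegral.mem_classFinset] at hx
    rw [isClassFunction_iff_isConj.mp (IsIrr.isClassFunction χ.2) _ _ hx,
      isClassFunction_iff_isConj.mp hf _ _ hx]
  · intro x hx
    rw [CharIntegral.mem_classFinset] at hx
    refine Finset.mem_erase.mpr ⟨?_, Finset.mem_univ _⟩
    rintro rfl
    exact rep_ne_one χ hχ (isConj_one_left.mp hx)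
  · intro x hx hxc
    have hx0 : (χ : G → ℂ) x = 0 := by
      by_contra h
      rcases (ne_zero_iff χ hχ).mp h with h' | h'
      · exact (Finset.mem_erase.mp hx).1 h'
      · exact hxc (CharIntegral.mem_classFinset.mpr h')
    rw [hx0, zero_mul]

include hG

theorem ne_triv : χ ≠ trivChar G := by
  intro h
  have hk := rep_ne_one χ hχ
  have hall : ∀ g : G, g = 1 ∨ IsConj (rep χ hχ) g := fun g =>
    (ne_zero_iff χ hχ).mp (by simp [h])
  have hm : Nat.card {g : G // g ≠ 1} = (Subgroup.centralizer ({rep χ hχ} : Set G)).index := by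
    rw [← card_carrier_eq_index]
    exact Nat.card_congr (Equiv.subtypeEquivRight fun g => by
      rw [ConjClasses.mem_carrier_iff_mk_eq, ConjClasses.mk_eq_mk_iff_isConj]
      exact ⟨fun hg => ((hall g).resolve_left hg).symm,
        fun hg h1 => hk (isConj_one_right.mp (h1 ▸ hg))⟩)
  classical
  have := Fintype.ofFinite G
  rw [Nat.card_eq_fintype_card, Fintype.card_subtype_compl, Fintype.card_subtype_eq,
    ← Nat.card_eq_fintype_card] at hm
  have hdvd : (Subgroup.centralizer ({rep χ hχ} : Set G)).index ∣ Nat.card G :=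
    Subgroup.index_dvd_card _
  rw [← hm] at hdvd
  have h1 : Nat.card G - 1 ∣ Nat.card G - (Nat.card G - 1) := Nat.dvd_sub hdvd dvd_rfl
  rw [show Nat.card G - (Nat.card G - 1) = 1 by omega, Nat.dvd_one] at h1
  omega

/-- `d + m c = 0`. -/
theorem degree_add_eq_zero : (χ : G → ℂ) 1 +
    ((Subgroup.centralizer ({rep χ hχ} : Set G)).index : ℂ) * (χ : G → ℂ) (rep χ hχ) = 0 := by
  classical
  have := Fintype.ofFinite G
  have h := classInner_irr_of_ne (ne_triv hG χ hχ)
  simp only [Cfsg.classInner, trivChar_apply, map_one] at h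
  rw [sum_mul_eq χ hχ (f := fun _ => 1) (fun _ _ => rfl)] at h
  simpa [Nat.card_pos.ne'] using h

/-- Every other character has the support in its kernel. -/
theorem apply_rep_eq {ψ : Cfsg.IrrCharacter G} (hψ : ψ ≠ χ) :
    (ψ : G → ℂ) (rep χ hχ) = (ψ : G → ℂ) 1 := by
  classical
  have := Fintype.ofFinite G
  have h := classInner_irr_of_ne (Ne.symm hψ)
  simp only [Cfsg.classInner] at h
  have hf : Cfsg.IsClassFunction G (fun g => conj ((ψ : G → ℂ) g)) := fun a b => by
    simp only [IsIrr.isClassFunction ψ.2 a b]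
  rw [sum_mul_eq χ hχ hf, mul_eq_zero] at h
  replace h := h.resolve_left (by simp [Nat.card_pos.ne'])
  have h0 := degree_add_eq_zero hG χ hχ
  have hd := IsIrr.apply_one_ne_zero χ.2
  have h2 : (χ : G → ℂ) 1 * (conj ((ψ : G → ℂ) 1) - conj ((ψ : G → ℂ) (rep χ hχ))) = 0 := by
    linear_combination h - conj ((ψ : G → ℂ) (rep χ hχ)) * h0
  exact ((starRingEnd ℂ).injective (sub_eq_zero.mp ((mul_eq_zero.mp h2).resolve_left hd))).symm

/-- The support of `χ` is the intersection of the kernels of the other characters. -/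
theorem ne_zero_iff_forall {g : G} :
    (χ : G → ℂ) g ≠ 0 ↔ ∀ ψ : Cfsg.IrrCharacter G, ψ ≠ χ → (ψ : G → ℂ) g = (ψ : G → ℂ) 1 := by
  classical
  have := Fintype.ofFinite (Cfsg.IrrCharacter G)
  constructor
  · intro h ψ hψ
    rcases (ne_zero_iff χ hχ).mp h with rfl | h'
    · rfl
    · rw [← isClassFunction_iff_isConj.mp (IsIrr.isClassFunction ψ.2) _ _ h',
        apply_rep_eq hG χ hχ hψ]
  · intro h h0
    have := Fintype.ofFinite G
    have ho := column_orthogonality g (rep χ hχ)
    rw [if_neg (fun hc => apply_rep_ne_zero χ hχ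
      ((apply_eq_of_isConj χ hc).symm.trans h0)),
      ← Finset.add_sum_erase _ _ (Finset.mem_univ χ), h0, zero_mul, zero_add,
      Finset.sum_congr rfl (g := fun ψ : Cfsg.IrrCharacter G =>
        ((Cfsg.charDegree (ψ : G → ℂ) ^ 2 : ℕ) : ℂ)) fun ψ hψ => by
          rw [apply_rep_eq hG χ hχ (Finset.mem_erase.mp hψ).1, h ψ (Finset.mem_erase.mp hψ).1,
            ← cast_irrDegree, map_natCast, Nat.cast_pow, sq],
      ← Nat.cast_sum, Nat.cast_eq_zero, Finset.sum_eq_zero_iff] at ho
    exact (charDegree_pos (trivChar G)).ne' (pow_eq_zero_iff two_ne_zero |>.mp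
      (ho (trivChar G) (Finset.mem_erase.mpr ⟨(ne_triv hG χ hχ).symm, Finset.mem_univ _⟩)))

theorem faithful (g : G) (hg : (χ : G → ℂ) g = (χ : G → ℂ) 1) : g = 1 := by
  by_contra h1
  rcases (ne_zero_iff χ hχ).mp (by rw [hg]; exact IsIrr.apply_one_ne_zero χ.2) with h | h
  · exact h1 h
  · rw [← isClassFunction_iff_isConj.mp (IsIrr.isClassFunction χ.2) _ _ h] at hg
    have h0 := degree_add_eq_zero hG χ hχ
    rw [hg, ← one_add_mul, mul_eq_zero] at h0
    have h2 := h0.resolve_right (IsIrr.apply_one_ne_zero χ.2)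
    exact (Nat.cast_ne_zero (R := ℂ)).mpr (Nat.succ_ne_zero _)
      (by push_cast; linear_combination h2)

theorem eq_of_faithful {ψ : Cfsg.IrrCharacter G}
    (hψ : ∀ g : G, (ψ : G → ℂ) g = (ψ : G → ℂ) 1 → g = 1) : ψ = χ := by
  by_contra h
  exact rep_ne_one χ hχ (hψ _ (apply_rep_eq hG χ hχ h))

omit hG hχ in
/-- The intersection of the kernels of all characters other than `χ`. -/
noncomputable def support (χ : Cfsg.IrrCharacter G) : Subgroup G :=
  ⨅ ψ : {ψ : Cfsg.IrrCharacter G // ψ ≠ χ}, kerSubgroup ψ.1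

omit hG hχ in
theorem support_normal : (support χ).Normal :=
  Subgroup.normal_iInf_normal fun ψ => kerSubgroup_normal ψ.1

theorem mem_support {g : G} : g ∈ support χ ↔ (χ : G → ℂ) g ≠ 0 := by
  rw [ne_zero_iff_forall hG χ hχ, support, Subgroup.mem_iInf]
  exact ⟨fun h ψ hψ => mem_kerSubgroup.mp (h ⟨ψ, hψ⟩),
    fun h ψ => mem_kerSubgroup.mpr (h ψ.1 ψ.2)⟩

theorem rep_mem_support : rep χ hχ ∈ support χ :=
  (mem_support hG χ hχ).mpr (apply_rep_ne_zero χ hχ)

theorem support_ne_bot : support χ ≠ ⊥ := fun h =>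
  rep_ne_one χ hχ ((Subgroup.eq_bot_iff_forall _).mp h _ (rep_mem_support hG χ hχ))

theorem isConj_of_mem_support {x y : G} (hx : x ∈ support χ) (hy : y ∈ support χ) (hx1 : x ≠ 1)
    (hy1 : y ≠ 1) : IsConj x y :=
  (((ne_zero_iff χ hχ).mp ((mem_support hG χ hχ).mp hx)).resolve_left hx1).symm.trans
    (((ne_zero_iff χ hχ).mp ((mem_support hG χ hχ).mp hy)).resolve_left hy1)

/-- The support is contained in every nontrivial normal subgroup. -/
theorem support_le {K : Subgroup G} (hK : K.Normal) (hK1 : K ≠ ⊥) : support χ ≤ K := by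
  classical
  have := Fintype.ofFinite G
  have := Fintype.ofFinite (G ⧸ K)
  intro g hg
  rw [← QuotientGroup.eq_one_iff]
  refine isConj_one_left.mp (isConj_of_forall_eq fun ψ => ?_)
  by_cases hψ : infl K ψ = χ
  · exfalso
    obtain ⟨⟨k, hk⟩, hk1⟩ := Subgroup.ne_bot_iff_exists_ne_one.mp hK1
    exact hk1 (Subtype.ext (faithful hG χ hχ k (by rw [← hψ]; exact infl_ker K ψ hk)))
  · exact (ne_zero_iff_forall hG χ hχ).mp ((mem_support hG χ hχ).mp hg) _ hψ

theorem card_support : Nat.card (support χ) =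
    (Subgroup.centralizer ({rep χ hχ} : Set G)).index + 1 := by
  classical
  have := Fintype.ofFinite G
  rw [← card_carrier_eq_index, ← Nat.card_congr
    (Equiv.subtypeEquivRight fun g : G => show g ∈ (ConjClasses.mk (rep χ hχ)).carrier ↔
      IsConj (rep χ hχ) g by
        rw [ConjClasses.mem_carrier_iff_mk_eq, ConjClasses.mk_eq_mk_iff_isConj]
        exact ⟨IsConj.symm, IsConj.symm⟩).symm, ← Finite.card_option]
  refine Nat.card_congr
    { toFun := fun g => if h : (g : G) = 1 then none else some ⟨g,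
        ((ne_zero_iff χ hχ).mp ((mem_support hG χ hχ).mp g.2)).resolve_left h⟩
      invFun := fun o => o.elim 1 fun g => ⟨g, (mem_support hG χ hχ).mpr
        ((ne_zero_iff χ hχ).mpr (Or.inr g.2))⟩
      left_inv := fun g => by
        by_cases h : (g : G) = 1
        · exact Subtype.ext (by simp [h])
        · simp [h]
      right_inv := fun o => by
        rcases o with _ | ⟨g, hg⟩
        · simp
        · have h : g ≠ 1 := fun h1 => rep_ne_one χ hχ (isConj_one_left.mp (h1 ▸ hg))
          simp [h] }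

theorem exists_prime_elementary :
    ∃ p : ℕ, p.Prime ∧ Cfsg.IsElementaryAbelian p (support χ) := by
  obtain ⟨p, hp, hpd⟩ := Nat.exists_prime_and_dvd (n := Nat.card (support χ))
    (fun h => support_ne_bot hG χ hχ (Subgroup.eq_bot_of_card_eq _ h))
  have := Fact.mk hp
  obtain ⟨x, hx⟩ := exists_prime_orderOf_dvd_card' (G := support χ) p hpd
  have hx1 : (x : G) ≠ 1 := fun h => by
    rw [← Subgroup.orderOf_coe, h, orderOf_one] at hx
    exact hp.one_lt.ne hx
  have hpow : ∀ a ∈ support χ, a ^ p = 1 := by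
    intro a ha
    by_cases ha1 : a = 1
    · simp [ha1]
    · obtain ⟨c, hc⟩ := isConj_iff.mp (isConj_of_mem_support hG χ hχ x.2 ha hx1 ha1)
      rw [← hc, conj_pow, ← Subgroup.coe_pow, ← hx, pow_orderOf_eq_one]
      simp
  have hpG : IsPGroup p (support χ) := fun a => ⟨1, by
    rw [pow_one]; exact Subtype.ext (by simpa using hpow a a.2)⟩
  have := support_normal χ
  have : Nontrivial (support χ) := (Subgroup.nontrivial_iff_ne_bot _).mpr (support_ne_bot hG χ hχ)
  have hZ := hpG.center_nontrivial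
  refine ⟨p, hp, ?_, hpow⟩
  have hle : support χ ≤ (Subgroup.center (support χ)).map (support χ).subtype := by
    refine support_le hG χ hχ inferInstance ?_
    rw [← Subgroup.map_bot (support χ).subtype]
    exact fun h => (Subgroup.nontrivial_iff_ne_bot _).mp hZ
      (Subgroup.map_injective (Subgroup.subtype_injective _) h)
  refine ⟨⟨fun a b => ?_⟩⟩
  obtain ⟨c, hc, hca⟩ := hle a.2
  obtain rfl : c = a := Subtype.ext hca
  exact (Subgroup.mem_center_iff.mp hc b).symm

/-- The degree is a multiple of the class size. -/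
theorem index_dvd_degree :
    (Subgroup.centralizer ({rep χ hχ} : Set G)).index ∣ Cfsg.charDegree (χ : G → ℂ) := by
  have h := degree_add_eq_zero hG χ hχ
  refine CharIntegral.dvd_of_isIntegral_div Subgroup.index_ne_zero_of_finite ?_
  have hm : ((Subgroup.centralizer ({rep χ hχ} : Set G)).index : ℂ) ≠ 0 :=
    Nat.cast_ne_zero.mpr Subgroup.index_ne_zero_of_finite
  rw [cast_irrDegree, show (χ : G → ℂ) 1 /
    ((Subgroup.centralizer ({rep χ hχ} : Set G)).index : ℂ) = -((χ : G → ℂ) (rep χ hχ)) by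
      rw [div_eq_iff hm]; linear_combination h]
  exact (IsChar.isIntegral (IsIrr.isCharacter χ.2) _).neg

/-- The norm equation `|G| m = d² (m + 1)`. -/
theorem norm_eq : Nat.card G * (Subgroup.centralizer ({rep χ hχ} : Set G)).index =
    Cfsg.charDegree (χ : G → ℂ) ^ 2 *
      ((Subgroup.centralizer ({rep χ hχ} : Set G)).index + 1) := by
  classical
  have := Fintype.ofFinite G
  rw [← Nat.cast_inj (R := ℂ)]
  push_cast
  rw [cast_irrDegree]
  have h := classInner_irr_self χ
  simp only [Cfsg.classInner] at h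
  rw [sum_mul_eq χ hχ (f := fun g => conj ((χ : G → ℂ) g)) (fun a b => by
      simp only [IsIrr.isClassFunction χ.2 a b]),
    inv_mul_eq_iff_eq_mul₀ (Nat.cast_ne_zero.mpr Nat.card_pos.ne'), mul_one] at h
  have h0 := degree_add_eq_zero hG χ hχ
  have h0' := congrArg (starRingEnd ℂ) h0
  rw [map_add, map_mul, map_natCast, map_zero, ← cast_irrDegree, map_natCast, cast_irrDegree]
    at h0'
  rw [← h, ← cast_irrDegree χ, map_natCast, cast_irrDegree χ]
  linear_combination
    ((Subgroup.centralizer ({rep χ hχ} : Set G)).index : ℂ) * conj ((χ : G → ℂ) (rep χ hχ)) * h0 -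
      (χ : G → ℂ) 1 * h0'

theorem eq_support {N : Subgroup G} (hN : ∀ g : G, g ∈ N ↔ (χ : G → ℂ) g ≠ 0) :
    N = support χ :=
  SetLike.ext fun g => (hN g).trans (mem_support hG χ hχ).symm

theorem centralizer_conditions {p : ℕ} [Fact p.Prime] (hp : IsPGroup p (support χ)) {x : G}
    (hx : x ∈ support χ) (hx1 : x ≠ 1) :
    IsPGroup p (Subgroup.centralizer ({x} : Set G)) ∧
      ¬ p ∣ (Subgroup.centralizer ({x} : Set G)).index := by
  classical
  have hpp := Fact.out (p := p.Prime)
  have hidx : (Subgroup.centralizer ({x} : Set G)).index =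
      (Subgroup.centralizer ({rep χ hχ} : Set G)).index := by
    rw [← card_carrier_eq_index, ← card_carrier_eq_index,
      ConjClasses.mk_eq_mk_iff_isConj.mpr
        (((ne_zero_iff χ hχ).mp ((mem_support hG χ hχ).mp hx)).resolve_left hx1).symm]
  obtain ⟨n, hn⟩ := IsPGroup.iff_card.mp hp
  have hq := card_support hG χ hχ
  set m := (Subgroup.centralizer ({rep χ hχ} : Set G)).index with hm
  have hm0 : m ≠ 0 := Subgroup.index_ne_zero_of_finite
  have hn0 : n ≠ 0 := fun h => by rw [h, pow_zero] at hn; omega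
  have hpm : ¬ p ∣ m := fun h => hpp.not_dvd_one
    ((Nat.dvd_add_right h).mp (hq ▸ hn ▸ dvd_pow_self p hn0))
  obtain ⟨e, he⟩ := index_dvd_degree hG χ hχ
  have hne := norm_eq hG χ hχ
  rw [he, ← hq, hn, ← hm] at hne
  have hG' : Nat.card G = e ^ 2 * m * p ^ n :=
    Nat.eq_of_mul_eq_mul_right (Nat.pos_of_ne_zero hm0) (hne.trans (by ring))
  have hC : Nat.card (Subgroup.centralizer ({x} : Set G)) = e ^ 2 * p ^ n := by
    refine Nat.eq_of_mul_eq_mul_right (Nat.pos_of_ne_zero hm0) ?_
    conv_lhs => rw [← hidx]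
    rw [Subgroup.card_mul_index, hG']
    ring
  have he0 : e ≠ 0 := fun h => by
    rw [h] at hG'
    simp [Nat.card_pos.ne'] at hG'
  -- `e` is a power of `p`
  have hr : ∀ r : ℕ, r.Prime → r ∣ e → r = p := by
    intro r hr hre
    by_contra hrp
    have := Fact.mk hr
    obtain ⟨R⟩ := (inferInstance : Nonempty (Sylow r G))
    have hR : Nat.card R ∣ m * e := by
      rw [← he]
      refine card_dvd_charDegree _ (IsIrr.isCharacter χ.2) fun g hg hg1 => ?_
      by_contra h0
      have hgs := (mem_support hG χ hχ).mpr h0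
      obtain ⟨i, hi⟩ := R.isPGroup' ⟨g, hg⟩
      obtain ⟨j, hj⟩ := hp ⟨g, hgs⟩
      have h1 : orderOf g ∣ r ^ i := orderOf_dvd_of_pow_eq_one (congrArg Subtype.val hi)
      have h2 : orderOf g ∣ p ^ j := orderOf_dvd_of_pow_eq_one (congrArg Subtype.val hj)
      have hcop : Nat.Coprime (r ^ i) (p ^ j) :=
        Nat.Coprime.pow _ _ ((Nat.coprime_primes hr hpp).mpr hrp)
      exact hg1 (orderOf_eq_one_iff.mp (Nat.eq_one_of_dvd_coprimes hcop h1 h2))
    rw [Sylow.card_eq_multiplicity, hG'] at hR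
    have h3 := (Nat.Prime.pow_dvd_iff_le_factorization hr (Nat.mul_ne_zero hm0 he0)).mp hR
    rw [Nat.factorization_mul (by positivity) (pow_ne_zero _ hpp.ne_zero),
      Nat.factorization_mul (pow_ne_zero _ he0) hm0, Nat.factorization_pow,
      Nat.factorization_pow, hpp.factorization, Nat.factorization_mul hm0 he0] at h3
    have h4 := hr.factorization_pos_of_dvd he0 hre
    simp [Finsupp.single_eq_of_ne hrp] at h3
    omega
  refine ⟨IsPGroup.of_card (n := e.primeFactorsList.length * 2 + n) ?_, hidx ▸ hpm⟩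
  rw [hC]
  conv_lhs => rw [Nat.eq_prime_pow_of_unique_prime_dvd he0 (fun {r} hr' => hr r hr')]
  ring

theorem card_centralizer_eq {x : G} (hx : x ∉ support χ) [(support χ).Normal] :
    Nat.card (Subgroup.centralizer ({x} : Set G)) =
      Nat.card (Subgroup.centralizer ({(x : G ⧸ support χ)} : Set (G ⧸ support χ))) := by
  classical
  have := Fintype.ofFinite G
  have := Fintype.ofFinite (Cfsg.IrrCharacter G)
  have := Fintype.ofFinite (Cfsg.IrrCharacter (G ⧸ support χ))
  have h0 : (χ : G → ℂ) x = 0 := by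
    by_contra h; exact hx ((mem_support hG χ hχ).mpr h)
  have h1 := column_orthogonality x x
  have h2 := column_orthogonality (x : G ⧸ support χ) (x : G ⧸ support χ)
  rw [if_pos (IsConj.refl x)] at h1
  rw [if_pos (IsConj.refl (x : G ⧸ support χ))] at h2
  rw [← Nat.cast_inj (R := ℂ), ← h1, ← h2, ← Finset.add_sum_erase _ _ (Finset.mem_univ χ), h0,
    zero_mul, zero_add]
  symm
  refine Finset.sum_bij (fun ψ _ => infl (support χ) ψ) (fun ψ _ => ?_)
    (fun a _ b _ h => infl_injective _ h) (fun η hη => ?_) (fun ψ _ => rfl)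
  · refine Finset.mem_erase.mpr ⟨fun h => ?_, Finset.mem_univ _⟩
    have h' := infl_ker (support χ) ψ (rep_mem_support hG χ hχ)
    rw [h] at h'
    exact rep_ne_one χ hχ (faithful hG χ hχ _ h')
  · obtain ⟨ψ, hψ⟩ := exists_infl (support χ) η fun g hg =>
      (ne_zero_iff_forall hG χ hχ).mp ((mem_support hG χ hχ).mp hg) η (Finset.mem_erase.mp hη).1
    exact ⟨ψ, Finset.mem_univ _, hψ⟩

end TwoClass

end CfsgLib.CharDegree
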