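import Cfsg.Agent.Lib.Char.CliffordCorr
import Cfsg.Agent.Lib.Char.AbelianInertia
import Cfsg.Agent.Lib.CharDegree.Basic
import Cfsg.Agent.Lib.CharDegree.CyclicExtend
import Cfsg.Agent.Lib.CharDegree.Twist
import Cfsg.Agent.Lib.CharDegree.ItoMichler
import Mathlib.GroupTheory.FiniteAbelian.Duality
import Mathlib.RingTheory.IntegralDomain

/-!
# Two character degrees: the main configuration

A cyclic quotient acting without fixed points on an abelian section of order prime to the degree.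
-/

namespace CfsgLib.TwoDegrees

open CfsgLib.Char CfsgLib.CharDegree CfsgLib.Clifford
open scoped Classical ComplexConjugate commutatorElement

variable {G : Type*} [Group G] [Finite G]

/-- Subgroups above a normal subgroup with cyclic quotient are determined by their index. -/
theorem eq_of_index_eq {C T₁ T₂ : Subgroup G} [C.Normal] (hcyc : IsCyclic (G ⧸ C)) (h₁ : C ≤ T₁)
    (h₂ : C ≤ T₂) (h : T₁.index = T₂.index) : T₁ = T₂ := by
  have := Fintype.ofFinite (G ⧸ C)
  have key : ∀ {U : Subgroup (G ⧸ C)}, (U : Set (G ⧸ C)) =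
      {x | x ^ Nat.card U = 1} := by
    intro U
    refine Set.eq_of_subset_of_ncard_le (fun x hx => ?_) ?_ (Set.toFinite _)
    · exact congrArg Subtype.val (pow_card_eq_one' (G := U) (x := ⟨x, hx⟩))
    · rw [← Nat.card_coe_set_eq (U : Set (G ⧸ C)), show Nat.card (U : Set (G ⧸ C)) = Nat.card U from rfl,
        Set.ncard_eq_toFinset_card']
      refine le_trans (le_of_eq (congrArg Finset.card ?_))
        (IsCyclic.card_pow_eq_one_le (α := G ⧸ C) (n := Nat.card U) Nat.card_pos)
      ext x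
      simp
  have hU : T₁.map (QuotientGroup.mk' C) = T₂.map (QuotientGroup.mk' C) := by
    have hc : Nat.card (T₁.map (QuotientGroup.mk' C)) = Nat.card (T₂.map (QuotientGroup.mk' C)) := by
      have e : ∀ T : Subgroup G, C ≤ T → (T.map (QuotientGroup.mk' C)).index = T.index := fun T hT =>
        Subgroup.index_map_eq _ (QuotientGroup.mk'_surjective C) (by rwa [QuotientGroup.ker_mk'])
      have k₁ := (T₁.map (QuotientGroup.mk' C)).card_mul_index
      have k₂ := (T₂.map (QuotientGroup.mk' C)).card_mul_index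
      rw [e T₁ h₁, h] at k₁
      rw [e T₂ h₂] at k₂
      exact Nat.eq_of_mul_eq_mul_right (Nat.pos_of_ne_zero Subgroup.index_ne_zero_of_finite)
        (k₁.trans k₂.symm)
    exact SetLike.coe_injective (by rw [key, key, hc])
  have h' := congrArg (Subgroup.comap (QuotientGroup.mk' C)) hU
  rwa [Subgroup.comap_map_eq, Subgroup.comap_map_eq, QuotientGroup.ker_mk',
    sup_eq_left.mpr h₁, sup_eq_left.mpr h₂] at h'

variable [Fintype G]

/-- With cyclic quotient, `|G : T| ψ(1)` is a degree, `T` the inertia group of `ψ`. -/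
theorem exists_degree_eq (C : Subgroup G) [hC : C.Normal] [Fintype C] (hcyc : IsCyclic (G ⧸ C))
    (ψ : Cfsg.IrrCharacter C) :
    ∃ χ : Cfsg.IrrCharacter G, Cfsg.charDegree (χ : G → ℂ) =
      (inertia hC (ψ : C → ℂ)).index * Cfsg.charDegree (ψ : C → ℂ) := by
  set T := inertia hC (ψ : C → ℂ) with hTd
  have hle : C ≤ T := le_inertia hC (IsIrr.isClassFunction ψ.2)
  have := Fintype.ofFinite T
  let e : C.subgroupOf T ≃* C := Subgroup.subgroupOfEquivOfLe hle
  let ψ' : Cfsg.IrrCharacter (C.subgroupOf T) :=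
    ⟨fun c => (ψ : C → ℂ) (e c), IsIrr.comp_surjective e.toMonoidHom e.surjective ψ.2⟩
  obtain ⟨n, σ, hσ, hσc⟩ := ψ'.2
  have hcycT : IsCyclic (T ⧸ C.subgroupOf T) := by
    refine isCyclic_of_injective (QuotientGroup.map (C.subgroupOf T) C T.subtype
      (show C.subgroupOf T ≤ C.comap T.subtype from le_rfl)) ?_
    rw [injective_iff_map_eq_one]
    intro q
    induction q using QuotientGroup.induction_on with
    | H x =>
      intro hx
      change ((x : G) : G ⧸ C) = 1 at hx
      rw [QuotientGroup.eq_one_iff] at hx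
      exact (QuotientGroup.eq_one_iff x).mpr (Subgroup.mem_subgroupOf.mpr hx)
  obtain ⟨ρ, hρ⟩ := exists_extension_of_cyclic σ (fun g c => by
    rw [hσc]
    exact (congrArg (ψ : C → ℂ) (Subtype.ext rfl)).trans (congrFun g.2 (e c))) hcycT
  have hirr : Cfsg.IsIrrCharacter T ρ.character := by
    have := CharExt.isIrreducible_of_restrict ρ (C.subgroupOf T).subtype σ hρ
    exact isIrrCharacter_rep ρ
  have hres : resTo hle ρ.character = (ψ : C → ℂ) := funext fun c =>
    (congrArg (LinearMap.trace ℂ _) (hρ (e.symm c))).trans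
      ((congrFun hσc (e.symm c)).trans (congrArg (ψ : C → ℂ) (e.apply_symm_apply c)))
  have hind : Cfsg.IsIrrCharacter G (Cfsg.indFun T ρ.character) :=
    isIrr_indFun_of_over hC ψ.2 (fun g => mem_inertia) hle hirr (by
      rw [hres, classInner_irr_self]; exact one_ne_zero)
  refine ⟨⟨_, hind⟩, charDegree_eq_of_apply_one ?_⟩
  show Cfsg.indFun T ρ.character 1 = _
  have h1 := congrFun hres 1
  rw [indFun_apply_one, Nat.cast_mul, cast_irrDegree, ← h1]
  rfl

/-- The configuration. -/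
theorem core {m : ℕ}
    (hdeg : ∀ χ : Cfsg.IrrCharacter G, Cfsg.charDegree (χ : G → ℂ) = 1 ∨
      Cfsg.charDegree (χ : G → ℂ) = m)
    {A L C : Subgroup G} [hA : A.Normal] [hL : L.Normal] [hC : C.Normal] (hLA : L < A) (hAC : A ≤ C)
    (hCne : C ≠ ⊤) (hAab : ∀ a ∈ A, ∀ b ∈ A, a * b = b * a) (hcyc : IsCyclic (G ⧸ C))
    (hfp : ∀ x : G, x ∉ C → ∀ a ∈ A, x * a * x⁻¹ * a⁻¹ ∈ L → a ∈ L)
    (hext : ∀ a : C, (a : G) ∈ A → a ∈ commutator C ⊔ L.subgroupOf C → (a : G) ∈ L)
    (hcop : (L.relIndex A).Coprime m) :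
    C.index = m ∧ ∀ a ∈ C, ∀ b ∈ C, a * b = b * a := by
  have := Fintype.ofFinite C
  have := Fintype.ofFinite A
  let : CommGroup A := { (inferInstance : Group A) with
    mul_comm := fun a b => Subtype.ext (hAab a a.2 b b.2) }
  let LA := L.subgroupOf A
  have := Fintype.ofFinite LA
  -- linear characters of `C` separating points of `A` outside `L`
  let D : Subgroup C := commutator C ⊔ L.subgroupOf C
  have hDab : ∀ a b : C ⧸ D, a * b = b * a := fun a b =>
    QuotientGroup.induction_on a fun x => QuotientGroup.induction_on b fun y => by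
      rw [← QuotientGroup.mk_mul, ← QuotientGroup.mk_mul, QuotientGroup.eq]
      exact le_sup_left (a := commutator C) (by
        rw [show (x * y)⁻¹ * (y * x) = ⁅y⁻¹, x⁻¹⁆ by rw [commutatorElement_def]; group]
        exact Subgroup.commutator_mem_commutator (Subgroup.mem_top _) (Subgroup.mem_top _))
  let : CommGroup (C ⧸ D) := { (inferInstance : Group (C ⧸ D)) with mul_comm := hDab }
  have hlin : ∀ v ∈ A, v ∉ L → ∃ μ : C →* ℂˣ,
      (∀ c : C, (c : G) ∈ L → μ c = 1) ∧ ∀ c : C, (c : G) = v → μ c ≠ 1 := by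
    intro v hv hvL
    have hne : QuotientGroup.mk' D ⟨v, hAC hv⟩ ≠ 1 := fun h =>
      hvL (hext ⟨v, hAC hv⟩ hv ((QuotientGroup.eq_one_iff _).mp h))
    obtain ⟨φ, hφ⟩ := CommGroup.exists_apply_ne_one_of_hasEnoughRootsOfUnity (C ⧸ D) ℂ hne
    refine ⟨φ.comp (QuotientGroup.mk' D), fun c hc => ?_, fun c hc => ?_⟩
    · rw [MonoidHom.comp_apply, show QuotientGroup.mk' D c = 1 from (QuotientGroup.eq_one_iff _).mpr
        (le_sup_right (a := commutator C) (Subgroup.mem_subgroupOf.mpr hc)), map_one]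
    · rw [show c = ⟨v, hAC hv⟩ from Subtype.ext hc]
      exact hφ
  -- the endomorphism `a ↦ [x, a]` of `A / L` is surjective
  have hsurj : ∀ x : G, x ∉ C → ∀ a ∈ A, ∃ b ∈ A, (x * b * x⁻¹ * b⁻¹)⁻¹ * a ∈ L := by
    intro x hx a ha
    have hLAn : LA.Normal := inferInstance
    have hmem : ∀ b : A, x * b * x⁻¹ * (b : G)⁻¹ ∈ A := fun b =>
      A.mul_mem (hA.conj_mem _ b.2 x) (A.inv_mem b.2)
    let f : A →* A :=
      { toFun := fun b => ⟨_, hmem b⟩
        map_one' := Subtype.ext (by simp)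
        map_mul' := fun b c => by
          have hz : (⟨_, hmem c⟩ : A) * b⁻¹ = b⁻¹ * ⟨_, hmem c⟩ := mul_comm _ _
          have hz' := congrArg Subtype.val hz
          refine Subtype.ext ?_
          simp only [Subgroup.coe_mul, InvMemClass.coe_inv] at hz' ⊢
          calc x * (b * c) * x⁻¹ * ((b : G) * c)⁻¹
              = (x * b * x⁻¹) * ((x * c * x⁻¹ * (c : G)⁻¹) * (b : G)⁻¹) := by group
            _ = (x * b * x⁻¹) * ((b : G)⁻¹ * (x * c * x⁻¹ * (c : G)⁻¹)) := by rw [hz']
            _ = _ := by group }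
    have hle : LA ≤ LA.comap f := fun b hb => by
      rw [Subgroup.mem_comap, Subgroup.mem_subgroupOf]
      exact L.mul_mem (hL.conj_mem _ (Subgroup.mem_subgroupOf.mp hb) x)
        (L.inv_mem (Subgroup.mem_subgroupOf.mp hb))
    let fq := QuotientGroup.map LA LA f hle
    have hinj : Function.Injective fq := by
      rw [injective_iff_map_eq_one]
      intro q
      induction q using QuotientGroup.induction_on with
      | H b =>
        intro hb
        change ((f b : A) : A ⧸ LA) = 1 at hb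
        rw [QuotientGroup.eq_one_iff] at hb
        exact (QuotientGroup.eq_one_iff b).mpr
          (Subgroup.mem_subgroupOf.mpr (hfp x hx b b.2 (Subgroup.mem_subgroupOf.mp hb)))
    obtain ⟨q, hq⟩ := (Finite.injective_iff_surjective.mp hinj) (QuotientGroup.mk (⟨a, ha⟩ : A))
    induction q using QuotientGroup.induction_on with
    | H b =>
      change ((f b : A) : A ⧸ LA) = ((⟨a, ha⟩ : A) : A ⧸ LA) at hq
      exact ⟨b, b.2, Subgroup.mem_subgroupOf.mp (QuotientGroup.eq.mp hq)⟩
  -- a linear character with trivial inertia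
  have hidx : C.index = m := by
    obtain ⟨v, hv, hvL⟩ := SetLike.exists_of_lt hLA
    obtain ⟨μ, hμL, hμ⟩ := hlin v hv hvL
    let μ' : Cfsg.IrrCharacter C := ⟨fun c => (μ c : ℂ), isIrrCharacter_linear μ⟩
    have hin : inertia hC (μ' : C → ℂ) = C := by
      refine le_antisymm (fun x hx => ?_) (le_inertia hC (IsIrr.isClassFunction μ'.2))
      by_contra hxC
      obtain ⟨b, hb, hbv⟩ := hsurj x hxC v hv
      apply hμ ⟨v, hAC hv⟩ rfl
      have h := congrFun (mem_inertia.mp hx) ⟨b, hAC hb⟩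
      have h' : μ ⟨x * b * x⁻¹, hC.conj_mem b (hAC hb) x⟩ = μ ⟨b, hAC hb⟩ := Units.ext h
      have hz := hμL (⟨(x * b * x⁻¹ * b⁻¹)⁻¹ * v, hAC (hLA.le hbv)⟩ : C) hbv
      rw [show (⟨v, hAC hv⟩ : C) = ⟨x * b * x⁻¹, hC.conj_mem b (hAC hb) x⟩ *
        (⟨b, hAC hb⟩ : C)⁻¹ * ⟨(x * b * x⁻¹ * b⁻¹)⁻¹ * v, hAC (hLA.le hbv)⟩ from
        Subtype.ext (by simp only [Subgroup.coe_mul, InvMemClass.coe_inv]; group),
        map_mul, map_mul, map_inv, h', hz, mul_inv_cancel, one_mul]
    obtain ⟨χ, hχ⟩ := exists_degree_eq C hcyc μ'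
    rw [hin, charDegree_eq_of_apply_one (χ := (μ' : C → ℂ)) (n := 1) (by simp [μ']), mul_one] at hχ
    have h2 := Subgroup.one_lt_index_of_ne_top hCne
    rcases hdeg χ with h | h <;> omega
  refine ⟨hidx, fun a ha b hb => ?_⟩
  have hcases : ∀ ψ : Cfsg.IrrCharacter C, Cfsg.charDegree (ψ : C → ℂ) = 1 ∨
      (inertia hC (ψ : C → ℂ)).index * Cfsg.charDegree (ψ : C → ℂ) = C.index := by
    intro ψ
    obtain ⟨χ, hχ⟩ := exists_degree_eq C hcyc ψ
    rcases hdeg χ with h | h
    · rw [hχ] at h; exact Or.inl (Nat.eq_one_of_mul_eq_one_left h)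
    · rw [hχ, ← hidx] at h; exact Or.inr h
  suffices hall : ∀ ψ : Cfsg.IrrCharacter C, Cfsg.charDegree (ψ : C → ℂ) = 1 from
    congrArg Subtype.val (comm_of_forall_linear hall ⟨a, ha⟩ ⟨b, hb⟩)
  intro ψ
  by_contra hψ1
  have hT := (hcases ψ).resolve_left hψ1
  -- some element outside `C` fixes every twist
  have hTne : ¬ inertia hC (ψ : C → ℂ) ≤ C := fun hle => hψ1 (by
    rw [le_antisymm hle (le_inertia hC (IsIrr.isClassFunction ψ.2))] at hT
    exact (Nat.mul_eq_left Subgroup.index_ne_zero_of_finite).mp hT)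
  obtain ⟨x, hx, hxC⟩ := SetLike.not_le_iff_exists.mp hTne
  have hfixμ : ∀ μ : C →* ℂˣ, conjFn hC (twist ψ μ : C → ℂ) x = (twist ψ μ : C → ℂ) := by
    intro μ
    have hd := charDegree_twist ψ μ
    have h2 := (hcases (twist ψ μ)).resolve_left (by rw [hd]; exact hψ1)
    rw [hd, ← hT] at h2
    rw [← mem_inertia, eq_of_index_eq hcyc (le_inertia hC (IsIrr.isClassFunction (twist ψ μ).2))
      (le_inertia hC (IsIrr.isClassFunction ψ.2))
      (Nat.eq_of_mul_eq_mul_right (charDegree_pos ψ) h2)]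
    exact hx
  -- so `ψ` vanishes on `A` outside `L`
  have hvan : ∀ a : C, (a : G) ∈ A → (a : G) ∉ L → (ψ : C → ℂ) a = 0 := by
    intro a ha haL
    have hw : x * (a : G) * x⁻¹ * (a : G)⁻¹ ∉ L := fun h => haL (hfp x hxC _ ha h)
    obtain ⟨μ, -, hμ⟩ := hlin _ (A.mul_mem (hA.conj_mem _ ha x) (A.inv_mem ha)) hw
    have hne := hμ (⟨x * (a : G) * x⁻¹, hC.conj_mem _ a.2 x⟩ * a⁻¹) rfl
    rw [map_mul, map_inv, Ne, mul_inv_eq_one] at hne
    have h1 := congrFun (hfixμ μ) a
    have h2 := congrFun (mem_inertia.mp hx) a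
    simp only [conjFn_apply] at h1 h2
    rw [twist_apply, twist_apply, h2] at h1
    by_contra h0
    exact hne (Units.ext (mul_left_cancel₀ h0 h1))
  -- hence `|A : L|` divides the degree
  have := Fintype.ofFinite (Cfsg.IrrCharacter LA)
  let ι : A →* C := Subgroup.inclusion hAC
  have hψA : Cfsg.IsCharacter A fun a => (ψ : C → ℂ) (ι a) :=
    IsChar.comp ι (IsIrr.isCharacter ψ.2)
  obtain ⟨c, hc⟩ := IsChar.exists_sum (IsChar.restrict LA hψA :
    Cfsg.IsCharacter LA fun l : LA => (ψ : C → ℂ) (ι l))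
  have hcdvd : ∀ ν, L.relIndex A ∣ c ν := by
    intro ν
    obtain ⟨l, hl⟩ := exists_linear_of_degree_one (IsIrr.isCharacter ν.2)
      (Clifford.apply_one_eq_one_of_commute (fun a b => mul_comm a b) ν)
    obtain ⟨η, hη⟩ := MonoidHom.restrict_surjective (M := ℂ) LA l
    obtain ⟨k, hk⟩ := IsChar.classInner_eq_natCast hψA
      (IsIrr.isCharacter (isIrrCharacter_linear η))
    refine ⟨k, ?_⟩
    have hηl : ∀ y : LA, η (y : A) = l y := fun y => DFunLike.congr_fun hη y
    have h1 : Cfsg.classInner (fun y : LA => (ψ : C → ℂ) (ι y)) (ν : LA → ℂ) = (c ν : ℂ) := by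
      rw [hc, classInner_sum_irr]
    simp only [Cfsg.classInner] at h1 hk
    rw [← Finset.sum_subset (Finset.subset_univ (Finset.univ.filter fun a : A => a ∈ LA))
      (fun a _ ha => ?_),
      Finset.sum_subtype (Finset.univ.filter fun a : A => a ∈ LA) (p := fun a => a ∈ LA) (by simp),
      Finset.sum_congr rfl (g := fun y : LA => (ψ : C → ℂ) (ι y) * conj ((ν : LA → ℂ) y))
        fun y _ => by rw [hηl, hl]] at hk
    · have hidx' : (Nat.card A : ℂ) = Nat.card LA * (L.relIndex A : ℕ) := by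
        exact_mod_cast LA.card_mul_index.symm
      rw [inv_mul_eq_iff_eq_mul₀ (Nat.cast_ne_zero.mpr Nat.card_pos.ne')] at h1 hk
      rw [h1, hidx', mul_assoc] at hk
      have := mul_left_cancel₀ (Nat.cast_ne_zero.mpr Nat.card_pos.ne') hk
      exact_mod_cast this
    · rw [hvan (ι a) a.2 (fun h => ha (Finset.mem_filter.mpr ⟨Finset.mem_univ _,
        Subgroup.mem_subgroupOf.mpr h⟩)), zero_mul]
  have hdd : L.relIndex A ∣ Cfsg.charDegree (ψ : C → ℂ) := by
    have h := congrFun hc 1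
    simp only [Finset.sum_apply, Pi.smul_apply, smul_eq_mul] at h
    rw [show ι ((1 : LA) : A) = (1 : C) from map_one ι, ← cast_irrDegree,
      Finset.sum_congr rfl fun ν _ => by
        rw [Clifford.apply_one_eq_one_of_commute (fun a b => mul_comm a b) ν, mul_one]] at h
    rw [show Cfsg.charDegree (ψ : C → ℂ) = ∑ ν, c ν by exact_mod_cast h]
    exact Finset.dvd_sum fun ν _ => hcdvd ν
  have hr := Nat.eq_one_of_dvd_coprimes hcop dvd_rfl
    (hdd.trans (hidx ▸ Dvd.intro_left _ hT))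
  exact hLA.not_ge (Subgroup.relIndex_eq_one.mp hr)

end CfsgLib.TwoDegrees
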