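import Cfsg.Agent.Lib.CharDegree.TwoDegreesStructure
import Cfsg.Agent.Lib.CharDegree.Taketa

/-!
# Two character degrees: the derived subgroup is abelian
-/

namespace CfsgLib.TwoDegrees

open CfsgLib.Char CfsgLib.CharDegree
open scoped Classical commutatorElement

variable {G : Type*} [Group G] [Fintype G] {m : ℕ}

theorem commutator_le_of_index
    (hdeg : ∀ χ : Cfsg.IrrCharacter G, Cfsg.charDegree (χ : G → ℂ) = 1 ∨
      Cfsg.charDegree (χ : G → ℂ) = m)
    (A : Subgroup G) [A.Normal] (hidx : A.index = m) : commutator G ≤ A := by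
  have hq : ∀ a b : G ⧸ A, a * b = b * a := comm_of_forall_linear fun ψ => by
    have := Fintype.ofFinite (G ⧸ A)
    have := Fintype.ofFinite (Cfsg.IrrCharacter (G ⧸ A))
    rcases hdeg (infl A ψ) with h | h <;> rw [charDegree_infl] at h
    · exact h
    · by_contra h1
      have hsum := sum_sq_degree (G := G ⧸ A)
      rw [← Subgroup.index_eq_card, hidx] at hsum
      simp only [← cast_irrDegree] at hsum
      have hsum' : ∑ χ : Cfsg.IrrCharacter (G ⧸ A),
          Cfsg.charDegree (χ : G ⧸ A → ℂ) ^ 2 = m := by exact_mod_cast hsum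
      have h2 := Finset.single_le_sum
        (f := fun χ : Cfsg.IrrCharacter (G ⧸ A) => Cfsg.charDegree (χ : G ⧸ A → ℂ) ^ 2)
        (fun _ _ => Nat.zero_le _) (Finset.mem_univ ψ)
      rw [hsum', h] at h2
      have h3 := charDegree_pos ψ
      rw [h] at h3
      have : m ≤ 1 := Nat.le_of_mul_le_mul_left (by rw [mul_one, ← sq]; exact h2) h3
      omega
  rw [commutator_def, Subgroup.commutator_le]
  intro x _ y _
  rw [← QuotientGroup.eq_one_iff, commutatorElement_def]
  simp only [QuotientGroup.mk_mul, QuotientGroup.mk_inv]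
  rw [hq (x : G ⧸ A) y]
  group

/-- Two character degrees force an abelian derived subgroup. -/
theorem commutator_comm_of_two_degrees
    (hdeg : ∀ χ : Cfsg.IrrCharacter G, Cfsg.charDegree (χ : G → ℂ) = 1 ∨
      Cfsg.charDegree (χ : G → ℂ) = m)
    (hm : ∃ χ : Cfsg.IrrCharacter G, Cfsg.charDegree (χ : G → ℂ) = m) (hm1 : m ≠ 1) :
    ∀ a ∈ commutator G, ∀ b ∈ commutator G, a * b = b * a := by
  rcases structure_of_two_degrees hdeg hm hm1 with ⟨A, hA, hab, hidx⟩ |
    ⟨p, e, hp, -, P, A, hP, hA, hPp, hab, hinf, hsup⟩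
  · have hle := commutator_le_of_index hdeg A hidx
    exact fun a ha b hb => hab a (hle ha) b (hle hb)
  · have := Fact.mk hp
    have := Fintype.ofFinite (G ⧸ A)
    have hQ : IsPGroup p (G ⧸ A) := hPp.of_surjective ((QuotientGroup.mk' A).comp P.subtype)
      fun q => by
        induction q using QuotientGroup.induction_on with
        | H g =>
          have hg : g ∈ P ⊔ A := by rw [hsup]; exact Subgroup.mem_top g
          obtain ⟨y, hy, a, ha, rfl⟩ := Subgroup.mem_sup_of_normal_right.mp hg
          exact ⟨⟨y, hy⟩, (show (y : G ⧸ A) = (y * a : G) by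
            rw [QuotientGroup.mk_mul, (QuotientGroup.eq_one_iff a).mpr ha, mul_one])⟩
    have := hQ.isNilpotent
    have hcP : commutator G ≤ P := by
      rw [commutator_def, Subgroup.commutator_le]
      intro x _ y _
      have key : ∀ g : G, ∃ a ∈ A, (g : G ⧸ P) = (a : G ⧸ P) := fun g => by
        have hg : g ∈ P ⊔ A := by rw [hsup]; exact Subgroup.mem_top g
        obtain ⟨y, hy, a, ha, rfl⟩ := Subgroup.mem_sup_of_normal_left.mp hg
        exact ⟨a, ha, by rw [QuotientGroup.mk_mul, (QuotientGroup.eq_one_iff y).mpr hy, one_mul]⟩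
      obtain ⟨a, ha, hxa⟩ := key x
      obtain ⟨b, hb, hyb⟩ := key y
      rw [← QuotientGroup.eq_one_iff, commutatorElement_def]
      simp only [QuotientGroup.mk_mul, QuotientGroup.mk_inv]
      rw [hxa, hyb, ← QuotientGroup.mk_mul, hab a ha b hb, QuotientGroup.mk_mul]
      group
    intro a ha b hb
    have hmem : ∀ g ∈ commutator G, (g : G ⧸ A) ∈ commutator (G ⧸ A) := fun g hg => by
      have h := Subgroup.mem_map_of_mem (QuotientGroup.mk' A) hg
      rw [commutator_def, Subgroup.map_commutator,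
        Subgroup.map_top_of_surjective _ (QuotientGroup.mk'_surjective A)] at h
      exact h
    have h1 := commutator_comm_of_nilpotent (G := G ⧸ A) (m := m)
      (fun ψ => by simpa only [charDegree_infl] using hdeg (infl A ψ)) _ (hmem a ha) _ (hmem b hb)
    rw [← QuotientGroup.mk_mul, ← QuotientGroup.mk_mul, QuotientGroup.eq] at h1
    have h2 : (a * b)⁻¹ * (b * a) ∈ P ⊓ A :=
      ⟨P.mul_mem (P.inv_mem (P.mul_mem (hcP ha) (hcP hb))) (P.mul_mem (hcP hb) (hcP ha)), h1⟩
    rw [hinf, Subgroup.mem_bot, inv_mul_eq_one] at h2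
    exact h2

end CfsgLib.TwoDegrees
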