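import Cfsg.Agent.Lib.CharDegree.TwoDegreesStructure
import Cfsg.Agent.Lib.Char.Coherence.Filtration
import Mathlib.GroupTheory.IndexNormal

/-!
# Degrees one and a prime
-/

namespace CfsgLib.TwoDegrees

open CfsgLib.Char CfsgLib.CharDegree CfsgLib.Clifford
open scoped Classical ComplexConjugate commutatorElement

variable {G : Type*} [Group G] [Fintype G] {p : ℕ}

/-- The centre of a nonabelian normal subgroup of prime index is central. -/
theorem center_of_index_prime_le (hp : p.Prime)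
    (hdeg : ∀ χ : Cfsg.IrrCharacter G, Cfsg.charDegree (χ : G → ℂ) = 1 ∨
      Cfsg.charDegree (χ : G → ℂ) = p)
    (M : Subgroup G) [hM : M.Normal] (hidx : M.index = p)
    (hna : ¬ ∀ a ∈ M, ∀ b ∈ M, a * b = b * a) :
    ∀ x ∈ M, (∀ y ∈ M, y * x = x * y) → x ∈ Subgroup.center G := by
  have := Fact.mk hp
  have := Fintype.ofFinite M
  have := Fintype.ofFinite (Cfsg.IrrCharacter M)
  intro x hx hxc
  rw [Subgroup.mem_center_iff]
  intro g
  have hcyc : IsCyclic (G ⧸ M) :=
    isCyclic_of_prime_card (p := p) (by rw [← Subgroup.index_eq_card, hidx])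
  let x₀ : M := ⟨x, hx⟩
  let y₀ : M := ⟨g * x * g⁻¹, hM.conj_mem x hx g⟩
  have hxc₀ : ∀ a : M, Commute x₀ a := fun a => Subtype.ext (hxc a a.2).symm
  have hyc₀ : ∀ a : M, Commute y₀ a := fun a => Subtype.ext (by
    have h := hxc _ (hM.conj_mem (a : G) a.2 g⁻¹)
    show g * x * g⁻¹ * (a : G) = (a : G) * (g * x * g⁻¹)
    calc g * x * g⁻¹ * (a : G) = g * (x * (g⁻¹ * a * g⁻¹⁻¹)) * g⁻¹ := by group
      _ = g * ((g⁻¹ * a * g⁻¹⁻¹) * x) * g⁻¹ := by rw [h]
      _ = (a : G) * (g * x * g⁻¹) := by group)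
  -- nonlinear characters of `M` are invariant
  have hnl : ∀ ψ : Cfsg.IrrCharacter M, Cfsg.charDegree (ψ : M → ℂ) ≠ 1 →
      (ψ : M → ℂ) (y₀ * x₀⁻¹) = (ψ : M → ℂ) 1 := by
    intro ψ hψ
    obtain ⟨χ, hχ⟩ := exists_degree_eq M hcyc ψ
    have hin : inertia hM (ψ : M → ℂ) = ⊤ := by
      rw [← Subgroup.index_eq_one]
      rcases hdeg χ with h | h <;> rw [hχ] at h
      · exact Nat.eq_one_of_mul_eq_one_right h
      · rcases hp.eq_one_or_self_of_dvd _ ⟨_, h.symm⟩ with h' | h'
        · exact h'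
        · rw [h'] at h
          exact absurd ((Nat.mul_eq_left hp.ne_zero).mp h) hψ
    have hval : (ψ : M → ℂ) y₀ = (ψ : M → ℂ) x₀ :=
      congrFun (mem_inertia.mp (hin ▸ Subgroup.mem_top g)) x₀
    obtain ⟨n, ρ, hρ, hρψ, hn⟩ := exists_rep ψ
    obtain ⟨c, hc⟩ := CfsgLib.CharIntegral.exists_scalar_of_commute ρ (ρ x₀) fun a => by
      rw [← map_mul, ← map_mul, (hxc₀ a).eq]
    obtain ⟨c', hc'⟩ := CfsgLib.CharIntegral.exists_scalar_of_commute ρ (ρ y₀) fun a => by
      rw [← map_mul, ← map_mul, (hyc₀ a).eq]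
    rw [← hρψ] at hval
    simp only [Representation.character, hc, hc', map_smul, LinearMap.trace_id, smul_eq_mul] at hval
    have hcc : c' = c := mul_right_cancel₀ (Nat.cast_ne_zero.mpr (by
      rw [Module.finrank_fin_fun, hn]; exact (charDegree_pos ψ).ne')) hval
    rw [← hρψ]
    have hone : ρ (y₀ * x₀⁻¹) = 1 := by
      rw [map_mul, show ρ y₀ = ρ x₀ by rw [hc, hc', hcc], ← map_mul, mul_inv_cancel, map_one]
    simp [Representation.character, hone]
  by_contra hne
  set z := y₀ * x₀⁻¹ with hzdef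
  have hz : z ≠ 1 := fun h => hne (by
    have h' : g * x * g⁻¹ = x := congrArg Subtype.val (mul_inv_eq_one.mp h)
    exact mul_inv_eq_iff_eq_mul.mp h')
  have hsum := sum_degree_mul_apply_of_ne_one (G := M) hz
  by_cases hzc : z ∈ commutator M
  · rw [Finset.sum_congr rfl (g := fun χ : Cfsg.IrrCharacter M => (χ : M → ℂ) 1 ^ 2),
      sum_sq_degree] at hsum
    · exact Nat.cast_ne_zero.mpr Nat.card_pos.ne' hsum
    intro ψ _
    rw [sq]
    congr 1
    by_cases h : Cfsg.charDegree (ψ : M → ℂ) = 1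
    · exact le_ker_of_degree_one ψ h hzc
    · exact hnl ψ h
  -- a linear character separates `z`
  let : CommGroup (M ⧸ commutator M) := { (inferInstance : Group (M ⧸ commutator M)) with
    mul_comm := quotient_commutator_comm }
  obtain ⟨φ, hφ⟩ := CommGroup.exists_apply_ne_one_of_hasEnoughRootsOfUnity (M ⧸ commutator M) ℂ
    (a := QuotientGroup.mk' _ z) (fun h => hzc ((QuotientGroup.eq_one_iff _).mp h))
  let l : M →* ℂˣ := φ.comp (QuotientGroup.mk' _)
  let S : Finset (Cfsg.IrrCharacter M) :=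
    Finset.univ.filter fun ψ : Cfsg.IrrCharacter M => Cfsg.charDegree (ψ : M → ℂ) = 1
  have hS : ∑ ψ ∈ S, (ψ : M → ℂ) 1 * (ψ : M → ℂ) z = 0 := by
    have hinv : ∀ ψ, twist (twist ψ l) l⁻¹ = ψ := fun ψ => Subtype.ext (funext fun a => by
      rw [twist_apply, twist_apply, MonoidHom.inv_apply, Units.val_inv_eq_inv_val]
      field_simp)
    have hinv' : ∀ ψ, twist (twist ψ l⁻¹) l = ψ := fun ψ => Subtype.ext (funext fun a => by
      rw [twist_apply, twist_apply, MonoidHom.inv_apply, Units.val_inv_eq_inv_val]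
      field_simp)
    have h : ∑ ψ ∈ S, (ψ : M → ℂ) 1 * (ψ : M → ℂ) z =
        (l z : ℂ) * ∑ ψ ∈ S, (ψ : M → ℂ) 1 * (ψ : M → ℂ) z := by
      rw [Finset.mul_sum]
      refine Finset.sum_bij' (fun ψ _ => twist ψ l⁻¹) (fun ψ _ => twist ψ l)
        (fun ψ hψ => ?_) (fun ψ hψ => ?_) (fun ψ _ => hinv' ψ) (fun ψ _ => hinv ψ) fun ψ _ => ?_
      · simp only [S, Finset.mem_filter, Finset.mem_univ, true_and] at hψ ⊢
        rwa [charDegree_twist]
      · simp only [S, Finset.mem_filter, Finset.mem_univ, true_and] at hψ ⊢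
        rwa [charDegree_twist]
      · rw [twist_apply, twist_apply, map_one, Units.val_one, mul_one, MonoidHom.inv_apply,
          Units.val_inv_eq_inv_val]
        field_simp
    have hlz : (l z : ℂ) ≠ 1 := fun h' => hφ (Units.ext h')
    by_contra h0
    exact hlz (mul_right_cancel₀ h0 (by rw [one_mul]; exact h.symm))
  rw [← Finset.sum_filter_add_sum_filter_not Finset.univ
    (fun ψ : Cfsg.IrrCharacter M => Cfsg.charDegree (ψ : M → ℂ) = 1), hS, zero_add,
    Finset.sum_congr rfl (g := fun ψ : Cfsg.IrrCharacter M =>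
      ((Cfsg.charDegree (ψ : M → ℂ) ^ 2 : ℕ) : ℂ)) fun ψ hψ => by
      rw [hnl ψ (Finset.mem_filter.mp hψ).2, ← cast_irrDegree, Nat.cast_pow, sq],
    ← Nat.cast_sum, Nat.cast_eq_zero, Finset.sum_eq_zero_iff] at hsum
  refine hna fun a ha b hb =>
    congrArg Subtype.val (comm_of_forall_linear (fun ψ => ?_) (⟨a, ha⟩ : M) ⟨b, hb⟩)
  by_contra h
  exact (pow_pos (charDegree_pos ψ) 2).ne' (hsum ψ (Finset.mem_filter.mpr ⟨Finset.mem_univ _, h⟩))

/-- A group of class two with derived subgroup inside a subgroup of prime order. -/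
theorem sq_degree_eq_index {H : Type*} [Group H] [Finite H] (Z : Subgroup H)
    (hp : (Nat.card Z).Prime) (hZ : Z ≤ Subgroup.center H) (hle : commutator H ≤ Z)
    (χ : Cfsg.IrrCharacter H) (hχ : Cfsg.charDegree (χ : H → ℂ) ≠ 1) :
    Cfsg.charDegree (χ : H → ℂ) ^ 2 = (Subgroup.center H).index := by
  have := Fintype.ofFinite H
  obtain ⟨n, ρ, hρ, hρχ, hn⟩ := exists_rep χ
  have hd0 : (Module.finrank ℂ (Fin n → ℂ) : ℂ) ≠ 0 := Nat.cast_ne_zero.mpr (by
    rw [Module.finrank_fin_fun, hn]; exact (charDegree_pos χ).ne')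
  -- `ρ` is faithful on `Z`
  have hfaith : ∀ z ∈ Z, ρ z = 1 → z = 1 := by
    intro z hz hρz
    by_contra hz1
    refine hχ ((charDegree_eq_one_iff_commutator χ).mpr fun g hg => ?_)
    have hker : ρ.ker.subgroupOf Z = ⊤ := by
      have : Fact (Nat.card Z).Prime := ⟨hp⟩
      refine ((ρ.ker.subgroupOf Z).eq_bot_or_eq_top_of_prime_card).resolve_left fun h => ?_
      have hzmem : (⟨z, hz⟩ : Z) ∈ ρ.ker.subgroupOf Z := Subgroup.mem_subgroupOf.mpr hρz
      rw [h, Subgroup.mem_bot] at hzmem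
      exact hz1 (congrArg Subtype.val hzmem)
    have h : ρ g = 1 := Subgroup.subgroupOf_eq_top.mp hker (hle hg)
    rw [← hρχ, Representation.char_one]
    simp [Representation.character, h]
  have hvan : ∀ x : H, x ∉ Subgroup.center H → (χ : H → ℂ) x = 0 := by
    intro x hx
    rw [Subgroup.mem_center_iff] at hx
    push Not at hx
    obtain ⟨y, hy⟩ := hx
    have hw : ⁅y, x⁆ ∈ Z :=
      hle (Subgroup.commutator_mem_commutator (Subgroup.mem_top y) (Subgroup.mem_top x))
    obtain ⟨c, hc⟩ := CfsgLib.CharIntegral.exists_scalar_of_commute ρ (ρ ⁅y, x⁆) fun a => by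
      rw [← map_mul, ← map_mul, Subgroup.mem_center_iff.mp (hZ hw) a]
    have hc1 : c ≠ 1 := fun h => hy (commutatorElement_eq_one_iff_mul_comm.mp
      (hfaith _ hw (by rw [hc, h, one_smul]; rfl)))
    have h2 : ρ.character (y * x * y⁻¹) = c * ρ.character x := by
      rw [show y * x * y⁻¹ = ⁅y, x⁆ * x by group]
      simp only [Representation.character, map_mul, hc]
      rw [show (c • LinearMap.id) * ρ x = c • ρ x from LinearMap.ext fun v => rfl, map_smul,
        smul_eq_mul]
    rw [hρχ, IsIrr.isClassFunction χ.2 x y] at h2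
    by_contra h0
    exact hc1 (mul_right_cancel₀ h0 (by rw [one_mul]; exact h2.symm))
  have h1 := classInner_irr_self χ
  rw [Cfsg.classInner, ← Finset.sum_subset (Finset.subset_univ
      (Finset.univ.filter fun g : H => g ∈ Subgroup.center H))
    (fun g _ hg => by
      rw [hvan g (fun h => hg (Finset.mem_filter.mpr ⟨Finset.mem_univ _, h⟩)), zero_mul]),
    Finset.sum_congr rfl (g := fun _ => (Cfsg.charDegree (χ : H → ℂ) : ℂ) ^ 2) fun g hg => by
      have hg' := (Finset.mem_filter.mp hg).2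
      obtain ⟨c, hc⟩ := CfsgLib.CharIntegral.exists_scalar_of_commute ρ (ρ g) fun a => by
        rw [← map_mul, ← map_mul, Subgroup.mem_center_iff.mp hg' a]
      have hcn : ‖c‖ = 1 := by
        have hpow : ρ (g ^ Nat.card H) = 1 := by rw [pow_card_eq_one', map_one]
        rw [map_pow, hc] at hpow
        have h3 := congrArg (LinearMap.trace ℂ (Fin n → ℂ)) hpow
        rw [show (c • LinearMap.id : Module.End ℂ (Fin n → ℂ)) = c • 1 from rfl, smul_pow,
          one_pow, map_smul, LinearMap.trace_one, smul_eq_mul] at h3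
        exact Complex.norm_eq_one_of_pow_eq_one ((mul_eq_right₀ hd0).mp h3) Nat.card_pos.ne'
      rw [show (χ : H → ℂ) g = ρ.character g from (congrFun hρχ g).symm]
      simp only [Representation.character, hc, map_smul, LinearMap.trace_id, smul_eq_mul,
        Module.finrank_fin_fun, hn, map_mul, Complex.conj_natCast]
      rw [show c * (Cfsg.charDegree (χ : H → ℂ) : ℂ) * (conj c * (Cfsg.charDegree (χ : H → ℂ) : ℂ))
        = (c * conj c) * (Cfsg.charDegree (χ : H → ℂ) : ℂ) ^ 2 by ring,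
        Complex.mul_conj', hcn]
      simp] at h1
  rw [Finset.sum_const, ← Fintype.card_subtype, ← Nat.card_eq_fintype_card, nsmul_eq_mul,
    inv_mul_eq_iff_eq_mul₀ (Nat.cast_ne_zero.mpr Nat.card_pos.ne'), mul_one,
    show Nat.card {g : H // g ∈ Subgroup.center H} = Nat.card (Subgroup.center H) from rfl,
    ← (Subgroup.center H).card_mul_index, Nat.cast_mul] at h1
  have h3 := mul_left_cancel₀ (Nat.cast_ne_zero.mpr Nat.card_pos.ne') h1
  exact_mod_cast h3

/-- A prime-index subgroup that is abelian modulo a central subgroup of order `p`. -/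
theorem index_center_dvd_of_commutator_le (hp : p.Prime)
    (hdeg : ∀ χ : Cfsg.IrrCharacter G, Cfsg.charDegree (χ : G → ℂ) = 1 ∨
      Cfsg.charDegree (χ : G → ℂ) = p)
    (M : Subgroup G) [hM : M.Normal] (hidx : M.index = p) (Z : Subgroup G) (hZ : Nat.card Z = p)
    (hZc : Z ≤ Subgroup.center G) (hle : ∀ a ∈ M, ∀ b ∈ M, ⁅a, b⁆ ∈ Z)
    (hna : ¬ ∀ a ∈ M, ∀ b ∈ M, a * b = b * a) : (Subgroup.center G).index ∣ p ^ 3 := by
  have := Fact.mk hp
  have := Fintype.ofFinite M
  have hZM : Z ≤ M := by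
    push Not at hna
    obtain ⟨a, ha, b, hb, hab⟩ := hna
    have hmem : ⁅a, b⁆ ∈ M := by
      rw [commutatorElement_def]
      exact M.mul_mem (M.mul_mem (M.mul_mem ha hb) (M.inv_mem ha)) (M.inv_mem hb)
    have : Fact (Nat.card Z).Prime := ⟨hZ.symm ▸ hp⟩
    refine Subgroup.subgroupOf_eq_top.mp
      ((M.subgroupOf Z).eq_bot_or_eq_top_of_prime_card.resolve_left fun h => hab ?_)
    have hw : (⟨⁅a, b⁆, hle a ha b hb⟩ : Z) ∈ M.subgroupOf Z := Subgroup.mem_subgroupOf.mpr hmem
    rw [h, Subgroup.mem_bot] at hw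
    exact commutatorElement_eq_one_iff_mul_comm.mp (congrArg Subtype.val hw)
  obtain ⟨ψ, hψ⟩ : ∃ ψ : Cfsg.IrrCharacter M, Cfsg.charDegree (ψ : M → ℂ) ≠ 1 := by
    by_contra h
    push Not at h
    exact hna fun a ha b hb => congrArg Subtype.val (comm_of_forall_linear h ⟨a, ha⟩ ⟨b, hb⟩)
  have h1 := sq_degree_eq_index (Z.subgroupOf M)
    (by rw [Nat.card_congr (Subgroup.subgroupOfEquivOfLe hZM).toEquiv, hZ]; exact hp)
    (fun z hz => Subgroup.mem_center_iff.mpr fun a => Subtype.ext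
      (Subgroup.mem_center_iff.mp (hZc (Subgroup.mem_subgroupOf.mp hz)) a))
    (by
      rw [commutator_def, Subgroup.commutator_le]
      intro a _ b _
      rw [Subgroup.mem_subgroupOf,
        show ((⁅a, b⁆ : M) : G) = ⁅(a : G), (b : G)⁆ from map_commutatorElement M.subtype a b]
      exact hle a a.2 b b.2) ψ hψ
  have hcyc : IsCyclic (G ⧸ M) :=
    isCyclic_of_prime_card (p := p) (by rw [← Subgroup.index_eq_card, hidx])
  have hψp : Cfsg.charDegree (ψ : M → ℂ) = p := by
    obtain ⟨χ, hχ⟩ := exists_degree_eq M hcyc ψ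
    rcases hdeg χ with h | h <;> rw [hχ] at h
    · exact absurd (Nat.eq_one_of_mul_eq_one_left h) hψ
    · rcases hp.eq_one_or_self_of_dvd _ ⟨_, (h.trans rfl).symm.trans (mul_comm _ _)⟩ with h' | h'
      · exact absurd h' hψ
      · exact h'
  rw [hψp] at h1
  have hle' : (Subgroup.center M).map M.subtype ≤ Subgroup.center G := by
    rintro _ ⟨a, ha, rfl⟩
    exact center_of_index_prime_le hp hdeg M hidx hna a a.2
      fun y hy => congrArg Subtype.val (Subgroup.mem_center_iff.mp ha ⟨y, hy⟩)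
  have h2 := Subgroup.index_dvd_of_le hle'
  rw [Subgroup.index_map_subtype, ← h1, hidx] at h2
  rwa [pow_succ]

/-- A central index dividing `p ^ 2` gives an abelian subgroup of index `p`. -/
theorem exists_abelian_index_of_center (hp : p.Prime) (hnab : ∃ a b : G, a * b ≠ b * a)
    (h : (Subgroup.center G).index ∣ p ^ 2) :
    ∃ A : Subgroup G, A.Normal ∧ (∀ a ∈ A, ∀ b ∈ A, a * b = b * a) ∧ A.index = p := by
  obtain ⟨x, y, hxy⟩ := hnab
  have hxZ : x ∉ Subgroup.center G := fun hx => hxy ((Subgroup.mem_center_iff.mp hx y).symm)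
  set U : Subgroup G := Subgroup.center G ⊔ Subgroup.zpowers x with hU
  have hUab : ∀ a ∈ U, ∀ b ∈ U, a * b = b * a := by
    have h1 : U ≤ Subgroup.centralizer (({x} : Set G)) := sup_le
      (fun z hz => Subgroup.mem_centralizer_iff.mpr fun w _ => Subgroup.mem_center_iff.mp hz w)
      (Subgroup.zpowers_le.mpr (Subgroup.mem_centralizer_iff.mpr fun w hw => by
        rw [Set.mem_singleton_iff.mp hw]))
    have h2 : U ≤ Subgroup.centralizer (U : Set G) := sup_le
      (fun z hz => Subgroup.mem_centralizer_iff.mpr fun w _ => Subgroup.mem_center_iff.mp hz w)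
      (Subgroup.zpowers_le.mpr (Subgroup.mem_centralizer_iff.mpr fun w hw =>
        (Subgroup.mem_centralizer_iff.mp (h1 hw) x (Set.mem_singleton x)).symm))
    exact fun a ha b hb => (Subgroup.mem_centralizer_iff.mp (h2 ha) b hb).symm
  have hlt : Subgroup.center G < U := lt_of_le_of_ne le_sup_left fun h' =>
    hxZ (h'.symm ▸ le_sup_right (a := Subgroup.center G) (Subgroup.mem_zpowers x))
  have hne1 : U.index ≠ 1 := fun h1 => hxy (hUab x (by
    rw [Subgroup.index_eq_one.mp h1]; exact Subgroup.mem_top x) y (by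
    rw [Subgroup.index_eq_one.mp h1]; exact Subgroup.mem_top y))
  obtain ⟨i, hi, hUi⟩ := (Nat.dvd_prime_pow hp).mp ((Subgroup.index_dvd_of_le hlt.le).trans h)
  have hlt' := Subgroup.index_strictAnti hlt
  obtain ⟨j, hj, hZj⟩ := (Nat.dvd_prime_pow hp).mp h
  rw [hUi, hZj, Nat.pow_lt_pow_iff_right hp.one_lt] at hlt'
  have hi1 : i = 1 := by
    rcases Nat.eq_zero_or_pos i with h0 | h0
    · rw [h0, pow_zero] at hUi; exact absurd hUi hne1
    · omega
  have hUidx : U.index = p := by rw [hUi, hi1, pow_one]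
  refine ⟨U, ⟨fun u hu g => ?_⟩, hUab, hUidx⟩
  -- the quotient by the centre has order `p ^ 2`, so it is commutative
  have hj2 : j = 2 := by omega
  have := Fact.mk hp
  have hab : ∀ a b : G ⧸ Subgroup.center G, a * b = b * a :=
    have := IsPGroup.isMulCommutative_of_card_eq_prime_sq (G := G ⧸ Subgroup.center G)
      (p := p) (by rw [← Subgroup.index_eq_card, hZj, hj2])
    fun a b => mul_comm' a b
  have hc : ((g * u * g⁻¹ : G) : G ⧸ Subgroup.center G) = (u : G ⧸ Subgroup.center G) := by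
    rw [QuotientGroup.mk_mul, QuotientGroup.mk_mul, QuotientGroup.mk_inv, hab (g : G ⧸ _) u,
      mul_inv_cancel_right]
  have h3 := U.mul_mem hu (le_sup_left (b := Subgroup.zpowers x) (QuotientGroup.eq.mp hc.symm))
  rwa [mul_inv_cancel_left] at h3

end CfsgLib.TwoDegrees
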