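import Cfsg.Agent.Lib.CharDegree.TwoDegreesPrime

/-!
# Degrees one and a prime: the dichotomy
-/

namespace CfsgLib.TwoDegrees

open CfsgLib.Char CfsgLib.CharDegree
open scoped Classical commutatorElement

/-- The dichotomy for groups of prime-power order. -/
theorem pgroup_dichotomy {p : ℕ} (hp : p.Prime) :
    ∀ (n : ℕ) (G : Type*) [Group G] [Finite G], Nat.card G ≤ n → IsPGroup p G →
      (∀ χ : Cfsg.IrrCharacter G, Cfsg.charDegree (χ : G → ℂ) = 1 ∨
        Cfsg.charDegree (χ : G → ℂ) = p) →
      (∀ a b : G, a * b = b * a) ∨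
      (∃ A : Subgroup G, A.Normal ∧ (∀ a ∈ A, ∀ b ∈ A, a * b = b * a) ∧ A.index = p) ∨
      (Subgroup.center G).index = p ^ 3 := by
  intro n
  induction n with
  | zero => intro G _ _ h; exact absurd Nat.card_pos h.not_gt
  | succ n ih =>
  intro G _ _ hn hG hdeg
  have := Fintype.ofFinite G
  have := Fact.mk hp
  by_contra hno
  push Not at hno
  obtain ⟨hnab, hnA, hnZ⟩ := hno
  have : Nontrivial G := nontrivial_of_ne _ _ hnab.choose_spec.choose_spec
  obtain ⟨k, hk⟩ := hG.exists_card_eq
  have hnormal : ∀ M : Subgroup G, M.index = p → M.Normal := fun M hM => by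
    refine Subgroup.normal_of_index_eq_minFac_card ?_
    have hk0 : k ≠ 0 := by
      intro h
      rw [h, pow_zero] at hk
      exact absurd hk (Finite.one_lt_card (α := G)).ne'
    rw [hM, hk, Nat.pow_minFac hk0, hp.minFac_eq]
  have hnA' : ∀ M : Subgroup G, M.index = p → ¬ ∀ a ∈ M, ∀ b ∈ M, a * b = b * a :=
    fun M hM h => hnA M (hnormal M hM) h hM
  -- a central subgroup of order `p`
  obtain ⟨w, hw⟩ : ∃ w : Subgroup.center G, orderOf w = p := by
    have := hG.center_nontrivial
    refine exists_prime_orderOf_dvd_card' p ?_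
    obtain ⟨j, hj⟩ := (hG.to_subgroup (Subgroup.center G)).exists_card_eq
    rw [hj]
    refine dvd_pow_self p fun h => ?_
    rw [h, pow_zero] at hj
    exact absurd hj (Finite.one_lt_card (α := Subgroup.center G)).ne'
  set Z := Subgroup.zpowers (w : G) with hZdef
  have hZc : Z ≤ Subgroup.center G := Subgroup.zpowers_le.mpr w.2
  have hZcard : Nat.card Z = p := by rw [hZdef, Nat.card_zpowers, Subgroup.orderOf_coe, hw]
  have hZn : Z.Normal := ⟨fun z hz g => by
    rwa [Subgroup.mem_center_iff.mp (hZc hz) g, mul_inv_cancel_right]⟩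
  have := Fintype.ofFinite (G ⧸ Z)
  have hlt : Nat.card (G ⧸ Z) ≤ n := by
    have h := Z.card_mul_index
    rw [hZcard, Subgroup.index_eq_card] at h
    have h1 : Nat.card (G ⧸ Z) < Nat.card G := by
      rw [← h]
      exact lt_mul_of_one_lt_left Nat.card_pos hp.one_lt
    omega
  have key : ∀ M : Subgroup G, M.index = p → (∀ a ∈ M, ∀ b ∈ M, ⁅a, b⁆ ∈ Z) → False := by
    intro M hM hle
    have := hnormal M hM
    have hdvd := index_center_dvd_of_commutator_le hp hdeg M hM Z hZcard hZc hle (hnA' M hM)
    obtain ⟨j, hj, hjeq⟩ := (Nat.dvd_prime_pow hp).mp hdvd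
    have hj3 : j ≤ 2 := by
      by_contra h
      exact hnZ (by rw [hjeq, show j = 3 by omega])
    obtain ⟨A, h1, h2, h3⟩ := exists_abelian_index_of_center hp hnab
      (hjeq ▸ pow_dvd_pow p hj3)
    exact hnA A h1 h2 h3
  rcases ih (G ⧸ Z) hlt (hG.to_quotient Z)
      (fun ψ => by simpa only [charDegree_infl] using hdeg (infl Z ψ)) with h | ⟨A, -, hA, hAi⟩ | h
  · obtain ⟨M, hM⟩ : ∃ M : Subgroup G, M.index = p := by
      obtain ⟨M, hM, -⟩ := Sylow.exists_subgroup_card_pow_prime_le p (n := 0) (m := k - 1)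
        (hk ▸ pow_dvd_pow p (Nat.sub_le k 1)) ⊥ (by simp) (Nat.zero_le _)
      refine ⟨M, ?_⟩
      have h' := M.card_mul_index
      have hk0 : k ≠ 0 := by
        intro h0
        rw [h0, pow_zero] at hk
        exact absurd hk (Finite.one_lt_card (α := G)).ne'
      rw [hM, hk] at h'
      refine Nat.eq_of_mul_eq_mul_left (pow_pos hp.pos (k - 1)) ?_
      rw [h', ← pow_succ]
      congr 1
      omega
    refine key M hM fun a _ b _ => ?_
    rw [← QuotientGroup.eq_one_iff, commutatorElement_def]
    simp only [QuotientGroup.mk_mul, QuotientGroup.mk_inv]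
    rw [h (a : G ⧸ Z) b]
    group
  · refine key (A.comap (QuotientGroup.mk' Z))
      (by rw [Subgroup.index_comap_of_surjective _ (QuotientGroup.mk'_surjective Z), hAi])
      fun a ha b hb => ?_
    rw [← QuotientGroup.eq_one_iff, commutatorElement_def]
    simp only [QuotientGroup.mk_mul, QuotientGroup.mk_inv]
    have h' : (a : G ⧸ Z) * b = b * a := hA _ ha _ hb
    rw [h']
    group
  · suffices hY : Subgroup.center G = (Subgroup.center (G ⧸ Z)).comap (QuotientGroup.mk' Z) by
      exact hnZ (by
        rw [hY, Subgroup.index_comap_of_surjective _ (QuotientGroup.mk'_surjective Z), h])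
    refine le_antisymm (fun z hz => ?_) (fun y hy => ?_)
    · rw [Subgroup.mem_comap, Subgroup.mem_center_iff]
      intro q
      induction q using QuotientGroup.induction_on with
      | H g =>
        rw [QuotientGroup.mk'_apply, ← QuotientGroup.mk_mul, ← QuotientGroup.mk_mul,
          Subgroup.mem_center_iff.mp hz g]
    · have hyZ : ∀ g : G, ⁅g, y⁆ ∈ Z := fun g => by
        rw [← QuotientGroup.eq_one_iff, commutatorElement_def]
        simp only [QuotientGroup.mk_mul, QuotientGroup.mk_inv]
        have h' := Subgroup.mem_center_iff.mp (Subgroup.mem_comap.mp hy) (g : G ⧸ Z)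
        rw [QuotientGroup.mk'_apply] at h'
        rw [h']
        group
      let f : G →* Z :=
        { toFun := fun g => ⟨⁅g, y⁆, hyZ g⟩
          map_one' := Subtype.ext (commutatorElement_one_left y)
          map_mul' := fun g g' => Subtype.ext (by
            show ⁅g * g', y⁆ = ⁅g, y⁆ * ⁅g', y⁆
            have hc := hZc (hyZ g')
            rw [commutatorElement_mul_left_eq_conj_mul, Subgroup.mem_center_iff.mp hc g,
              mul_inv_cancel_right, ← Subgroup.mem_center_iff.mp hc ⁅g, y⁆]) }
      have : Fact (Nat.card Z).Prime := ⟨hZcard.symm ▸ hp⟩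
      rcases f.range.eq_bot_or_eq_top_of_prime_card with hr | hr
      · rw [Subgroup.mem_center_iff]
        intro g
        refine commutatorElement_eq_one_iff_mul_comm.mp ?_
        have hg : f g ∈ f.range := ⟨g, rfl⟩
        rw [hr, Subgroup.mem_bot] at hg
        exact congrArg Subtype.val hg
      · have hker : f.ker.index = p := by
          rw [Subgroup.index_ker, hr, ← hZcard]
          exact Nat.card_congr Subgroup.topEquiv.toEquiv
        have := hnormal f.ker hker
        refine center_of_index_prime_le hp hdeg f.ker hker (hnA' f.ker hker) y ?_ ?_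
        · exact MonoidHom.mem_ker.mpr (Subtype.ext (commutatorElement_self y))
        · exact fun g hg => commutatorElement_eq_one_iff_mul_comm.mp
            (congrArg Subtype.val (MonoidHom.mem_ker.mp hg))

/-- Degrees `1, p`. -/
theorem degrees_one_prime_iff {G : Type*} [Group G] [Fintype G] (hG : ∃ a b : G, a * b ≠ b * a)
    {p : ℕ} (hp : p.Prime) :
    ((∀ χ : Cfsg.IrrCharacter G, Cfsg.charDegree (χ : G → ℂ) = 1 ∨
        Cfsg.charDegree (χ : G → ℂ) = p) ∧
      ∃ χ : Cfsg.IrrCharacter G, Cfsg.charDegree (χ : G → ℂ) = p) ↔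
    ((∃ A : Subgroup G, A.Normal ∧ (∀ a ∈ A, ∀ b ∈ A, a * b = b * a) ∧ A.index = p) ∨
      (Subgroup.center G).index = p ^ 3) := by
  have := Fact.mk hp
  constructor
  · rintro ⟨hdeg, hm⟩
    rcases structure_of_two_degrees hdeg hm hp.ne_one with h |
      ⟨q, e, hq, hpe, P, A, hP, hA, hPq, hab, hinf, hsup⟩
    · exact Or.inl h
    have hqp : q = p := by
      rcases hq.eq_one_or_self_of_dvd q dvd_rfl with h | h
      · exact absurd h hq.ne_one
      · have he : e ≠ 0 := fun he => hp.ne_one (by rw [hpe, he, pow_zero])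
        exact (Nat.prime_dvd_prime_iff_eq hq hp).mp (hpe ▸ dvd_pow_self q he)
    subst hqp
    have hQ : IsPGroup q (G ⧸ A) := hPq.of_surjective ((QuotientGroup.mk' A).comp P.subtype)
      fun x => by
        induction x using QuotientGroup.induction_on with
        | H g =>
          have hg : g ∈ P ⊔ A := by rw [hsup]; exact Subgroup.mem_top g
          obtain ⟨y, hy, a, ha, rfl⟩ := Subgroup.mem_sup_of_normal_right.mp hg
          exact ⟨⟨y, hy⟩, (show (y : G ⧸ A) = (y * a : G) by
            rw [QuotientGroup.mk_mul, (QuotientGroup.eq_one_iff a).mpr ha, mul_one])⟩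
    have hcP : ∀ x y : G, ⁅x, y⁆ ∈ P := by
      intro x y
      have key : ∀ g : G, ∃ a ∈ A, (g : G ⧸ P) = (a : G ⧸ P) := fun g => by
        have hg : g ∈ P ⊔ A := by rw [hsup]; exact Subgroup.mem_top g
        obtain ⟨y, hy, a, ha, rfl⟩ := Subgroup.mem_sup_of_normal_left.mp hg
        exact ⟨a, ha, by rw [QuotientGroup.mk_mul, (QuotientGroup.eq_one_iff y).mpr hy, one_mul]⟩
      obtain ⟨a, ha, hxa⟩ := key x
      obtain ⟨b, hb, hyb⟩ := key y
      rw [← QuotientGroup.eq_one_iff, commutatorElement_def]
      simp only [QuotientGroup.mk_mul, QuotientGroup.mk_inv]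
      rw [hxa, hyb, ← QuotientGroup.mk_mul, hab a ha b hb, QuotientGroup.mk_mul]
      group
    have hone : ∀ x y : G, (x : G ⧸ A) * y = y * x → x * y = y * x := fun x y h => by
      refine commutatorElement_eq_one_iff_mul_comm.mp (Subgroup.mem_bot.mp (hinf ▸ ⟨hcP x y, ?_⟩))
      show ⁅x, y⁆ ∈ A
      rw [← QuotientGroup.eq_one_iff, commutatorElement_def]
      simp only [QuotientGroup.mk_mul, QuotientGroup.mk_inv]
      rw [h]
      group
    rcases pgroup_dichotomy hp (Nat.card (G ⧸ A)) (G ⧸ A) le_rfl hQ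
        (fun ψ => by simpa only [charDegree_infl] using hdeg (infl A ψ)) with h | ⟨M, hM, hMab, hMi⟩ | h
    · obtain ⟨a, b, hab'⟩ := hG
      exact absurd (hone a b (h _ _)) hab'
    · refine Or.inl ⟨M.comap (QuotientGroup.mk' A), hM.comap _, fun a ha b hb =>
        hone a b (hMab _ ha _ hb), ?_⟩
      rw [Subgroup.index_comap_of_surjective _ (QuotientGroup.mk'_surjective A), hMi]
    · refine Or.inr ?_
      rw [show Subgroup.center G = (Subgroup.center (G ⧸ A)).comap (QuotientGroup.mk' A) from
        le_antisymm ?_ ?_, Subgroup.index_comap_of_surjective _ (QuotientGroup.mk'_surjective A), h]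
      · intro z hz
        rw [Subgroup.mem_comap, Subgroup.mem_center_iff]
        intro x
        induction x using QuotientGroup.induction_on with
        | H g =>
          rw [QuotientGroup.mk'_apply, ← QuotientGroup.mk_mul, ← QuotientGroup.mk_mul,
            Subgroup.mem_center_iff.mp hz g]
      · intro z hz
        exact Subgroup.mem_center_iff.mpr fun g =>
          hone g z (Subgroup.mem_center_iff.mp hz (g : G ⧸ A))
  · intro h
    have hdeg : ∀ χ : Cfsg.IrrCharacter G, Cfsg.charDegree (χ : G → ℂ) = 1 ∨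
        Cfsg.charDegree (χ : G → ℂ) = p := by
      intro χ
      rcases h with ⟨A, hA, hab, hAi⟩ | hZ
      · exact hp.eq_one_or_self_of_dvd _ (hAi ▸ degree_dvd_index χ A hab)
      · have h1 := degree_dvd_index χ (Subgroup.center G) fun a ha b _ =>
          (Subgroup.mem_center_iff.mp ha b).symm
        have h2 := CfsgLib.Coh.sq_charDegree_le_index χ ⊥ (Subgroup.center G)
          (fun g hg => by rw [Subgroup.mem_bot.mp hg]) bot_le (fun d hd g => by
            rw [Subgroup.mem_bot, ← Subgroup.mem_center_iff.mp hd g]; group)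
        rw [hZ] at h1 h2
        obtain ⟨j, -, hje⟩ := (Nat.dvd_prime_pow hp).mp h1
        rw [hje, ← pow_mul, Nat.pow_le_pow_iff_right hp.one_lt] at h2
        rcases (show j = 0 ∨ j = 1 by omega) with rfl | rfl
        · exact Or.inl (by rw [hje, pow_zero])
        · exact Or.inr (by rw [hje, pow_one])
    refine ⟨hdeg, ?_⟩
    by_contra hno
    push Not at hno
    obtain ⟨a, b, hab⟩ := hG
    exact hab (comm_of_forall_linear (fun χ => (hdeg χ).resolve_right (hno χ)) a b)

end CfsgLib.TwoDegrees
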