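import Cfsg.Agent.Lib.CharDegree.SectionAction
import Cfsg.Agent.Lib.Core.Coprime
import Cfsg.Agent.S4456

/-!
# The structure of groups with two character degrees
-/

namespace CfsgLib.TwoDegrees

open CfsgLib.Char CfsgLib.CharDegree CfsgLib.Clifford
open scoped Classical ComplexConjugate commutatorElement

variable {G : Type*} [Group G] [Fintype G] {m : ℕ}

/-- A normal subgroup of order prime to the degree is abelian. -/
theorem comm_of_coprime
    (hdeg : ∀ χ : Cfsg.IrrCharacter G, Cfsg.charDegree (χ : G → ℂ) = 1 ∨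
      Cfsg.charDegree (χ : G → ℂ) = m)
    (N : Subgroup G) [hN : N.Normal] (hcop : (Nat.card N).Coprime m) :
    ∀ a ∈ N, ∀ b ∈ N, a * b = b * a := by
  have := Fintype.ofFinite N
  intro a ha b hb
  suffices h : ∀ ψ : Cfsg.IrrCharacter N, Cfsg.charDegree (ψ : N → ℂ) = 1 from
    congrArg Subtype.val (comm_of_forall_linear h ⟨a, ha⟩ ⟨b, hb⟩)
  intro ψ
  have hne : Cfsg.indFun N (ψ : N → ℂ) ≠ 0 := fun h => by
    have h1 := congrFun h 1
    rw [indFun_apply_one, Pi.zero_apply, mul_eq_zero] at h1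
    rcases h1 with h1 | h1
    · exact Subgroup.index_ne_zero_of_finite (Nat.cast_eq_zero.mp h1)
    · exact IsIrr.apply_one_ne_zero ψ.2 h1
  obtain ⟨χ, hχ⟩ := exists_constituent (isClassFunction_indFun N _) hne
  rw [frobenius_reciprocity N _ (IsIrr.isClassFunction χ.2)] at hχ
  have hχ' : Cfsg.classInner (fun n : N => (χ : G → ℂ) n) (ψ : N → ℂ) ≠ 0 := fun h => hχ (by
    rw [← classInner_conj_symm, h, map_zero])
  have hd := degree_eq hN ψ.2 χ.2 hχ'
  obtain ⟨k, hk⟩ := IsChar.classInner_eq_natCast (IsChar.restrict N (IsIrr.isCharacter χ.2))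
    (IsIrr.isCharacter ψ.2)
  rw [hk, ← cast_irrDegree, ← cast_irrDegree] at hd
  have hd' : Cfsg.charDegree (χ : G → ℂ) =
      k * (inertia hN (ψ : N → ℂ)).index * Cfsg.charDegree (ψ : N → ℂ) := by exact_mod_cast hd
  rcases hdeg χ with h | h
  · rw [h] at hd'; exact Nat.eq_one_of_mul_eq_one_left hd'.symm
  · exact Nat.eq_one_of_dvd_coprimes hcop (charDegree_dvd_card ψ)
      (h ▸ hd' ▸ dvd_mul_left _ _)

/-- Case of a nonabelian quotient of prime-power order by a subgroup of order prime to `p`. -/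
theorem pgroup_case
    (hdeg : ∀ χ : Cfsg.IrrCharacter G, Cfsg.charDegree (χ : G → ℂ) = 1 ∨
      Cfsg.charDegree (χ : G → ℂ) = m)
    {p k : ℕ} (hp : p.Prime) (N : Subgroup G) [hN : N.Normal] (hcop : (Nat.card N).Coprime p)
    (hidx : N.index = p ^ k) (hna : ¬ ∀ a b : G ⧸ N, a * b = b * a) :
    (∃ A : Subgroup G, A.Normal ∧ (∀ a ∈ A, ∀ b ∈ A, a * b = b * a) ∧ A.index = m) ∨
      ∃ p e : ℕ, p.Prime ∧ m = p ^ e ∧ ∃ P A : Subgroup G, P.Normal ∧ A.Normal ∧ IsPGroup p P ∧
        (∀ a ∈ A, ∀ b ∈ A, a * b = b * a) ∧ P ⊓ A = ⊥ ∧ P ⊔ A = ⊤ := by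
  have := Fact.mk hp
  obtain ⟨e, hme⟩ : ∃ e, m = p ^ e := by
    by_contra hno
    refine hna (comm_of_forall_linear fun ψ => ?_)
    have h1 := charDegree_dvd_card ψ
    rw [← Subgroup.index_eq_card, hidx] at h1
    rcases hdeg (infl N ψ) with h | h <;> rw [charDegree_infl] at h
    · exact h
    · rw [h] at h1
      obtain ⟨e, -, he⟩ := (Nat.dvd_prime_pow hp).mp h1
      exact absurd ⟨e, he⟩ hno
  have hcopm : (Nat.card N).Coprime m := hme ▸ hcop.pow_right e
  have hNab := comm_of_coprime hdeg N hcopm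
  -- a complement
  let S : Sylow p G := default
  set P : Subgroup G := (S : Subgroup G) with hPdef
  obtain ⟨s, hs⟩ := S.isPGroup'.exists_card_eq
  have hcopNP : (Nat.card P).Coprime (Nat.card N) := by
    rw [hPdef, hs]; exact (hcop.pow_right s).symm
  have hcard : Nat.card N * Nat.card P = Nat.card G := by
    refine Nat.dvd_antisymm ?_ ?_
    · exact hcopNP.symm.mul_dvd_of_dvd_of_dvd N.card_subgroup_dvd_card P.card_subgroup_dvd_card
    · rw [← N.card_mul_index, hidx]
      refine mul_dvd_mul_left _ (Sylow.pow_dvd_card_of_pow_dvd_card S ?_)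
      rw [← hidx]; exact N.index_dvd_card
  have hcompl : Subgroup.IsComplement' N P :=
    Subgroup.isComplement'_of_coprime hcard hcopNP.symm
  have hsup : N ⊔ P = ⊤ := hcompl.sup_eq_top
  have hinf : N ⊓ P = ⊥ := hcompl.disjoint.eq_bot
  have hPN : P ≤ Subgroup.normalizer (N : Set G) := by
    rw [Subgroup.normalizer_eq_top_iff.mpr hN]; exact le_top
  by_cases hbot : ⁅N, P⁆ = ⊥
  · right
    refine ⟨p, e, hp, hme, P, N, ⟨fun x hx g => ?_⟩, hN, S.isPGroup', hNab,
      by rw [inf_comm]; exact hinf, by rw [sup_comm]; exact hsup⟩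
    have hg : g ∈ N ⊔ P := by rw [hsup]; exact Subgroup.mem_top g
    obtain ⟨n, hn, y, hy, rfl⟩ := Subgroup.mem_sup_of_normal_left.mp hg
    have hc : n * (y * x * y⁻¹) = y * x * y⁻¹ * n :=
      commutatorElement_eq_one_iff_mul_comm.mp ((Subgroup.mem_bot).mp (hbot ▸
        Subgroup.commutator_mem_commutator hn (P.mul_mem (P.mul_mem hy hx) (P.inv_mem hy))))
    rw [show n * y * x * (n * y)⁻¹ = n * (y * x * y⁻¹) * n⁻¹ by group, hc, mul_inv_cancel_right]
    exact P.mul_mem (P.mul_mem hy hx) (P.inv_mem hy)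
  left
  set A : Subgroup G := ⁅N, P⁆ with hAdef
  have hA : A.Normal := by
    rw [← Subgroup.normalizer_eq_top_iff, eq_top_iff, ← hsup]
    exact CfsgLib.Core.le_normalizer_commutator_self P N
  have hAN : A ≤ N := CfsgLib.Core.commutator_le_of_normalizes hPN
  have hAab : ∀ a ∈ A, ∀ b ∈ A, a * b = b * a := fun a ha b hb => hNab a (hAN ha) b (hAN hb)
  have hsolv : Group.IsSolvable P ∨ Group.IsSolvable N :=
    Or.inr (Group.isSolvable_of_comm fun a b => Subtype.ext (hNab a a.2 b b.2))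
  have hAP : ⁅A, P⁆ = A := CfsgLib.Core.commutator_commutator_eq hPN hcopNP hsolv
  have hdec : A ⊔ (N ⊓ Subgroup.centralizer (P : Set G)) = N :=
    CfsgLib.Core.commutator_sup_centralizer hPN hcopNP hsolv
  have hcap : A ⊓ (N ⊓ Subgroup.centralizer (P : Set G)) = ⊥ := by
    have : IsMulCommutative N := ⟨⟨fun a b => Subtype.ext (hNab a a.2 b b.2)⟩⟩
    rw [inf_comm]; exact CfsgLib.Core.abelian_inf_eq_bot hPN hcopNP
  obtain ⟨L, hL, hLA, hmax⟩ := exists_maximal_lt hbot
  set C := secCent A L with hCdef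
  have hNC : N ≤ C := fun g hg a ha => by
    rw [hNab g hg a (hAN ha), show a * g * g⁻¹ * a⁻¹ = 1 by group]; exact L.one_mem
  have hCne : C ≠ ⊤ := by
    intro h
    apply hLA.not_ge
    rw [← hAP, Subgroup.commutator_le]
    intro a ha x hx
    have hxC : x ∈ C := h ▸ Subgroup.mem_top x
    have h1 := L.inv_mem (hxC a ha)
    rw [commutatorElement_def]
    rwa [show a * x * a⁻¹ * x⁻¹ = (x * a * x⁻¹ * a⁻¹)⁻¹ by group]
  have hcop' : (L.relIndex A).Coprime m :=
    hcopm.coprime_dvd_left ((Subgroup.index_dvd_card _).trans (Subgroup.card_dvd_of_le hAN))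
  have hPC : ∀ g ∈ C, ∃ n ∈ N, ∃ y ∈ C ⊓ P, g = n * y := by
    intro g hg
    have hg' : g ∈ N ⊔ P := by rw [hsup]; exact Subgroup.mem_top g
    obtain ⟨n, hn, y, hy, rfl⟩ := Subgroup.mem_sup_of_normal_left.mp hg'
    exact ⟨n, hn, y, ⟨by simpa using C.mul_mem (C.inv_mem (hNC hn)) hg, hy⟩, rfl⟩
  have hfix : ∀ n ∈ N, ∀ y ∈ C ⊓ P, y * n * y⁻¹ * n⁻¹ ∈ L := by
    intro n hn y hy
    have hn' : n ∈ A ⊔ (N ⊓ Subgroup.centralizer (P : Set G)) := by rw [hdec]; exact hn
    obtain ⟨a, ha, c, hc, rfl⟩ := Subgroup.mem_sup_of_normal_left.mp hn'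
    rw [show y * (a * c) * y⁻¹ * (a * c)⁻¹ = y * a * y⁻¹ * (y * c * y⁻¹ * c⁻¹) * a⁻¹ by group,
      show y * c * y⁻¹ * c⁻¹ = 1 by rw [Subgroup.mem_centralizer_iff.mp hc.2 y hy.2]; group,
      mul_one]
    exact hy.1 a ha
  have hext : ∀ a : C, (a : G) ∈ A → a ∈ commutator C ⊔ L.subgroupOf C → (a : G) ∈ L := by
    intro a ha haD
    have hle : commutator C ⊔ L.subgroupOf C ≤ (L ⊔ (C ⊓ P)).subgroupOf C := by
      refine sup_le ?_ (fun c hc => Subgroup.mem_subgroupOf.mpr (le_sup_left (b := C ⊓ P)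
        (Subgroup.mem_subgroupOf.mp hc)))
      rw [commutator_def, Subgroup.commutator_le]
      intro u _ v _
      obtain ⟨n₁, hn₁, y₁, hy₁, hu⟩ := hPC u u.2
      obtain ⟨n₂, hn₂, y₂, hy₂, hv⟩ := hPC v v.2
      rw [Subgroup.mem_subgroupOf]
      have hq : ∀ n ∈ N, ∀ y ∈ C ⊓ P, Commute (n : G ⧸ L) (y : G ⧸ L) := fun n hn y hy => by
        have h := (QuotientGroup.eq_one_iff (N := L) _).mpr (hfix n hn y hy)
        simp only [QuotientGroup.mk_mul, QuotientGroup.mk_inv] at h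
        exact (commutatorElement_eq_one_iff_mul_comm.mp h).symm
      have hnn : Commute (n₁ : G ⧸ L) (n₂ : G ⧸ L) := by
        show _ * _ = _ * _
        rw [← QuotientGroup.mk_mul, ← QuotientGroup.mk_mul, hNab n₁ hn₁ n₂ hn₂]
      have c11 := hq n₁ hn₁ y₁ hy₁
      have c12 := hq n₁ hn₁ y₂ hy₂
      have c21 := hq n₂ hn₂ y₁ hy₁
      have c22 := hq n₂ hn₂ y₂ hy₂
      have key : ((⁅(u : G), (v : G)⁆ : G) : G ⧸ L) = ((⁅y₁, y₂⁆ : G) : G ⧸ L) := by
        rw [hu, hv]
        simp only [commutatorElement_def, QuotientGroup.mk_mul, QuotientGroup.mk_inv, mul_inv_rev]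
        set a1 := (n₁ : G ⧸ L)
        set a2 := (n₂ : G ⧸ L)
        set b1 := (y₁ : G ⧸ L)
        set b2 := (y₂ : G ⧸ L)
        have k1 : Commute a1 (b1 * (a2 * b2) * b1⁻¹) :=
          (c11.mul_right (hnn.mul_right c12)).mul_right c11.inv_right
        have k2 : Commute a2 (b1 * b2 * b1⁻¹) := (c21.mul_right c22).mul_right c21.inv_right
        calc a1 * b1 * (a2 * b2) * (b1⁻¹ * a1⁻¹) * (b2⁻¹ * a2⁻¹)
            = (a1 * (b1 * (a2 * b2) * b1⁻¹)) * a1⁻¹ * (b2⁻¹ * a2⁻¹) := by group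
          _ = (b1 * a2) * b2 * b1⁻¹ * (b2⁻¹ * a2⁻¹) := by rw [k1.eq]; group
          _ = (a2 * (b1 * b2 * b1⁻¹)) * (b2⁻¹ * a2⁻¹) := by rw [← c21.eq]; group
          _ = (b1 * b2 * b1⁻¹) * (a2 * b2⁻¹) * a2⁻¹ := by rw [k2.eq]; group
          _ = b1 * b2 * b1⁻¹ * b2⁻¹ := by rw [c22.inv_right.eq]; group
      rw [QuotientGroup.eq] at key
      have hmem : ⁅y₁, y₂⁆ ∈ C ⊓ P :=
        ⟨by rw [commutatorElement_def]
            exact C.mul_mem (C.mul_mem (C.mul_mem hy₁.1 hy₂.1) (C.inv_mem hy₁.1)) (C.inv_mem hy₂.1),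
          by rw [commutatorElement_def]
             exact P.mul_mem (P.mul_mem (P.mul_mem hy₁.2 hy₂.2) (P.inv_mem hy₁.2)) (P.inv_mem hy₂.2)⟩
      rw [show ((⁅u, v⁆ : C) : G) = ⁅(u : G), (v : G)⁆ from map_commutatorElement C.subtype u v,
        show ⁅(u : G), (v : G)⁆ = ⁅y₁, y₂⁆ * (⁅(u : G), (v : G)⁆⁻¹ * ⁅y₁, y₂⁆)⁻¹ by group]
      exact Subgroup.mul_mem _ (le_sup_right (a := L) hmem)
        (le_sup_left (b := C ⊓ P) (L.inv_mem key))
    obtain ⟨l, hl, y, hy, hly⟩ := Subgroup.mem_sup_of_normal_left.mp (Subgroup.mem_subgroupOf.mp (hle haD))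
    have hyA : y ∈ N ⊓ P := ⟨hAN (by
      have h := A.mul_mem (A.inv_mem (hLA.le hl)) ha
      rwa [← hly, inv_mul_cancel_left] at h), hy.2⟩
    rw [hinf, Subgroup.mem_bot] at hyA
    rw [← hly, hyA, mul_one]; exact hl
  have hcomm : ∀ x y : G, x⁻¹ * y⁻¹ * x * y ∈ C := by
    -- the quotient is a nontrivial `p`-group
    have hpg : IsPGroup p (G ⧸ C) := by
      obtain ⟨j, -, hj⟩ := (Nat.dvd_prime_pow hp).mp (hidx ▸ Subgroup.index_dvd_of_le hNC)
      exact IsPGroup.of_card (n := j) (by rw [← Subgroup.index_eq_card, hj])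
    have : Nontrivial (G ⧸ C) := by
      rw [← Finite.one_lt_card_iff_nontrivial, ← Subgroup.index_eq_card]
      exact Subgroup.one_lt_index_of_ne_top hCne
    obtain ⟨zq, hzq, hzne⟩ :=
      (Subgroup.ne_bot_iff_exists_ne_one.mp (Subgroup.nontrivial_iff_ne_bot _ |>.mp
        hpg.center_nontrivial)).elim fun w hw => (⟨(w : G ⧸ C), w.2, fun h => hw (Subtype.ext h)⟩ :
          ∃ q ∈ Subgroup.center (G ⧸ C), q ≠ 1)
    obtain ⟨z, rfl⟩ := QuotientGroup.mk_surjective zq
    have hzC : z ∉ C := fun h => hzne ((QuotientGroup.eq_one_iff z).mpr h)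
    have hzcen : ∀ y : G, z⁻¹ * y⁻¹ * z * y ∈ C := by
      intro y
      rw [mul_assoc (z⁻¹ * y⁻¹), ← mul_inv_rev, ← QuotientGroup.eq, QuotientGroup.mk_mul,
        QuotientGroup.mk_mul]
      exact Subgroup.mem_center_iff.mp hzq _
    have hzfp := fpf_of_central hmax hLA.le hzcen hzC
    -- a linear character of `N`
    obtain ⟨v, hv, hvL⟩ := SetLike.exists_of_lt hLA
    let K : Subgroup G := L ⊔ (N ⊓ Subgroup.centralizer (P : Set G))
    let K' := K.subgroupOf N
    let : CommGroup N := { (inferInstance : Group N) with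
      mul_comm := fun a b => Subtype.ext (hNab a a.2 b b.2) }
    have hvK : (⟨v, hAN hv⟩ : N) ∉ K' := fun h => by
      obtain ⟨l, hl, c, hc, hlc⟩ := Subgroup.mem_sup_of_normal_left.mp (Subgroup.mem_subgroupOf.mp h)
      have hcA : c ∈ A ⊓ (N ⊓ Subgroup.centralizer (P : Set G)) := ⟨by
        have h := A.mul_mem (A.inv_mem (hLA.le hl)) hv
        rwa [show v = l * c from hlc.symm, inv_mul_cancel_left] at h, hc⟩
      rw [hcap, Subgroup.mem_bot] at hcA
      exact hvL (by rw [show v = l * c from hlc.symm, hcA, mul_one]; exact hl)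
    obtain ⟨φ, hφ⟩ := CommGroup.exists_apply_ne_one_of_hasEnoughRootsOfUnity (N ⧸ K') ℂ
      (a := QuotientGroup.mk' K' ⟨v, hAN hv⟩) (fun h => hvK ((QuotientGroup.eq_one_iff _).mp h))
    let lam : N →* ℂˣ := φ.comp (QuotientGroup.mk' K')
    have hlamK : ∀ n : N, (n : G) ∈ K → lam n = 1 := fun n hn => by
      show φ (QuotientGroup.mk' K' n) = 1
      rw [show QuotientGroup.mk' K' n = 1 from
        (QuotientGroup.eq_one_iff _).mpr (Subgroup.mem_subgroupOf.mpr hn), map_one]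
    let θ : Cfsg.IrrCharacter N := ⟨fun n => (lam n : ℂ), isIrrCharacter_linear lam⟩
    set T := inertia hN (θ : N → ℂ) with hTdef
    have hNT : N ≤ T := le_inertia hN (IsIrr.isClassFunction θ.2)
    have hTinv : ∀ t ∈ T, ∀ n : N, lam ⟨t * n * t⁻¹, hN.conj_mem n n.2 t⟩ = lam n :=
      fun t ht n => Units.ext (congrFun (mem_inertia.mp ht) n)
    have hPT : C ⊓ P ≤ T := fun y hy => mem_inertia.mpr (funext fun n => by
      show (lam ⟨y * n * y⁻¹, _⟩ : ℂ) = lam n
      congr 1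
      have h := hlamK ⟨y * n * y⁻¹ * (n : G)⁻¹, N.mul_mem (hN.conj_mem n n.2 y) (N.inv_mem n.2)⟩
        (le_sup_left (b := N ⊓ Subgroup.centralizer (P : Set G)) (hfix n n.2 y hy))
      rw [show (⟨y * n * y⁻¹ * (n : G)⁻¹, N.mul_mem (hN.conj_mem n n.2 y) (N.inv_mem n.2)⟩ : N) =
        ⟨y * n * y⁻¹, hN.conj_mem n n.2 y⟩ * n⁻¹ from Subtype.ext rfl, map_mul, map_inv,
        mul_inv_eq_one] at h
      exact h)
    have hCT : C ≤ T := fun g hg => by
      obtain ⟨n, hn, y, hy, rfl⟩ := hPC g hg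
      exact T.mul_mem (hNT hn) (hPT hy)
    have hzT : z ∉ T := by
      intro hz
      obtain ⟨b, hb, hbv⟩ := surj_of_fpf hAab hzfp v hv
      apply hφ
      show lam ⟨v, hAN hv⟩ = 1
      rw [show (⟨v, hAN hv⟩ : N) = ⟨z * b * z⁻¹, hN.conj_mem b (hAN hb) z⟩ *
        (⟨b, hAN hb⟩ : N)⁻¹ * ⟨(z * b * z⁻¹ * b⁻¹)⁻¹ * v, hAN (hLA.le hbv)⟩ from
        Subtype.ext (by simp only [Subgroup.coe_mul, InvMemClass.coe_inv]; group),
        map_mul, map_mul, map_inv, hTinv z hz ⟨b, hAN hb⟩,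
        hlamK ⟨_, hAN (hLA.le hbv)⟩ (le_sup_left (b := N ⊓ Subgroup.centralizer (P : Set G)) hbv),
        mul_inv_cancel, one_mul]
    have hT1 : 1 < T.index := Subgroup.one_lt_index_of_ne_top fun h => hzT (h ▸ Subgroup.mem_top z)
    -- its extension to the inertia group
    let π : P →* G ⧸ N := (QuotientGroup.mk' N).comp P.subtype
    have hπ : Function.Bijective π := by
      refine ⟨(injective_iff_map_eq_one π).mpr fun y hy => ?_, fun q => ?_⟩
      · have h : (y : G) ∈ N ⊓ P := ⟨(QuotientGroup.eq_one_iff _).mp hy, y.2⟩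
        rw [hinf, Subgroup.mem_bot] at h
        exact Subtype.ext h
      · induction q using QuotientGroup.induction_on with
        | H g =>
          have hg : g ∈ N ⊔ P := by rw [hsup]; exact Subgroup.mem_top g
          obtain ⟨n, hn, y, hy, rfl⟩ := Subgroup.mem_sup_of_normal_left.mp hg
          exact ⟨⟨y, hy⟩, (show (y : G ⧸ N) = (n * y : G) by
            rw [QuotientGroup.mk_mul, (QuotientGroup.eq_one_iff n).mpr hn, one_mul])⟩
    let sec : G →* P := (MulEquiv.ofBijective π hπ).symm.toMonoidHom.comp (QuotientGroup.mk' N)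
    have hsec : ∀ g : G, g * (sec g : G)⁻¹ ∈ N := fun g => by
      rw [← QuotientGroup.eq_one_iff, QuotientGroup.mk_mul, QuotientGroup.mk_inv, mul_inv_eq_one]
      exact ((MulEquiv.ofBijective π hπ).apply_symm_apply _).symm
    let μ : T →* ℂˣ := MonoidHom.mk' (fun t : T => lam ⟨(t : G) * (sec t : G)⁻¹, hsec t⟩) (by
      intro t u
      have hst : (sec t : G) ∈ T := by
        have h := T.mul_mem (T.inv_mem (hNT (hsec t))) t.2
        simpa [mul_assoc] using h
      rw [show (⟨((t * u : T) : G) * (sec ((t * u : T) : G) : G)⁻¹, hsec _⟩ : N) =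
        ⟨(t : G) * (sec t : G)⁻¹, hsec t⟩ * ⟨(sec t : G) * ((u : G) * (sec u : G)⁻¹) * (sec t : G)⁻¹,
          hN.conj_mem _ (hsec u) _⟩ from Subtype.ext (by
            simp only [Subgroup.coe_mul, map_mul]; group),
        map_mul, hTinv _ hst ⟨_, hsec u⟩])
    have hμN : ∀ n : N, μ ⟨n, hNT n.2⟩ = lam n := fun n => by
      show lam _ = lam n
      congr 1
      refine Subtype.ext ?_
      show (n : G) * (sec n : G)⁻¹ = n
      rw [show sec n = 1 by
        show (MulEquiv.ofBijective π hπ).symm (QuotientGroup.mk' N n) = 1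
        rw [show QuotientGroup.mk' N (n : G) = 1 from (QuotientGroup.eq_one_iff _).mpr n.2, map_one],
        OneMemClass.coe_one, inv_one, mul_one]
    let NT := N.subgroupOf T
    have hlinT : ∀ β : Cfsg.IrrCharacter (T ⧸ NT),
        T.index * Cfsg.charDegree (β : T ⧸ NT → ℂ) = m := by
      intro β
      let ψ := twist (infl NT β) μ
      have hres : resTo hNT (ψ : T → ℂ) =
          (β : T ⧸ NT → ℂ) 1 • (θ : N → ℂ) := funext fun n => by
        show (twist (infl NT β) μ : T → ℂ) ⟨n, hNT n.2⟩ = _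
        rw [twist_apply, infl_ker NT β (Subgroup.mem_subgroupOf.mpr n.2), hμN]
        rw [infl_apply, QuotientGroup.mk_one]
        rfl
      have hirr := isIrr_indFun_of_over hN θ.2 (fun g => mem_inertia) hNT ψ.2 (by
        rw [hres, classInner_smul_left, classInner_irr_self, mul_one]
        exact IsIrr.apply_one_ne_zero β.2)
      have hd : Cfsg.charDegree (Cfsg.indFun T (ψ : T → ℂ)) =
          T.index * Cfsg.charDegree (β : T ⧸ NT → ℂ) := charDegree_eq_of_apply_one (by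
        rw [indFun_apply_one, Nat.cast_mul, ← cast_irrDegree, charDegree_twist, charDegree_infl])
      rcases hdeg ⟨_, hirr⟩ with h | h
      · rw [show Cfsg.charDegree ((⟨_, hirr⟩ : Cfsg.IrrCharacter G) : G → ℂ) = _ from hd] at h
        have := Nat.eq_one_of_mul_eq_one_right h
        omega
      · exact hd.symm.trans h
    have hTm : T.index = m := by
      have h := hlinT (trivChar (T ⧸ NT))
      rwa [show Cfsg.charDegree (trivChar (T ⧸ NT) : T ⧸ NT → ℂ) = 1 from
        charDegree_one, mul_one] at h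
    have hTab : ∀ a b : T ⧸ NT, a * b = b * a := comm_of_forall_linear fun β => by
      have h := hlinT β
      rw [hTm] at h
      exact (Nat.mul_eq_left (by omega)).mp h
    -- an abelian subgroup of small index in the quotient
    let T' : Subgroup (G ⧸ C) := T.map (QuotientGroup.mk' C)
    let U : Subgroup (G ⧸ C) := T' ⊔ Subgroup.zpowers (z : G ⧸ C)
    have hUab : ∀ a ∈ U, ∀ b ∈ U, a * b = b * a := by
      have hT'ab : ∀ a ∈ T', ∀ b ∈ T', a * b = b * a := by
        rintro _ ⟨t, ht, rfl⟩ _ ⟨u, hu, rfl⟩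
        rw [← map_mul, ← map_mul]
        refine QuotientGroup.eq.mpr (hNC ?_)
        have h := QuotientGroup.eq.mp (hTab ((⟨t, ht⟩ : T) : T ⧸ NT) ((⟨u, hu⟩ : T) : T ⧸ NT))
        exact Subgroup.mem_subgroupOf.mp h
      have hz : ∀ b : G ⧸ C, Commute (z : G ⧸ C) b := fun b =>
        (Subgroup.mem_center_iff.mp hzq b).symm
      have h1 : U ≤ Subgroup.centralizer (T' : Set (G ⧸ C)) := sup_le
        (fun u hu => Subgroup.mem_centralizer_iff.mpr fun w hw => hT'ab w hw u hu)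
        (Subgroup.zpowers_le.mpr (Subgroup.mem_centralizer_iff.mpr fun w _ => (hz w).eq.symm))
      have h2 : U ≤ Subgroup.centralizer (U : Set (G ⧸ C)) := sup_le
        (Subgroup.le_centralizer_iff.mp h1)
        (Subgroup.zpowers_le.mpr (Subgroup.mem_centralizer_iff.mpr fun w _ => (hz w).eq.symm))
      exact fun a ha b hb => (Subgroup.mem_centralizer_iff.mp (h2 ha) b hb).symm
    have hUidx : U.index < m := by
      have h1 : T'.index = T.index := Subgroup.index_map_eq _ (QuotientGroup.mk'_surjective C)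
        (by rwa [QuotientGroup.ker_mk'])
      rw [← hTm, ← h1]
      refine Subgroup.index_strictAnti (lt_of_le_of_ne le_sup_left fun h => hzT ?_)
      have hz' : (z : G ⧸ C) ∈ T' := h.symm ▸ le_sup_right (a := T') (Subgroup.mem_zpowers _)
      obtain ⟨t, ht, htz⟩ := hz'
      have h2 := T.mul_mem ht (hCT (QuotientGroup.eq.mp htz))
      rwa [mul_inv_cancel_left] at h2
    have hqab : ∀ a b : G ⧸ C, a * b = b * a := comm_of_forall_linear fun ψ => by
      rcases hdeg (infl C ψ) with h | h <;> rw [charDegree_infl] at h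
      · exact h
      · have := degree_le_index ψ U hUab
        omega
    intro x y
    rw [mul_assoc (x⁻¹ * y⁻¹), ← mul_inv_rev, ← QuotientGroup.eq, QuotientGroup.mk_mul,
      QuotientGroup.mk_mul]
    exact hqab _ _
  exact exists_index hdeg hAab hmax hLA hCne hcomm hext hcop'

/-- The structure theorem. -/
theorem structure_of_two_degrees
    (hdeg : ∀ χ : Cfsg.IrrCharacter G, Cfsg.charDegree (χ : G → ℂ) = 1 ∨
      Cfsg.charDegree (χ : G → ℂ) = m)
    (hm : ∃ χ : Cfsg.IrrCharacter G, Cfsg.charDegree (χ : G → ℂ) = m) (hm1 : m ≠ 1) :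
    (∃ A : Subgroup G, A.Normal ∧ (∀ a ∈ A, ∀ b ∈ A, a * b = b * a) ∧ A.index = m) ∨
      ∃ p e : ℕ, p.Prime ∧ m = p ^ e ∧ ∃ P A : Subgroup G, P.Normal ∧ A.Normal ∧ IsPGroup p P ∧
        (∀ a ∈ A, ∀ b ∈ A, a * b = b * a) ∧ P ⊓ A = ⊥ ∧ P ⊔ A = ⊤ := by
  by_cases hA : ∃ p k : ℕ, p.Prime ∧ ∃ N : Subgroup G, ∃ _ : N.Normal,
      (Nat.card N).Coprime p ∧ N.index = p ^ k ∧ ¬ ∀ a b : G ⧸ N, a * b = b * a
  · obtain ⟨p, k, hp, N, hN, h1, h2, h3⟩ := hA
    exact pgroup_case hdeg hp N h1 h2 h3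
  left
  have hcopm : (Nat.card (commutator G)).Coprime m := by
    refine Nat.coprime_of_dvd fun p hp hpG hpm => ?_
    obtain ⟨N, hN, h1, k, h2⟩ := Cfsg.Agent.S4456.result (G := G) p hp
      (fun χ hχ => by rw [(hdeg χ).resolve_left hχ]; exact hpm)
    have hle : commutator G ≤ N := by
      have hq : ∀ a b : G ⧸ N, a * b = b * a := by
        by_contra h3
        exact hA ⟨p, k, hp, N, hN, h1, h2, h3⟩
      rw [commutator_def, Subgroup.commutator_le]
      intro x _ y _
      rw [← QuotientGroup.eq_one_iff, commutatorElement_def]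
      simp only [QuotientGroup.mk_mul, QuotientGroup.mk_inv]
      rw [hq (x : G ⧸ N) y]
      group
    exact hp.ne_one (Nat.eq_one_of_dvd_coprimes h1
      (hpG.trans (Subgroup.card_dvd_of_le hle)) dvd_rfl)
  set A := commutator G with hAdef
  have hAab := comm_of_coprime hdeg A hcopm
  have hAne : A ≠ ⊥ := by
    intro h
    obtain ⟨χ, hχ⟩ := hm
    refine hm1 ?_
    rw [← hχ]
    refine charDegree_of_comm (fun a b => commutatorElement_eq_one_iff_mul_comm.mp ?_) χ
    rw [← Subgroup.mem_bot, ← h]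
    exact Subgroup.commutator_mem_commutator (Subgroup.mem_top a) (Subgroup.mem_top b)
  obtain ⟨L, hL, hLA, hmax⟩ := exists_maximal_lt hAne
  set C := secCent A L with hCdef
  have hcomA : ∀ x y : G, ⁅x, y⁆ ∈ A := fun x y =>
    Subgroup.commutator_mem_commutator (Subgroup.mem_top x) (Subgroup.mem_top y)
  have hAC : A ≤ C := fun g hg a ha => by
    rw [hAab g hg a ha, show a * g * g⁻¹ * a⁻¹ = 1 by group]; exact L.one_mem
  have hcomm : ∀ x y : G, x⁻¹ * y⁻¹ * x * y ∈ C := fun x y => hAC (by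
    have h := hcomA x⁻¹ y⁻¹
    rwa [commutatorElement_def, inv_inv, inv_inv] at h)
  have hne : C ≠ ⊤ := by
    intro h
    apply hLA.not_ge
    have hmap : commutator (G ⧸ L) = A.map (QuotientGroup.mk' L) := by
      rw [hAdef, commutator_def, commutator_def, Subgroup.map_commutator,
        Subgroup.map_top_of_surjective _ (QuotientGroup.mk'_surjective L)]
    have hcen : commutator (G ⧸ L) ≤ Subgroup.center (G ⧸ L) := by
      rw [hmap]
      rintro _ ⟨a, ha, rfl⟩
      rw [Subgroup.mem_center_iff]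
      intro q
      induction q using QuotientGroup.induction_on with
      | H g =>
        have hg : g ∈ C := h ▸ Subgroup.mem_top g
        have h1 := (QuotientGroup.eq_one_iff (N := L) _).mpr (hg a ha)
        simp only [QuotientGroup.mk_mul, QuotientGroup.mk_inv] at h1
        exact commutatorElement_eq_one_iff_mul_comm.mp h1
    have hab := comm_of_central (G := G ⧸ L) (m := m)
      (fun ψ => by simpa only [charDegree_infl] using hdeg (infl L ψ)) hcen
      (hcopm.coprime_dvd_left (hmap ▸ Subgroup.card_map_dvd _ _))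
    rw [hAdef, commutator_def, Subgroup.commutator_le]
    intro x _ y _
    rw [← QuotientGroup.eq_one_iff, commutatorElement_def]
    simp only [QuotientGroup.mk_mul, QuotientGroup.mk_inv]
    rw [hab (x : G ⧸ L) y]
    group
  have hext : ∀ a : C, (a : G) ∈ A → a ∈ commutator C ⊔ L.subgroupOf C → (a : G) ∈ L := by
    intro a _ haD
    refine Subgroup.mem_subgroupOf.mp ((sup_le ?_ le_rfl :
      commutator C ⊔ L.subgroupOf C ≤ L.subgroupOf C) haD)
    rw [commutator_def, Subgroup.commutator_le]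
    intro u _ v _
    rw [Subgroup.mem_subgroupOf,
      show ((⁅u, v⁆ : C) : G) = ⁅(u : G), (v : G)⁆ from map_commutatorElement C.subtype u v]
    obtain ⟨x, hx⟩ : ∃ x, x ∉ C := by
      by_contra h; push Not at h; exact hne (eq_top_iff.mpr fun g _ => h g)
    refine fpf_of_maximal hmax hLA.le hcomm x hx _ (hcomA _ _) ?_
    have cA : ∀ e ∈ A, ∀ w ∈ C, Commute (e : G ⧸ L) (w : G ⧸ L) := fun e he w hw => by
      have h := (QuotientGroup.eq_one_iff (N := L) _).mpr (hw e he)
      simp only [QuotientGroup.mk_mul, QuotientGroup.mk_inv] at h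
      exact (commutatorElement_eq_one_iff_mul_comm.mp h).symm
    rw [← QuotientGroup.eq_one_iff]
    simp only [commutatorElement_def, QuotientGroup.mk_mul, QuotientGroup.mk_inv]
    have e1 := hcomA x u
    have e2 := hcomA x v
    rw [commutatorElement_def] at e1 e2
    set a' := ((x * u * x⁻¹ * (u : G)⁻¹ : G) : G ⧸ L) with ha'
    set b' := ((x * v * x⁻¹ * (v : G)⁻¹ : G) : G ⧸ L) with hb'
    set c' := ((u : G) : G ⧸ L) with hc'
    set d' := ((v : G) : G ⧸ L) with hd'
    set x' := (x : G ⧸ L) with hx'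
    have k1 : x' * c' * x'⁻¹ = a' * c' := by
      simp only [ha', hc', hx', QuotientGroup.mk_mul, QuotientGroup.mk_inv]; group
    have k2 : x' * d' * x'⁻¹ = b' * d' := by
      simp only [hb', hd', hx', QuotientGroup.mk_mul, QuotientGroup.mk_inv]; group
    have c1 : Commute a' c' := cA _ e1 _ u.2
    have c2 : Commute a' d' := cA _ e1 _ v.2
    have c3 : Commute b' c' := cA _ e2 _ u.2
    have c4 : Commute b' d' := cA _ e2 _ v.2
    have c5 : Commute a' b' := cA _ e1 _ (hAC e2)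
    have m1 : Commute a' (c' * (b' * d') * c'⁻¹) :=
      (c1.mul_right (c5.mul_right c2)).mul_right c1.inv_right
    have m2 : Commute b' (c' * d' * c'⁻¹) := (c3.mul_right c4).mul_right c3.inv_right
    rw [show x' * (c' * d' * c'⁻¹ * d'⁻¹) * x'⁻¹ =
      (x' * c' * x'⁻¹) * (x' * d' * x'⁻¹) * (x' * c' * x'⁻¹)⁻¹ * (x' * d' * x'⁻¹)⁻¹ by group,
      k1, k2, mul_inv_eq_one]
    calc a' * c' * (b' * d') * (a' * c')⁻¹ * (b' * d')⁻¹
        = (a' * (c' * (b' * d') * c'⁻¹)) * a'⁻¹ * (d'⁻¹ * b'⁻¹) := by group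
      _ = (c' * b') * d' * c'⁻¹ * (d'⁻¹ * b'⁻¹) := by rw [m1.eq]; group
      _ = (b' * (c' * d' * c'⁻¹)) * (d'⁻¹ * b'⁻¹) := by rw [← c3.eq]; group
      _ = (c' * d' * c'⁻¹) * (b' * d'⁻¹) * b'⁻¹ := by rw [m2.eq]; group
      _ = c' * d' * c'⁻¹ * d'⁻¹ := by rw [c4.inv_right.eq]; group
  exact exists_index hdeg hAab hmax hLA hne hcomm hext
    (hcopm.coprime_dvd_left (Subgroup.index_dvd_card _))

end CfsgLib.TwoDegrees
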