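import Cfsg.Agent.Lib.CharDegree.Basic
import Cfsg.Agent.Lib.Char.CliffordRestrict
import Cfsg.Agent.Lib.Char.CliffordCorr
import Cfsg.Agent.Lib.Core.Cores

/-!
# Characters of norm one on `p`-singular elements

The restriction to a normal `p`-subgroup is the sum of all its nontrivial linear characters, and
the Fourier coefficients of a coset count the fixed linear characters.
-/

namespace CfsgLib.CharDegree.UnitValues

open Cfsg CfsgLib.Char CfsgLib.CharDegree CfsgLib.Clifford
open scoped ComplexConjugate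

variable {G : Type*} [Group G]

/-- A linear character as an irreducible character. -/
noncomputable def lin (l : G →* ℂˣ) : IrrCharacter G := ⟨_, isIrrCharacter_linear l⟩

theorem lin_injective : Function.Injective (lin (G := G)) := fun l m h =>
  MonoidHom.ext fun g => Units.ext (congrFun (congrArg Subtype.val h) g)

theorem lin_apply (l : G →* ℂˣ) (g : G) : (lin l : G → ℂ) g = (l g : ℂ) := rfl

theorem charDegree_lin (l : G →* ℂˣ) : charDegree (lin l : G → ℂ) = 1 :=
  charDegree_eq_of_apply_one (by simp [lin_apply])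

/-- The linear characters of an abelian group are all the irreducible ones. -/
theorem lin_bijective [Finite G] (hab : ∀ a b : G, a * b = b * a) :
    Function.Bijective (lin (G := G)) := by
  refine ⟨lin_injective, fun θ => ?_⟩
  obtain ⟨l, hl⟩ := exists_hom_of_degree_one θ (charDegree_of_comm hab θ)
  exact ⟨l, Subtype.ext (funext fun g => (lin_apply l g).trans (congrFun hl g).symm)⟩

theorem conj_hom [Finite G] (l : G →* ℂˣ) (g : G) : conj (l g : ℂ) = (l g⁻¹ : ℂ) :=
  ((IsIrr.map_inv (lin l).2 g)).symm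

theorem norm_hom [Finite G] (l : G →* ℂˣ) (g : G) : ‖(l g : ℂ)‖ = 1 :=
  Complex.norm_eq_one_of_pow_eq_one (n := Nat.card G)
    (by rw [← Units.val_pow_eq_pow_val, ← map_pow, pow_card_eq_one', map_one, Units.val_one])
    Nat.card_pos.ne'

/-- A character with norm one at the nontrivial elements of a normal `p`-group is, on it, the sum
of all nontrivial linear characters. -/
theorem restrict_spec [Finite G] {p : ℕ} [Fact p.Prime] (χ : IrrCharacter G)
    (hfaith : ∀ g : G, (χ : G → ℂ) g = (χ : G → ℂ) 1 → g = 1) (hnl : (χ : G → ℂ) 1 ≠ 1)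
    (P : Subgroup G) [hN : P.Normal] [Fintype P] (hP : IsPGroup p P) (hP0 : P ≠ ⊥)
    (hnorm : ∀ u : P, u ≠ 1 → ‖(χ : G → ℂ) u‖ = 1) :
    (∀ u v : P, u * v = v * u) ∧
      (χ : G → ℂ) 1 = (Nat.card P : ℂ) - 1 ∧
      classInner (fun u : P => (χ : G → ℂ) u) (trivChar P : P → ℂ) = 0 ∧
      (∀ l : P →* ℂˣ, l ≠ 1 → classInner (fun u : P => (χ : G → ℂ) u) (lin l : P → ℂ) = 1) ∧
      ∀ l m : P →* ℂˣ, l ≠ 1 → m ≠ 1 →
        ∃ g : G, ∀ u : P, (m u : ℂ) = (l (MulAut.conjNormal g u) : ℂ) := by
  classical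
  have := Fintype.ofFinite G
  have hp : p.Prime := Fact.out
  have := Fintype.ofFinite (IrrCharacter P)
  have : Fintype (P →* ℂˣ) := Fintype.ofInjective (lin (G := P)) lin_injective
  obtain ⟨k, hk⟩ := IsPGroup.iff_card.mp hP
  have hk0 : k ≠ 0 := fun h => hP0 (Subgroup.card_eq_one.mp (by rw [hk, h, pow_zero]))
  set c := charDegree (χ : G → ℂ) with hc
  have hc1 : c ≠ 1 := fun h => hnl ((charDegree_eq_one_iff χ).mp h)
  obtain ⟨θ, hθ⟩ := exists_constituent
    (IsChar.isClassFunction (IsChar.restrict P (IsIrr.isCharacter χ.2)))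
    (fun h => IsIrr.apply_one_ne_zero χ.2 (by simpa using congrFun h 1))
  obtain ⟨e, he⟩ := IsChar.classInner_eq_natCast (IsChar.restrict P (IsIrr.isCharacter χ.2))
    (IsIrr.isCharacter θ.2)
  have he0 : e ≠ 0 := fun h => hθ (by rw [he, h, Nat.cast_zero])
  set d := charDegree (θ : P → ℂ) with hd
  set O := Finset.univ.image (conjFn hN (θ : P → ℂ)) with hO
  have hres : (fun u : P => (χ : G → ℂ) u) = (e : ℂ) • ∑ ψ ∈ O, ψ := by
    rw [← he]; exact restrict_eq_smul_orbit_sum hN χ.2 θ.2 hθ
  have hOone : ∀ ψ ∈ O, ψ 1 = (θ : P → ℂ) 1 := fun ψ hψ => by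
    obtain ⟨g, -, rfl⟩ := Finset.mem_image.mp hψ
    rw [conjFn_apply]
    exact congrArg _ (Subtype.ext (by simp))
  have hdeg : c = e * (O.card * d) := by
    apply Nat.cast_injective (R := ℂ)
    push_cast
    rw [hc, hd, cast_irrDegree, cast_irrDegree]
    have h := congrFun hres 1
    simp only [OneMemClass.coe_one, Pi.smul_apply, Finset.sum_apply, smul_eq_mul] at h
    rw [h, Finset.sum_congr rfl hOone, Finset.sum_const, nsmul_eq_mul]
  have hnorm2 : (c : ℂ) * c + (Nat.card P - 1 : ℕ) = (Nat.card P : ℂ) * (e * e * O.card) := by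
    have h1 : classInner (fun u : P => (χ : G → ℂ) u) (fun u : P => (χ : G → ℂ) u) =
        (e : ℂ) * e * O.card := by
      rw [hres, classInner_smul_left, classInner_smul_right, map_natCast, classInner_sum_left,
        mul_assoc]
      congr 2
      rw [Finset.card_eq_sum_ones, Nat.cast_sum]
      refine Finset.sum_congr rfl fun ψ hψ => ?_
      rw [classInner_sum_right, Finset.sum_eq_single ψ ?_ (fun h => absurd hψ h)]
      · obtain ⟨g, -, rfl⟩ := Finset.mem_image.mp hψ
        simpa using classInner_irr_self (⟨_, isIrrCharacter_conjFn hN θ.2 g⟩ : IrrCharacter P)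
      · intro φ hφ hne
        obtain ⟨g, -, rfl⟩ := Finset.mem_image.mp hψ
        obtain ⟨g', -, rfl⟩ := Finset.mem_image.mp hφ
        exact classInner_irr_of_ne (χ := ⟨_, isIrrCharacter_conjFn hN θ.2 g⟩)
          (ψ := ⟨_, isIrrCharacter_conjFn hN θ.2 g'⟩) fun h => hne (congrArg Subtype.val h).symm
    rw [← h1, classInner, mul_inv_cancel_left₀ (Nat.cast_ne_zero.mpr Nat.card_pos.ne' :
      (Nat.card P : ℂ) ≠ 0), ← Finset.add_sum_erase _ _ (Finset.mem_univ (1 : P))]
    congr 1
    · rw [OneMemClass.coe_one, ← cast_irrDegree, map_natCast]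
    · have hu1 : ∀ u ∈ Finset.univ.erase (1 : P),
          (χ : G → ℂ) (u : G) * conj ((χ : G → ℂ) (u : G)) = 1 := fun u hu => by
        rw [Complex.mul_conj, Complex.normSq_eq_norm_sq, hnorm u (Finset.ne_of_mem_erase hu)]
        simp
      rw [Finset.sum_congr rfl hu1, Finset.sum_const, nsmul_eq_mul, mul_one, Finset.card_erase_of_mem (Finset.mem_univ _),
        Finset.card_univ, Nat.card_eq_fintype_card]
  have hnat : c * c + (Nat.card P - 1) = Nat.card P * (e * e * O.card) := by exact_mod_cast hnorm2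
  -- the constituents are linear
  have hd1 : d = 1 := by
    obtain ⟨i, -, hi⟩ := (Nat.dvd_prime_pow hp).mp (hk ▸ charDegree_dvd_card θ)
    rcases Nat.eq_zero_or_pos i with rfl | hi0
    · simpa using hi
    exfalso
    have hpd : p ∣ d := by rw [hd, hi]; exact dvd_pow_self p hi0.ne'
    have hpP : p ∣ Nat.card P := hk ▸ dvd_pow_self p hk0
    have h1 : p ∣ c * c + (Nat.card P - 1) := hnat ▸ hpP.mul_right _
    have h2 : p ∣ c := hdeg ▸ (hpd.mul_left _).mul_left _
    have h3 := (Nat.dvd_add_right (h2.mul_right c)).mp h1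
    have h4 := Nat.dvd_sub hpP h3
    rw [Nat.sub_sub_self Nat.card_pos] at h4
    exact hp.one_lt.ne' (Nat.dvd_one.mp h4)
  rw [hd1, mul_one] at hdeg
  -- the orbit consists of nontrivial linear characters
  have htriv : (trivChar P : P → ℂ) ∉ O := by
    intro h
    obtain ⟨g, -, hg⟩ := Finset.mem_image.mp h
    have hθ1 : ∀ u : P, (θ : P → ℂ) u = 1 := fun u => by
      have := congrFun hg ((MulAut.conjNormal g).symm u)
      simp only [trivChar_apply] at this
      rw [conjFn_apply] at this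
      rw [← this]
      exact congrArg _ (Subtype.ext (by simp [MulAut.conjNormal_symm_apply, mul_assoc]))
    apply hP0
    rw [Subgroup.eq_bot_iff_forall]
    intro x hx
    refine hfaith x ?_
    have h1 := congrFun hres ⟨x, hx⟩
    have h2 := congrFun hres 1
    simp only [OneMemClass.coe_one, Pi.smul_apply, Finset.sum_apply] at h1 h2
    rw [h1, h2]
    congr 1
    refine Finset.sum_congr rfl fun ψ hψ => ?_
    obtain ⟨g, -, rfl⟩ := Finset.mem_image.mp hψ
    rw [conjFn_apply, conjFn_apply, hθ1, hθ1]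
  set L := Finset.univ.image (fun l : P →* ℂˣ => (lin l : P → ℂ)) with hL
  have hOL : O ⊆ L.erase (trivChar P : P → ℂ) := fun ψ hψ => by
    refine Finset.mem_erase.mpr ⟨fun h => htriv (h ▸ hψ), ?_⟩
    obtain ⟨g, -, rfl⟩ := Finset.mem_image.mp hψ
    obtain ⟨l, hl⟩ := exists_hom_of_degree_one
      (⟨_, isIrrCharacter_conjFn hN θ.2 g⟩ : IrrCharacter P) (charDegree_eq_of_apply_one (n := 1) (by
        show conjFn hN (θ : P → ℂ) g 1 = _
        rw [hOone _ (Finset.mem_image.mpr ⟨g, Finset.mem_univ _, rfl⟩), ← cast_irrDegree, ← hd, hd1]))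
    refine Finset.mem_image.mpr ⟨l, Finset.mem_univ _, ?_⟩
    funext u
    rw [lin_apply]
    exact (congrFun hl u).symm
  have hLcard : L.card ≤ (commutator P).index := by
    rw [← card_linear, hL]
    refine le_trans Finset.card_image_le ?_
    rw [Finset.card_univ, ← Nat.card_eq_fintype_card]
    exact Nat.card_le_card_of_injective (fun l => ⟨lin l, charDegree_lin l⟩)
      fun a b h => lin_injective (congrArg Subtype.val h)
  have htrivL : (trivChar P : P → ℂ) ∈ L :=
    Finset.mem_image.mpr ⟨1, Finset.mem_univ _, funext fun u => by simp [lin_apply]⟩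
  have hidxle : (commutator P).index ≤ Nat.card P :=
    Nat.le_of_dvd Nat.card_pos (Subgroup.index_dvd_card _)
  have hOle : O.card + 1 ≤ L.card := by
    rw [← Finset.card_erase_add_one htrivL]
    exact Nat.add_le_add_right (Finset.card_le_card hOL) 1
  have hO1 : 1 ≤ O.card := Finset.card_pos.mpr ⟨_, Finset.mem_image.mpr ⟨1, Finset.mem_univ _, rfl⟩⟩
  -- the numerical consequence
  have hkey : e = 1 ∧ O.card + 1 = Nat.card P := by
    have hPpos := Nat.card_pos (α := P)
    obtain ⟨a, ha⟩ : ∃ a, Nat.card P = a + 1 := ⟨_, (Nat.succ_pred_eq_of_pos hPpos).symm⟩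
    rw [hdeg, ha, Nat.add_sub_cancel] at hnat
    have hta : O.card ≤ a := by omega
    obtain ⟨s, hs⟩ := Nat.exists_eq_add_of_le hta
    subst hs
    have hk1 : (O.card + s) = e * e * (O.card * (s + 1)) := by nlinarith [hnat]
    have h1 : O.card + s ≤ O.card * (s + 1) := by nlinarith
    have he1 : 1 ≤ e := Nat.one_le_iff_ne_zero.mpr he0
    have h2 : e = 1 := by
      by_contra hne
      have : 4 ≤ e * e := by nlinarith [show 2 ≤ e by omega]
      nlinarith
    subst h2
    rcases Nat.eq_zero_or_pos s with rfl | hs0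
    · exact ⟨rfl, by omega⟩
    · exfalso
      have ht1 : O.card = 1 := by nlinarith
      exact hc1 (by rw [hdeg, ht1])
  obtain ⟨he1, hOcard⟩ := hkey
  subst he1
  have hidx : (commutator P).index = Nat.card P := by omega
  have hab : ∀ u v : P, u * v = v * u := by
    have h2 : commutator P = ⊥ := by
      rw [← Subgroup.card_eq_one]
      have := (commutator P).card_mul_index
      rw [hidx] at this
      exact Nat.eq_of_mul_eq_mul_right Nat.card_pos (by rw [this, one_mul])
    intro u v
    rw [← commutatorElement_eq_one_iff_mul_comm, ← Subgroup.mem_bot, ← h2, commutator_def]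
    exact Subgroup.commutator_mem_commutator (Subgroup.mem_top u) (Subgroup.mem_top v)
  have hOeq : O = L.erase (trivChar P : P → ℂ) :=
    Finset.eq_of_subset_of_card_le hOL (by
      rw [Finset.card_erase_of_mem htrivL]; omega)
  have hmemO : ∀ l : P →* ℂˣ, l ≠ 1 → (lin l : P → ℂ) ∈ O := fun l hl => by
    rw [hOeq]
    refine Finset.mem_erase.mpr ⟨fun h => hl (lin_injective (Subtype.ext (h.trans ?_))),
      Finset.mem_image.mpr ⟨l, Finset.mem_univ _, rfl⟩⟩
    funext u; simp [lin_apply]
  have hcoef : ∀ φ : IrrCharacter P, classInner (fun u : P => (χ : G → ℂ) u) (φ : P → ℂ) =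
      if (φ : P → ℂ) ∈ O then 1 else 0 := fun φ => by
    rw [hres, Nat.cast_one, one_smul, classInner_sum_left]
    have hterm : ∀ ψ ∈ O, classInner ψ (φ : P → ℂ) = if ψ = (φ : P → ℂ) then 1 else 0 := by
      intro ψ hψ
      obtain ⟨g, -, rfl⟩ := Finset.mem_image.mp hψ
      have h := classInner_irr (⟨_, isIrrCharacter_conjFn hN θ.2 g⟩ : IrrCharacter P) φ
      simp only [Subtype.ext_iff] at h
      exact h
    rw [Finset.sum_congr rfl hterm, Finset.sum_ite_eq']
  refine ⟨hab, ?_, ?_, fun l hl => ?_, fun l m hl hm => ?_⟩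
  · rw [← cast_irrDegree, ← hc, hdeg, one_mul, eq_sub_iff_add_eq]
    exact_mod_cast hOcard
  · rw [hcoef, if_neg htriv]
  · rw [hcoef, if_pos (hmemO l hl)]
  · obtain ⟨g, -, hg⟩ := Finset.mem_image.mp (hmemO l hl)
    obtain ⟨g', -, hg'⟩ := Finset.mem_image.mp (hmemO m hm)
    refine ⟨g⁻¹ * g', fun u => ?_⟩
    have h1 := congrFun hg' u
    have h2 := congrFun hg (MulAut.conjNormal (g⁻¹ * g') u)
    rw [lin_apply, conjFn_apply] at h1
    rw [lin_apply, conjFn_apply] at h2
    rw [← h1, ← h2]
    exact congrArg _ (Subtype.ext (by simp [mul_assoc]))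

section Coeff

variable (P : Subgroup G) [hN : P.Normal] [Fintype P] {V : Type*} [AddCommGroup V] [Module ℂ V]
  [FiniteDimensional ℂ V] (ρ : Representation ℂ G V) (l : P →* ℂˣ)

/-- The projection on the weight space of `l`. -/
noncomputable def proj : Module.End ℂ V :=
  (Nat.card P : ℂ)⁻¹ • ∑ u : P, ((l u⁻¹ : ℂˣ) : ℂ) • ρ (u : G)

theorem proj_mul_proj : proj P ρ l * proj P ρ l = proj P ρ l := by
  classical
  have h0 : (Nat.card P : ℂ) ≠ 0 := Nat.cast_ne_zero.mpr Nat.card_pos.ne'
  have hsum : (∑ u : P, ((l u⁻¹ : ℂˣ) : ℂ) • ρ (u : G)) * (∑ u : P, ((l u⁻¹ : ℂˣ) : ℂ) • ρ (u : G)) =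
      (Nat.card P : ℂ) • ∑ u : P, ((l u⁻¹ : ℂˣ) : ℂ) • ρ (u : G) := by
    rw [Finset.sum_mul]
    have h : ∀ u : P, (((l u⁻¹ : ℂˣ) : ℂ) • ρ (u : G)) * (∑ v : P, ((l v⁻¹ : ℂˣ) : ℂ) • ρ (v : G)) =
        ∑ v : P, ((l v⁻¹ : ℂˣ) : ℂ) • ρ (v : G) := fun u => by
      rw [Finset.mul_sum]
      refine Fintype.sum_equiv (Equiv.mulLeft u) _ _ fun v => ?_
      rw [Equiv.coe_mulLeft, smul_mul_smul_comm, Subgroup.coe_mul, map_mul]
      congr 1
      rw [← Units.val_mul, ← map_mul, mul_inv_rev]
      congr 1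
      rw [map_mul, map_mul, mul_comm]
    rw [Finset.sum_congr rfl fun u _ => h u, Finset.sum_const, Finset.card_univ,
      Nat.card_eq_fintype_card, Nat.cast_smul_eq_nsmul]
  rw [proj, smul_mul_smul_comm, hsum, smul_smul]
  field_simp

theorem trace_mul_proj (a : G) :
    LinearMap.trace ℂ V (ρ a * proj P ρ l) =
      (Nat.card P : ℂ)⁻¹ * ∑ u : P, ((l u⁻¹ : ℂˣ) : ℂ) * ρ.character (a * u) := by
  rw [proj, mul_smul_comm, map_smul, smul_eq_mul, Finset.mul_sum, map_sum]
  congr 1
  refine Finset.sum_congr rfl fun u _ => ?_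
  rw [mul_smul_comm, map_smul, smul_eq_mul, ← map_mul]
  rfl

theorem finrank_range_proj [Finite G] :
    (Module.finrank ℂ (LinearMap.range (proj P ρ l)) : ℂ) =
      classInner (fun u : P => ρ.character u) (lin l : P → ℂ) := by
  classical
  have hproj : LinearMap.IsProj (LinearMap.range (proj P ρ l)) (proj P ρ l) :=
    ⟨fun x => LinearMap.mem_range_self _ x, fun x hx => by
      obtain ⟨y, rfl⟩ := LinearMap.mem_range.mp hx
      exact LinearMap.congr_fun (proj_mul_proj P ρ l) y⟩
  rw [← hproj.trace, ← one_mul (proj P ρ l), ← map_one ρ, trace_mul_proj, classInner]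
  congr 1
  refine Finset.sum_congr rfl fun u _ => ?_
  rw [one_mul, lin_apply, conj_hom, mul_comm]

/-- An element fixing `l` acts on a one-dimensional weight space as a scalar of norm one. -/
theorem scalar_on_range [Finite G]
    (hrank : classInner (fun u : P => ρ.character u) (lin l : P → ℂ) = 1) {a : G}
    (hfix : ∀ u : P, l (MulAut.conjNormal a u) = l u) :
    ∃ z : ℂ, ‖z‖ = 1 ∧ ρ a * proj P ρ l = z • proj P ρ l ∧ LinearMap.trace ℂ V (ρ a * proj P ρ l) = z := by
  classical
  have hr : Module.finrank ℂ (LinearMap.range (proj P ρ l)) = 1 := by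
    exact_mod_cast (finrank_range_proj P ρ l).trans hrank
  have hcomm : ρ a * proj P ρ l = proj P ρ l * ρ a := by
    rw [proj, mul_smul_comm, smul_mul_assoc, Finset.mul_sum, Finset.sum_mul]
    congr 1
    refine Fintype.sum_equiv (MulAut.conjNormal a : P ≃* P).toEquiv _ _ fun u => ?_
    rw [MulEquiv.toEquiv_eq_coe, EquivLike.coe_coe, mul_smul_comm, smul_mul_assoc, ← map_mul,
      ← map_mul, ← map_inv, hfix, MulAut.conjNormal_apply]
    congr 2
    group
  obtain ⟨⟨v, hv⟩, hv0, hspan⟩ := finrank_eq_one_iff'.mp hr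
  have hav : ρ a v ∈ LinearMap.range (proj P ρ l) := by
    obtain ⟨w, rfl⟩ := LinearMap.mem_range.mp hv
    exact ⟨ρ a w, (LinearMap.congr_fun hcomm w).symm⟩
  obtain ⟨z, hz⟩ := hspan ⟨_, hav⟩
  have hz' : ρ a v = z • v := (congrArg Subtype.val hz).symm
  have hpow : ∀ j : ℕ, ρ (a ^ j) v = z ^ j • v := by
    intro j
    induction j with
    | zero => simp
    | succ j ih =>
      rw [pow_succ', map_mul, Module.End.mul_apply, ih, map_smul, hz', smul_smul, pow_succ]
  have hz1 : ‖z‖ = 1 := by
    refine Complex.norm_eq_one_of_pow_eq_one (n := orderOf a) ?_ (orderOf_pos a).ne'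
    have h := hpow (orderOf a)
    rw [pow_orderOf_eq_one, map_one, Module.End.one_apply] at h
    refine smul_left_injective ℂ (m := v) (fun h0 => hv0 (Subtype.ext h0)) ?_
    show z ^ orderOf a • v = (1 : ℂ) • v
    rw [one_smul, ← h]
  have heq : ρ a * proj P ρ l = z • proj P ρ l := LinearMap.ext fun x => by
    obtain ⟨c, hc⟩ := hspan ⟨_, LinearMap.mem_range_self (proj P ρ l) x⟩
    have hc' : proj P ρ l x = c • v := (congrArg Subtype.val hc).symm
    rw [Module.End.mul_apply, LinearMap.smul_apply, hc', map_smul, hz', smul_comm]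
  refine ⟨z, hz1, heq, ?_⟩
  have hproj : LinearMap.IsProj (LinearMap.range (proj P ρ l)) (proj P ρ l) :=
    ⟨fun x => LinearMap.mem_range_self _ x, fun x hx => by
      obtain ⟨y, rfl⟩ := LinearMap.mem_range.mp hx
      exact LinearMap.congr_fun (proj_mul_proj P ρ l) y⟩
  rw [heq, map_smul, hproj.trace, hr, Nat.cast_one, smul_eq_mul, mul_one]

end Coeff

/-- Parseval on a coset of `P`: the mean square of `χ` is the number of fixed nontrivial linear
characters. -/
theorem parseval [Finite G] (χ : IrrCharacter G) (P : Subgroup G) [hN : P.Normal] [Fintype P]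
    [Fintype (P →* ℂˣ)]
    (hab : ∀ u v : P, u * v = v * u)
    (h1 : classInner (fun u : P => (χ : G → ℂ) u) (trivChar P : P → ℂ) = 0)
    (hl : ∀ l : P →* ℂˣ, l ≠ 1 → classInner (fun u : P => (χ : G → ℂ) u) (lin l : P → ℂ) = 1)
    (a : G) :
    ∑ u : P, Complex.normSq ((χ : G → ℂ) (a * u)) = (Nat.card P : ℝ) *
      (Nat.card {l : P →* ℂˣ // l ≠ 1 ∧ ∀ u : P, l (MulAut.conjNormal a u) = l u} : ℝ) := by
  classical
  have := Fintype.ofFinite G
  have := Fintype.ofFinite (IrrCharacter P)
  obtain ⟨n, ρ, -, hρ, -⟩ := exists_rep χ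
  rw [← hρ] at h1 hl ⊢
  set f : P → ℂ := fun u => ρ.character (a * u) with hf
  have hcf : IsClassFunction P f := isClassFunction_iff_isConj.mpr fun x y h => by
    obtain ⟨c, hc⟩ := isConj_iff.mp h
    rw [hab c x, mul_inv_cancel_right] at hc
    rw [hc]
  have hN0 : (Nat.card P : ℂ) ≠ 0 := Nat.cast_ne_zero.mpr Nat.card_pos.ne'
  have hcoef : ∀ l : P →* ℂˣ, classInner f (lin l : P → ℂ) =
      LinearMap.trace ℂ _ (ρ a * proj P ρ l) := fun l => by
    rw [trace_mul_proj, classInner]
    congr 1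
    exact Finset.sum_congr rfl fun u _ => by rw [lin_apply, conj_hom, mul_comm]
  have hzero : ∀ l : P →* ℂˣ, ¬ (l ≠ 1 ∧ ∀ u : P, l (MulAut.conjNormal a u) = l u) →
      classInner f (lin l : P → ℂ) = 0 := by
    intro l hnot
    by_cases hl1 : l = 1
    · rw [hcoef]
      have hr : Module.finrank ℂ (LinearMap.range (proj P ρ l)) = 0 := by
        have h := finrank_range_proj P ρ l
        rw [show (lin l : P → ℂ) = (trivChar P : P → ℂ) from funext fun u => by
          rw [lin_apply, hl1]; simp, h1] at h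
        exact_mod_cast h
      rw [Submodule.finrank_eq_zero, LinearMap.range_eq_bot] at hr
      rw [hr, mul_zero, map_zero]
    · push Not at hnot
      obtain ⟨v₀, hv₀⟩ := hnot hl1
      obtain ⟨v, hv⟩ : ∃ v : P, l v ≠ l (MulAut.conjNormal a⁻¹ v) := ⟨MulAut.conjNormal a v₀, by
        rw [show MulAut.conjNormal a⁻¹ (MulAut.conjNormal a v₀) = v₀ from Subtype.ext (by
          simp [MulAut.conjNormal_apply, mul_assoc])]
        exact hv₀⟩
      -- translate by a commutator
      obtain ⟨w, hw⟩ : ∃ w : P, w = v⁻¹ * MulAut.conjNormal a⁻¹ v := ⟨_, rfl⟩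
      have hinv : ∀ u : P, f (w * u) = f u := fun u => by
        show ρ.character (a * ((w * u : P) : G)) = ρ.character (a * u)
        rw [show w * u = MulAut.conjNormal a⁻¹ v * u * v⁻¹ by
          rw [hw]
          calc v⁻¹ * MulAut.conjNormal a⁻¹ v * u = v⁻¹ * (MulAut.conjNormal a⁻¹ v * u) :=
                mul_assoc _ _ _
            _ = _ := hab _ _]
        rw [← ρ.char_conj (a * (u : G)) (v : G)]
        congr 1
        simp only [Subgroup.coe_mul, Subgroup.coe_inv, MulAut.conjNormal_apply, inv_inv]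
        group
      have hlw : (l w : ℂ) ≠ 1 := fun h => by
        have h' : l w = 1 := Units.ext h
        rw [hw, map_mul, map_inv, inv_mul_eq_one] at h'
        exact hv h'
      have hc : classInner f (lin l : P → ℂ) = (l w : ℂ)⁻¹ * classInner f (lin l : P → ℂ) := by
        simp only [classInner]
        rw [← mul_assoc, mul_comm ((l w : ℂ)⁻¹), mul_assoc]
        congr 1
        rw [Finset.mul_sum]
        refine (Fintype.sum_equiv (Equiv.mulLeft w) _ _ fun u => ?_).symm
        rw [Equiv.coe_mulLeft, hinv, lin_apply, lin_apply, conj_hom, conj_hom, mul_inv_rev,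
          map_mul, Units.val_mul, map_inv l w, Units.val_inv_eq_inv_val]
        ring
      by_contra hne
      have h' := mul_right_cancel₀ hne ((one_mul _).trans hc)
      exact hlw (inv_eq_one.mp h'.symm)
  have hone : ∀ l : P →* ℂˣ, (l ≠ 1 ∧ ∀ u : P, l (MulAut.conjNormal a u) = l u) →
      Complex.normSq (classInner f (lin l : P → ℂ)) = 1 := fun l h => by
    obtain ⟨z, hz, -, ht⟩ := scalar_on_range P ρ l (hl l h.1) h.2
    rw [hcoef, ht, Complex.normSq_eq_norm_sq, hz, one_pow]
  have h := classInner_eq_sum hcf f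
  rw [← (Equiv.ofBijective _ (lin_bijective hab)).sum_comp] at h
  have h' : classInner f f = ((Nat.card {l : P →* ℂˣ // l ≠ 1 ∧
      ∀ u : P, l (MulAut.conjNormal a u) = l u} : ℕ) : ℂ) := by
    rw [h, Nat.card_eq_fintype_card, Fintype.card_subtype, Finset.natCast_card_filter]
    refine Finset.sum_congr rfl fun l _ => ?_
    show classInner f (lin l : P → ℂ) * conj (classInner f (lin l : P → ℂ)) = _
    rw [Complex.mul_conj]
    by_cases hh : l ≠ 1 ∧ ∀ u : P, l (MulAut.conjNormal a u) = l u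
    · rw [if_pos hh, hone l hh, Complex.ofReal_one]
    · rw [if_neg hh, hzero l hh, map_zero, Complex.ofReal_zero]
  have h2 : ((∑ u : P, Complex.normSq (f u) : ℝ) : ℂ) = (Nat.card P : ℂ) * classInner f f := by
    rw [classInner, mul_inv_cancel_left₀ hN0, Complex.ofReal_sum]
    exact Finset.sum_congr rfl fun u _ => (Complex.mul_conj _).symm
  rw [h'] at h2
  exact_mod_cast h2

end CfsgLib.CharDegree.UnitValues
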