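import Cfsg.Agent.Lib.CharDegree.SquarefreeSolvable
import Cfsg.Agent.Lib.Char.Primitive.FixedAverage

/-!
# Solvable groups with few vanishing `p`-singular elements

An element moving every conjugate of a linear character of the Fitting subgroup is vanishing.  If the
vanishing `p`-singular elements of a solvable group with trivial `p`-core are `p`-elements none of
which has a vanishing `p`-th power, the Sylow `p`-subgroups have order at most `p`.
-/

set_option autoImplicit false

namespace CfsgLib.CharDegree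

open CfsgLib.Char
open scoped Classical

universe u

/-- Some irreducible character vanishes at the element. -/
def IsVanishingAt {G : Type u} [Group G] (x : G) : Prop :=
  ∃ χ : Cfsg.IrrCharacter G, (χ : G → ℂ) x = 0

/-- The hypothesis inherited by quotients. -/
def VanishHyp (p : ℕ) (G : Type u) [Group G] : Prop :=
  (∀ x y : G, IsVanishingAt x → IsVanishingAt y → p ∣ orderOf y → (∃ k, 0 < k ∧ orderOf x = p ^ k) →
      ∃ k, orderOf y = p ^ k) ∧
    ∀ x : G, IsVanishingAt x → IsVanishingAt (x ^ p) → ¬ p ∣ orderOf (x ^ p)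

theorem exists_pElement_lift {G H : Type*} [Group G] [Finite G] [Group H] (f : G →* H)
    (hf : Function.Surjective f) {p : ℕ} (hp : p.Prime) {y : H} {k : ℕ} (hy : orderOf y = p ^ k) :
    ∃ x : G, f x = y ∧ ∃ j, orderOf x = p ^ j := by
  obtain ⟨g, rfl⟩ := hf y
  obtain ⟨u, s, hus, hc0, hu, hs⟩ := CfsgLib.Blocks.exists_pPart hp g
  refine ⟨u, ?_, hu⟩
  obtain ⟨a, ha⟩ := hu
  obtain ⟨u', hu'⟩ : ∃ u', u' = f u := ⟨_, rfl⟩
  have h1 : orderOf (f s) ∣ orderOf s := orderOf_map_dvd f s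
  have hc : Commute (f u) (f (u * s)) := ((Commute.refl u).mul_right hc0).map f
  have h2 : orderOf (f s) ∣ p ^ (a + k) := by
    refine orderOf_dvd_of_pow_eq_one ?_
    have h : f s = (f u)⁻¹ * f (u * s) := by rw [map_mul, inv_mul_cancel_left]
    rw [h, hc.inv_left.mul_pow, hus, inv_pow, pow_add, pow_mul, ← map_pow, ← ha, pow_orderOf_eq_one,
      map_one, one_pow, inv_one, one_mul, mul_comm, pow_mul, ← hy, pow_orderOf_eq_one, one_pow]
  have h3 : f s = 1 := orderOf_eq_one_iff.1 (Nat.eq_one_of_dvd_coprimes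
    ((hp.coprime_iff_not_dvd.2 hs).pow_left (a + k)) h2 h1)
  rw [← hus, map_mul, h3, mul_one]

theorem IsVanishingAt.lift {G H : Type u} [Group G] [Group H] (f : G →* H)
    (hf : Function.Surjective f) {x : G} (h : IsVanishingAt (f x)) : IsVanishingAt x :=
  h.elim fun χ hχ => ⟨⟨_, IsIrr.comp_surjective f hf χ.2⟩, hχ⟩

theorem VanishHyp.map {G H : Type u} [Group G] [Finite G] [Group H] {p : ℕ} (hp : p.Prime)
    (f : G →* H) (hf : Function.Surjective f) (h : VanishHyp p G) : VanishHyp p H := by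
  refine ⟨fun x y hx hy hpy ⟨k, hk0, hk⟩ => ?_, fun x hx hxp hpx => ?_⟩
  · obtain ⟨x', rfl, j, hj⟩ := exists_pElement_lift f hf hp hk
    obtain ⟨y', rfl⟩ := hf y
    have hj0 : 0 < j := by
      rcases Nat.eq_zero_or_pos j with rfl | h0
      · rw [pow_zero] at hj
        rw [orderOf_eq_one_iff.1 hj, map_one, orderOf_one] at hk
        exact absurd hk.symm (Nat.one_lt_pow hk0.ne' hp.one_lt).ne'
      · exact h0
    obtain ⟨i, hi⟩ := h.1 x' y' (hx.lift f hf) (hy.lift f hf) (hpy.trans (orderOf_map_dvd f y'))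
      ⟨j, hj0, hj⟩
    obtain ⟨i', -, hi'⟩ := (Nat.dvd_prime_pow hp).1 (hi ▸ orderOf_map_dvd f y')
    exact ⟨i', hi'⟩
  · obtain ⟨x', rfl⟩ := hf x
    rw [← map_pow] at hxp hpx
    exact h.2 x' (hx.lift f hf) (hxp.lift f hf) (hpx.trans (orderOf_map_dvd f _))

variable {G : Type u} [Group G] [Fintype G]

/-- Moving every conjugate of a linear character of a normal subgroup forces a zero. -/
theorem isVanishingAt_of_moved (F : Subgroup G) [F.Normal] (μ : F →* ℂˣ) {x : G}
    (h : ∀ g : G, dualAct F (g * x * g⁻¹) μ ≠ μ) : IsVanishingAt x := by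
  haveI := Fintype.ofFinite F
  obtain ⟨θ, hθ⟩ : ∃ θ : Cfsg.IrrCharacter F, (θ : F → ℂ) = fun y => (μ y : ℂ) :=
    ⟨⟨_, isIrrCharacter_linear μ⟩, rfl⟩
  have hF : F.Normal := inferInstance
  obtain ⟨χ, hχ⟩ := CfsgLib.ThreeDegrees.exists_over F θ
  obtain ⟨ψ, -, -, -, hind⟩ := Clifford.exists_over_inertia hF θ.2
    (T := Clifford.inertia hF (θ : F → ℂ)) (fun g => Clifford.mem_inertia)
    (Clifford.le_inertia hF (IsIrr.isClassFunction θ.2)) χ hχ
  refine ⟨χ, ?_⟩
  rw [← hind, Cfsg.indFun]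
  refine mul_eq_zero_of_right _ (Finset.sum_eq_zero fun z _ => ?_)
  refine extendByZero_of_notMem _ _ fun hz => h z⁻¹ ?_
  rw [inv_inv]
  set t := z⁻¹ * x * z
  have hfix : dualAct F t⁻¹ μ = μ := MonoidHom.ext fun y => Units.ext (by
    have h := congrFun (Clifford.mem_inertia.1 hz) y
    rw [Clifford.conjFn_apply, hθ] at h
    rw [dualAct_apply, inv_inv]
    exact h)
  conv_lhs => rw [← hfix, ← MulAut.mul_apply, ← map_mul, mul_inv_cancel, map_one]
  rfl

/-- An element of order prime to `|F|` fixing all linear characters centralises the nilpotent `F`. -/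
theorem mem_centralizer_of_dual_fixed (F : Subgroup G) [F.Normal] (hF : Group.IsNilpotent F) {x : G}
    (hcop : (orderOf x).Coprime (Nat.card F)) (h : dualAct F x = 1) :
    x ∈ Subgroup.centralizer (F : Set G) := by
  haveI := hF
  refine CfsgLib.Core.centralizes_of_centralizes_frattini_quotient
    (A := Subgroup.zpowers x) (le_top.trans (Subgroup.normalizer_eq_top (H := F)).ge)
    ?_ ?_ (Subgroup.mem_zpowers x)
  · rw [Nat.card_zpowers]
    exact hcop.coprime_dvd_right (Subgroup.card_subgroup_dvd_card _)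
  · intro y hy k hk
    have hy' : dualAct F y⁻¹ = 1 := by
      obtain ⟨i, rfl⟩ := hy
      rw [map_inv, map_zpow, h, one_zpow, inv_one]
    refine ⟨(MulAut.conjNormal y : MulAut F) ⟨k, hk⟩ * (⟨k, hk⟩ : F)⁻¹,
      CfsgLib.PGroups.commutator_le_frattini
        (mem_commutator_of_forall_hom fun ν => ?_), by simp [MulAut.conjNormal_apply]⟩
    rw [map_mul, map_inv, mul_inv_eq_one]
    have h' := DFunLike.congr_fun (DFunLike.congr_fun hy' ν) ⟨k, hk⟩
    rwa [dualAct_apply, inv_inv] at h'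

/-- An element fixing a nontrivial linear character centralises a nontrivial element. -/
theorem exists_commute_of_fixed (F : Subgroup G) [F.Normal] {x : G}
    (hcop : (orderOf x).Coprime (Nat.card F)) {v : F →* ℂˣ} (hv : v ≠ 1) (h : dualAct F x v = v) :
    ∃ f : F, f ≠ 1 ∧ Commute x (f : G) := by
  by_contra hno
  push Not at hno
  let κ : F → F := fun y => (MulAut.conjNormal x : MulAut F) y * y⁻¹
  have hinv : dualAct F x⁻¹ v = v := by
    conv_lhs => rw [← h, ← MulAut.mul_apply, ← map_mul, inv_mul_cancel, map_one]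
    rfl
  have hinj : Function.Injective κ := by
    intro a b hab
    by_contra hne
    refine hno (b⁻¹ * a) (fun h1 => hne (inv_mul_eq_one.1 h1).symm) ?_
    have h1 := congrArg Subtype.val hab
    simp only [κ, Subgroup.coe_mul, Subgroup.coe_inv, MulAut.conjNormal_apply] at h1
    show x * ((b⁻¹ * a : F) : G) = ((b⁻¹ * a : F) : G) * x
    simp only [Subgroup.coe_mul, Subgroup.coe_inv]
    calc x * ((b : G)⁻¹ * a) = (b : G)⁻¹ * ((b : G) * x * (b : G)⁻¹ * x⁻¹) * (x * a * x⁻¹ * (a : G)⁻¹) * a * x := by group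
      _ = (b : G)⁻¹ * ((b : G) * x * (b : G)⁻¹ * x⁻¹) * (x * b * x⁻¹ * (b : G)⁻¹) * a * x := by rw [h1]
      _ = (b : G)⁻¹ * a * x := by group
  refine hv (MonoidHom.ext fun y => ?_)
  obtain ⟨a, rfl⟩ := Finite.surjective_of_injective hinj y
  show v (κ a) = 1
  simp only [κ]
  rw [map_mul, map_inv, mul_inv_eq_one]
  have h' := DFunLike.congr_fun hinv a
  rwa [dualAct_apply, inv_inv] at h'

theorem one_lt_card_Fx_bound {p : ℕ} (hp : p.Prime) {c : ℕ} (hc : p + 1 ≤ c) :
    p * (p - 1) * c < c ^ p := by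
  obtain ⟨q, rfl⟩ : ∃ q, p = q + 2 := ⟨p - 2, by have := hp.two_le; omega⟩
  rw [pow_succ, show q + 2 - 1 = q + 1 by omega]
  refine Nat.mul_lt_mul_of_pos_right ?_ (by omega)
  cases q with
  | zero => rw [pow_one]; omega
  | succ q =>
    calc (q + 1 + 2) * (q + 1 + 1) < c * c := Nat.mul_lt_mul_of_lt_of_le (by omega) (by omega) (by omega)
      _ = c ^ 2 := (sq c).symm
      _ ≤ c ^ (q + 1 + 1) := Nat.pow_le_pow_right (by omega) (by omega)

/-- An abelian group acting faithfully and coprimely on an abelian group has a regular orbit. -/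
theorem exists_regular_of_abelian {A V : Type*} [Group A] [Finite A] [CommGroup V] [Finite V]
    (hcomm : ∀ a b : A, a * b = b * a) (hcop : (Nat.card A).Coprime (Nat.card V)) (ρ : A →* MulAut V)
    (hfaith : ∀ a : A, a ≠ 1 → ∃ v, ρ a v ≠ v) : ∃ v : V, ∀ a : A, ρ a v = v → a = 1 := by
  haveI := Fintype.ofFinite A
  let stab : V → Finset A := fun v => Finset.univ.filter fun a => ρ a v = v
  obtain ⟨v, hv⟩ := Finite.exists_min fun v : V => (stab v).card
  refine ⟨v, fun s hs => ?_⟩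
  by_contra hs1
  obtain ⟨u, hu⟩ := hfaith s hs1
  let S : Subgroup A :=
    { carrier := {a | ρ a v = v}
      one_mem' := by simp
      mul_mem' := fun {a b} (ha : ρ a v = v) (hb : ρ b v = v) => by
        show ρ (a * b) v = v
        rw [map_mul, MulAut.mul_apply, hb, ha]
      inv_mem' := fun {a} (ha : ρ a v = v) => by
        show ρ a⁻¹ v = v
        conv_lhs => rw [← ha, ← MulAut.mul_apply, ← map_mul, inv_mul_cancel, map_one]
        rfl }
  have hcS : (Nat.card S).Coprime (Nat.card V) := hcop.coprime_dvd_left S.card_subgroup_dvd_card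
  have hinj : Function.Injective fun y : V => y ^ Nat.card S := (powCoprime hcS.symm).injective
  let Φ : V →* V :=
    { toFun := fun y => ∏ t : S, ρ (t : A) y
      map_one' := by simp
      map_mul' := fun a b => by simp [Finset.prod_mul_distrib] }
  have hfixΦ : ∀ y, (∀ t : S, ρ (t : A) y = y) → Φ y = y ^ Nat.card S := fun y hy => by
    show ∏ t : S, ρ (t : A) y = _
    rw [Finset.prod_congr rfl fun t _ => hy t, Finset.prod_const, Finset.card_univ,
      Nat.card_eq_fintype_card]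
  have hΦfix : ∀ y, ∀ t : S, ρ (t : A) (Φ y) = Φ y := fun y t => by
    show ρ (t : A) (∏ w : S, ρ (w : A) y) = ∏ w : S, ρ (w : A) y
    rw [map_prod]
    refine Fintype.prod_equiv (Equiv.mulLeft t) _ _ fun w => ?_
    rw [← MulAut.mul_apply, ← map_mul]
    rfl
  set w := u ^ Nat.card S / Φ u with hw
  have hΦw : Φ w = 1 := by
    rw [hw, map_div, map_pow, hfixΦ _ (hΦfix u), div_self']
  have hmove : ρ s w ≠ w := fun h => hu (by
    rw [hw, map_div, map_pow, hΦfix u ⟨s, hs⟩, div_left_inj] at h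
    exact hinj h)
  have hsub : stab (v * w) ⊆ (stab v).erase s := by
    intro a ha
    have ha' : ρ a (v * w) = v * w := (Finset.mem_filter.1 ha).2
    rw [map_mul] at ha'
    have hfixa : ∀ t : S, ρ (t : A) (ρ a v) = ρ a v := fun t => by
      rw [← MulAut.mul_apply, ← map_mul, hcomm, map_mul, MulAut.mul_apply]
      exact congrArg _ t.2
    have hc : ρ a v = v := by
      have h1 : Φ (ρ a w) = 1 := by
        show ∏ t : S, ρ (t : A) (ρ a w) = 1
        rw [Finset.prod_congr rfl (g := fun t : S => ρ a (ρ (t : A) w)) fun t _ => by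
          rw [← MulAut.mul_apply, ← map_mul, hcomm, map_mul, MulAut.mul_apply], ← map_prod]
        show ρ a (Φ w) = 1
        rw [hΦw, map_one]
      have h2 := congrArg Φ ha'
      rw [map_mul, map_mul, h1, hΦw, mul_one, mul_one, hfixΦ _ hfixa, hfixΦ v fun t => t.2] at h2
      exact hinj h2
    have hd : ρ a w = w := by rw [hc] at ha'; exact mul_left_cancel ha'
    exact Finset.mem_erase.2 ⟨fun h => hmove (h ▸ hd), Finset.mem_filter.2 ⟨Finset.mem_univ _, hc⟩⟩
  have h1 := (hv (v * w)).trans (Finset.card_le_card hsub)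
  have h2 : s ∈ stab v := Finset.mem_filter.2 ⟨Finset.mem_univ _, hs⟩
  exact absurd h1 (not_le.2 (Finset.card_erase_lt_of_mem h2))

/-- The noncyclic case: conjugates of one fixed space would cover the module. -/
theorem core_contradiction {H V : Type*} [Group H] [Finite H] [CommGroup V] [Finite V] {p : ℕ}
    (hp : p.Prime) {R : Subgroup H} [R.Normal] (hRp : IsPGroup p R) (ρ : H →* MulAut V)
    (hVne : ∃ v : V, v ≠ 1) (_hVp : ¬ p ∣ Nat.card V) {z : H}
    (hzZ : z ∈ R ⊓ Subgroup.centralizer (R : Set H)) (hzo : orderOf z = p)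
    (hZz : ∀ a ∈ R ⊓ Subgroup.centralizer (R : Set H), a ∈ Subgroup.zpowers z)
    (hcardZ : Nat.card (R ⊓ Subgroup.centralizer (R : Set H) : Subgroup H) = p)
    (hidx : R.index ∣ p - 1) (hRbig : p ^ 2 ∣ Nat.card R)
    (hZfree : ∀ a ∈ R ⊓ Subgroup.centralizer (R : Set H), a ≠ 1 → ∀ v, ρ a v = v → v = 1)
    (hlines : ∀ a b : H, a ^ p = 1 → b ^ p = 1 → Commute a b → (∀ v, ρ b v = v → v = 1) →
      (∀ i < p, ∀ v, ρ (a * b ^ i) v = v → v = 1) → False)
    (hnopow : ∀ h : H, (∃ k, orderOf h = p ^ k) → h ^ p ∈ R ⊓ Subgroup.centralizer (R : Set H) →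
      h ^ p = 1)
    {G : Type*} [Group G] {π : G →* H} {P : G → Prop}
    (hfree : ∀ h : H, (∃ k, orderOf h = p ^ k) → h ≠ 1 → (∀ x : G, π x = h → P x) →
      ∀ v, ρ h v = v → v = 1)
    (hπs : Function.Surjective π)
    (hnv : ∀ x : G, ¬ P x → ∀ v : V, ∃ g : G, ρ (π (g * x * g⁻¹)) v = v) : False := by
  haveI := Fact.mk hp
  set Z := R ⊓ Subgroup.centralizer (R : Set H) with hZdef
  have hzR : z ∈ R := hzZ.1
  have hzc : ∀ r ∈ R, Commute r z := fun r hr => (Subgroup.mem_centralizer_iff.1 hzZ.2 r hr)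
  -- an element of the second centre
  set Zs := Z.subgroupOf R with hZs
  haveI : Zs.Normal := Subgroup.Normal.subgroupOf inferInstance R
  haveI : Nontrivial (R ⧸ Zs) := by
    rw [← Finite.one_lt_card_iff_nontrivial, ← Subgroup.index_eq_card]
    have h1 := Zs.card_mul_index
    rw [Nat.card_congr (Subgroup.subgroupOfEquivOfLe (inf_le_left : Z ≤ R)).toEquiv, hcardZ] at h1
    by_contra hle
    have h2 := Nat.le_of_dvd Nat.card_pos hRbig
    have h3 : Zs.index ≠ 0 := Subgroup.index_ne_zero_of_finite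
    rw [show Zs.index = 1 by omega, mul_one] at h1
    rw [← h1, sq] at h2
    exact absurd h2 (not_le.2 (lt_mul_self hp.one_lt))
  haveI := (hRp.to_quotient Zs).center_nontrivial
  obtain ⟨⟨yq, hyq⟩, hyq1⟩ := exists_ne (1 : Subgroup.center (R ⧸ Zs))
  obtain ⟨⟨y, hyR⟩, rfl⟩ := QuotientGroup.mk_surjective yq
  have hyZ : y ∉ Z := fun h => hyq1 (Subtype.ext ((QuotientGroup.eq_one_iff _).2 h))
  have hcom : ∀ r ∈ R, r * y * r⁻¹ * y⁻¹ ∈ Z := by
    intro r hr
    have h := Subgroup.mem_center_iff.1 hyq ((⟨r, hr⟩ : R) : R ⧸ Zs)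
    rw [← QuotientGroup.mk_mul, ← QuotientGroup.mk_mul, QuotientGroup.eq] at h
    have h' : (((⟨r, hr⟩ : R) * ⟨y, hyR⟩)⁻¹ * (⟨y, hyR⟩ * ⟨r, hr⟩) : R) ∈ Zs := h
    have h2 := inv_mem (Subgroup.mem_subgroupOf.1 h')
    simp only [Subgroup.coe_mul, Subgroup.coe_inv, mul_inv_rev, inv_inv] at h2
    have h3 := (inferInstance : Z.Normal).conj_mem _ h2 (y * r)
    rwa [show y * r * (r⁻¹ * y⁻¹ * (r * y)) * (y * r)⁻¹ = r * y * r⁻¹ * y⁻¹ by group] at h3
  obtain ⟨k₀, hk₀⟩ := IsPGroup.iff_orderOf.1 hRp ⟨y, hyR⟩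
  rw [Subgroup.orderOf_mk] at hk₀
  -- `y ^ p = 1`
  have hyp1 : y ^ p = 1 := by
    refine hnopow y ⟨k₀, hk₀⟩ ⟨pow_mem hyR p, Subgroup.mem_centralizer_iff.2 fun r hr => ?_⟩
    obtain ⟨i, hi⟩ := Subgroup.mem_zpowers_iff.1 (hZz _ (hcom r hr))
    have hconj : r * y * r⁻¹ = z ^ i * y := by rw [hi, inv_mul_cancel_right]
    have hcomm : Commute (z ^ i) y := ((hzc y hyR).symm).zpow_left i
    have h1 : r * y ^ p * r⁻¹ = y ^ p := by
      rw [← conj_pow, hconj, hcomm.mul_pow, ← zpow_natCast (z ^ i) p, ← zpow_mul, mul_comm i,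
        zpow_mul, zpow_natCast, ← hzo, pow_orderOf_eq_one, one_zpow, one_mul]
    exact mul_inv_eq_iff_eq_mul.1 h1
  -- `y` is conjugate to all of `y z ^ i`
  obtain ⟨r₀, hr₀, hr₀y⟩ : ∃ r ∈ R, r * y * r⁻¹ = z * y := by
    obtain ⟨r, hr, hne⟩ : ∃ r ∈ R, r * y * r⁻¹ * y⁻¹ ≠ 1 := by
      by_contra h
      push Not at h
      exact hyZ ⟨hyR, Subgroup.mem_centralizer_iff.2 fun r hr =>
        mul_inv_eq_iff_eq_mul.1 (mul_inv_eq_one.1 (h r hr))⟩
    obtain ⟨i, hi⟩ := Subgroup.mem_zpowers_iff.1 (hZz _ (hcom r hr))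
    have hgen : z ∈ Subgroup.zpowers (z ^ i) := by
      have h1 : z ^ i ≠ 1 := hi ▸ hne
      have h2 : orderOf (z ^ i) = p := (hp.eq_one_or_self_of_dvd _
        (hzo ▸ orderOf_dvd_of_mem_zpowers (Subgroup.zpow_mem _ (Subgroup.mem_zpowers z) i))).resolve_left
        fun h => h1 (orderOf_eq_one_iff.1 h)
      rw [Subgroup.eq_of_le_of_card_ge (Subgroup.zpowers_le.2 (Subgroup.zpow_mem _ (Subgroup.mem_zpowers z) i))
        (by rw [Nat.card_zpowers, Nat.card_zpowers, hzo, h2])]
      exact Subgroup.mem_zpowers z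
    let T : Subgroup H :=
      { carrier := {w | w ∈ Z ∧ ∃ t ∈ R, t * y * t⁻¹ = w * y}
        one_mem' := ⟨Z.one_mem, 1, R.one_mem, by group⟩
        mul_mem' := fun {a b} ha hb => ⟨mul_mem ha.1 hb.1, by
          obtain ⟨t, ht, hta⟩ := ha.2
          obtain ⟨t', ht', htb⟩ := hb.2
          refine ⟨t * t', mul_mem ht ht', ?_⟩
          calc t * t' * y * (t * t')⁻¹ = t * (t' * y * t'⁻¹) * t⁻¹ := by group
            _ = (t * b * t⁻¹) * (t * y * t⁻¹) := by rw [htb]; group
            _ = b * (a * y) := by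
              rw [hta, Subgroup.mem_centralizer_iff.1 hb.1.2 t ht, mul_inv_cancel_right]
            _ = a * b * y := by
              rw [← mul_assoc, ← Subgroup.mem_centralizer_iff.1 hb.1.2 a ha.1.1]⟩
        inv_mem' := fun {a} ha => ⟨inv_mem ha.1, by
          obtain ⟨t, ht, hta⟩ := ha.2
          refine ⟨t⁻¹, inv_mem ht, ?_⟩
          have hc := Subgroup.mem_centralizer_iff.1 ha.1.2 t⁻¹ (inv_mem ht)
          calc t⁻¹ * y * t⁻¹⁻¹ = a⁻¹ * (a * t⁻¹) * y * t := by group
            _ = a⁻¹ * t⁻¹ * (a * y) * t := by rw [← hc]; group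
            _ = a⁻¹ * y := by rw [← hta]; group⟩ }
    have hT : z ^ i ∈ T := ⟨zpow_mem hzZ i, r, hr, by rw [hi, inv_mul_cancel_right]⟩
    exact ((Subgroup.zpowers_le.2 hT) hgen).2
  have hzf : ∀ v, ρ z v = v → v = 1 :=
    hZfree z hzZ fun h => hp.ne_one (by rw [← hzo, h, orderOf_one])
  let C : Subgroup V := Char.Primitive.Fx (ρ y)
  have hconjcard : ∀ h : H, Nat.card (Char.Primitive.Fx (ρ (h * y * h⁻¹))) = Nat.card C := fun h =>
    Nat.card_congr
      { toFun := fun v => ⟨ρ h⁻¹ v.1, by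
          have hv : ρ (h * y * h⁻¹) v.1 = v.1 := v.2
          rw [Char.Primitive.mem_Fx, ← MulAut.mul_apply, ← map_mul]
          conv_rhs => rw [← hv, ← MulAut.mul_apply, ← map_mul,
            show h⁻¹ * (h * y * h⁻¹) = y * h⁻¹ by group]⟩
        invFun := fun v => ⟨ρ h v.1, by
          have hv : ρ y v.1 = v.1 := v.2
          rw [Char.Primitive.mem_Fx, ← MulAut.mul_apply, ← map_mul,
            show h * y * h⁻¹ * h = h * y by group, map_mul, MulAut.mul_apply, hv]⟩
        left_inv := fun v => Subtype.ext (show ρ h (ρ h⁻¹ v.1) = v.1 by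
          rw [← MulAut.mul_apply, ← map_mul, mul_inv_cancel, map_one]; rfl)
        right_inv := fun v => Subtype.ext (show ρ h⁻¹ (ρ h v.1) = v.1 by
          rw [← MulAut.mul_apply, ← map_mul, inv_mul_cancel, map_one]; rfl) }
  have hyz : Commute y z := hzc y hyR
  have hconjpow : ∀ i : ℕ, ∃ h : H, h * y * h⁻¹ = y * z ^ i := by
    intro i
    induction i with
    | zero => exact ⟨1, by group⟩
    | succ i ih =>
      obtain ⟨h, hh⟩ := ih
      refine ⟨r₀ * h, ?_⟩
      calc r₀ * h * y * (r₀ * h)⁻¹ = r₀ * (h * y * h⁻¹) * r₀⁻¹ := by group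
        _ = (r₀ * y * r₀⁻¹) * (r₀ * z ^ i * r₀⁻¹) := by rw [hh]; group
        _ = y * z ^ (i + 1) := by
          rw [hr₀y, ((hzc r₀ hr₀).pow_right i).eq, mul_inv_cancel_right, ← hyz.eq, mul_assoc, pow_succ']
  -- `y` has a fixed point
  have hC : C ≠ ⊥ := by
    intro hC
    refine hlines y z hyp1 (by rw [← hzo, pow_orderOf_eq_one]) hyz hzf fun i _ v hv => ?_
    obtain ⟨h, hh⟩ := hconjpow i
    have h1 : Nat.card (Char.Primitive.Fx (ρ (y * z ^ i))) = 1 := by
      rw [← hh, hconjcard, hC, Subgroup.card_bot]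
    have hv' : v ∈ Char.Primitive.Fx (ρ (y * z ^ i)) := hv
    rwa [Subgroup.card_eq_one.1 h1, Subgroup.mem_bot] at hv'
  -- hence `y` does not vanish and every point is fixed by a conjugate
  obtain ⟨x, hxy, hxP⟩ : ∃ x, π x = y ∧ ¬ P x := by
    by_contra h
    push Not at h
    refine hC ((Subgroup.eq_bot_iff_forall _).2 fun v hv => hfree y ⟨k₀, hk₀⟩ ?_ h v hv)
    rintro rfl
    exact hyZ Z.one_mem
  have hcover : ∀ v : V, ∃ h : H, ρ (h * y * h⁻¹) v = v := fun v => by
    obtain ⟨g, hg⟩ := hnv x hxP v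
    have h : π (g * x * g⁻¹) = π g * y * (π g)⁻¹ := by rw [map_mul, map_mul, map_inv, hxy]
    exact ⟨π g, by rwa [h] at hg⟩
  -- counting
  set N := Subgroup.centralizer ({y} : Set H)
  have hsurj : Function.Surjective fun q : (H ⧸ N) × C => ρ q.1.out q.2.1 := by
    intro v
    obtain ⟨h, hh⟩ := hcover v
    obtain ⟨n, hn⟩ := QuotientGroup.mk_out_eq_mul N h
    have hny : Commute (n : H) y := Subgroup.mem_centralizer_singleton_iff.1 n.2
    refine ⟨((h : H ⧸ N), ⟨ρ ((h : H ⧸ N).out)⁻¹ v, ?_⟩),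
      show ρ _ (ρ _ v) = v by rw [← MulAut.mul_apply, ← map_mul, mul_inv_cancel, map_one]; rfl⟩
    rw [Char.Primitive.mem_Fx, ← MulAut.mul_apply, ← map_mul]
    conv_rhs => rw [← hh, ← MulAut.mul_apply, ← map_mul]
    congr 2
    rw [hn]
    calc y * (h * (n : H))⁻¹ = (y * (n : H)⁻¹) * h⁻¹ := by group
      _ = ((n : H)⁻¹ * y) * h⁻¹ := by rw [hny.inv_left.eq]
      _ = (h * (n : H))⁻¹ * (h * y * h⁻¹) := by group
  have hcard1 : Nat.card V ≤ N.index * Nat.card C := by
    rw [Subgroup.index_eq_card, ← Nat.card_prod]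
    exact Nat.card_le_card_of_surjective _ hsurj
  have hNidx : N.index ≤ p * (p - 1) := by
    set N' := N ⊓ R
    have h1 : N'.relIndex R ≤ p := by
      have hmap : Function.Injective fun q : R ⧸ N'.subgroupOf R =>
          (⟨((q.out : R) : H) * y * ((q.out : R) : H)⁻¹ * y⁻¹, hcom _ (q.out : R).2⟩ : Z) := by
        intro a b hab
        have h := congrArg Subtype.val hab
        simp only [mul_left_inj] at h
        rw [← QuotientGroup.out_eq' a, ← QuotientGroup.out_eq' b, QuotientGroup.eq, Subgroup.mem_subgroupOf]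
        refine ⟨Subgroup.mem_centralizer_singleton_iff.2 ?_, ((a.out)⁻¹ * b.out : R).2⟩
        show ((a.out : R) : H)⁻¹ * (b.out : R) * y = y * (((a.out : R) : H)⁻¹ * (b.out : R))
        calc ((a.out : R) : H)⁻¹ * (b.out : R) * y
            = ((a.out : R) : H)⁻¹ * (((b.out : R) : H) * y * ((b.out : R) : H)⁻¹) * (b.out : R) := by group
          _ = _ := by rw [← h]; group
      have h2 := Nat.card_le_card_of_injective _ hmap
      rwa [hcardZ] at h2
    calc N.index ≤ N'.index := Nat.le_of_dvd (Nat.pos_of_ne_zero Subgroup.index_ne_zero_of_finite)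
          (Subgroup.index_dvd_of_le inf_le_left)
      _ = N'.relIndex R * R.index := (Subgroup.relIndex_mul_index inf_le_right).symm
      _ ≤ p * (p - 1) := Nat.mul_le_mul h1 (Nat.le_of_dvd (by have := hp.two_le; omega) hidx)
  have hzk : ∀ k, 0 < k → k < p → ∀ v, ρ (z ^ k) v = v → v = 1 := fun k hk0 hkp =>
    hZfree _ (pow_mem hzZ k) (pow_ne_one_of_lt_orderOf hk0.ne' (hzo.symm ▸ hkp))
  have hcC : p + 1 ≤ Nat.card C := by
    obtain ⟨v, hvC, hv1⟩ : ∃ v ∈ C, v ≠ 1 := by
      by_contra h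
      push Not at h
      exact hC ((Subgroup.eq_bot_iff_forall _).2 h)
    have hvk : ∀ k : ℕ, ρ (z ^ k) v ∈ C := fun k => by
      rw [Char.Primitive.mem_Fx, ← MulAut.mul_apply, ← map_mul, (hyz.pow_right k).eq, map_mul,
        MulAut.mul_apply, show ρ y v = v from hvC]
    have hinjk : ∀ i j : ℕ, i ≤ j → j < p → ρ (z ^ i) v = ρ (z ^ j) v → i = j := by
      intro i j hij hj he
      by_contra hne
      refine hv1 ((ρ (z ^ i)).injective ?_)
      rw [map_one]
      refine hzk (j - i) (by omega) (by omega) _ ?_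
      rw [← MulAut.mul_apply, ← map_mul, ← pow_add, Nat.sub_add_cancel hij, he]
    let m : Option (Fin p) → C := fun o => o.elim 1 fun k => ⟨ρ (z ^ (k : ℕ)) v, hvk k⟩
    have hm : Function.Injective m := by
      rintro (_ | a) (_ | b) hab
      · rfl
      · exact absurd ((ρ (z ^ (b : ℕ))).injective ((congrArg Subtype.val hab).symm.trans (map_one _).symm)) hv1
      · exact absurd ((ρ (z ^ (a : ℕ))).injective ((congrArg Subtype.val hab).trans (map_one _).symm)) hv1
      · refine congrArg some (Fin.ext ?_)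
        rcases le_total (a : ℕ) b with h | h
        · exact hinjk _ _ h b.2 (congrArg Subtype.val hab)
        · exact (hinjk _ _ h a.2 (congrArg Subtype.val hab).symm).symm
    have := Nat.card_le_card_of_injective m hm
    simpa [Nat.card_eq_fintype_card] using this
  have hcard2 : Nat.card C ^ p ≤ Nat.card V := by
    have h := Char.Primitive.prod_card_Fx_coset_le hp (ρ y) (ρ z) (hyz.map ρ)
      (by rw [← map_pow, ← hzo, pow_orderOf_eq_one, map_one]) (fun k hk0 hkp =>
        (Subgroup.eq_bot_iff_forall _).2 fun v hv => hzk k hk0 hkp v (by rw [map_pow]; exact hv))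
    refine le_trans (le_of_eq ?_) h
    rw [Finset.prod_congr rfl (g := fun _ => Nat.card C) fun i _ => ?_, Finset.prod_const, Finset.card_univ,
      Fintype.card_fin]
    obtain ⟨h, hh⟩ := hconjpow i
    rw [← map_pow, ← map_mul, ← hh, hconjcard]
  exact absurd ((hcard2.trans hcard1).trans (Nat.mul_le_mul_right _ hNidx))
    (not_le.2 (one_lt_card_Fx_bound hp hcC))

/-- The Fitting subgroup of a group with trivial `p`-core has order prime to `p`. -/
theorem not_dvd_card_fittingSubgroup {p : ℕ} (hp : p.Prime) (hO : Cfsg.pCore p G = ⊥) :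
    ¬ p ∣ Nat.card (Cfsg.fittingSubgroup G) := by
  haveI := Fact.mk hp
  haveI : (Cfsg.fittingSubgroup G).Normal := inferInstance
  set F := Cfsg.fittingSubgroup G
  have hFnil : Group.IsNilpotent F := CfsgLib.HallGen.isNilpotent_fittingSubgroup
  intro hd
  obtain ⟨P⟩ : Nonempty (Sylow p F) := inferInstance
  haveI := hFnil
  haveI : (P : Subgroup F).Characteristic := P.characteristic_of_normal inferInstance
  have hle : (P : Subgroup F).map F.subtype ≤ Cfsg.pCore p G :=
    CfsgLib.Core.le_pCore (P.2.map F.subtype)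
  rw [hO, le_bot_iff, Subgroup.map_eq_bot_iff_of_injective _ F.subtype_injective] at hle
  have := P.dvd_card_of_dvd_card hd
  rw [hle, Subgroup.card_bot] at this
  exact hp.ne_one (Nat.dvd_one.1 this)

section Core

variable {p : ℕ}

/-- The case where `p` divides the order of the Fitting subgroup of the top quotient. -/
theorem not_sq_dvd_of_pCore_quotient [Group.IsSolvable G] (hp : p.Prime) (hyp : VanishHyp p G)
    (hO : Cfsg.pCore p G = ⊥) [(Cfsg.fittingSubgroup G).Normal]
    (hR : Cfsg.pCore p (G ⧸ Cfsg.fittingSubgroup G) ≠ ⊥) : ¬ p ^ 2 ∣ Nat.card G := by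
  haveI := Fact.mk hp
  set F := Cfsg.fittingSubgroup G with hFdef
  have hFnil : Group.IsNilpotent F := CfsgLib.HallGen.isNilpotent_fittingSubgroup
  have hFp : ¬ p ∣ Nat.card F := not_dvd_card_fittingSubgroup hp hO
  set H := G ⧸ F
  set π := QuotientGroup.mk' F with hπ
  have hπs : Function.Surjective π := QuotientGroup.mk'_surjective F
  set R := Cfsg.pCore p H with hRdef
  haveI hRn : R.Normal := CfsgLib.HallGen.pCore_normal' p
  have hRp : IsPGroup p R := CfsgLib.Core.isPGroup_pCore p _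
  -- `F` acts trivially on its linear characters
  have hFker : F ≤ (dualAct F).ker := fun f hf => MulEquiv.ext fun μ => MonoidHom.ext fun y => by
    rw [dualAct_apply]
    have he : (MulAut.conjNormal f⁻¹ : MulAut F) y = (⟨f, hf⟩ : F)⁻¹ * y * ⟨f, hf⟩ :=
      Subtype.ext (by simp [MulAut.conjNormal_apply])
    rw [he, map_mul, map_mul, map_inv, mul_comm, mul_inv_cancel_left]
    rfl
  let ρ : H →* MulAut (F →* ℂˣ) := QuotientGroup.lift F (dualAct F) hFker
  have hρ : ∀ g, ρ (π g) = dualAct F g := fun g => rfl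
  have hVp : ¬ p ∣ Nat.card (F →* ℂˣ) := by
    intro h
    rw [Nat.card_congr (Abelianization.lift (G := F) (A := ℂˣ)),
      CommGroup.card_monoidHom_of_hasEnoughRootsOfUnity] at h
    exact hFp (h.trans (Subgroup.card_quotient_dvd_card (commutator F)))
  haveI : Finite (F →* ℂˣ) := inferInstance
  have hfaith : ∀ h : H, (∃ k, orderOf h = p ^ k) → ρ h = 1 → h = 1 := by
    rintro h ⟨k, hk⟩ hρh
    obtain ⟨x, rfl, j, hj⟩ := exists_pElement_lift π hπs hp hk
    refine (QuotientGroup.eq_one_iff x).2 ?_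
    exact CfsgLib.Components.centralizer_fitting_le_of_isSolvable
      (mem_centralizer_of_dual_fixed F hFnil (hj ▸ (hp.coprime_iff_not_dvd.2 hFp).pow_left j) hρh)
  -- the centre of the core
  set Z := R ⊓ Subgroup.centralizer (R : Set H) with hZdef
  haveI hZn : Z.Normal := inferInstance
  have hZR : Z ≤ R := inf_le_left
  have hZne : Z ≠ ⊥ := by
    haveI : Nontrivial R := (Subgroup.nontrivial_iff_ne_bot R).2 hR
    haveI := hRp.center_nontrivial
    obtain ⟨z, hz⟩ := exists_ne (1 : Subgroup.center R)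
    intro h
    have hz' : ((z : R) : H) ∈ Z := ⟨(z : R).2, Subgroup.mem_centralizer_iff.2 fun r hr =>
      congrArg Subtype.val (Subgroup.mem_center_iff.1 z.2 ⟨r, hr⟩)⟩
    rw [h, Subgroup.mem_bot] at hz'
    exact hz (Subtype.ext (Subtype.ext hz'))
  have hZc : ∀ a ∈ Z, ∀ b ∈ Z, a * b = b * a := fun a ha b hb =>
    (Subgroup.mem_centralizer_iff.1 hb.2 a ha.1)
  have hRpow : ∀ r ∈ R, ∃ k, orderOf r = p ^ k := fun r hr => by
    obtain ⟨k, hk⟩ := IsPGroup.iff_orderOf.1 hRp ⟨r, hr⟩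
    exact ⟨k, by rw [← hk, Subgroup.orderOf_mk]⟩
  -- a regular orbit of the centre
  obtain ⟨μ, hμ⟩ := exists_regular_of_abelian (A := Z) (fun a b => Subtype.ext (hZc a a.2 b b.2))
    (show (Nat.card Z).Coprime (Nat.card (F →* ℂˣ)) by
      obtain ⟨k, hk⟩ := (hRp.to_le hZR).exists_card_eq
      rw [hk]
      exact (hp.coprime_iff_not_dvd.2 hVp).pow_left k)
    (ρ.comp Z.subtype) (fun a ha => by
      by_contra h
      push Not at h
      exact ha (Subtype.ext (hfaith a (hRpow a (hZR a.2)) (MulEquiv.ext h))))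
  have hpow0 : ∀ (g : H) (n : ℕ) (v : F →* ℂˣ), ρ g v = v → ρ (g ^ n) v = v := by
    intro g n v hv
    induction n with
    | zero => simp
    | succ n ih => rw [pow_succ, map_mul, MulAut.mul_apply, hv, ih]
  -- every element with a power in the centre vanishes
  have hvan : ∀ x : G, (∃ n, π x ^ n ∈ Z ∧ π x ^ n ≠ 1) → IsVanishingAt x := by
    rintro x ⟨n, hnZ, hn1⟩
    refine isVanishingAt_of_moved F μ fun g hg => ?_
    have h1 : (π g * π x * (π g)⁻¹) ^ n = π g * π x ^ n * (π g)⁻¹ := conj_pow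
    have hmem : (π g * π x * (π g)⁻¹) ^ n ∈ Z := h1 ▸ hZn.conj_mem _ hnZ _
    have hfix : ρ ((π g * π x * (π g)⁻¹) ^ n) μ = μ := hpow0 _ n μ (by
      rw [← map_inv, ← map_mul, ← map_mul]; exact hg)
    have := congrArg Subtype.val (hμ ⟨_, hmem⟩ hfix)
    have h3 : (π g * π x * (π g)⁻¹) ^ n = 1 := this
    rw [h1] at h3
    exact hn1 (by
      have h2 := congrArg (fun t => (π g)⁻¹ * t * π g) h3
      simpa [mul_assoc] using h2)
  -- a distinguished `p`-element in the centre
  obtain ⟨z, hzZ, hzo⟩ : ∃ z ∈ Z, orderOf z = p := by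
    obtain ⟨k, hk⟩ := (hRp.to_le hZR).exists_card_eq
    have hk0 : k ≠ 0 := fun h => hZne (Subgroup.card_eq_one.1 (by rw [hk, h, pow_zero]))
    obtain ⟨z, hz⟩ := exists_prime_orderOf_dvd_card' (G := Z) p (hk ▸ dvd_pow_self p hk0)
    exact ⟨z, z.2, by rw [Subgroup.orderOf_coe, hz]⟩
  have hz1 : z ≠ 1 := fun h => hp.ne_one (by rw [← hzo, h, orderOf_one])
  obtain ⟨x₀, hx₀, j₀, hj₀⟩ := exists_pElement_lift π hπs hp (y := z) (k := 1) (by rw [hzo, pow_one])
  have hj₀0 : 0 < j₀ := by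
    rcases Nat.eq_zero_or_pos j₀ with rfl | h0
    · rw [pow_zero, orderOf_eq_one_iff] at hj₀
      exact absurd (by rw [← hx₀, hj₀, map_one]) hz1
    · exact h0
  have hx₀v : IsVanishingAt x₀ := hvan x₀ ⟨1, by rwa [pow_one, hx₀], by rwa [pow_one, hx₀]⟩
  have hall : ∀ x : G, IsVanishingAt x → p ∣ orderOf x → ∃ k, orderOf x = p ^ k := fun x hx hpx =>
    hyp.1 x₀ x hx₀v hx hpx ⟨j₀, hj₀0, hj₀⟩
  have hdivp : ∀ x : G, ∀ h : H, π x = h → (∃ k, orderOf h = p ^ k) → h ≠ 1 → p ∣ orderOf x := by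
    rintro x h rfl ⟨k, hk⟩ h1
    refine (dvd_pow_self p (fun h0 : k = 0 => h1 ?_)).trans (hk ▸ orderOf_map_dvd π x)
    rw [h0, pow_zero] at hk
    exact orderOf_eq_one_iff.1 hk
  -- no `p`-th powers
  have hnopow : ∀ h : H, (∃ k, orderOf h = p ^ k) → h ^ p ∈ Z → h ^ p = 1 := by
    intro h hh hhZ
    by_contra hne
    obtain ⟨x, rfl, j, hj⟩ := exists_pElement_lift π hπs hp hh.choose_spec
    have hv1 : IsVanishingAt x := hvan x ⟨p, hhZ, hne⟩
    have hv2 : IsVanishingAt (x ^ p) :=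
      hvan _ ⟨1, by rwa [pow_one, map_pow], by rwa [pow_one, map_pow]⟩
    obtain ⟨j', -, hj'⟩ := (Nat.dvd_prime_pow hp).1 (hj ▸ orderOf_pow_dvd (x := x) p)
    exact hyp.2 x hv1 hv2 (hdivp _ _ (map_pow π x p) ⟨_, (Nat.dvd_prime_pow hp).1
      (hh.choose_spec ▸ orderOf_pow_dvd (x := π x) p) |>.choose_spec.2⟩ hne)
  -- vanishing elements act without fixed points
  have hfree : ∀ h : H, (∃ k, orderOf h = p ^ k) → h ≠ 1 →
      (∀ x : G, π x = h → IsVanishingAt x) → ∀ v, ρ h v = v → v = 1 := by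
    intro h hh h1 hv v hfix
    by_contra hv1
    obtain ⟨k, hk⟩ := hh
    obtain ⟨x, rfl, j, hj⟩ := exists_pElement_lift π hπs hp hk
    obtain ⟨f, hf1, hfc⟩ := exists_commute_of_fixed F
      (hj ▸ (hp.coprime_iff_not_dvd.2 hFp).pow_left j) hv1 hfix
    have himg : π (x * (f : G)) = π x := by
      rw [map_mul, show π (f : G) = 1 from (QuotientGroup.eq_one_iff _).2 f.2, mul_one]
    obtain ⟨i, hi⟩ := hall _ (hv _ himg) (hdivp _ _ himg ⟨k, hk⟩ h1)
    have h3 : orderOf (f : G) ∣ p ^ (j + i) := by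
      refine orderOf_dvd_of_pow_eq_one ?_
      have : (f : G) = x⁻¹ * (x * (f : G)) := by rw [inv_mul_cancel_left]
      rw [this, (((Commute.refl x).mul_right hfc).inv_left).mul_pow, inv_pow, pow_add]
      rw [pow_mul x, ← hj, pow_orderOf_eq_one, one_pow, inv_one, one_mul, mul_comm (orderOf x),
        pow_mul, ← hi, pow_orderOf_eq_one, one_pow]
    refine hf1 (Subtype.ext (orderOf_eq_one_iff.1 (Nat.eq_one_of_dvd_coprimes
      ((hp.coprime_iff_not_dvd.2 hFp).pow_left (j + i)) h3 ?_)))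
    rw [Subgroup.orderOf_coe]
    exact orderOf_dvd_natCard f
  have hZfree : ∀ a ∈ Z, a ≠ 1 → ∀ v, ρ a v = v → v = 1 := fun a ha ha1 v hv =>
    hfree a (hRpow a (hZR ha)) ha1 (fun x hx => hvan x ⟨1, by rwa [pow_one, hx], by rwa [pow_one, hx]⟩) v hv
  have hVne : ∃ v : F →* ℂˣ, v ≠ 1 := by
    by_contra h
    push Not at h
    exact hz1 (hfaith z ⟨1, by rw [hzo, pow_one]⟩ (MulEquiv.ext fun v => by rw [h v, map_one]; rfl))
  -- lines of a fixed point free elementary group of rank two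
  have hlines : ∀ a b : H, a ^ p = 1 → b ^ p = 1 → Commute a b → (∀ v, ρ b v = v → v = 1) →
      (∀ i < p, ∀ v, ρ (a * b ^ i) v = v → v = 1) → False := by
    intro a b ha hb hab hbf haf
    obtain ⟨v, hv⟩ := hVne
    refine hv ?_
    have hnorm : ∀ c : H, c ^ p = 1 → ∀ y, ρ c (∏ j ∈ Finset.range p, ρ (c ^ j) y) =
        ∏ j ∈ Finset.range p, ρ (c ^ j) y := by
      intro c hc y
      rw [map_prod]
      simp only [← MulAut.mul_apply, ← map_mul, ← pow_succ']
      have h1 := Finset.prod_range_succ' (fun j => ρ (c ^ j) y) p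
      rw [Finset.prod_range_succ, hc, pow_zero] at h1
      exact (mul_right_cancel h1).symm
    have hzero : ∀ i < p, ∏ j ∈ Finset.range p, ρ ((a * b ^ i) ^ j) v = 1 := fun i hi =>
      haf i hi _ (hnorm _ (by rw [(hab.pow_right i).mul_pow, ha, one_mul, pow_right_comm, hb, one_pow]) v)
    have h1 : ∏ i ∈ Finset.range p, ∏ j ∈ Finset.range p, ρ ((a * b ^ i) ^ j) v = 1 :=
      Finset.prod_eq_one fun i hi => hzero i (Finset.mem_range.1 hi)
    rw [Finset.prod_comm, Finset.prod_eq_single_of_mem 0 (Finset.mem_range.2 hp.pos)] at h1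
    · simp only [pow_zero, map_one, MulAut.one_apply, Finset.prod_const, Finset.card_range] at h1
      have hcop : (Nat.card (F →* ℂˣ)).Coprime p := (hp.coprime_iff_not_dvd.2 hVp).symm
      exact (powCoprime hcop).injective (show v ^ p = (1 : F →* ℂˣ) ^ p from h1.trans (one_pow (M := F →* ℂˣ) p).symm)
    · intro j hj hj0
      have hjp := Finset.mem_range.1 hj
      have hperm : ∀ i, ρ ((a * b ^ i) ^ j) v = ρ (a ^ j) (ρ ((b ^ j) ^ i) v) := fun i => by
        rw [(hab.pow_right i).mul_pow, pow_right_comm, map_mul, MulAut.mul_apply]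
      simp only [hperm]
      rw [← map_prod]
      have hbj : ∀ y, ρ (b ^ j) y = y → y = 1 := by
        intro y hy
        obtain ⟨t, -, ht⟩ := Nat.exists_mul_mod_eq_one_of_coprime
          ((hp.coprime_iff_not_dvd.2 fun h => hj0 (Nat.eq_zero_of_dvd_of_lt h hjp))).symm hp.one_lt
        refine hbf y ?_
        have h2 := hpow0 _ t y hy
        rw [← pow_mul, ← Nat.mod_add_div (j * t) p, ht, pow_add, pow_mul, hb, one_pow, mul_one,
          pow_one] at h2
        exact h2
      rw [hbj _ (hnorm (b ^ j) (by rw [pow_right_comm, hb, one_pow]) v), map_one]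
  -- the centre has order `p`
  have hZexp : ∀ a ∈ Z, a ^ p = 1 := fun a ha => hnopow a (hRpow a (hZR ha)) (pow_mem ha p)
  have hZz : ∀ a ∈ Z, a ∈ Subgroup.zpowers z := by
    intro a ha
    by_contra hna
    refine hlines a z (hZexp a ha) (hZexp z hzZ) (hZc a ha z hzZ) (hZfree z hzZ hz1) fun i _ v hv => ?_
    refine hZfree _ (mul_mem ha (pow_mem hzZ i)) (fun h => hna ?_) v hv
    rw [eq_inv_of_mul_eq_one_left h]
    exact inv_mem (pow_mem (Subgroup.mem_zpowers z) i)
  have hcardZ : Nat.card Z = p := by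
    rw [show Z = Subgroup.zpowers z from le_antisymm hZz (Subgroup.zpowers_le.2 hzZ), Nat.card_zpowers, hzo]
  -- the centralizer of the centre is a `p`-group
  set C := Subgroup.centralizer (Z : Set H) with hCdef
  haveI hCn : C.Normal := inferInstance
  have hCp : IsPGroup p C := by
    rintro ⟨h, hh⟩
    have hc : Commute z h := Subgroup.mem_centralizer_iff.1 hh z hzZ
    obtain ⟨m, hm, hmp⟩ : ∃ m, orderOf h = p ^ (orderOf h).factorization p * m ∧ ¬ p ∣ m :=
      ⟨_, (Nat.ordProj_mul_ordCompl_eq_self _ p).symm,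
        Nat.not_dvd_ordCompl hp (orderOf_pos h).ne'⟩
    set e := (orderOf h).factorization p
    set w := z * h ^ p ^ e with hw
    obtain ⟨x, hx⟩ := hπs w
    have hwm : w ^ m = z ^ m := by
      rw [hw, (hc.pow_right _).mul_pow, ← pow_mul h, ← hm, pow_orderOf_eq_one, mul_one]
    have hzm : z ^ m ≠ 1 := fun h => hmp (hzo ▸ orderOf_dvd_of_pow_eq_one h)
    have hxv : IsVanishingAt x :=
      hvan x ⟨m, by rw [hx, hwm]; exact pow_mem hzZ m, by rwa [hx, hwm]⟩
    have hpx : p ∣ orderOf x := by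
      have h1 : orderOf (z ^ m) = p := by
        rw [← hzo]; exact Nat.Coprime.orderOf_pow (hzo ▸ hp.coprime_iff_not_dvd.2 hmp)
      refine (h1 ▸ hwm ▸ (orderOf_pow_dvd (x := w) m)).trans (hx ▸ orderOf_map_dvd π x)
    obtain ⟨i, hi⟩ := hall x hxv hpx
    refine ⟨e + (i + 1), Subtype.ext ?_⟩
    show h ^ p ^ (e + (i + 1)) = 1
    have h2 : h ^ p ^ e = z⁻¹ * w := by rw [hw, inv_mul_cancel_left]
    have h4 : w ^ p ^ (i + 1) = 1 := by
      rw [pow_succ, pow_mul, ← hi, ← hx, ← map_pow, pow_orderOf_eq_one, map_one, one_pow]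
    have h5 : z ^ p ^ (i + 1) = 1 := by
      rw [pow_succ', pow_mul, hZexp z hzZ, one_pow]
    rw [pow_add, pow_mul, h2, (show Commute z⁻¹ w from
      ((Commute.refl z).mul_right (hc.pow_right _)).inv_left).mul_pow, inv_pow, h4, h5]
    simp
  have hCR : C = R := le_antisymm (CfsgLib.Core.le_pCore hCp) fun r hr =>
    Subgroup.mem_centralizer_iff.2 fun a ha => ((Subgroup.mem_centralizer_iff.1 ha.2) r hr).symm
  have hker : (MulAut.conjNormal (H := Z)).ker = R := by
    rw [← hCR]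
    ext g
    rw [MonoidHom.mem_ker, Subgroup.mem_centralizer_iff]
    constructor
    · intro hg a ha
      have := congrArg Subtype.val (DFunLike.congr_fun hg (⟨a, ha⟩ : Z))
      rw [MulAut.conjNormal_apply, MulAut.one_apply] at this
      exact (mul_inv_eq_iff_eq_mul.1 this).symm
    · intro hg
      refine MulEquiv.ext fun a => Subtype.ext ?_
      rw [MulAut.conjNormal_apply, MulAut.one_apply, ← hg a a.2, mul_inv_cancel_right]
  have hidx : R.index ∣ p - 1 := by
    rw [← hker, Subgroup.index_ker]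
    refine (Subgroup.card_subgroup_dvd_card _).trans ?_
    haveI : IsCyclic Z := isCyclic_of_prime_card hcardZ
    rw [IsCyclic.card_mulAut, hcardZ, Nat.totient_prime hp]
  -- conclusion
  intro hsq
  have hH : p ^ 2 ∣ Nat.card H := by
    rw [F.card_eq_card_quotient_mul_card_subgroup] at hsq
    exact (Nat.Coprime.dvd_of_dvd_mul_right ((hp.coprime_iff_not_dvd.2 hFp).pow_left 2) hsq)
  have hRbig : p ^ 2 ∣ Nat.card R := by
    rw [← R.card_mul_index] at hH
    refine (Nat.Coprime.dvd_of_dvd_mul_right ?_ hH)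
    refine (hp.coprime_iff_not_dvd.2 fun hd => ?_).pow_left 2
    have := hp.two_le
    have h1 := Nat.le_of_dvd (by omega) (hd.trans hidx)
    omega
  exact core_contradiction hp hRp ρ hVne hVp hzZ hzo hZz hcardZ hidx hRbig hZfree hlines hnopow
    (fun h hh h1 hv => hfree h hh h1 hv) hπs (fun x hx g => by
      by_contra hcon
      push Not at hcon
      exact hx (isVanishingAt_of_moved F g hcon))

end Core

section Bound

omit [Fintype G]

/-- With trivial `p`-core, `p ^ 2` does not divide the order. -/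
theorem not_sq_dvd_of_vanishHyp {p : ℕ} (hp : p.Prime) (n : ℕ) :
    ∀ (G : Type u) [Group G] [Finite G] [Group.IsSolvable G], Nat.card G = n → VanishHyp p G →
      Cfsg.pCore p G = ⊥ → ¬ p ^ 2 ∣ Nat.card G := by
  induction n using Nat.strong_induction_on with
  | _ n ih =>
    intro G _ _ _ hn hyp hO hsq
    haveI := Fintype.ofFinite G
    haveI hFn : (Cfsg.fittingSubgroup G).Normal := inferInstance
    set F := Cfsg.fittingSubgroup G with hF
    by_cases hR : Cfsg.pCore p (G ⧸ F) = ⊥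
    · have hFp : ¬ p ∣ Nat.card F := not_dvd_card_fittingSubgroup hp hO
      have hFne : F ≠ ⊥ := by
        intro h
        have h1 := CfsgLib.Components.centralizer_fitting_le_of_isSolvable (G := G)
        rw [← hF, h] at h1
        have h2 : ∀ g : G, g = 1 := fun g => Subgroup.mem_bot.1 (h1 (Subgroup.mem_centralizer_iff.2
          fun a ha => by rw [Subgroup.mem_bot.1 ha, one_mul, mul_one]))
        haveI : Subsingleton G := ⟨fun a b => (h2 a).trans (h2 b).symm⟩
        rw [Nat.card_unique] at hsq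
        exact hp.ne_one (Nat.eq_one_of_mul_eq_one_left (sq p ▸ Nat.dvd_one.1 hsq))
      have hlt : Nat.card (G ⧸ F) < n := by
        rw [← hn, F.card_eq_card_quotient_mul_card_subgroup]
        exact lt_mul_of_one_lt_right Nat.card_pos (F.one_lt_card_iff_ne_bot.2 hFne)
      rw [F.card_eq_card_quotient_mul_card_subgroup] at hsq
      exact ih _ hlt (G ⧸ F) rfl (hyp.map hp (QuotientGroup.mk' F) (QuotientGroup.mk'_surjective F)) hR
        (Nat.Coprime.dvd_of_dvd_mul_right ((hp.coprime_iff_not_dvd.2 hFp).pow_left 2) hsq)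
    · exact not_sq_dvd_of_pCore_quotient hp hyp hO hR hsq

/-- A Sylow subgroup has image of order at most `p` modulo the `p`-core, which it contains. -/
theorem sylow_bound [Finite G] [Group.IsSolvable G] {p : ℕ} [hp : Fact p.Prime] (hyp : VanishHyp p G)
    (P : Sylow p G) :
    Nat.card ((P : Subgroup G).map (QuotientGroup.mk' (Cfsg.pCore p G))) ∣ p ∧
      Nat.card (P : Subgroup G) ≤ p * Nat.card (Cfsg.pCore p G) := by
  haveI hn : (Cfsg.pCore p G).Normal := CfsgLib.HallGen.pCore_normal' p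
  set π := QuotientGroup.mk' (Cfsg.pCore p G)
  have hsq : ¬ p ^ 2 ∣ Nat.card (G ⧸ Cfsg.pCore p G) :=
    not_sq_dvd_of_vanishHyp hp.out _ _ rfl (hyp.map hp.out π (QuotientGroup.mk'_surjective _))
      (CfsgLib.Core.pCore_quotient_pCore p G)
  obtain ⟨k, hk⟩ := (P.2.map π).exists_card_eq
  have hk1 : k ≤ 1 := by
    by_contra h
    exact hsq ((pow_dvd_pow p (show 2 ≤ k by omega)).trans (hk ▸ Subgroup.card_subgroup_dvd_card _))
  have hdvd : Nat.card ((P : Subgroup G).map π) ∣ p := by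
    rw [hk]
    exact (pow_dvd_pow p hk1).trans (pow_one p).dvd
  refine ⟨hdvd, ?_⟩
  have hle := CfsgLib.Core.pCore_le_sylow P
  have h := ((Cfsg.pCore p G).subgroupOf P).card_mul_index
  rw [Nat.card_congr (Subgroup.subgroupOfEquivOfLe hle).toEquiv, ← Subgroup.relIndex] at h
  rw [← h, mul_comm]
  refine Nat.mul_le_mul_right _ ?_
  conv_lhs => rw [← QuotientGroup.ker_mk' (Cfsg.pCore p G), Subgroup.relIndex_ker]
  exact Nat.le_of_dvd hp.out.pos hdvd

/-- All vanishing `p`-singular elements having the same order gives the hypothesis. -/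
theorem vanishHyp_of_orderOf_eq [Finite G] {p : ℕ} (hp : p.Prime)
    (h : ∀ x y : G, IsVanishingAt x → IsVanishingAt y → p ∣ orderOf x → p ∣ orderOf y →
      orderOf x = orderOf y) : VanishHyp p G := by
  refine ⟨fun x y hx hy hpy ⟨k, hk0, hk⟩ =>
    ⟨k, (h x y hx hy (hk ▸ dvd_pow_self p hk0.ne') hpy).symm.trans hk⟩, fun x hx hxp hpx => ?_⟩
  have h1 : p ∣ orderOf x := hpx.trans (orderOf_pow_dvd p)
  have h2 := h x (x ^ p) hx hxp h1 hpx
  rw [orderOf_pow_of_dvd hp.ne_zero h1] at h2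
  exact absurd h2 (Nat.div_lt_self (orderOf_pos x) hp.one_lt).ne'

end Bound

end CfsgLib.CharDegree
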